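import Mathlib.Analysis.Fourier.FiniteAbelian.PontryaginDuality
import Mathlib.GroupTheory.GroupAction.Quotient

/-!
Owner: helper28. General Bender theorem, slice G5, abstract part: a group with an abelian regular subgroup
`A`, whose complement `Y` acts freely on the characters non-trivial on `B`, and in which `A` is a TI set.
A suborbit-closed set then consists of `B`-cosets away from `B` (`coset_dichotomy`).
-/

set_option autoImplicit false
set_option linter.unusedSectionVars false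

namespace CfsgLib.Bender.Fourier

open Finset

variable {M X A : Type*} [Group M] [Fintype M] [MulAction M X] [Fintype X] [AddCommGroup A] [Fintype A]

/-- The data. -/
structure Data (M X A : Type*) [Group M] [MulAction M X] [AddCommGroup A] where
  /-- the regular subgroup -/
  emb : A → M
  emb_add : ∀ a b, emb (a + b) = emb a * emb b
  emb_inj : Function.Injective emb
  /-- the base point -/
  x0 : X
  bij : Function.Bijective fun a => emb a • x0
  /-- the complement -/
  Y : Subgroup M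
  fix : ∀ y ∈ Y, y • x0 = x0
  /-- the action of the complement -/
  σ : M → A → A
  hσ : ∀ y ∈ Y, ∀ a, y * emb a * y⁻¹ = emb (σ y a)
  fus : ∀ (a b : A) (h : M), a ≠ 0 → h * emb a * h⁻¹ = emb b → ∃ y ∈ Y, ∃ c, h = emb c * y
  /-- the subgroup of `A` -/
  B : AddSubgroup A
  free : ∀ ψ : AddChar A ℂ, (∃ b ∈ B, ψ b ≠ 1) → ∀ y ∈ Y, (∀ a, ψ (σ y a) = ψ a) → y = 1

/-- The transform. -/
noncomputable def tr (f : A → ℂ) (ψ : AddChar A ℂ) : ℂ := ∑ a, f a * ψ a

/-- Convolution. -/
noncomputable def cv (f g : A → ℂ) (a : A) : ℂ := ∑ b, f b * g (a - b)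

theorem tr_cv (f g : A → ℂ) (ψ : AddChar A ℂ) : tr (cv f g) ψ = tr f ψ * tr g ψ := by
  rw [tr, tr, tr, Finset.sum_mul_sum]
  simp only [cv, Finset.sum_mul]
  rw [Finset.sum_comm]
  refine Finset.sum_congr rfl fun b _ => ?_
  refine Fintype.sum_equiv (Equiv.subRight b) _ _ fun a => ?_
  rw [Equiv.subRight_apply, show ψ a = ψ b * ψ (a - b) by
    rw [← AddChar.map_add_eq_mul, add_sub_cancel]]
  ring

theorem inversion (f : A → ℂ) (a : A) :
    ∑ ψ : AddChar A ℂ, tr f ψ * ψ (-a) = Fintype.card A * f a := by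
  classical
  simp only [tr, Finset.sum_mul, mul_assoc, ← AddChar.map_add_eq_mul]
  rw [Finset.sum_comm]
  simp only [← Finset.mul_sum, AddChar.sum_apply_eq_ite, add_neg_eq_zero]
  simp [mul_comm]

theorem tr_inj {f g : A → ℂ} (h : ∀ ψ, tr f ψ = tr g ψ) : f = g := by
  funext a
  have h1 : (Fintype.card A : ℂ) * f a = Fintype.card A * g a := by
    rw [← inversion, ← inversion]; simp only [h]
  exact mul_left_cancel₀ (Nat.cast_ne_zero.2 Fintype.card_ne_zero) h1

theorem tr_add (f g : A → ℂ) (ψ : AddChar A ℂ) : tr (f + g) ψ = tr f ψ + tr g ψ := by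
  simp [tr, add_mul, Finset.sum_add_distrib]

theorem tr_smul (c : ℂ) (f : A → ℂ) (ψ : AddChar A ℂ) : tr (c • f) ψ = c * tr f ψ := by
  simp [tr, mul_assoc, Finset.mul_sum]

theorem tr_delta [DecidableEq A] (ψ : AddChar A ℂ) : tr (fun a => if a = 0 then 1 else 0) ψ = 1 := by
  simp [tr, ite_mul]

theorem conj_char (ψ : AddChar A ℂ) (a : A) : (starRingEnd ℂ) (ψ a) = ψ (-a) := by
  rw [AddChar.map_neg_eq_conj]

theorem sum_char_mul (ψ φ : AddChar A ℂ) [Decidable (ψ = φ)] :
    ∑ a, ψ a * φ (-a) = if ψ = φ then (Fintype.card A : ℂ) else 0 := by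
  classical
  have h1 : ∀ a, ψ a * φ (-a) = (ψ * φ⁻¹) a := fun a => by rw [AddChar.mul_apply, AddChar.inv_apply]
  simp only [h1]
  rw [AddChar.sum_eq_ite]
  have h2 : ψ * φ⁻¹ = 0 ↔ ψ = φ := by
    rw [← AddChar.one_eq_zero, mul_inv_eq_one]
  simp [h2]

variable (H : Data M X A)

namespace Data

theorem emb_zero : H.emb 0 = 1 := by
  have h := H.emb_add 0 0
  rw [add_zero] at h
  exact left_eq_mul.1 h

theorem emb_neg (a : A) : H.emb (-a) = (H.emb a)⁻¹ :=
  eq_inv_of_mul_eq_one_left (by rw [← H.emb_add, neg_add_cancel, H.emb_zero])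

/-- The coordinates. -/
noncomputable def pos : A ≃ X := Equiv.ofBijective _ H.bij

theorem pos_apply (a : A) : H.pos a = H.emb a • H.x0 := rfl

theorem pos_zero : H.pos 0 = H.x0 := by rw [pos_apply, emb_zero, one_smul]

theorem smul_pos (a b : A) : H.emb a • H.pos b = H.pos (a + b) := by
  rw [pos_apply, pos_apply, H.emb_add, mul_smul]

theorem coord_smul (a : A) (u : X) : H.pos.symm (H.emb a • u) = a + H.pos.symm u := by
  conv_lhs => rw [← H.pos.apply_symm_apply u, smul_pos]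
  exact H.pos.symm_apply_apply _

theorem smul_pos_σ {y : M} (hy : y ∈ H.Y) (a : A) : y • H.pos a = H.pos (H.σ y a) := by
  rw [pos_apply, pos_apply, ← H.hσ y hy a, mul_smul, mul_smul, H.fix y⁻¹ (inv_mem hy)]

theorem σ_add {y : M} (hy : y ∈ H.Y) (a b : A) : H.σ y (a + b) = H.σ y a + H.σ y b := H.emb_inj <| by
  rw [← H.hσ y hy, H.emb_add, H.emb_add, ← H.hσ y hy, ← H.hσ y hy]; group

theorem σ_inv {y : M} (hy : y ∈ H.Y) (a : A) : H.σ y⁻¹ (H.σ y a) = a := H.emb_inj <| by
  rw [← H.hσ _ (inv_mem hy), ← H.hσ y hy]; group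

theorem σ_inv' {y : M} (hy : y ∈ H.Y) (a : A) : H.σ y (H.σ y⁻¹ a) = a := by
  simpa using H.σ_inv (inv_mem hy) a

/-- The transported character. -/
noncomputable def act (y : ↥H.Y) (ψ : AddChar A ℂ) : AddChar A ℂ where
  toFun a := ψ (H.σ (y : M)⁻¹ a)
  map_zero_eq_one' := by
    rw [show H.σ (y : M)⁻¹ 0 = 0 from H.emb_inj (by rw [← H.hσ _ (inv_mem y.2), H.emb_zero]; group)]
    exact ψ.map_zero_eq_one
  map_add_eq_mul' a b := by rw [H.σ_add (inv_mem y.2), AddChar.map_add_eq_mul]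

theorem act_apply (y : ↥H.Y) (ψ : AddChar A ℂ) (a : A) : H.act y ψ a = ψ (H.σ (y : M)⁻¹ a) := rfl

/-- Invariant functions. -/
def Inv (f : A → ℂ) : Prop :=
  ∀ (g : M) (u v : X), f (H.pos.symm (g • v) - H.pos.symm (g • u)) = f (H.pos.symm v - H.pos.symm u)

theorem inv_delta [DecidableEq A] : H.Inv fun a => if a = 0 then 1 else 0 := fun g u v => by
  refine if_congr ?_ rfl rfl
  rw [sub_eq_zero, sub_eq_zero, H.pos.symm.injective.eq_iff, H.pos.symm.injective.eq_iff, smul_left_cancel_iff]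

variable {H}

theorem Inv.add {f f' : A → ℂ} (h : H.Inv f) (h' : H.Inv f') : H.Inv (f + f') := fun g u v => by
  simp [h g u v, h' g u v]

theorem Inv.smul {f : A → ℂ} (h : H.Inv f) (c : ℂ) : H.Inv (c • f) := fun g u v => by
  simp [h g u v]

theorem Inv.neg {f : A → ℂ} (h : H.Inv f) : H.Inv fun a => f (-a) := fun g u v => by
  simp only [neg_sub]; exact h g v u

theorem Inv.cv {f f' : A → ℂ} (h : H.Inv f) (h' : H.Inv f') : H.Inv (cv f f') := fun g u v => by
  have key : ∀ u v : X, Fourier.cv f f' (H.pos.symm v - H.pos.symm u) =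
      ∑ w, f (H.pos.symm w - H.pos.symm u) * f' (H.pos.symm v - H.pos.symm w) := fun u v => by
    refine Fintype.sum_equiv ((Equiv.addRight (H.pos.symm u)).trans H.pos) _ _ fun b => ?_
    simp only [Equiv.trans_apply, Equiv.coe_addRight, Equiv.symm_apply_apply, add_sub_cancel_right]
    congr 2; abel
  rw [key, key, ← Equiv.sum_comp (MulAction.toPerm g)]
  simp [h g, h' g]

theorem Inv.const_on {f : A → ℂ} (h : H.Inv f) {g : M} (hg : g • H.x0 = H.x0) {a b : A}
    (hab : g • H.pos a = H.pos b) : f a = f b := by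
  have := h g H.x0 (H.pos a)
  rw [hab, hg, ← H.pos_zero] at this
  simpa using this.symm

theorem Inv.act {f : A → ℂ} (h : H.Inv f) (y : ↥H.Y) (ψ : AddChar A ℂ) : tr f (H.act y ψ) = tr f ψ := by
  refine Fintype.sum_equiv ⟨H.σ (y : M)⁻¹, H.σ (y : M), fun a => H.σ_inv' y.2 a, fun a => H.σ_inv y.2 a⟩ _ _
    fun a => ?_
  show f a * H.act y ψ a = f (H.σ (y : M)⁻¹ a) * ψ (H.σ (y : M)⁻¹ a)
  rw [act_apply, h.const_on (H.fix _ (inv_mem y.2)) (H.smul_pos_σ (inv_mem y.2) a)]

variable (H)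

/-- Not separated by invariant functions. -/
def Same (ψ φ : AddChar A ℂ) : Prop := ∀ f, H.Inv f → tr f φ = tr f ψ

theorem same_refl (ψ : AddChar A ℂ) : H.Same ψ ψ := fun _ _ => rfl

theorem same_act (ψ : AddChar A ℂ) (y : ↥H.Y) : H.Same ψ (H.act y ψ) := fun _ h => h.act y ψ

/-- The class of a character. -/
noncomputable def atom (ψ : AddChar A ℂ) : Finset (AddChar A ℂ) :=
  @Finset.filter _ (H.Same ψ) (Classical.decPred _) Finset.univ

theorem mem_atom {ψ φ : AddChar A ℂ} : φ ∈ H.atom ψ ↔ H.Same ψ φ := by simp [atom]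

theorem exists_idem (ψ : AddChar A ℂ) [DecidablePred (· ∈ H.atom ψ)] :
    ∃ e, H.Inv e ∧ ∀ φ, tr e φ = if φ ∈ H.atom ψ then 1 else 0 := by
  classical
  have hsep : ∀ φ, φ ∉ H.atom ψ → ∃ f, H.Inv f ∧ tr f ψ = 1 ∧ tr f φ = 0 := by
    intro φ hφ
    simp only [mem_atom, Same, not_forall] at hφ
    obtain ⟨f, hf, hne⟩ := hφ
    refine ⟨(tr f ψ - tr f φ)⁻¹ • (f + (-tr f φ) • fun a => if a = 0 then (1 : ℂ) else 0),
      (hf.add (H.inv_delta.smul _)).smul _, ?_, ?_⟩
    · rw [tr_smul, tr_add, tr_smul, tr_delta, mul_one, ← sub_eq_add_neg,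
        inv_mul_cancel₀ (sub_ne_zero.2 (Ne.symm hne))]
    · rw [tr_smul, tr_add, tr_smul, tr_delta, mul_one, add_neg_cancel, mul_zero]
  choose f hf hf1 hf0 using hsep
  have key : ∀ s : Finset (AddChar A ℂ), ∃ e, H.Inv e ∧ tr e ψ = 1 ∧ ∀ φ ∈ s, φ ∉ H.atom ψ → tr e φ = 0 := by
    intro s
    induction s using Finset.induction with
    | empty =>
      refine ⟨fun a => if a = 0 then 1 else 0, H.inv_delta, ?_, by simp⟩
      simp [tr, ite_mul]
    | insert x s hx ih =>
      obtain ⟨e, he, he1, he0⟩ := ih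
      by_cases hxa : x ∈ H.atom ψ
      · refine ⟨e, he, he1, fun φ hφ hn => ?_⟩
        rcases Finset.mem_insert.1 hφ with rfl | h
        exacts [absurd hxa hn, he0 φ h hn]
      · refine ⟨Fourier.cv e (f x hxa), he.cv (hf x hxa), by rw [tr_cv, he1, hf1, mul_one], fun φ hφ hn => ?_⟩
        rw [tr_cv]
        rcases Finset.mem_insert.1 hφ with rfl | h
        · rw [hf0, mul_zero]
        · rw [he0 φ h hn, zero_mul]
  obtain ⟨e, he, he1, he0⟩ := key Finset.univ
  refine ⟨e, he, fun φ => ?_⟩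
  split_ifs with h
  · rw [(H.mem_atom).1 h e he, he1]
  · exact he0 φ (Finset.mem_univ _) h

/-- The idempotent of a class. -/
noncomputable def idem (ψ : AddChar A ℂ) : A → ℂ := (@exists_idem M X A _ _ _ _ _ _ H ψ (Classical.decPred _)).choose

theorem idem_inv (ψ : AddChar A ℂ) : H.Inv (H.idem ψ) :=
  (@exists_idem M X A _ _ _ _ _ _ H ψ (Classical.decPred _)).choose_spec.1

theorem tr_idem (ψ φ : AddChar A ℂ) [Decidable (φ ∈ H.atom ψ)] :
    tr (H.idem ψ) φ = if φ ∈ H.atom ψ then 1 else 0 := by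
  rw [show tr (H.idem ψ) φ = _ from (@exists_idem M X A _ _ _ _ _ _ H ψ (Classical.decPred _)).choose_spec.2 φ]
  congr

theorem card_mul_idem (ψ : AddChar A ℂ) (a : A) :
    (Fintype.card A : ℂ) * H.idem ψ a = ∑ φ ∈ H.atom ψ, φ (-a) := by
  classical
  rw [← inversion]
  simp [tr_idem, ite_mul, Finset.sum_ite_mem]

theorem idem_zero (ψ : AddChar A ℂ) : (Fintype.card A : ℂ) * H.idem ψ 0 = (H.atom ψ).card := by
  rw [card_mul_idem]; simp

theorem atom_card_ne (ψ : AddChar A ℂ) : ((H.atom ψ).card : ℂ) ≠ 0 :=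
  Nat.cast_ne_zero.2 (Finset.card_ne_zero.2 ⟨ψ, H.mem_atom.2 (H.same_refl ψ)⟩)

theorem idem_conj (ψ : AddChar A ℂ) (a : A) : (starRingEnd ℂ) (H.idem ψ a) = H.idem ψ (-a) := by
  have h := congrArg (starRingEnd ℂ) (H.card_mul_idem ψ a)
  rw [map_mul, map_natCast, map_sum] at h
  simp only [conj_char, neg_neg] at h
  refine mul_left_cancel₀ (Nat.cast_ne_zero.2 Fintype.card_ne_zero) (h.trans ?_)
  rw [card_mul_idem]
  simp

theorem atom_disjoint {ψ φ : AddChar A ℂ} (h : ¬ H.Same ψ φ) (χ : AddChar A ℂ) (h1 : χ ∈ H.atom ψ) :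
    χ ∉ H.atom φ := fun h2 => h fun f hf => ((H.mem_atom.1 h1 f hf).symm.trans (H.mem_atom.1 h2 f hf)).symm

/-- The trace on the part of a class. -/
noncomputable def chi (ψ : AddChar A ℂ) (g : M) : ℂ :=
  ∑ u, H.idem ψ (H.pos.symm u - H.pos.symm (g • u))

theorem chi_conj_inv (ψ : AddChar A ℂ) (g h : M) : H.chi ψ (h * g * h⁻¹) = H.chi ψ g := by
  rw [chi, chi, ← Equiv.sum_comp (MulAction.toPerm h)]
  refine Finset.sum_congr rfl fun u _ => ?_
  simp only [MulAction.toPerm_apply, mul_smul, inv_smul_smul]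
  exact H.idem_inv ψ h (g • u) u

theorem chi_emb (ψ : AddChar A ℂ) (a : A) : H.chi ψ (H.emb a) = ∑ φ ∈ H.atom ψ, φ a := by
  rw [chi]
  simp only [coord_smul, sub_add_cancel_right, Finset.sum_const, Finset.card_univ, nsmul_eq_mul]
  rw [← Fintype.card_congr H.pos, card_mul_idem]
  simp

theorem star_chi (ψ : AddChar A ℂ) (g : M) :
    (starRingEnd ℂ) (H.chi ψ g) = ∑ v, H.idem ψ (H.pos.symm (g • v) - H.pos.symm v) := by
  rw [chi, map_sum]
  simp [idem_conj]

/-- The number of elements with given images. -/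
noncomputable def cnt (u v : X) (a : A) : ℂ :=
  ∑ g : M, @ite _ (g • u = H.x0 ∧ g • v = H.pos a) (Classical.dec _) 1 0

theorem cnt_eq [DecidableEq X] (u v p q : X) : H.cnt u v (H.pos.symm q - H.pos.symm p) =
    ∑ h : M, if h • u = p ∧ h • v = q then (1 : ℂ) else 0 := by
  classical
  refine Fintype.sum_equiv (Equiv.mulLeft (H.emb (H.pos.symm p))) _ _ fun h => ?_
  have hiff : (h • u = H.x0 ∧ h • v = H.pos (H.pos.symm q - H.pos.symm p)) ↔
      ((H.emb (H.pos.symm p) * h) • u = p ∧ (H.emb (H.pos.symm p) * h) • v = q) := by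
    simp only [mul_smul]
    refine and_congr ?_ ?_
    · rw [← smul_left_cancel_iff (H.emb (H.pos.symm p)), ← H.pos_apply, H.pos.apply_symm_apply]
    · rw [← smul_left_cancel_iff (H.emb (H.pos.symm p)), smul_pos, add_sub_cancel, H.pos.apply_symm_apply]
  simp only [Equiv.coe_mulLeft]
  by_cases h1 : h • u = H.x0 ∧ h • v = H.pos (H.pos.symm q - H.pos.symm p)
  · rw [if_pos h1]; exact (if_pos (hiff.1 h1)).symm
  · rw [if_neg h1]; exact (if_neg fun h2 => h1 (hiff.2 h2)).symm

theorem inv_cnt (u v : X) : H.Inv (H.cnt u v) := by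
  classical
  intro g p q
  simp only [cnt_eq]
  refine (Fintype.sum_equiv (Equiv.mulLeft g⁻¹) _ _ fun h => ?_)
  simp only [Equiv.coe_mulLeft, mul_smul]
  exact if_congr (and_congr inv_smul_eq_iff.symm inv_smul_eq_iff.symm) rfl rfl

theorem pair_sum [DecidableEq X] (u v : X) (F : X → X → ℂ) :
    ∑ g : M, F (g • u) (g • v) = ∑ p : X, ∑ q : X, (∑ g : M, if g • u = p ∧ g • v = q then (1 : ℂ) else 0) * F p q := by
  simp only [Finset.sum_mul, ite_mul, one_mul, zero_mul, ite_and]
  rw [Finset.sum_congr rfl fun p _ => Finset.sum_comm, Finset.sum_comm]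
  simp

/-- **Orthogonality.** -/
theorem chi_orth [DecidableEq X] (ψ φ : AddChar A ℂ) [Decidable (H.Same ψ φ)] :
    ∑ g, H.chi ψ g * (starRingEnd ℂ) (H.chi φ g) = if H.Same ψ φ then (Fintype.card M : ℂ) else 0 := by
  classical
  set c := fun u : X => H.pos.symm u with hc
  set f := fun (u v : X) (a : A) => H.cnt u v (-a) with hf
  have hexp : ∑ g, H.chi ψ g * (starRingEnd ℂ) (H.chi φ g) =
      ∑ u, ∑ v, Fourier.cv (Fourier.cv (H.idem ψ) (f u v)) (H.idem φ) (c u - c v) := by
    simp only [star_chi]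
    simp only [chi, Finset.sum_mul_sum]
    rw [Finset.sum_comm]
    refine Finset.sum_congr rfl fun u _ => ?_
    rw [Finset.sum_comm]
    refine Finset.sum_congr rfl fun v _ => ?_
    rw [pair_sum u v fun p q => H.idem ψ (c u - c p) * H.idem φ (c q - c v)]
    rw [Fourier.cv, Finset.sum_comm]
    refine (Fintype.sum_equiv (H.pos.symm.trans (Equiv.subLeft (c u))) _ _ fun q => ?_)
    simp only [Fourier.cv, Finset.sum_mul, Equiv.trans_apply, Equiv.subLeft_apply]
    refine (Fintype.sum_equiv (H.pos.symm.trans (Equiv.subLeft (c u))) _ _ fun p => ?_)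
    simp only [Equiv.trans_apply, Equiv.subLeft_apply, hf, hc]
    rw [show -(H.pos.symm u - H.pos.symm q - (H.pos.symm u - H.pos.symm p)) =
        H.pos.symm q - H.pos.symm p by abel,
      show H.pos.symm u - H.pos.symm v - (H.pos.symm u - H.pos.symm q) = H.pos.symm q - H.pos.symm v by abel,
      H.cnt_eq, Finset.mul_sum, Finset.sum_mul]
    exact Finset.sum_congr rfl fun x _ => by ring
  rw [hexp]
  split_ifs with hs
  · have hat : H.idem φ = H.idem ψ := by
      refine tr_inj fun χ => ?_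
      rw [tr_idem, tr_idem]
      refine if_congr ?_ rfl rfl
      simp only [mem_atom]
      exact ⟨fun h f' hf' => (h f' hf').trans (hs f' hf'), fun h f' hf' => (h f' hf').trans (hs f' hf').symm⟩
    have hee : Fourier.cv (H.idem ψ) (H.idem ψ) = H.idem ψ := tr_inj fun χ => by
      rw [tr_cv, tr_idem]; split_ifs <;> simp
    have hin : ∀ u v, Fourier.cv (Fourier.cv (H.idem ψ) (f u v)) (H.idem φ) =
        tr (f u v) ψ • H.idem ψ := fun u v => tr_inj fun χ => by
      rw [hat, tr_cv, tr_cv, tr_smul, tr_idem]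
      split_ifs with h
      · rw [(H.mem_atom.1 h) (f u v) (H.inv_cnt u v).neg]; ring
      · ring
    have hcoef : ∀ u v, ((H.atom ψ).card : ℂ) * tr (f u v) ψ =
        Fintype.card M * H.idem ψ (c v - c u) := by
      intro u v
      have h1 : ((H.atom ψ).card : ℂ) * tr (f u v) ψ =
          Fintype.card A * Fourier.cv (H.idem ψ) (f u v) 0 := by
        rw [← inversion]
        simp only [neg_zero, AddChar.map_zero_eq_one, mul_one, tr_cv, tr_idem, ite_mul, one_mul, zero_mul,
          Finset.sum_ite_mem, Finset.univ_inter]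
        rw [Finset.sum_congr rfl fun χ hχ => (H.mem_atom.1 hχ) (f u v) (H.inv_cnt u v).neg]
        simp
      rw [h1]
      have h2 : ∑ g : M, H.idem ψ (c (g • v) - c (g • u)) = Fintype.card M * H.idem ψ (c v - c u) := by
        simp only [hc, H.idem_inv ψ _ u v, Finset.sum_const, Finset.card_univ, nsmul_eq_mul]
      rw [← h2, pair_sum u v fun p q => H.idem ψ (c q - c p)]
      simp only [← H.cnt_eq, hc]
      have h3 : ∀ p : X, ∑ q, H.cnt u v (H.pos.symm q - H.pos.symm p) * H.idem ψ (H.pos.symm q - H.pos.symm p) =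
          Fourier.cv (H.idem ψ) (f u v) 0 := fun p => by
        refine Fintype.sum_equiv (H.pos.symm.trans (Equiv.subRight (H.pos.symm p))) _ _ fun q => ?_
        simp [hf, mul_comm]
      simp only [h3, Finset.sum_const, Finset.card_univ, nsmul_eq_mul, Fintype.card_congr H.pos]
    refine mul_left_cancel₀ (H.atom_card_ne ψ) ?_
    simp only [hin, Pi.smul_apply, smul_eq_mul, Finset.mul_sum, ← mul_assoc, hcoef]
    have h4 : ∀ u : X, ∑ v, H.idem ψ (c v - c u) * H.idem ψ (c u - c v) =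
        Fourier.cv (H.idem ψ) (H.idem ψ) 0 := fun u => by
      refine Fintype.sum_equiv (H.pos.symm.trans (Equiv.subRight (H.pos.symm u))) _ _ fun v => ?_
      simp [hc, neg_sub]
    simp only [mul_assoc, ← Finset.mul_sum, h4, hee, Finset.sum_const, Finset.card_univ, nsmul_eq_mul,
      ← Fintype.card_congr H.pos, idem_zero]
    ring
  · refine Finset.sum_eq_zero fun u _ => Finset.sum_eq_zero fun v _ => ?_
    have h0 : Fourier.cv (Fourier.cv (H.idem ψ) (f u v)) (H.idem φ) = 0 := tr_inj fun χ => by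
      rw [tr_cv, tr_cv, tr_idem, tr_idem]
      by_cases h : χ ∈ H.atom ψ
      · rw [if_neg (H.atom_disjoint hs χ h), mul_zero]; simp [tr]
      · rw [if_neg h, zero_mul, zero_mul]; simp [tr]
    rw [h0]; rfl

/-! ### Induction from the complement -/

/-- A function on the embedded subgroup, extended by zero. -/
noncomputable def ext (θ : A → ℂ) : M → ℂ := Function.extend H.emb θ 0

theorem ext_emb (θ : A → ℂ) (a : A) : H.ext θ (H.emb a) = θ a := H.emb_inj.extend_apply θ 0 a

/-- The induced class function, times the order of the normalizer. -/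
noncomputable def ind (θ : A → ℂ) (g : M) : ℂ := ∑ h : M, H.ext θ (h⁻¹ * g * h)

theorem ind_conj (θ : A → ℂ) (g k : M) : H.ind θ (k * g * k⁻¹) = H.ind θ g := by
  refine Fintype.sum_equiv (Equiv.mulLeft k⁻¹) _ _ fun h => ?_
  simp only [Equiv.coe_mulLeft]
  congr 1; group

theorem ind_pair (θ : A → ℂ) (F : M → ℂ) (hF : ∀ g k, F (k * g * k⁻¹) = F g) :
    ∑ g, H.ind θ g * F g = Fintype.card M * ∑ a, θ a * F (H.emb a) := by
  classical
  simp only [ind, Finset.sum_mul]
  rw [Finset.sum_comm]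
  have h1 : ∀ h : M, ∑ g, H.ext θ (h⁻¹ * g * h) * F g = ∑ a, θ a * F (H.emb a) := by
    intro h
    have h2 : ∑ g, H.ext θ (h⁻¹ * g * h) * F g = ∑ g, H.ext θ g * F g := by
      refine Fintype.sum_equiv ((Equiv.mulLeft h⁻¹).trans (Equiv.mulRight h)) _ _ fun g => ?_
      simp only [Equiv.trans_apply, Equiv.coe_mulLeft, Equiv.coe_mulRight]
      congr 1
      simpa using (hF g h⁻¹).symm
    rw [h2, ← Finset.sum_subset (Finset.subset_univ (Finset.univ.image H.emb)) fun g _ hg => by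
      rw [ext, Function.extend_apply' _ _ _ (by simpa using hg)]; simp, Finset.sum_image fun a _ b _ e => H.emb_inj e]
    simp [ext_emb]
  simp [h1]

variable [Fintype ↥H.Y]

theorem ind_emb {θ : A → ℂ} (h0 : θ 0 = 0) (hθ : ∀ (y : ↥H.Y) a, θ (H.σ y a) = θ a) (a : A) :
    H.ind θ (H.emb a) = Fintype.card A * Fintype.card ↥H.Y * θ a := by
  classical
  set j : A × ↥H.Y → M := fun x => H.emb x.1 * x.2 with hj
  have hinj : Function.Injective j := by
    rintro ⟨a, y⟩ ⟨b, y'⟩ e
    have e2 := congrArg (fun g : M => g • H.x0) e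
    simp only [hj, mul_smul, H.fix _ y.2, H.fix _ y'.2, ← pos_apply] at e2
    obtain rfl := H.pos.injective e2
    exact Prod.ext rfl (Subtype.ext (mul_left_cancel e))
  have hval : ∀ x : A × ↥H.Y, H.ext θ ((j x)⁻¹ * H.emb a * j x) = θ a := by
    rintro ⟨b, y⟩
    rw [show (j (b, y))⁻¹ * H.emb a * j (b, y) =
      ((y⁻¹ : ↥H.Y) : M) * H.emb (-b + (a + b)) * ((y⁻¹ : ↥H.Y) : M)⁻¹ by
        rw [H.emb_add, H.emb_add, H.emb_neg, hj, InvMemClass.coe_inv]; group,
      H.hσ _ (y⁻¹).2, ext_emb, hθ, show -b + (a + b) = a by abel]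
  rw [ind, ← Finset.sum_subset (Finset.subset_univ (Finset.univ.image j)) fun h _ hh => ?_,
    Finset.sum_image fun a _ b _ e => hinj e]
  · simp only [hval]
    simp [mul_assoc]
  by_contra hne
  rw [ext] at hne
  obtain ⟨b, hb⟩ : ∃ b, H.emb b = h⁻¹ * H.emb a * h := by
    by_contra hno
    rw [Function.extend_apply' _ _ _ hno] at hne; simp at hne
  rw [← hb, H.emb_inj.extend_apply] at hne
  obtain ⟨y, hy, c, hc⟩ := H.fus b a h (fun e => hne (e ▸ h0)) (by rw [hb]; group)
  exact hh (Finset.mem_image.2 ⟨(c, ⟨y, hy⟩), Finset.mem_univ _, hc.symm⟩)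

/-- The orbit of a character under the complement. -/
noncomputable def charOrbit (ψ : AddChar A ℂ) : Finset (AddChar A ℂ) :=
  @Finset.image _ _ (Classical.decEq _) (fun y => H.act y ψ) Finset.univ

theorem mem_charOrbit {ψ φ : AddChar A ℂ} : φ ∈ H.charOrbit ψ ↔ ∃ y, H.act y ψ = φ := by simp [charOrbit]

/-- Non-trivial on the chosen subgroup. -/
def Reg (ψ : AddChar A ℂ) : Prop := ∃ b ∈ H.B, ψ b ≠ 1

theorem act_mul (y y' : ↥H.Y) (ψ : AddChar A ℂ) : H.act y (H.act y' ψ) = H.act (y * y') ψ := by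
  refine DFunLike.ext _ _ fun a => ?_
  simp only [act_apply]
  congr 1
  refine H.emb_inj ?_
  rw [← H.hσ _ (inv_mem y'.2), ← H.hσ _ (inv_mem y.2), ← H.hσ _ (inv_mem (y * y').2), Subgroup.coe_mul]
  group

theorem card_charOrbit {ψ : AddChar A ℂ} (hψ : H.Reg ψ) :
    (H.charOrbit ψ).card = Fintype.card ↥H.Y := by
  classical
  rw [charOrbit, Finset.card_image_of_injective _ (fun y y' e => ?_), Finset.card_univ]
  have e1 : H.act (y'⁻¹ * y) ψ = ψ := by
    rw [← act_mul, show H.act y ψ = H.act y' ψ from e, act_mul, inv_mul_cancel]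
    refine DFunLike.ext _ _ fun a => ?_
    rw [act_apply]; congr 1
    exact H.emb_inj (by rw [← H.hσ _ (inv_mem (1 : ↥H.Y).2)]; simp)
  have h2 : (((y'⁻¹ * y : ↥H.Y)) : M)⁻¹ = 1 :=
    H.free ψ hψ _ (inv_mem (y'⁻¹ * y).2) fun a => by
      conv_rhs => rw [← e1]
      rw [act_apply]
  exact (inv_mul_eq_one.1 (Subtype.ext (inv_eq_one.1 h2))).symm

theorem charOrbit_subset_atom (ψ : AddChar A ℂ) : H.charOrbit ψ ⊆ H.atom ψ := fun φ hφ => by
  obtain ⟨y, rfl⟩ := H.mem_charOrbit.1 hφ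
  exact H.mem_atom.2 (H.same_act ψ y)

theorem sum_sub_pair (S T U V : Finset (AddChar A ℂ)) :
    ∑ a, (∑ χ ∈ S, χ a - ∑ χ ∈ T, χ a) * (∑ χ ∈ U, χ (-a) - ∑ χ ∈ V, χ (-a)) =
      (Fintype.card A : ℂ) * (((@Inter.inter _ (@Finset.instInter _ (Classical.decEq _)) S U).card : ℂ) -
        (@Inter.inter _ (@Finset.instInter _ (Classical.decEq _)) S V).card -
        (@Inter.inter _ (@Finset.instInter _ (Classical.decEq _)) T U).card +
        (@Inter.inter _ (@Finset.instInter _ (Classical.decEq _)) T V).card) := by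
  classical
  have h : ∀ S U : Finset (AddChar A ℂ),
      ∑ a, (∑ χ ∈ S, χ a) * ∑ χ ∈ U, χ (-a) = (Fintype.card A : ℂ) * (S ∩ U).card := fun S U => by
    simp only [Finset.sum_mul_sum]
    rw [Finset.sum_comm]
    simp only [Finset.sum_comm (s := Finset.univ) (t := U), sum_char_mul, Finset.sum_ite_eq, Finset.sum_ite_mem]
    simp [mul_comm]
  simp only [sub_mul, mul_sub, Finset.sum_sub_distrib, h]
  ring

/-- Two regular classes: each is one orbit. -/
theorem atom_eq_orbit {ψ φ : AddChar A ℂ} (hψ : H.Reg ψ) (hφ : H.Reg φ) (hne : ¬ H.Same ψ φ) :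
    H.atom ψ = H.charOrbit ψ := by
  classical
  set O := H.charOrbit ψ
  set P := H.charOrbit φ
  set S := H.atom ψ
  set T := H.atom φ
  have hST : S ∩ T = ∅ := Finset.disjoint_iff_inter_eq_empty.1
    (Finset.disjoint_left.2 fun χ h => H.atom_disjoint hne χ h)
  have hOT : O ∩ T = ∅ := Finset.subset_empty.1 (hST ▸ Finset.inter_subset_inter_right (H.charOrbit_subset_atom ψ))
  have hSP : S ∩ P = ∅ := Finset.subset_empty.1 (hST ▸ Finset.inter_subset_inter_left (H.charOrbit_subset_atom φ))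
  have hOP : O ∩ P = ∅ := Finset.subset_empty.1 (hOT ▸ Finset.inter_subset_inter_left (H.charOrbit_subset_atom φ))
  set θ : A → ℂ := fun a => ∑ χ ∈ O, χ a - ∑ χ ∈ P, χ a with hθ
  have h0 : θ 0 = 0 := by simp [hθ, O, P, H.card_charOrbit hψ, H.card_charOrbit hφ]
  have hY : ∀ (y : ↥H.Y) a, θ (H.σ y a) = θ a := by
    intro y a
    have : ∀ χ₀, ∑ χ ∈ H.charOrbit χ₀, χ (H.σ y a) = ∑ χ ∈ H.charOrbit χ₀, χ a := by
      intro χ₀
      refine Finset.sum_bij (fun χ _ => H.act y⁻¹ χ) (fun χ hχ => ?_) (fun χ _ χ' _ e => ?_) (fun χ hχ => ?_)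
        fun χ _ => by simp [act_apply]
      · obtain ⟨z, rfl⟩ := H.mem_charOrbit.1 hχ
        exact H.mem_charOrbit.2 ⟨y⁻¹ * z, (H.act_mul _ _ _).symm⟩
      · refine DFunLike.ext _ _ fun b => ?_
        have := DFunLike.congr_fun e (H.σ (y : M)⁻¹ b)
        simpa [act_apply, H.σ_inv' y.2] using this
      · obtain ⟨z, rfl⟩ := H.mem_charOrbit.1 hχ
        exact ⟨H.act (y * z) χ₀, H.mem_charOrbit.2 ⟨_, rfl⟩, by rw [act_mul, inv_mul_cancel_left]⟩
    exact congrArg₂ (· - ·) (this ψ) (this φ)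
  set N : ℂ := Fintype.card A * Fintype.card ↥H.Y with hN
  set d : M → ℂ := fun g => H.ind θ g - N * (H.chi ψ g - H.chi φ g) with hd
  have hcf : ∀ g k, (starRingEnd ℂ) (H.ind θ (k * g * k⁻¹)) = (starRingEnd ℂ) (H.ind θ g) := fun g k => by
    rw [ind_conj]
  have hcF : ∀ g k, (starRingEnd ℂ) (H.chi ψ (k * g * k⁻¹) - H.chi φ (k * g * k⁻¹)) =
      (starRingEnd ℂ) (H.chi ψ g - H.chi φ g) := fun g k => by rw [chi_conj_inv, chi_conj_inv]
  have i1 : ∑ g, H.ind θ g * (starRingEnd ℂ) (H.ind θ g) =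
      2 * Fintype.card M * N * N := by
    rw [H.ind_pair θ _ hcf]
    have e : ∀ a, θ a * (starRingEnd ℂ) (H.ind θ (H.emb a)) =
        N * ((∑ χ ∈ O, χ a - ∑ χ ∈ P, χ a) * (∑ χ ∈ O, χ (-a) - ∑ χ ∈ P, χ (-a))) := fun a => by
      rw [H.ind_emb h0 hY, map_mul, ← hN, show (starRingEnd ℂ) N = N by simp [hN]]
      simp only [hθ, map_sub, map_sum, conj_char]
      ring
    simp only [e, ← Finset.mul_sum]
    rw [sum_sub_pair, Finset.inter_self, Finset.inter_self, Finset.inter_comm P O, hOP,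
      H.card_charOrbit hψ, H.card_charOrbit hφ]
    simp only [Finset.card_empty, Nat.cast_zero, hN]
    ring
  have i2 : ∑ g, H.ind θ g * (starRingEnd ℂ) (H.chi ψ g - H.chi φ g) = 2 * Fintype.card M * N := by
    rw [H.ind_pair θ _ hcF]
    simp only [map_sub, chi_emb, map_sum, conj_char, hθ]
    rw [sum_sub_pair, hOT, Finset.inter_comm P S, hSP,
      Finset.inter_eq_left.2 (H.charOrbit_subset_atom ψ), Finset.inter_eq_left.2 (H.charOrbit_subset_atom φ),
      H.card_charOrbit hψ, H.card_charOrbit hφ, hN]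
    simp only [Finset.card_empty, Nat.cast_zero]
    ring
  have i3 : ∑ g, (H.chi ψ g - H.chi φ g) * (starRingEnd ℂ) (H.chi ψ g - H.chi φ g) = 2 * Fintype.card M := by
    have hne' : ¬ H.Same φ ψ := fun h => hne fun f hf => (h f hf).symm
    simp only [map_sub, sub_mul, mul_sub, Finset.sum_sub_distrib, chi_orth, if_pos (H.same_refl _), if_neg hne,
      if_neg hne']
    ring
  have i2' : ∑ g, (H.chi ψ g - H.chi φ g) * (starRingEnd ℂ) (H.ind θ g) = 2 * Fintype.card M * N := by
    have h := congrArg (starRingEnd ℂ) i2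
    simp only [map_sum, map_mul, Complex.conj_conj, hN, map_natCast, map_ofNat] at h
    rw [hN, ← h]
    exact Finset.sum_congr rfl fun g _ => mul_comm _ _
  have hzero : ∑ g, d g * (starRingEnd ℂ) (d g) = 0 := by
    have e : ∀ g, d g * (starRingEnd ℂ) (d g) = H.ind θ g * (starRingEnd ℂ) (H.ind θ g)
        - N * (H.ind θ g * (starRingEnd ℂ) (H.chi ψ g - H.chi φ g))
        - N * ((H.chi ψ g - H.chi φ g) * (starRingEnd ℂ) (H.ind θ g))
        + N * N * ((H.chi ψ g - H.chi φ g) * (starRingEnd ℂ) (H.chi ψ g - H.chi φ g)) := fun g => by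
      simp only [hd, map_sub, map_mul, show (starRingEnd ℂ) N = N by simp [hN]]
      ring
    simp only [e, Finset.sum_add_distrib, Finset.sum_sub_distrib, ← Finset.mul_sum, i1, i2, i2', i3]
    ring
  have hd0 : ∀ g, d g = 0 := fun g => by
    simp only [Complex.mul_conj] at hzero
    rw [← Complex.ofReal_sum, Complex.ofReal_eq_zero] at hzero
    exact Complex.normSq_eq_zero.1
      ((Finset.sum_eq_zero_iff_of_nonneg fun i _ => Complex.normSq_nonneg _).1 hzero g (Finset.mem_univ _))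
  have hN0 : N ≠ 0 := mul_ne_zero (Nat.cast_ne_zero.2 Fintype.card_ne_zero) (Nat.cast_ne_zero.2 Fintype.card_ne_zero)
  have heq : ∀ a, θ a = ∑ χ ∈ S, χ a - ∑ χ ∈ T, χ a := fun a => by
    have h := hd0 (H.emb a)
    simp only [hd, H.ind_emb h0 hY, chi_emb, ← mul_sub, hN] at h
    exact sub_eq_zero.1 ((mul_eq_zero.1 h).resolve_left (hN ▸ hN0))
  refine (Finset.eq_of_subset_of_card_le (H.charOrbit_subset_atom ψ) ?_).symm
  have h := sum_sub_pair (A := A) S T S ∅
  have h' : ∑ a, (∑ χ ∈ O, χ a - ∑ χ ∈ P, χ a) * (∑ χ ∈ S, χ (-a) - ∑ χ ∈ (∅ : Finset (AddChar A ℂ)), χ (-a)) =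
      ∑ a, (∑ χ ∈ S, χ a - ∑ χ ∈ T, χ a) * (∑ χ ∈ S, χ (-a) - ∑ χ ∈ (∅ : Finset (AddChar A ℂ)), χ (-a)) :=
    Finset.sum_congr rfl fun a _ => by rw [← heq]
  rw [sum_sub_pair, sum_sub_pair, Finset.inter_comm P S, hSP, Finset.inter_comm T S, hST,
    Finset.inter_eq_left.2 (H.charOrbit_subset_atom ψ)] at h'
  simp only [Finset.inter_empty, Finset.inter_self, Finset.card_empty, Nat.cast_zero, sub_zero, add_zero] at h'
  exact (Nat.cast_inj.1 (mul_left_cancel₀ (Nat.cast_ne_zero.2 Fintype.card_ne_zero) h')).symm.le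

/-- Functions killed by all regular characters are `B`-invariant. -/
theorem periodic {h : A → ℂ} (hh : ∀ ψ, H.Reg ψ → tr h ψ = 0) {b : A} (hb : b ∈ H.B) (a : A) :
    h (a + b) = h a := by
  have e : (fun a => h (a + b)) = h := tr_inj fun ψ => by
    have e1 : tr (fun a => h (a + b)) ψ = tr h ψ * ψ (-b) := by
      simp only [tr, Finset.sum_mul]
      refine Fintype.sum_equiv (Equiv.addRight b) _ _ fun a => ?_
      simp [mul_assoc, ← AddChar.map_add_eq_mul]
    by_cases hr : H.Reg ψ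
    · rw [e1, hh ψ hr, zero_mul]
    · rw [e1, show ψ (-b) = 1 from by_contra fun h1 => hr ⟨-b, neg_mem hb, h1⟩, mul_one]
  exact congrFun e a

theorem inv_of_stab {P : A → Prop} [DecidablePred P]
    (hP : ∀ (g : M) (a b : A), g • H.x0 = H.x0 → g • H.pos a = H.pos b → (P a ↔ P b)) :
    H.Inv fun a => if P a then 1 else 0 := fun g u v => by
  refine if_congr (hP (H.emb (-H.pos.symm (g • u)) * g * H.emb (H.pos.symm u)) _ _ ?_ ?_).symm rfl rfl
  · rw [mul_smul, mul_smul, ← pos_apply, H.pos.apply_symm_apply, ← H.pos.apply_symm_apply (g • u), smul_pos,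
      Equiv.symm_apply_apply, neg_add_cancel, pos_zero]
  · rw [mul_smul, mul_smul, smul_pos, add_sub_cancel, H.pos.apply_symm_apply,
      ← H.pos.apply_symm_apply (g • v), smul_pos, Equiv.symm_apply_apply, sub_eq_neg_add]

/-- **The dichotomy, applied.** A suborbit-closed set of non-trivial elements, all whose suborbits are even,
consists of `B`-cosets away from `B`, and contains all or none of `B#`. -/
theorem coset_dichotomy (hodd : Odd (Fintype.card ↥H.Y)) (P : A → Prop) (h0 : ¬ P 0)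
    (hP : ∀ (g : M) (a b : A), g • H.x0 = H.x0 → g • H.pos a = H.pos b → (P a ↔ P b))
    (heven : ∀ a, P a → Even (Nat.card {b : A // ∃ g : M, g • H.x0 = H.x0 ∧ g • H.pos a = H.pos b})) :
    (∀ a, a ∉ H.B → ∀ b ∈ H.B, (P (a + b) ↔ P a)) ∧
      ∀ b ∈ H.B, ∀ b' ∈ H.B, b ≠ 0 → b' ≠ 0 → (P b ↔ P b') := by
  classical
  by_cases hm : ∀ ψ φ, H.Reg ψ → H.Reg φ → H.Same ψ φ
  · -- one class
    have hinv := H.inv_of_stab hP
    by_cases hex : ∃ ψ, H.Reg ψ
    · obtain ⟨ψ₀, hψ₀⟩ := hex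
      set f : A → ℂ := fun a => if P a then 1 else 0 with hf
      set h : A → ℂ := f + (-tr f ψ₀) • fun a => if a = 0 then (1 : ℂ) else 0 with hh
      have hz : ∀ ψ, H.Reg ψ → tr h ψ = 0 := fun ψ hψ => by
        rw [hh, tr_add, tr_smul, tr_delta, hm ψ₀ ψ hψ₀ hψ f hinv]; ring
      have hval : ∀ a, a ≠ 0 → h a = if P a then 1 else 0 := fun a ha => by simp [hh, hf, ha]
      have hiff : ∀ a b, a ≠ 0 → b ≠ 0 → h a = h b → (P a ↔ P b) := fun a b ha hb e => by
        rw [hval a ha, hval b hb] at e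
        by_cases h1 : P a <;> by_cases h2 : P b <;> simp [h1, h2] at e ⊢
      refine ⟨fun a ha b hb => hiff _ _ (fun e => ha ?_) (fun e => ha (e ▸ H.B.zero_mem)) (H.periodic hz hb a),
        fun b hb b' hb' hb0 hb0' => hiff _ _ hb0 hb0' ?_⟩
      · rw [eq_neg_of_add_eq_zero_left e]; exact neg_mem hb
      · have e1 := H.periodic hz hb 0
        have e2 := H.periodic hz hb' 0
        rw [zero_add] at e1 e2
        rw [e1, e2]
    · have hz : ∀ h : A → ℂ, ∀ ψ, H.Reg ψ → tr h ψ = 0 := fun h ψ hψ => absurd ⟨ψ, hψ⟩ hex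
      have hB : ∀ b ∈ H.B, b = 0 := fun b hb => by
        have := H.periodic (hz fun a => if a = 0 then 1 else 0) hb 0
        simp at this
        exact this
      exact ⟨fun a _ b hb => by rw [hB b hb, add_zero], fun b hb b' hb' hb0 => absurd (hB b hb) hb0⟩
  · -- every regular orbit is a class
    simp only [not_forall] at hm
    obtain ⟨ψ₀, φ₀, hψ₀, hφ₀, hne⟩ := hm
    have horb : ∀ ψ, H.Reg ψ → H.atom ψ = H.charOrbit ψ := fun ψ hψ => by
      by_cases h : H.Same ψ ψ₀
      · refine H.atom_eq_orbit hψ hφ₀ fun h' => hne fun f hf => (h' f hf).trans (h f hf).symm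
      · exact H.atom_eq_orbit hψ hψ₀ h
    have hper : ∀ a, P a → ∀ b ∈ H.B, P (a + b) := by
      intro a ha b hb
      set O : Finset A := Finset.univ.filter fun c => ∃ g : M, g • H.x0 = H.x0 ∧ g • H.pos a = H.pos c
      set O₁ : Finset A := Finset.univ.image fun y : ↥H.Y => H.σ y a
      have hO₁ : O₁ ⊆ O := fun c hc => by
        obtain ⟨y, -, rfl⟩ := Finset.mem_image.1 hc
        exact Finset.mem_filter.2 ⟨Finset.mem_univ _, y, H.fix _ y.2, H.smul_pos_σ y.2 a⟩
      have hcard : Odd O₁.card := by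
        refine hodd.of_dvd_nat ⟨Fintype.card ↥(MulAction.stabilizer ↥H.Y (H.pos a)), ?_⟩
        rw [← MulAction.card_orbit_mul_card_stabilizer_eq_card_group ↥H.Y (H.pos a)]
        congr 1
        rw [← Set.toFinset_card, ← Finset.card_map H.pos.toEmbedding]
        congr 1
        ext u
        simp only [Set.mem_toFinset, MulAction.mem_orbit_iff, Finset.mem_map, O₁, Finset.mem_image,
          Finset.mem_univ, true_and, Equiv.coe_toEmbedding]
        constructor
        · rintro ⟨y, rfl⟩; exact ⟨_, ⟨y, rfl⟩, (H.smul_pos_σ y.2 a).symm⟩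
        · rintro ⟨c, ⟨y, rfl⟩, rfl⟩; exact ⟨y, H.smul_pos_σ y.2 a⟩
      have hlt : O₁.card < O.card := by
        refine lt_of_le_of_ne (Finset.card_le_card hO₁) fun e => ?_
        refine Nat.not_even_iff_odd.2 hcard ?_
        rw [e, ← Nat.card_eq_finsetCard]
        convert heven a ha using 1
        exact Nat.card_congr (Equiv.subtypeEquivRight fun c => by simp [O])
      set h : A → ℂ := fun c => (O.card : ℂ) * (if c ∈ O₁ then 1 else 0) -
        (O₁.card : ℂ) * (if c ∈ O then 1 else 0) with hh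
      have horth : ∀ f, H.Inv f → ∑ c, h c * f c = 0 := fun f hf => by
        have hc : ∀ c ∈ O, f c = f a := fun c hc => by
          obtain ⟨g, hg, e⟩ := (Finset.mem_filter.1 hc).2
          exact (hf.const_on hg e).symm
        simp only [hh, sub_mul, mul_assoc, ite_mul, one_mul, zero_mul, Finset.sum_sub_distrib, ← Finset.mul_sum,
          Finset.sum_ite_mem, Finset.univ_inter]
        rw [Finset.sum_congr rfl fun c hc' => hc c (hO₁ hc'), Finset.sum_congr rfl fun c hc' => hc c hc']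
        simp only [Finset.sum_const, nsmul_eq_mul]; ring
      have hhY : ∀ (y : ↥H.Y) c, h (H.σ y c) = h c := by
        have e1 : ∀ (y : ↥H.Y) c, c ∈ O₁ → H.σ y c ∈ O₁ := fun y c hc => by
          obtain ⟨z, -, rfl⟩ := Finset.mem_image.1 hc
          refine Finset.mem_image.2 ⟨y * z, Finset.mem_univ _, H.emb_inj ?_⟩
          rw [← H.hσ _ (y * z).2, ← H.hσ _ y.2, ← H.hσ _ z.2, Subgroup.coe_mul]; group
        have e2 : ∀ (y : ↥H.Y) c, c ∈ O → H.σ y c ∈ O := fun y c hc => by
          obtain ⟨g, hg, e⟩ := (Finset.mem_filter.1 hc).2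
          exact Finset.mem_filter.2 ⟨Finset.mem_univ _, y * g, by rw [mul_smul, hg, H.fix _ y.2],
            by rw [mul_smul, e, H.smul_pos_σ y.2]⟩
        intro y c
        simp only [hh]
        congr 2 <;> refine if_congr ⟨fun hc => ?_, fun hc => ?_⟩ rfl rfl
        · simpa [H.σ_inv y.2] using e1 y⁻¹ _ hc
        · exact e1 y c hc
        · simpa [H.σ_inv y.2] using e2 y⁻¹ _ hc
        · exact e2 y c hc
      have hz : ∀ ψ, H.Reg ψ → tr h ψ = 0 := by
        intro ψ hψ
        have hconst : ∀ φ ∈ H.charOrbit ψ, tr h φ = tr h ψ := fun φ hφ => by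
          obtain ⟨y, rfl⟩ := H.mem_charOrbit.1 hφ
          refine Fintype.sum_equiv ⟨H.σ (y : M)⁻¹, H.σ (y : M), fun a => H.σ_inv' y.2 a, fun a => H.σ_inv y.2 a⟩ _ _
            fun c => ?_
          show h c * H.act y ψ c = h (H.σ (y : M)⁻¹ c) * ψ (H.σ (y : M)⁻¹ c)
          rw [act_apply, ← hhY y⁻¹ c, InvMemClass.coe_inv]
        have h1 := horth _ (H.idem_inv ψ).neg
        have h2 : ((H.charOrbit ψ).card : ℂ) * tr h ψ = 0 := by
          rw [← nsmul_eq_mul, ← Finset.sum_const, ← Finset.sum_congr rfl hconst]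
          change ∑ φ ∈ H.charOrbit ψ, ∑ c, h c * φ c = 0
          rw [Finset.sum_comm]
          simp only [← Finset.mul_sum, ← horb ψ hψ]
          have e3 : ∀ c, h c * ∑ φ ∈ H.atom ψ, φ c = (Fintype.card A : ℂ) * (h c * H.idem ψ (-c)) := fun c => by
            rw [mul_left_comm (Fintype.card A : ℂ), card_mul_idem, neg_neg]
          simp only [e3, ← Finset.mul_sum, h1, mul_zero]
        rw [H.card_charOrbit hψ] at h2
        exact (mul_eq_zero.1 h2).resolve_left (Nat.cast_ne_zero.2 Fintype.card_ne_zero)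
      have e := H.periodic hz hb a
      have ha1 : a ∈ O₁ := Finset.mem_image.2 ⟨1, Finset.mem_univ _, H.emb_inj (by rw [← H.hσ _ (1 : ↥H.Y).2]; simp)⟩
      simp only [hh, if_pos ha1, if_pos (hO₁ ha1), mul_one] at e
      have hab : a + b ∈ O₁ := by
        by_contra hno
        rw [if_neg hno, mul_zero, zero_sub] at e
        split_ifs at e with hO
        · rw [mul_one] at e
          have e' : (O.card : ℂ) = 0 := by linear_combination (-1) * e
          exact absurd (Nat.cast_eq_zero.1 e') (by omega)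
        · rw [mul_zero, neg_zero] at e
          have e' : (O.card : ℂ) = O₁.card := by linear_combination (-1) * e
          exact absurd (Nat.cast_inj.1 e') (by omega)
      obtain ⟨g, hg, e'⟩ := (Finset.mem_filter.1 (hO₁ hab)).2
      exact (hP g a (a + b) hg e').1 ha
    refine ⟨fun a _ b hb => ⟨fun h => ?_, fun h => hper a h b hb⟩, fun b hb b' hb' _ _ => ?_⟩
    · simpa using hper _ h (-b) (neg_mem hb)
    · have hnone : ∀ c ∈ H.B, ¬ P c := fun c hc h => h0 (by simpa using hper c h (-c) (neg_mem hc))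
      simp [hnone b hb, hnone b' hb']

end Data

end CfsgLib.Bender.Fourier
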