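import Cfsg.Agent.Lib.Bender.Gen.NSig
import Cfsg.Agent.Lib.Bender.Gen.NoncommFourier

/-!
Owner: helper28. General Bender theorem, slice G5: twins in the commuting graph of the involutions at a point.
-/

set_option autoImplicit false
set_option linter.style.haveILetI false
set_option linter.unusedSectionVars false

namespace CfsgLib.Bender.NFour

open Subgroup MulAction
open CfsgLib.Signalizer (involution_sq involution_inv involution_ne_one orderOf_eq_two_of orderOf_conj)

variable {G Ω : Type*} [Group G] [Finite G] [MulAction G Ω] [Finite Ω] {a b : Ω} {K : Subgroup G}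

theorem eq_one_of_centralizes (hK : RegK a b K) {x t : G} (hx : x ∈ K) (ht : InvAt t a)
    (hc : x * t = t * x) : x = 1 :=
  (hK.regular t t ht ht).unique ⟨hx, by rw [hc, mul_inv_cancel_right]⟩ ⟨one_mem _, by group⟩

/-- A non-trivial element of `K` fixes only `a` and `b`. -/
theorem fix_eq (hS : Setting0 G Ω) (hC : SRCons G Ω) (hab : a ≠ b) (hK : RegK a b K) {x : G}
    (hx : x ∈ K) (hx1 : x ≠ 1) {c : Ω} (hc : x • c = c) : c = a ∨ c = b := by
  by_contra hne
  simp only [not_or] at hne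
  obtain ⟨p, hp, hpd⟩ := Nat.exists_prime_and_dvd (fun h => hx1 (orderOf_eq_one_iff.1 h))
  haveI : Fact p.Prime := ⟨hp⟩
  set z := x ^ (orderOf x / p) with hz
  have hzo : orderOf z = p := orderOf_pow_orderOf_div (orderOf_pos x).ne' hpd
  have hz1 : z ≠ 1 := fun h => hp.one_lt.ne' (by rw [← hzo, h, orderOf_one])
  have hzK : z ∈ K := pow_mem hx _
  have hp2 : p ≠ 2 := by
    rintro rfl
    refine Nat.not_even_iff_odd.2 (hS.odd_pairStab hab) (even_iff_two_dvd.2 ?_)
    rw [← hzo, ← Nat.card_zpowers]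
    exact Subgroup.card_dvd_of_le (Subgroup.zpowers_le.2 (hK.le hzK))
  refine hC.fix_le_two p hp hp2 (zpowers z) (IsPGroup.of_card (n := 1) (by rw [Nat.card_zpowers, hzo, pow_one]))
    a b c ⟨Subgroup.zpowers_le.2 (hK.le hzK).1, fun t ht => ⟨z, mem_zpowers z, fun h =>
      hz1 (eq_one_of_centralizes hK hzK ht h)⟩⟩ hab (Ne.symm hne.1) (Ne.symm hne.2)
    (Subgroup.zpowers_le.2 (hK.le hzK).2) (Subgroup.zpowers_le.2 ?_)
  rw [mem_stabilizer_iff]
  exact (stabilizer G c).pow_mem (mem_stabilizer_iff.2 hc) _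

/-- The data for the dichotomy, and twins. -/
theorem twins {M₀ B : Subgroup G} (hS : Setting0 G Ω) (hC : SRCons G Ω) (hab : a ≠ b) (hK : RegK a b K)
    (hM : Residual a b M₀) (hKM : K ≤ M₀) {t : G} (ht : InvAt t a) (hBK : B ≤ K)
    (hfree : ∀ g ∈ M₀ ⊓ pairStab G a b, g ≠ 1 → g * t = t * g → ∀ β ∈ B, ∃ x ∈ K, g * x * g⁻¹ * x⁻¹ = β) :
    (∀ x ∈ K, x ∉ B → ∀ β ∈ B, (x * β * t * (x * β)⁻¹ * t = t * (x * β * t * (x * β)⁻¹) ↔
        x * t * x⁻¹ * t = t * (x * t * x⁻¹))) ∧
      ∀ β ∈ B, ∀ β' ∈ B, β ≠ 1 → β' ≠ 1 → (β * t * β⁻¹ * t = t * (β * t * β⁻¹) ↔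
        β' * t * β'⁻¹ * t = t * (β' * t * β'⁻¹)) := by
  classical
  letI : CommGroup ↥K := { (inferInstance : Group ↥K) with
    mul_comm := fun x y => Subtype.ext (hK.comm x x.2 y y.2) }
  letI : Fintype ↥K := Fintype.ofFinite _
  letI : Fintype (Additive ↥K) := Fintype.ofFinite _
  letI : Fintype ↥M₀ := Fintype.ofFinite _
  letI : Fintype {s : G // InvAt s a} := Fintype.ofFinite _
  letI : MulAction ↥M₀ {s : G // InvAt s a} :=
    { smul := fun g s => ⟨(g : G) * s * (g : G)⁻¹, s.2.conj' (hM.le g.2)⟩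
      one_smul := fun s => Subtype.ext (show (1 : G) * s * (1 : G)⁻¹ = s by group)
      mul_smul := fun g h s => Subtype.ext
        (show (g : G) * h * s * ((g : G) * h)⁻¹ = g * ((h : G) * s * (h : G)⁻¹) * (g : G)⁻¹ by group) }
  have hsmul : ∀ (g : ↥M₀) (s : {s : G // InvAt s a}), ((g • s : {s : G // InvAt s a}) : G) = g * s * (g : G)⁻¹ :=
    fun _ _ => rfl
  let Y : Subgroup ↥M₀ := (pairStab G a b ⊓ centralizer {t}).subgroupOf M₀
  letI : Fintype ↥Y := Fintype.ofFinite _
  let emb : Additive ↥K → ↥M₀ := fun x => ⟨(x.toMul : G), hKM x.toMul.2⟩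
  let σ : ↥M₀ → Additive ↥K → Additive ↥K := fun g x =>
    if h : (g : G) * (x.toMul : G) * (g : G)⁻¹ ∈ K then Additive.ofMul ⟨_, h⟩ else 0
  have hYd : ∀ y ∈ Y, (y : G) ∈ pairStab G a b ∧ (y : G) * t = t * y := fun y hy =>
    ⟨(Subgroup.mem_subgroupOf.1 hy).1, Subgroup.mem_centralizer_singleton_iff.1 (Subgroup.mem_subgroupOf.1 hy).2⟩
  have hσ : ∀ y ∈ Y, ∀ x, y * emb x * y⁻¹ = emb (σ y x) := fun y hy x => by
    have h : (y : G) * (x.toMul : G) * (y : G)⁻¹ ∈ K :=
      (Subgroup.mem_normalizer_iff.1 (hK.normal (hYd y hy).1) _).1 x.toMul.2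
    simp only [σ, dif_pos h]
    rfl
  let H : Fourier.Data ↥M₀ {s : G // InvAt s a} (Additive ↥K) :=
    { emb := emb
      emb_add := fun _ _ => rfl
      emb_inj := fun x y e => Additive.toMul.injective (Subtype.ext (congrArg (fun g : ↥M₀ => (g : G)) e))
      x0 := ⟨t, ht⟩
      bij := ⟨fun x y e => Additive.toMul.injective (Subtype.ext
          ((hK.regular t _ ht (ht.conj' (hK.le y.toMul.2).1)).unique ⟨x.toMul.2, congrArg Subtype.val e⟩
            ⟨y.toMul.2, rfl⟩)),
        fun s => let ⟨x, hx, _⟩ := hK.regular t s ht s.2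
          ⟨Additive.ofMul ⟨x, hx.1⟩, Subtype.ext hx.2⟩⟩
      Y := Y
      fix := fun y hy => Subtype.ext (by rw [hsmul]; exact mul_inv_eq_iff_eq_mul.2 (hYd y hy).2)
      σ := σ
      hσ := hσ
      fus := fun x x' h hx e => by
        have e' : (h : G) * (x.toMul : G) * (h : G)⁻¹ = (x'.toMul : G) := congrArg (fun g : ↥M₀ => (g : G)) e
        have hx1 : (x.toMul : G) ≠ 1 := fun h1 => hx (Additive.toMul.injective (Subtype.ext h1))
        have hha : (h : G) • a = a := hM.le h.2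
        have hx'1 : (x'.toMul : G) ≠ 1 := fun h1 => hx1 (by rw [h1, conj_eq_one_iff] at e'; exact e')
        have hfix : (x'.toMul : G) • ((h : G) • b) = (h : G) • b := by
          rw [← e', mul_smul, mul_smul, inv_smul_smul, (hK.le x.toMul.2).2]
        have hhb : (h : G) • b = b := by
          refine (fix_eq hS hC hab hK x'.toMul.2 hx'1 hfix).resolve_left fun h1 => ?_
          exact hab (smul_left_cancel (h : G) (hha.trans h1.symm))
        obtain ⟨c, hc, -⟩ := hK.regular t _ ht (ht.conj' (h.2 |> hM.le : (h : G) ∈ stabilizer G a))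
        refine ⟨⟨c⁻¹ * h, mul_mem (inv_mem (hKM hc.1)) h.2⟩,
          Subgroup.mem_subgroupOf.2 ⟨(pairStab G a b).mul_mem ((pairStab G a b).inv_mem (hK.le hc.1)) ⟨hha, hhb⟩,
            Subgroup.mem_centralizer_singleton_iff.2 ?_⟩, Additive.ofMul ⟨c, hc.1⟩, Subtype.ext ?_⟩
        · refine mul_inv_eq_iff_eq_mul.1 ?_
          rw [show c⁻¹ * (h : G) * t * (c⁻¹ * (h : G))⁻¹ = c⁻¹ * ((h : G) * t * (h : G)⁻¹) * c by group, ← hc.2]
          group
        · show (h : G) = c * (c⁻¹ * h)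
          group
      B := Subgroup.toAddSubgroup (B.subgroupOf K)
      free := fun ψ hψ y hy hinv => by
        obtain ⟨β, hβ', hne⟩ := hψ
        have hβ : (β.toMul : G) ∈ B := hβ'
        by_contra hy1
        obtain ⟨x, hx, e⟩ := hfree y ⟨y.2, (hYd y hy).1⟩ (fun h => hy1 (Subtype.ext h)) (hYd y hy).2 _ hβ
        refine hne ?_
        have hb : β = σ y (Additive.ofMul ⟨x, hx⟩) + -Additive.ofMul ⟨x, hx⟩ := by
          refine Additive.toMul.injective (Subtype.ext ?_)
          rw [toMul_add, toMul_neg, Subgroup.coe_mul, Subgroup.coe_inv, ← e]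
          exact congrArg (· * x⁻¹) (congrArg (fun g : ↥M₀ => (g : G)) (hσ y hy (Additive.ofMul ⟨x, hx⟩)))
        rw [hb, AddChar.map_add_eq_mul, hinv, ← AddChar.map_add_eq_mul, add_neg_cancel, AddChar.map_zero_eq_one] }
  have hodd : Odd (Fintype.card ↥H.Y) := by
    refine (hS.odd_pairStab hab).of_dvd_nat ?_
    rw [← Nat.card_eq_fintype_card, ← Subgroup.card_map_of_injective M₀.subtype_injective]
    exact Subgroup.card_dvd_of_le fun g ⟨y, hy, e⟩ => e ▸ (Subgroup.mem_subgroupOf.1 hy).1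
  have hpos : ∀ x, (H.pos x : G) = (x.toMul : G) * t * (x.toMul : G)⁻¹ := fun _ => rfl
  have key := H.coset_dichotomy hodd (fun x => (H.pos x : G) * t ≠ t * H.pos x)
    (fun h => h (by rw [hpos]; simp))
    (fun g x y hg e => by
      have hgt : (g : G) * t * (g : G)⁻¹ = t := congrArg Subtype.val hg
      have e' : (H.pos y : G) = g * H.pos x * (g : G)⁻¹ := by rw [← hsmul, e]
      show (_ ≠ _) ↔ (_ ≠ _)
      rw [e', not_iff_not]
      constructor <;> intro e2
      · calc (g : G) * H.pos x * (g : G)⁻¹ * t = g * H.pos x * (g : G)⁻¹ * (g * t * (g : G)⁻¹) := by rw [hgt]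
          _ = g * (H.pos x * t) * (g : G)⁻¹ := by group
          _ = (g * t * (g : G)⁻¹) * (g * H.pos x * (g : G)⁻¹) := by rw [e2]; group
          _ = _ := by rw [hgt]
      · calc (H.pos x : G) * t = (g : G)⁻¹ * ((g * H.pos x * (g : G)⁻¹) * (g * t * (g : G)⁻¹)) * g := by group
          _ = _ := by rw [hgt, e2]; conv_lhs => rw [← hgt]
                      group)
    (fun x hx => by
      rw [← Nat.not_odd_iff_even]
      intro hodd'
      set O := {y : Additive ↥K // ∃ g : ↥M₀, g • H.x0 = H.x0 ∧ g • H.pos x = H.pos y}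
      let t' : ↥M₀ := ⟨t, hM.two_mem t ht.2 ⟨1, by rw [pow_one, pow_two]; exact involution_sq ht.1⟩⟩
      have ht' : t' • H.x0 = H.x0 := Subtype.ext (show t * t * t⁻¹ = t by group)
      have ht2 : t' * t' = 1 := Subtype.ext (involution_sq ht.1)
      let τ : O → O := fun y => ⟨H.pos.symm (t' • H.pos y), by
        obtain ⟨g, hg, e⟩ := y.2
        exact ⟨t' * g, by rw [mul_smul, hg, ht'], by rw [mul_smul, e, Equiv.apply_symm_apply]⟩⟩
      have hτ : Function.Involutive τ := fun y => Subtype.ext (by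
        show H.pos.symm (t' • H.pos (H.pos.symm (t' • H.pos y))) = y
        rw [Equiv.apply_symm_apply, ← mul_smul, ht2, one_smul, Equiv.symm_apply_apply])
      haveI : Fact (Nat.Prime 2) := ⟨Nat.prime_two⟩
      letI : Fintype O := Fintype.ofFinite _
      obtain ⟨y, hy⟩ := Equiv.Perm.exists_fixed_point_of_prime (p := 2) (n := 1)
        (by rw [← Nat.card_eq_fintype_card]; exact hodd'.not_two_dvd_nat)
        (σ := hτ.toPerm τ) (Equiv.ext fun y => by simp [pow_two, hτ y])
      obtain ⟨g, hg, e⟩ := y.2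
      have hyy : t' • H.pos y.1 = H.pos y.1 := by
        conv_rhs => rw [← congrArg (fun z : O => H.pos z.1) hy]
        show _ = H.pos (H.pos.symm (t' • H.pos y.1))
        rw [Equiv.apply_symm_apply]
      have h1 : t * (g * H.pos x * (g : G)⁻¹) * t⁻¹ = g * H.pos x * (g : G)⁻¹ := by
        rw [← hsmul, e]; exact congrArg Subtype.val hyy
      have hgt : (g : G) * t * (g : G)⁻¹ = t := congrArg Subtype.val hg
      refine hx (Eq.symm (mul_left_cancel (a := (g : G)) (mul_right_cancel (b := (g : G)⁻¹) ?_)))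
      calc (g : G) * (t * H.pos x) * (g : G)⁻¹
          = (g * t * (g : G)⁻¹) * (g * H.pos x * (g : G)⁻¹) := by group
        _ = t * (g * H.pos x * (g : G)⁻¹) := by rw [hgt]
        _ = (g * H.pos x * (g : G)⁻¹) * t := mul_inv_eq_iff_eq_mul.1 h1
        _ = (g * H.pos x * (g : G)⁻¹) * (g * t * (g : G)⁻¹) := by rw [hgt]
        _ = _ := by group)
  refine ⟨fun x hx hxB β hβ => ?_, fun β hβ β' hβ' h1 h1' => ?_⟩
  · exact not_iff_not.1 (key.1 (Additive.ofMul ⟨x, hx⟩) hxB (Additive.ofMul ⟨β, hBK hβ⟩) hβ)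
  · exact not_iff_not.1 (key.2 (Additive.ofMul ⟨β, hBK hβ⟩) hβ (Additive.ofMul ⟨β', hBK hβ'⟩) hβ'
      (fun e => h1 (congrArg (fun z : Additive ↥K => (z.toMul : G)) e))
      (fun e => h1' (congrArg (fun z : Additive ↥K => (z.toMul : G)) e)))

end CfsgLib.Bender.NFour

namespace CfsgLib.Bender

open Subgroup MulAction
open CfsgLib.Signalizer (involution_sq involution_inv involution_ne_one orderOf_eq_two_of orderOf_conj)

universe u

/-- **Sub-slice G5.** -/
theorem fourierStep : FourierStep.{u} := by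
  intro G Ω _ _ _ _ h a b hab M₀ K B hM hK hKM t ht hBK hB hfree
  classical
  have hS := h.setting
  obtain ⟨hout, hall⟩ := NFour.twins hS h.cons hab hK hM hKM ht hBK hfree
  obtain ⟨β₀, hβ₀, hβ₀1⟩ := (Subgroup.bot_or_exists_ne_one B).resolve_left hB
  set Co : G → Prop := fun x => x * t * x⁻¹ * t = t * (x * t * x⁻¹) with hCo
  have hco1 : Co 1 := by simp [hCo]
  have hinv : ∀ x : G, ∀ s : G, InvAt s a → x ∈ K → InvAt (x * s * x⁻¹) a := fun x s hs hx =>
    hs.conj' (hK.le hx).1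
  have hcoord : ∀ s : G, InvAt s a → ∃ x ∈ K, x * t * x⁻¹ = s := fun s hs =>
    let ⟨x, hx, _⟩ := hK.regular t s ht hs
    ⟨x, hx.1, hx.2⟩
  have hrel : ∀ x y : G, (x * t * x⁻¹ * (y * t * y⁻¹) = y * t * y⁻¹ * (x * t * x⁻¹)) ↔ Co (y⁻¹ * x) := by
    intro x y
    simp only [hCo]
    constructor <;> intro e
    · calc y⁻¹ * x * t * (y⁻¹ * x)⁻¹ * t = y⁻¹ * (x * t * x⁻¹ * (y * t * y⁻¹)) * y := by group
        _ = _ := by rw [e]; group
    · calc x * t * x⁻¹ * (y * t * y⁻¹) = y * (y⁻¹ * x * t * (y⁻¹ * x)⁻¹ * t) * y⁻¹ := by group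
        _ = _ := by rw [e]; group
  by_cases hclosed : Co β₀
  · -- closed twins: one involution fixing every class forces the commuting case
    have hper : ∀ x ∈ K, ∀ β ∈ B, (Co (x * β) ↔ Co x) := by
      intro x hx β hβ
      have hBco : ∀ β ∈ B, Co β := fun β hβ => by
        by_cases h1 : β = 1
        · exact h1 ▸ hco1
        · exact (hall β hβ β₀ hβ₀ h1 hβ₀1).2 hclosed
      by_cases hxB : x ∈ B
      · exact iff_of_true (hBco _ (mul_mem hxB hβ)) (hBco _ hxB)
      · exact hout x hx hxB β hβ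
    set Tw : G → G → Prop := fun s r => ∀ w : G, InvAt w a → (s * w = w * s ↔ r * w = w * r) with hTw
    have hTwB : ∀ β ∈ B, ∀ s : G, InvAt s a → Tw (β * s * β⁻¹) s := by
      intro β hβ s hs w hw
      obtain ⟨x, hx, rfl⟩ := hcoord s hs
      obtain ⟨y, hy, rfl⟩ := hcoord w hw
      rw [show β * (x * t * x⁻¹) * β⁻¹ = β * x * t * (β * x)⁻¹ by group, hrel, hrel, hK.comm β (hBK hβ) x hx,
        ← mul_assoc]
      exact hper _ (mul_mem (inv_mem hy) hx) β hβ
    have hTwconj : ∀ g : G, g • a = a → ∀ s r, Tw s r → Tw (g * s * g⁻¹) (g * r * g⁻¹) := by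
      intro g hg s r e w hw
      have hw' : InvAt (g⁻¹ * w * g) a := by
        have := hw.conj' (inv_mem (show g ∈ stabilizer G a from hg))
        rwa [inv_inv] at this
      have e2 : ∀ s : G, g * s * g⁻¹ * w = w * (g * s * g⁻¹) ↔ s * (g⁻¹ * w * g) = g⁻¹ * w * g * s := fun s => by
        constructor <;> intro e
        · calc s * (g⁻¹ * w * g) = g⁻¹ * (g * s * g⁻¹ * w) * g := by group
            _ = _ := by rw [e]; group
        · calc g * s * g⁻¹ * w = g * (s * (g⁻¹ * w * g)) * g⁻¹ := by group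
            _ = _ := by rw [e]; group
      rw [e2, e2]
      exact e _ hw'
    have htrans : ∀ {s r q : G}, Tw s r → Tw r q → Tw s q := fun e e' w hw => (e w hw).trans (e' w hw)
    set Nk : Subgroup G :=
      { carrier := {g | g • a = a ∧ ∀ s : G, InvAt s a → Tw (g * s * g⁻¹) s}
        one_mem' := ⟨one_smul _ _, fun s hs w hw => by simp⟩
        mul_mem' := fun {g g'} hg hg' => ⟨by rw [mul_smul, hg'.1, hg.1], fun s hs => by
          rw [show g * g' * s * (g * g')⁻¹ = g * (g' * s * g'⁻¹) * g⁻¹ by group]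
          exact htrans (hTwconj g hg.1 _ _ (hg'.2 s hs)) (hg.2 s hs)⟩
        inv_mem' := fun {g} hg => ⟨inv_smul_eq_iff.2 hg.1.symm, fun s hs => by
          have h1 := hTwconj g⁻¹ (inv_smul_eq_iff.2 hg.1.symm) _ _ (hg.2 s hs)
          rw [show g⁻¹ * (g * s * g⁻¹) * g⁻¹⁻¹ = s by group] at h1
          exact fun w hw => (h1 w hw).symm⟩ } with hNk
    have hNkn : ∀ g : G, g • a = a → ∀ x ∈ Nk, g * x * g⁻¹ ∈ Nk := by
      rintro g hg x ⟨hxa, hx⟩
      refine ⟨by rw [mul_smul, mul_smul, inv_smul_eq_iff.2 hg.symm, hxa, hg], fun s hs => ?_⟩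
      have hs' : InvAt (g⁻¹ * s * g) a := by
        have := hs.conj' (inv_mem (show g ∈ stabilizer G a from hg))
        rwa [inv_inv] at this
      have h1 := hTwconj g hg _ _ (hx _ hs')
      rwa [show g * (x * (g⁻¹ * s * g) * x⁻¹) * g⁻¹ = g * x * g⁻¹ * s * (g * x * g⁻¹)⁻¹ by group,
        show g * (g⁻¹ * s * g) * g⁻¹ = s by group] at h1
    have hNkle : Nk ≤ stabilizer G a := fun x hx => hx.1
    have hinvol : ∀ s : G, InvAt s a → s ∈ Nk := by
      have heven : Even (Nat.card ↥Nk) := by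
        rw [← Nat.not_odd_iff_even]
        intro hodd
        haveI : (Nk.subgroupOf (stabilizer G a)).Normal :=
          ⟨fun x hx g => Subgroup.mem_subgroupOf.2 (hNkn g g.2 x (Subgroup.mem_subgroupOf.1 hx))⟩
        have hβN : β₀ ∈ Nk := ⟨(hK.le (hBK hβ₀)).1, fun s hs => hTwB β₀ hβ₀ s hs⟩
        have hle : Nk.subgroupOf (stabilizer G a) ≤ Cfsg.oddCore ↥(stabilizer G a) :=
          CfsgLib.ZStar.le_oddCore inferInstance (by rwa [Nat.card_congr (Subgroup.subgroupOfEquivOfLe hNkle).toEquiv])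
        have hcore : β₀ ∈ core G a :=
          Subgroup.mem_map.2 ⟨⟨β₀, hNkle hβN⟩, hle (Subgroup.mem_subgroupOf.2 hβN), rfl⟩
        exact hβ₀1 (NFour.eq_one_of_centralizes hK (hBK hβ₀) ht (h.cons.core_commute a t β₀ ht hcore))
      obtain ⟨⟨i, hi⟩, hio⟩ := exists_prime_orderOf_dvd_card' 2 (hp := ⟨Nat.prime_two⟩) heven.two_dvd
      rw [Subgroup.orderOf_mk] at hio
      intro s hs
      obtain ⟨d, hd, rfl⟩ := hS.conj_fixing hab ⟨hio, hi.1⟩ hs
      exact hNkn d hd.1 i hi
    -- every class is odd and fixed by every involution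
    set B' : Subgroup G :=
      { carrier := {x | x ∈ K ∧ ∀ y ∈ K, (Co (y * x) ↔ Co y)}
        one_mem' := ⟨one_mem _, fun y _ => by rw [mul_one]⟩
        mul_mem' := fun {x x'} hx hx' => ⟨mul_mem hx.1 hx'.1, fun y hy => by
          rw [← mul_assoc, hx'.2 _ (mul_mem hy hx.1), hx.2 y hy]⟩
        inv_mem' := fun {x} hx => ⟨inv_mem hx.1, fun y hy => by
          rw [← hx.2 _ (mul_mem hy (inv_mem hx.1)), inv_mul_cancel_right]⟩ }
    have hB'odd : Odd (Nat.card ↥B') :=
      (hS.odd_pairStab hab).of_dvd_nat (Subgroup.card_dvd_of_le fun x hx => hK.le hx.1)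
    refine h.not_comm ?_
    have hcommute : ∀ u v : G, InvAt u a → InvAt v a → u * v = v * u := by
      intro u v hu hv
      obtain ⟨x, hx, rfl⟩ := hcoord u hu
      let C := {r : G // InvAt r a ∧ Tw r (x * t * x⁻¹)}
      let e : ↥B' → C := fun d => ⟨(x * d) * t * (x * d)⁻¹, ht.conj' (hK.le (mul_mem hx d.2.1)).1, fun w hw => by
        obtain ⟨y, hy, rfl⟩ := hcoord w hw
        rw [hrel, hrel, ← mul_assoc]
        exact d.2.2 _ (mul_mem (inv_mem hy) hx)⟩
      have he : Function.Bijective e := by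
        refine ⟨fun d d' he => Subtype.ext (mul_left_cancel (a := x) ?_), fun ⟨r, hr, hrt⟩ => ?_⟩
        · exact (hK.regular t _ ht (ht.conj' (hK.le (mul_mem hx d'.2.1)).1)).unique
            ⟨mul_mem hx d.2.1, congrArg Subtype.val he⟩ ⟨mul_mem hx d'.2.1, rfl⟩
        · obtain ⟨z, hz, rfl⟩ := hcoord r hr
          refine ⟨⟨x⁻¹ * z, mul_mem (inv_mem hx) hz, fun y hy => ?_⟩, Subtype.ext ?_⟩
          · have h1 := hrt (x * y⁻¹ * t * (x * y⁻¹)⁻¹) (ht.conj' (hK.le (mul_mem hx (inv_mem hy))).1)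
            rw [hrel, hrel, show (x * y⁻¹)⁻¹ * x = y by group,
              show (x * y⁻¹)⁻¹ * z = y * (x⁻¹ * z) by group] at h1
            exact h1
          · show x * (x⁻¹ * z) * t * (x * (x⁻¹ * z))⁻¹ = z * t * z⁻¹
            rw [mul_inv_cancel_left]
      obtain ⟨-, hvN⟩ := hinvol v hv
      let τ : C → C := fun r => ⟨v * r.1 * v⁻¹, r.2.1.conj' (show v ∈ stabilizer G a from hv.2),
        htrans (hvN r.1 r.2.1) r.2.2⟩
      have hτ : Function.Involutive τ := fun r => Subtype.ext (by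
        show v * (v * r.1 * v⁻¹) * v⁻¹ = r.1
        rw [involution_inv hv.1, show v * (v * r.1 * v) * v = (v * v) * r.1 * (v * v) by group, involution_sq hv.1]
        group)
      haveI : Fact (Nat.Prime 2) := ⟨Nat.prime_two⟩
      letI : Fintype C := Fintype.ofFinite _
      obtain ⟨⟨r, hr, hrt⟩, hfix⟩ := Equiv.Perm.exists_fixed_point_of_prime (p := 2) (n := 1)
        (by rw [← Nat.card_eq_fintype_card, ← Nat.card_eq_of_bijective e he]; exact hB'odd.not_two_dvd_nat)
        (σ := hτ.toPerm τ) (Equiv.ext fun r => by simp [pow_two, hτ r])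
      have hvr : v * r * v⁻¹ = r := congrArg Subtype.val hfix
      exact (hrt v hv).1 (mul_inv_eq_iff_eq_mul.1 hvr).symm
    intro x s s' hs hs'
    obtain ⟨g, rfl⟩ := hS.trans a x
    have key : ∀ {r : G}, InvAt r (g • a) → InvAt (g⁻¹ * r * g) a := fun {r} hr => by
      have := hr.conj g⁻¹
      rwa [inv_inv, inv_smul_smul] at this
    have e := hcommute _ _ (key hs) (key hs')
    have e' : s * s' = s' * s := by
      calc s * s' = g * ((g⁻¹ * s * g) * (g⁻¹ * s' * g)) * g⁻¹ := by group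
        _ = _ := by rw [e]; group
    rw [e', mul_assoc (s' * s) s s'] at *
    convert one_mem (core G (g • a))
    rw [mul_assoc, ← mul_assoc s s, involution_sq hs.1, one_mul, involution_sq hs'.1]
  · -- open twins: a neighbour `w` of `t` gives `t w` as a second one
    have hper : ∀ x ∈ K, x ∉ B → (Co (x * β₀) ↔ Co x) := fun x hx hxB => hout x hx hxB β₀ hβ₀
    have hnone : ∀ β ∈ B, Co β → β = 1 := fun β hβ hc =>
      by_contra fun h1 => hclosed ((hall β hβ β₀ hβ₀ h1 hβ₀1).1 hc)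
    obtain ⟨e, f, he, hf, hne, hef⟩ := hS.four a
    obtain ⟨d, hd, hde⟩ := hS.conj_fixing hab he ht
    set w := d * f * d⁻¹ with hw
    have hwa : InvAt w a := hf.conj' hd.1
    have hwt : t * w = w * t := by rw [← hde, hw, conj_mul, conj_mul, hef]
    have hwne : t ≠ w := fun e' => hne (mul_left_cancel (mul_right_cancel (hde.trans (e'.trans hw))))
    set u := β₀ * t * β₀⁻¹ with hu
    have hnb : ∀ r : G, InvAt r a → r ≠ t → r * t = t * r → u * r = r * u := by
      intro r hr hrt hc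
      obtain ⟨y, hy, rfl⟩ := hcoord r hr
      have hy1 : Co y := hc
      have hyi : Co (y⁻¹ * 1) := (hrel 1 y).1 (by simpa using hc.symm)
      rw [mul_one] at hyi
      have hyB : y⁻¹ ∉ B := fun hB' => by
        rw [inv_eq_one.1 (hnone _ hB' hyi)] at hrt
        simp at hrt
      exact (hrel β₀ y).2 ((hper _ (inv_mem hy) hyB).2 hyi)
    have h1 := hnb w hwa hwne.symm hwt.symm
    have h2 := hnb (t * w) (hS.invAt_mul ht hwa hwne hwt)
      (fun e' => involution_ne_one hwa.1 (mul_left_cancel (e'.trans (mul_one t).symm)))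
      (by rw [mul_assoc, ← hwt])
    refine hclosed ?_
    show u * t = t * u
    calc u * t = u * t * (w * w) := by rw [involution_sq hwa.1, mul_one]
      _ = u * (t * w) * w := by group
      _ = t * w * u * w := by rw [h2]
      _ = t * (w * u) * w := by group
      _ = t * u := by rw [← h1, mul_assoc, mul_assoc, involution_sq hwa.1, mul_one]

end CfsgLib.Bender
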