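import Cfsg.Agent.Lib.Bender.Gen.NRegKFinal

/-!
Owner: helper29. General Bender theorem, slice G3: `RegKStep` from `PermCharStep` and `TorusStep`.
-/

set_option autoImplicit false

namespace CfsgLib.Bender

universe u

/-- The regular abelian normal subgroup of a two-point stabiliser exists. -/
theorem regKStep (hP : PermCharStep.{u}) (hT : TorusStep.{u}) : RegKStep.{u} := by
  rintro G Ω _ _ _ _ h a b hab ⟨y, hy⟩
  obtain ⟨v, hc⟩ := NRegK.exists_ctx hP hT h hab hy
  obtain ⟨J, hJ⟩ := hc.exists_top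
  by_cases hall : ∀ x, NRegK.Inv a b v x → x ∈ J
  · exact ⟨J, hc.regK_of_all hJ hall⟩
  · push Not at hall
    obtain ⟨N, r, hN⟩ := hc.exists_chief hJ hall
    exact (hc.no_chief hJ hN).elim

end CfsgLib.Bender
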