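import Cfsg.Agent.Lib.Bender.Gen.NDescentFix
import Mathlib.GroupTheory.Transfer
import Mathlib.GroupTheory.FiniteAbelian.Basic

/-!
Owner: helper24. Slice G0: `EvilStep` and `DescentStep`.
-/

set_option autoImplicit false
set_option linter.style.haveILetI false
set_option linter.unusedSectionVars false

namespace CfsgLib.Bender.NDescent

open Subgroup MulAction
open CfsgLib.Signalizer (involution_sq involution_inv orderOf_eq_two_of involution_ne_one)

universe u

/-- A nontrivial finite solvable group maps onto a group of prime order. -/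
theorem exists_hom_zmod (H : Type u) [Group H] [Finite H] [Nontrivial H] [Group.IsSolvable H] :
    ∃ (q : ℕ) (ξ : H →* Multiplicative (ZMod q)), q.Prime ∧ ξ ≠ 1 := by
  classical
  haveI : Nontrivial (Abelianization H) :=
    QuotientGroup.nontrivial_iff.2 (Group.IsSolvable.commutator_lt_top_of_nontrivial H).ne
  haveI : Finite (Abelianization H) := inferInstanceAs (Finite (H ⧸ commutator H))
  obtain ⟨ι, hι, n, hn, ⟨e⟩⟩ := CommGroup.equiv_prod_multiplicative_zmod_of_finite (Abelianization H)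
  haveI := hι
  obtain ⟨i⟩ : Nonempty ι := by
    by_contra hemp
    rw [not_nonempty_iff] at hemp
    exact not_subsingleton (Abelianization H) e.toEquiv.subsingleton
  have hp : (n i).minFac.Prime := Nat.minFac_prime (hn i).ne'
  haveI := Fact.mk hp
  let c : Multiplicative (ZMod (n i)) →* Multiplicative (ZMod (n i).minFac) :=
    AddMonoidHom.toMultiplicative (ZMod.castHom (n i).minFac_dvd (ZMod (n i).minFac)).toAddMonoidHom
  refine ⟨(n i).minFac, (c.comp ((Pi.evalMonoidHom (fun j => Multiplicative (ZMod (n j))) i).comp e.toMonoidHom)).comp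
    Abelianization.of, hp, fun h => ?_⟩
  obtain ⟨x, hx⟩ := QuotientGroup.mk_surjective (e.symm (Pi.mulSingle i (Multiplicative.ofAdd (1 : ZMod (n i)))))
  have h1 := DFunLike.congr_fun h x
  simp only [MonoidHom.comp_apply, MonoidHom.one_apply, MulEquiv.coe_toMonoidHom, Pi.evalMonoidHom_apply] at h1
  rw [show Abelianization.of x = _ from hx, MulEquiv.apply_symm_apply, Pi.mulSingle_eq_same] at h1
  have h2 : ZMod.castHom (n i).minFac_dvd (ZMod (n i).minFac) (1 : ZMod (n i)) = 0 := congrArg Multiplicative.toAdd h1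
  rw [map_one] at h2
  exact one_ne_zero h2

/-- A homomorphism into a group of order `q` killing the `q`-elements is trivial. -/
theorem hom_eq_one_of_kills {H : Type*} [Group H] [Finite H] {q : ℕ} (hq : q.Prime) (ξ : H →* Multiplicative (ZMod q))
    (hk : ∀ y : H, (∃ k : ℕ, y ^ q ^ k = 1) → ξ y = 1) : ξ = 1 := by
  ext x
  have hn : orderOf x ≠ 0 := (orderOf_pos x).ne'
  obtain ⟨k, o, ho, hxo⟩ := Nat.exists_eq_pow_mul_and_not_dvd hn q hq.ne_one
  have h1 : ξ x ^ o = 1 := by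
    rw [← map_pow]
    exact hk _ ⟨k, by rw [← pow_mul, mul_comm, ← hxo, pow_orderOf_eq_one]⟩
  haveI : NeZero q := ⟨hq.ne_zero⟩
  have h2 : orderOf (ξ x) ∣ q := by
    have := orderOf_dvd_natCard (ξ x)
    rwa [Nat.card_eq_fintype_card, Fintype.card_multiplicative, ZMod.card] at this
  exact orderOf_eq_one_iff.1 (Nat.eq_one_of_dvd_coprimes ((hq.coprime_iff_not_dvd).2 ho) h2
    (orderOf_dvd_of_pow_eq_one h1))

variable {G Ω : Type u} [Group G] [Finite G] [MulAction G Ω] [Finite Ω]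

/-- A subgroup of the stabiliser containing its 2-elements and transitive on the other points. -/
structure Covers (a b : Ω) (M' : Subgroup G) : Prop where
  le : M' ≤ stabilizer G a
  two_mem : ∀ g : G, g • a = a → (∃ k : ℕ, g ^ 2 ^ k = 1) → g ∈ M'
  sup : ∀ g : G, g • a = a → ∃ h ∈ M', ∃ d ∈ pairStab G a b, g = h * d

theorem covers_stabilizer (a b : Ω) : Covers a b (stabilizer G a) :=
  ⟨le_rfl, fun _ hg _ => hg, fun g hg => ⟨g, hg, 1, one_mem _, (mul_one g).symm⟩⟩

/-- Evil elements stay evil under conjugation fixing the centre. -/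
theorem evil_conj {a b : Ω} {g w : G} (hga : g • a = a) (hw : Evil a b w) (hmem : g * w * g⁻¹ ∈ pairStab G a b) :
    Evil a b (g * w * g⁻¹) := by
  obtain ⟨hp, -, t, ⟨ht, htc⟩, huniq⟩ := hw
  refine ⟨by rw [CfsgLib.Signalizer.orderOf_conj]; exact hp, hmem, g * t * g⁻¹, ⟨ht.conj' hga, ?_⟩, fun s hs => ?_⟩
  · simp only [conj_mul, htc]
  · have h1 := huniq (g⁻¹ * s * g) ⟨by
      have := hs.1.conj' (show g⁻¹ • a = a from inv_smul_eq_iff.2 hga.symm)
      rwa [inv_inv] at this, by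
      calc w * (g⁻¹ * s * g) = g⁻¹ * (g * w * g⁻¹ * s) * g := by group
        _ = g⁻¹ * (s * (g * w * g⁻¹)) * g := by rw [hs.2]
        _ = g⁻¹ * s * g * w := by group⟩
    rw [← h1]
    group

/-- The transfer of a character of the two-point stabiliser. -/
noncomputable def V {a b : Ω} (M' : Subgroup G) {q : ℕ}
    (ξ : ↥(M' ⊓ pairStab G a b) →* Multiplicative (ZMod q)) : M' →* Multiplicative (ZMod q) :=
  MonoidHom.transfer (H := (pairStab G a b).subgroupOf M')
    (ξ.comp (((M'.subtype.comp ((pairStab G a b).subgroupOf M').subtype)).codRestrict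
      (M' ⊓ pairStab G a b) fun x => ⟨(x : M').2, x.2⟩))

/-- If the transfer kills the two-point stabiliser, elements without evil powers are killed. -/
theorem kills_of_transfer (h : NC G Ω) {a b : Ω} (hab : a ≠ b) {M' : Subgroup G} (hC : Covers a b M') {q : ℕ}
    (hq : q.Prime) (ξ : ↥(M' ⊓ pairStab G a b) →* Multiplicative (ZMod q))
    (hV : ∀ x : M', (x : G) ∈ pairStab G a b → V M' ξ x = 1) :
    ∀ y : ↥(M' ⊓ pairStab G a b), (∃ k : ℕ, y ^ q ^ k = 1) → (∀ z ∈ zpowers (y : G), ¬ Evil a b z) → ξ y = 1 := by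
  classical
  haveI := Fact.mk hq
  haveI : Fact (Nat.Prime 2) := ⟨Nat.prime_two⟩
  intro y
  induction hn : orderOf y using Nat.strong_induction_on generalizing y with
  | _ n ih =>
  intro hyq hnev
  by_cases hy1 : (y : G) = 1
  · rw [show y = 1 from Subtype.ext hy1, map_one]
  obtain ⟨k, hk⟩ := hyq
  have hkG : (y : G) ^ q ^ k = 1 := by rw [← Subgroup.coe_pow, hk, Subgroup.coe_one]
  have hqodd : Odd q := by
    rcases hq.eq_two_or_odd' with rfl | hodd
    · exfalso
      refine hy1 (orderOf_eq_one_iff.1 (Nat.eq_one_of_dvd_coprimes (Nat.Coprime.pow_left k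
        (Nat.coprime_two_left.2 (h.setting.odd_pairStab hab))) (orderOf_dvd_of_pow_eq_one hkG)
        (orderOf_dvd_natCard _ (Subgroup.mem_inf.1 y.2).2)))
    · exact hodd
  obtain ⟨P, hP, hPp, hPfix⟩ := fix_control h hab (Subgroup.mem_inf.1 y.2).2 ⟨k, hkG⟩ hy1 hnev
  set X := (pairStab G a b).subgroupOf M' with hX
  set ym : M' := ⟨y, (Subgroup.mem_inf.1 y.2).1⟩ with hym
  have hPM : P ≤ M' := fun g hg => by
    obtain ⟨j, hj⟩ := hPp ⟨g, hg⟩
    exact hC.two_mem g (hP hg).1 ⟨j, by simpa [Subtype.ext_iff] using hj⟩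
  haveI : Fintype (M' ⧸ X) := Fintype.ofFinite _
  haveI : Fintype (Quotient (orbitRel (zpowers ym) (M' ⧸ X))) := Fintype.ofFinite _
  have hcoset : ∀ g g' : M', (g : M' ⧸ X) = g' ↔ (g : G) • b = (g' : G) • b := by
    intro g g'
    rw [QuotientGroup.eq, hX, mem_subgroupOf, Subgroup.coe_mul, Subgroup.coe_inv]
    constructor
    · intro hh
      have h2 : ((g : G)⁻¹ * g') • b = b := hh.2
      rw [mul_smul, inv_smul_eq_iff] at h2
      exact h2.symm
    · intro hh
      refine ⟨?_, ?_⟩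
      · show ((g : G)⁻¹ * g') • a = a
        rw [mul_smul, show (g' : G) • a = a from hC.le g'.2, inv_smul_eq_iff, show (g : G) • a = a from hC.le g.2]
      · show ((g : G)⁻¹ * g') • b = b
        rw [mul_smul, ← hh, inv_smul_smul]
  have hfixed : ∀ g : M', ym • (g : M' ⧸ X) = (g : M' ⧸ X) ↔ (y : G) • (g : G) • b = (g : G) • b := by
    intro g
    rw [MulAction.Quotient.smul_coe, smul_eq_mul, hcoset, Subgroup.coe_mul, mul_smul]
  -- the terms
  have hVy := hV ym (Subgroup.mem_inf.1 y.2).2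
  rw [V, MonoidHom.transfer_eq_prod_quotient_orbitRel_zpowers_quot] at hVy
  rw [Finset.prod_congr rfl (g := fun o : Quotient (orbitRel (zpowers ym) (M' ⧸ X)) =>
    if ym • o.out = o.out then ξ y else 1) ?_] at hVy
  swap
  · intro o _
    set m := Function.minimalPeriod (ym • ·) o.out with hm
    have hmem := QuotientGroup.out_conj_pow_minimalPeriod_mem X ym o.out
    set g₀ : M' := o.out.out with hg₀
    by_cases hfx : ym • o.out = o.out
    · rw [if_pos hfx]
      have hm1 : m = 1 := Function.minimalPeriod_eq_one_iff_isFixedPt.2 hfx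
      have hb' : (y : G) • (g₀ : G) • b = (g₀ : G) • b := by
        refine (hfixed g₀).1 ?_
        rw [hg₀, QuotientGroup.out_eq']
        exact hfx
      have hca : (g₀ : G) • b ≠ a := fun e => hab.symm (smul_left_cancel (g₀ : G) (e.trans (hC.le g₀.2).symm))
      obtain ⟨g, ⟨hgP, hgb⟩, -⟩ := hPfix _ hca hb'
      -- replace the representative by a commuting one
      have hcomm : g * (y : G) = (y : G) * g := mem_centralizer_singleton_iff.1 (hP hgP).2
      have hd : g⁻¹ * (g₀ : G) ∈ M' ⊓ pairStab G a b := by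
        refine Subgroup.mem_inf.2 ⟨mul_mem (inv_mem (hPM hgP)) g₀.2, Subgroup.mem_inf.2 ⟨?_, ?_⟩⟩
        · show (g⁻¹ * (g₀ : G)) • a = a
          rw [mul_smul, show (g₀ : G) • a = a from hC.le g₀.2, inv_smul_eq_iff, show g • a = a from (hP hgP).1]
        · show (g⁻¹ * (g₀ : G)) • b = b
          rw [mul_smul, ← hgb, inv_smul_smul]
      set d : ↥(M' ⊓ pairStab G a b) := ⟨_, hd⟩
      rw [MonoidHom.comp_apply]
      refine Eq.trans (congrArg ξ (show _ = d⁻¹ * y * d from Subtype.ext ?_)) ?_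
      · show ((g₀⁻¹ * ym ^ m * g₀ : M') : G) = (g⁻¹ * (g₀ : G))⁻¹ * (y : G) * (g⁻¹ * (g₀ : G))
        rw [hm1, pow_one, Subgroup.coe_mul, Subgroup.coe_mul, Subgroup.coe_inv, mul_inv_rev, inv_inv, mul_assoc (g₀ : G)⁻¹ g,
          hcomm]
        show (g₀ : G)⁻¹ * (y : G) * (g₀ : G) = _
        group
      · rw [map_mul, map_mul, map_inv, mul_comm _ (ξ y), mul_assoc, inv_mul_cancel, mul_one]
    · rw [if_neg hfx, MonoidHom.comp_apply]
      have hymq : ym ^ q ^ k = 1 := Subtype.ext (by rw [Subgroup.coe_pow]; exact hkG)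
      have hper : Function.IsPeriodicPt (ym • ·) (orderOf ym) o.out := by
        show (ym • ·)^[orderOf ym] o.out = o.out
        rw [smul_iterate, pow_orderOf_eq_one]
        exact one_smul _ _
      have hmo : m ∣ orderOf ym := hper.minimalPeriod_dvd
      obtain ⟨i, -, hi⟩ := (Nat.dvd_prime_pow hq).1 (hmo.trans (orderOf_dvd_of_pow_eq_one hymq))
      have hi0 : i ≠ 0 := fun h0 => hfx (Function.minimalPeriod_eq_one_iff_isFixedPt.1 (by rw [← hm, hi, h0, pow_zero]))
      generalize hw : (⟨_, hmem⟩ : X) = w at *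
      have hwG : ((w : M') : G) = (g₀ : G)⁻¹ * (y : G) ^ m * (g₀ : G) := by
        rw [← hw]; simp only [Subgroup.coe_mul, Subgroup.coe_inv, Subgroup.coe_pow]; rfl
      set w' : ↥(M' ⊓ pairStab G a b) := ⟨((w : M') : G), (w : M').2, w.2⟩
      have how : orderOf w' = orderOf y / m := by
        rw [← Subgroup.orderOf_coe]
        show orderOf ((w : M') : G) = _
        rw [hwG, show (g₀ : G)⁻¹ * (y : G) ^ m * g₀ = (g₀ : G)⁻¹ * (y : G) ^ m * (g₀ : G)⁻¹⁻¹ by rw [inv_inv],
          CfsgLib.Signalizer.orderOf_conj, ← Subgroup.orderOf_coe y]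
        refine orderOf_pow_of_dvd (by rw [hi]; exact pow_ne_zero _ hq.ne_zero) ?_
        rwa [show orderOf (y : G) = orderOf ym from Subgroup.orderOf_coe ym]
      have hlt : orderOf w' < n := by
        rw [how, hn]
        exact Nat.div_lt_self (hn ▸ orderOf_pos y) (by rw [hi]; exact Nat.one_lt_pow hi0 hq.one_lt)
      refine ih _ hlt w' rfl ⟨k, ?_⟩ ?_
      · refine Subtype.ext ?_
        show ((w : M') : G) ^ q ^ k = 1
        rw [hwG, show (g₀ : G)⁻¹ * (y : G) ^ m * g₀ = (g₀ : G)⁻¹ * (y : G) ^ m * (g₀ : G)⁻¹⁻¹ by rw [inv_inv],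
          conj_pow, ← pow_mul, mul_comm, pow_mul, hkG, one_pow, mul_one, mul_inv_cancel]
      · intro z hz hev
        obtain ⟨j, rfl⟩ := mem_zpowers_iff.1 hz
        have e : (g₀ : G) * (((w : M') : G) ^ j) * (g₀ : G)⁻¹ = ((y : G) ^ m) ^ j := by
          rw [hwG, show (g₀ : G)⁻¹ * (y : G) ^ m * g₀ = (g₀ : G)⁻¹ * (y : G) ^ m * (g₀ : G)⁻¹⁻¹ by rw [inv_inv],
            conj_zpow]
          group
        have hmemz : (g₀ : G) * (((w : M') : G) ^ j) * (g₀ : G)⁻¹ ∈ zpowers (y : G) := by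
          rw [e]; exact zpow_mem (pow_mem (mem_zpowers _) _) _
        exact hnev _ hmemz (evil_conj (hC.le g₀.2) hev (zpowers_le.2 (Subgroup.mem_inf.1 y.2).2 hmemz))
  rw [Finset.prod_ite, Finset.prod_const, Finset.prod_const_one, mul_one] at hVy
  -- the number of fixed orbits is the order of `P`
  have hcount : (Finset.univ.filter fun o : Quotient (orbitRel (zpowers ym) (M' ⧸ X)) => ym • o.out = o.out).card
      = Nat.card P := by
    rw [← Fintype.card_subtype, ← Nat.card_eq_fintype_card]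
    have hfix : ∀ g : P, ym • ((⟨g, hPM g.2⟩ : M') : M' ⧸ X) = ((⟨g, hPM g.2⟩ : M') : M' ⧸ X) := fun g => by
      rw [hfixed]
      show (y : G) • (g : G) • b = (g : G) • b
      rw [← mul_smul, ← mem_centralizer_singleton_iff.1 (hP g.2).2, mul_smul,
        show (y : G) • b = b from (Subgroup.mem_inf.1 y.2).2.2]
    have hout : ∀ x : M' ⧸ X, ym • x = x → (Quotient.mk (orbitRel (zpowers ym) (M' ⧸ X)) x).out = x := by
      intro x hx
      obtain ⟨⟨z, hz⟩, he⟩ := Quotient.mk_out (s := orbitRel (zpowers ym) (M' ⧸ X)) x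
      rw [← he]
      exact mem_stabilizer_iff.1 (zpowers_le.2 (mem_stabilizer_iff.2 hx) hz)
    refine (Nat.card_eq_of_bijective (fun g : P => (⟨Quotient.mk _ ((⟨g, hPM g.2⟩ : M') : M' ⧸ X), by
      rw [hout _ (hfix g)]; exact hfix g⟩ : {o : Quotient (orbitRel (zpowers ym) (M' ⧸ X)) // ym • o.out = o.out}))
      ⟨fun g g' he => ?_, fun o => ?_⟩).symm
    · have h1 := congrArg (fun o : {o : Quotient (orbitRel (zpowers ym) (M' ⧸ X)) // ym • o.out = o.out} => o.1.out) he
      simp only [hout _ (hfix g), hout _ (hfix g')] at h1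
      have h2 := (hcoset _ _).1 h1
      have hga : (g : G) • b ≠ a := fun e => hab.symm (smul_left_cancel (g : G) (e.trans (show (g : G) • a = a from (hP g.2).1).symm))
      exact Subtype.ext ((hPfix _ hga ((hfixed _).1 (hfix g))).unique ⟨g.2, rfl⟩ ⟨g'.2, h2.symm⟩)
    · obtain ⟨g₀, hg₀⟩ := QuotientGroup.mk_surjective o.1.out
      have hb' := (hfixed g₀).1 (by rw [hg₀]; exact o.2)
      have hca : (g₀ : G) • b ≠ a := fun e => hab.symm (smul_left_cancel (g₀ : G) (e.trans (hC.le g₀.2).symm))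
      obtain ⟨g, ⟨hgP, hgb⟩, -⟩ := hPfix _ hca hb'
      refine ⟨⟨g, hgP⟩, Subtype.ext ?_⟩
      show Quotient.mk _ ((⟨g, hPM hgP⟩ : M') : M' ⧸ X) = o.1
      rw [show ((⟨g, hPM hgP⟩ : M') : M' ⧸ X) = o.1.out from ((hcoset _ _).2 hgb).trans hg₀]
      exact Quotient.out_eq o.1
  rw [hcount] at hVy
  obtain ⟨j, hj⟩ := IsPGroup.iff_card.1 hPp
  rw [hj] at hVy
  haveI : NeZero q := ⟨hq.ne_zero⟩
  have h2 : orderOf (ξ y) ∣ q := by
    have := orderOf_dvd_natCard (ξ y)
    rwa [Nat.card_eq_fintype_card, Fintype.card_multiplicative, ZMod.card] at this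
  exact orderOf_eq_one_iff.1 (Nat.eq_one_of_dvd_coprimes
    (Nat.Coprime.pow_right j (Nat.coprime_two_right.2 hqodd)) h2 (orderOf_dvd_of_pow_eq_one hVy))

/-- A proper kernel of a transfer covers again. -/
theorem covers_ker (h : NC G Ω) {a b : Ω} (hab : a ≠ b) {M' : Subgroup G} (hC : Covers a b M') {q : ℕ}
    (hq : q.Prime) (ξ : ↥(M' ⊓ pairStab G a b) →* Multiplicative (ZMod q)) {x : M'}
    (hx : (x : G) ∈ pairStab G a b) (hne : V M' ξ x ≠ 1) :
    Covers a b ((V M' ξ).ker.map M'.subtype) ∧ Nat.card ((V M' ξ).ker.map M'.subtype) < Nat.card M' := by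
  haveI := Fact.mk hq
  haveI : NeZero q := ⟨hq.ne_zero⟩
  haveI : Fact (Nat.Prime 2) := ⟨Nat.prime_two⟩
  have hcardq : Nat.card (Multiplicative (ZMod q)) = q := by
    rw [Nat.card_eq_fintype_card, Fintype.card_multiplicative, ZMod.card]
  have hqodd : q ≠ 2 := by
    rintro rfl
    refine hne ?_
    have h1 : orderOf (V M' ξ x) ∣ 2 := (_root_.orderOf_dvd_natCard _).trans hcardq.dvd
    have h2 : orderOf (V M' ξ x) ∣ orderOf (x : G) := by
      rw [Subgroup.orderOf_coe]; exact orderOf_map_dvd _ x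
    exact orderOf_eq_one_iff.1 (Nat.eq_one_of_dvd_coprimes (Nat.coprime_two_left.2 (h.setting.odd_pairStab hab))
      h1 (h2.trans (orderOf_dvd_natCard _ hx)))
  refine ⟨⟨(map_subtype_le _).trans hC.le, fun g hga hg2 => ?_, fun g hga => ?_⟩, ?_⟩
  · obtain ⟨j, hj⟩ := hg2
    refine ⟨⟨g, hC.two_mem g hga ⟨j, hj⟩⟩, MonoidHom.mem_ker.2 ?_, rfl⟩
    refine orderOf_eq_one_iff.1 (Nat.eq_one_of_dvd_coprimes
      (Nat.Coprime.pow_right j (Nat.coprime_two_right.2 (hq.odd_of_ne_two hqodd)))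
      ((_root_.orderOf_dvd_natCard _).trans hcardq.dvd) (orderOf_dvd_of_pow_eq_one ?_))
    rw [← map_pow, show (⟨g, _⟩ : M') ^ 2 ^ j = 1 from Subtype.ext (by simpa using hj), map_one]
  · obtain ⟨w, hw, d, hd, rfl⟩ := hC.sup g hga
    obtain ⟨i, hi⟩ := mem_zpowers_iff.1 (mem_zpowers_of_prime_card hcardq hne (g' := V M' ξ ⟨w, hw⟩))
    refine ⟨w * ((x : G) ^ i)⁻¹, ⟨⟨w, hw⟩ * (x ^ i)⁻¹, MonoidHom.mem_ker.2 ?_, by simp⟩, (x : G) ^ i * d,
      mul_mem (zpow_mem hx i) hd, by group⟩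
    rw [map_mul, map_inv, map_zpow, hi, mul_inv_cancel]
  · refine lt_of_le_of_ne (Nat.le_of_dvd Nat.card_pos (card_dvd_of_le (map_subtype_le _))) fun e => hne ?_
    have h1 := eq_of_le_of_card_ge (map_subtype_le _) e.ge
    obtain ⟨x', hx', he⟩ : (x : G) ∈ (V M' ξ).ker.map M'.subtype := h1.symm ▸ x.2
    rw [← show x' = x from Subtype.ext he]
    exact hx'

/-- Every covering subgroup contains an evil element. -/
theorem exists_evil (h : NC G Ω) {a b : Ω} (hab : a ≠ b) : ∀ (n : ℕ) (M' : Subgroup G), Nat.card M' = n →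
    Covers a b M' → ∃ y ∈ M', Evil a b y := by
  intro n
  induction n using Nat.strong_induction_on with
  | _ n ih =>
  intro M' hn hC
  by_contra hcon
  push Not at hcon
  haveI : Fact (Nat.Prime 2) := ⟨Nat.prime_two⟩
  -- the transfer kills the two-point stabiliser
  have hkill : ∀ (q : ℕ) (ξ : ↥(M' ⊓ pairStab G a b) →* Multiplicative (ZMod q)), q.Prime → ξ = 1 := by
    intro q ξ hq
    refine hom_eq_one_of_kills hq ξ fun y hy => kills_of_transfer h hab hC hq ξ (fun x hx => ?_) y hy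
      fun z hz => hcon z (zpowers_le.2 (Subgroup.mem_inf.1 y.2).1 hz)
    by_contra hne
    obtain ⟨hC', hlt⟩ := covers_ker h hab hC hq ξ hx hne
    obtain ⟨z, hz, hev⟩ := ih _ (hn ▸ hlt) _ rfl hC'
    exact hcon z (map_subtype_le _ hz) hev
  have hD : M' ⊓ pairStab G a b = ⊥ := by
    by_contra hne
    haveI := (Subgroup.nontrivial_iff_ne_bot _).2 hne
    haveI := Cfsg.Agent.S0205.result (odd_of_le (inf_le_right : M' ⊓ pairStab G a b ≤ pairStab G a b)
      (h.setting.odd_pairStab hab))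
    obtain ⟨q, ξ, hq, hξ⟩ := exists_hom_zmod ↥(M' ⊓ pairStab G a b)
    exact hξ (hkill q ξ hq)
  -- the subgroup generated by the 2-elements
  set M := stabilizer G a with hM
  set D := pairStab G a b with hDdef
  set W := Subgroup.closure {g : G | g • a = a ∧ ∃ k : ℕ, g ^ 2 ^ k = 1} with hW
  have hWM' : W ≤ M' := (closure_le _).2 fun g hg => hC.two_mem g hg.1 hg.2
  have hWn : M ≤ normalizer (W : Set G) := by
    intro g hg
    have hle : ∀ g ∈ M, W.map (MulAut.conj g).toMonoidHom ≤ W := by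
      intro g hg
      rw [hW, MonoidHom.map_closure]
      refine closure_mono ?_
      rintro _ ⟨r, ⟨hra, j, hj⟩, rfl⟩
      refine ⟨?_, j, ?_⟩
      · show (g * r * g⁻¹) • a = a
        rw [mul_smul, mul_smul, inv_smul_eq_iff.2 (show g • a = a from hg).symm, hra]; exact hg
      · show (g * r * g⁻¹) ^ 2 ^ j = 1
        rw [conj_pow, hj, mul_one, mul_inv_cancel]
    exact mem_normalizer_of_map_conj_eq (eq_of_le_of_card_ge (hle g hg) (card_map_conj g W).ge)
  have hWD : D ⊓ W = ⊥ := le_bot_iff.1 (hD ▸ le_inf (inf_le_right.trans hWM') inf_le_left)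
  have hWdvd : Nat.card W * Nat.card D ∣ Nat.card M := by
    have h1 := CfsgLib.Core.card_sup_mul_card_inf D W (inf_le_left.trans hWn)
    rw [hWD, Subgroup.card_bot, mul_one, mul_comm] at h1
    rw [← h1]
    exact card_dvd_of_le (sup_le inf_le_left (hWM'.trans hC.le))
  -- involutions at `a` are central in it
  have hcentral : ∀ s r : G, InvAt s a → r ∈ W → r * s = s * r := by
    intro s r hs hr
    set C := M ⊓ centralizer ({s} : Set G) with hCdef
    set f := Nat.card {r : G // ∃ d ∈ W, d * s * d⁻¹ = r}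
    have e1 := card_conj_class W s
    have hWC : W ⊓ C = W ⊓ centralizer ({s} : Set G) := by
      rw [hCdef, ← inf_assoc, inf_eq_left.2 (hWM'.trans hC.le)]
    have e2 := card_conj_class M s
    have hcl : Nat.card {r : G // ∃ d ∈ M, d * s * d⁻¹ = r} = Nat.card {t : G // InvAt t a} := by
      refine Nat.card_congr (Equiv.subtypeEquivRight fun r => ⟨?_, fun hr => ?_⟩)
      · rintro ⟨d, hd, rfl⟩; exact hs.conj' hd
      · obtain ⟨d, hd, he⟩ := h.setting.conj_fixing hab hs hr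
        exact ⟨d, hd.1, he⟩
    rw [hcl] at e2
    have e3 := CfsgLib.Core.card_sup_mul_card_inf C W (inf_le_left.trans hWn)
    rw [inf_comm, hWC, ← e1] at e3
    have hsup : Nat.card (C ⊔ W : Subgroup G) = f * Nat.card C :=
      Nat.eq_of_mul_eq_mul_right (Nat.card_pos (α := (W ⊓ centralizer ({s} : Set G) : Subgroup G)))
        (e3.trans (by ring))
    have hfm : f ∣ Nat.card {t : G // InvAt t a} := by
      have h1 := Subgroup.card_dvd_of_le (sup_le inf_le_left (hWM'.trans hC.le) : C ⊔ W ≤ M)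
      rw [hsup, ← e2] at h1
      exact Nat.dvd_of_mul_dvd_mul_right Nat.card_pos h1
    have hfW : f ∣ Nat.card W := e1 ▸ dvd_mul_right _ _
    have hf1 : f = 1 := by
      by_contra hne
      obtain ⟨p, hp, hpf⟩ := Nat.exists_prime_and_dvd hne
      haveI := Fact.mk hp
      obtain ⟨T, hT⟩ := exists_isSyl p D
      obtain ⟨-, hT'⟩ := Cons.syl_fix h.setting h.sr hab (hpf.trans hfm) hT
      have h1 := hT.vp_eq
      have h2 := hT'.vp_eq
      have h3 := Nat.factorization_le_iff_dvd (mul_ne_zero Nat.card_pos.ne' Nat.card_pos.ne') Nat.card_pos.ne' |>.2 hWdvd p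
      have h4 := hp.factorization_pos_of_dvd Nat.card_pos.ne' (hpf.trans hfW)
      simp only [vp, Nat.factorization_mul Nat.card_pos.ne' Nat.card_pos.ne', Finsupp.add_apply] at h1 h2 h3
      try rw [← hM] at h2
      omega
    haveI : Subsingleton {r : G // ∃ d ∈ W, d * s * d⁻¹ = r} := (Nat.card_eq_one_iff_unique.1 hf1).1
    have := congrArg Subtype.val (Subsingleton.elim
      (⟨r * s * r⁻¹, r, hr, rfl⟩ : {r : G // ∃ d ∈ W, d * s * d⁻¹ = r}) ⟨s, 1, one_mem _, by group⟩)
    exact mul_inv_eq_iff_eq_mul.1 this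
  refine h.not_comm fun {x s t} hs ht => ?_
  obtain ⟨g, rfl⟩ := h.setting.trans a x
  have hs' := hs.conj g⁻¹
  have ht' := ht.conj g⁻¹
  rw [inv_smul_smul, inv_inv] at hs' ht'
  have h1 := hcentral _ _ hs' (Subgroup.subset_closure (k := {g : G | g • a = a ∧ ∃ k : ℕ, g ^ 2 ^ k = 1})
    ⟨ht'.2, 1, by rw [pow_one, pow_two, involution_sq ht'.1]⟩)
  have h2 : s * t = t * s := by
    have := congrArg (fun r => g * r * g⁻¹) h1
    simpa [mul_assoc] using this.symm
  have h3 : s * t * s * t = 1 := by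
    rw [h2, mul_assoc t s s, involution_sq hs.1, mul_one, involution_sq ht.1]
  rw [h3]
  exact one_mem _

theorem evilStep : EvilStep.{u} := by
  intro G Ω _ _ _ _ h a b hab
  obtain ⟨y, -, hy⟩ := exists_evil h hab _ _ rfl (covers_stabilizer a b)
  exact ⟨y, hy⟩

theorem descentStep : DescentStep.{u} := by
  intro G Ω _ _ _ _ h a b hab K hK
  classical
  let p : ℕ → Prop := fun n => ∃ M' : Subgroup G, Covers a b M' ∧ K ≤ M' ∧ Nat.card M' = n
  have hex : ∃ n, p n := ⟨_, stabilizer G a, covers_stabilizer a b, hK.le.trans inf_le_left, rfl⟩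
  obtain ⟨M₀, hC, hKM, hcard⟩ := Nat.find_spec hex
  obtain ⟨y, hyM, hy⟩ := exists_evil h hab _ M₀ rfl hC
  refine ⟨M₀, ⟨hC.le, hC.two_mem, hC.sup, ⟨y, hyM, hy⟩, fun q hq ξ =>
    kills_of_transfer h hab hC hq ξ fun x hx => ?_⟩, hKM⟩
  by_contra hne
  obtain ⟨hC', hlt⟩ := covers_ker h hab hC hq ξ hx hne
  refine Nat.find_min hex (hcard ▸ hlt) ⟨_, hC', fun k hk => ?_, rfl⟩
  obtain ⟨-, hyD, t, ⟨ht, hyt⟩, huniq⟩ := hy
  -- every element of the regular subgroup is a commutator with the evil element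
  have hinj : ∀ z ∈ K, z * y = y * z → z = 1 := by
    intro z hz hzy
    have hzt : z * t * z⁻¹ = t := by
      refine huniq _ ⟨ht.conj' (hK.le hz).1, ?_⟩
      calc y * (z * t * z⁻¹) = z * (y * t) * z⁻¹ := by rw [← mul_assoc, ← mul_assoc, ← hzy, ← mul_assoc]
        _ = z * (t * y) * z⁻¹ := by rw [hyt]
        _ = z * t * z⁻¹ * y := by
          have : y * z⁻¹ = z⁻¹ * y := ((show Commute z y from hzy).inv_left.eq).symm
          rw [mul_assoc z, mul_assoc z t, mul_assoc, mul_assoc, mul_assoc, this]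
    obtain ⟨w, -, hw⟩ := hK.regular t t ht ht
    exact (hw z ⟨hz, hzt⟩).trans (hw 1 ⟨one_mem _, by group⟩).symm
  have hyK : ∀ z ∈ K, y * z * y⁻¹ ∈ K := fun z hz => (mem_normalizer_iff.1 (hK.normal hyD) z).1 hz
  let φ : K → K := fun z => ⟨(z : G) * (y * (z : G)⁻¹ * y⁻¹), mul_mem z.2 (hyK _ (inv_mem z.2))⟩
  have hφ : Function.Injective φ := by
    intro z z' e
    have e' : (z : G) * (y * (z : G)⁻¹ * y⁻¹) = z' * (y * (z' : G)⁻¹ * y⁻¹) := congrArg Subtype.val e
    refine Subtype.ext (inv_mul_eq_one.1 (hinj _ (mul_mem (inv_mem z'.2) z.2) ?_)).symm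
    have e2 : (z : G) * y * (z : G)⁻¹ = z' * y * (z' : G)⁻¹ := by
      have := congrArg (fun r => r * y) e'
      simpa [mul_assoc] using this
    calc (z' : G)⁻¹ * z * y = (z' : G)⁻¹ * (z * y * (z : G)⁻¹) * z := by group
      _ = y * ((z' : G)⁻¹ * z) := by rw [e2]; group
  obtain ⟨z, hz⟩ := (hφ.bijective_of_nat_card_le le_rfl).2 ⟨k, hk⟩
  have hzM : (z : G) ∈ M₀ := hKM z.2
  refine ⟨⟨z, hzM⟩ * ⟨y, hyM⟩ * (⟨z, hzM⟩ : M₀)⁻¹ * (⟨y, hyM⟩ : M₀)⁻¹, MonoidHom.mem_ker.2 ?_, ?_⟩
  · simp only [map_mul, map_inv]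
    rw [mul_comm (V M₀ ξ ⟨z, hzM⟩), mul_inv_cancel_right, mul_inv_cancel]
  · refine Eq.trans ?_ (congrArg Subtype.val hz)
    show (z : G) * y * (z : G)⁻¹ * y⁻¹ = (z : G) * (y * (z : G)⁻¹ * y⁻¹)
    simp only [mul_assoc]

end CfsgLib.Bender.NDescent
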