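import Cfsg.Agent.Lib.Bender.Gen.Setting
import Cfsg.Agent.Lib.Bender.SylowKernel
import Cfsg.Agent.Lib.Core.SolvableStruct
import Cfsg.Agent.S0205

/-!
Owner: helper27. Tools for the proof of `UM` (slice B of `notes/bender_gen_slices.md`): invariant Sylow
subgroups of groups of rank one, centres of commuting involutions, and the lemma `[A, [Y, v]] ≤ G_w`.

* `exists_inv_syl_ge`, `exists_inv_syl_ge_core`, `inv_syl_conj`
* `exists_core_of_rank_one`
* `exists_commute_invol_of_even`, `Setting0.centralizer_le_stab_of_even`, `Setting0.centralizer_le_stab_of_four`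
* `Setting0.commutator_le_stab` (the B-lemma)
-/

set_option autoImplicit false
set_option linter.style.haveILetI false
set_option linter.unusedSectionVars false

namespace CfsgLib.Bender

open Subgroup MulAction
open CfsgLib.Signalizer (involution_sq involution_inv orderOf_eq_two_of involution_ne_one)
open scoped commutatorElement

section Group

variable {G : Type*} [Group G] [Finite G] {p : ℕ}

/-- An element mapping a finite subgroup into itself by conjugation normalises it. -/
theorem mem_normalizer_of_conj_le {g : G} {H : Subgroup G} (h : ∀ x ∈ H, g * x * g⁻¹ ∈ H) :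
    g ∈ normalizer (H : Set G) := by
  refine mem_normalizer_of_map_conj_eq (eq_of_le_of_card_ge ?_ (card_map_conj g H).ge)
  rintro _ ⟨x, hx, rfl⟩
  exact h x hx

theorem zpowers_cases {v x : G} (hv : orderOf v = 2) (hx : x ∈ zpowers v) : x = 1 ∨ x = v := by
  obtain ⟨k, rfl⟩ := hx
  rcases Int.even_or_odd k with ⟨m, rfl⟩ | ⟨m, rfl⟩
  · exact Or.inl (show v ^ (m + m) = 1 by rw [← two_mul, zpow_mul, zpow_two, involution_sq hv, one_zpow])
  · exact Or.inr (show v ^ (2 * m + 1) = v by
      rw [zpow_add, zpow_mul, zpow_two, involution_sq hv, one_zpow, one_mul, zpow_one])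

theorem odd_card_of_pGroup [Fact p.Prime] (hp : p ≠ 2) {P : Subgroup G} (hP : IsPGroup p P) :
    Odd (Nat.card P) := by
  rw [card_eq_pow hP]; exact ((Fact.out : p.Prime).odd_of_ne_two hp).pow

theorem coprime_zpowers {v : G} (hv : orderOf v = 2) {K : Subgroup G} (hK : Odd (Nat.card K)) :
    (Nat.card (zpowers v)).Coprime (Nat.card K) := by
  rw [Nat.card_zpowers, hv]; exact Nat.coprime_two_left.2 hK

theorem le_normalizer_centralizer (Y : Subgroup G) :
    normalizer (Y : Set G) ≤ normalizer (centralizer (Y : Set G) : Set G) := fun g hg => by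
  refine mem_normalizer_of_conj_le fun x hx => mem_centralizer_iff.2 fun y hy => ?_
  have h := mem_centralizer_iff.1 hx (g⁻¹ * y * g) ((mem_normalizer_iff''.1 hg y).1 hy)
  calc y * (g * x * g⁻¹) = g * ((g⁻¹ * y * g) * x) * g⁻¹ := by group
    _ = g * (x * (g⁻¹ * y * g)) * g⁻¹ := by rw [h]
    _ = g * x * g⁻¹ * y := by group

theorem le_normalizer_commutator {A B : Subgroup G} :
    normalizer (A : Set G) ⊓ normalizer (B : Set G) ≤ normalizer ((⁅A, B⁆ : Subgroup G) : Set G) :=
  fun g hg => mem_normalizer_of_map_conj_eq (by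
    rw [map_commutator, map_conj_eq_of_mem_normalizer hg.1, map_conj_eq_of_mem_normalizer hg.2])

/-- An involution normalising an odd subgroup normalises a Sylow subgroup above each invariant
`p`-subgroup. -/
theorem exists_inv_syl_ge [Fact p.Prime] {K U : Subgroup G} {v : G} (hv : orderOf v = 2)
    (hK : Odd (Nat.card K)) (hvK : v ∈ normalizer (K : Set G)) (hUK : U ≤ K) (hU : IsPGroup p U)
    (hvU : v ∈ normalizer (U : Set G)) :
    ∃ P, IsSyl p P K ∧ U ≤ P ∧ v ∈ normalizer (P : Set G) := by
  obtain ⟨P, hUP, hP⟩ := CfsgLib.Core.exists_invariant_sylow_ge (zpowers_le.2 hvK)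
    (coprime_zpowers hv hK) (Or.inl inferInstance) hUK hU (zpowers_le.2 hvU)
  refine ⟨_, ⟨map_subtype_le _, ?_⟩, hUP, hP (mem_zpowers v)⟩
  rw [← Nat.card_congr ((P : Subgroup K).equivMapOfInjective _ K.subtype_injective).toEquiv]
  exact P.card_eq_multiplicity

variable {K O : Subgroup G} {v : G}

/-- Invariant Sylow subgroups in a group centralised by the involution modulo an odd normal
subgroup. -/
theorem exists_inv_syl_ge_core [Fact p.Prime] (hp : p ≠ 2) (hv : orderOf v = 2) (hOK : O ≤ K)
    (hO : Odd (Nat.card O)) (hKO : K ≤ normalizer (O : Set G))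
    (hmod : ∀ k ∈ K, v * k * v⁻¹ * k⁻¹ ∈ O) (hvK : v ∈ K) {U : Subgroup G} (hUK : U ≤ K)
    (hU : IsPGroup p U) (hvU : v ∈ normalizer (U : Set G)) :
    ∃ P, IsSyl p P K ∧ U ≤ P ∧ v ∈ normalizer (P : Set G) := by
  obtain ⟨P, hP, hUP⟩ := exists_isSyl_ge hU hUK
  have hPO : P ≤ normalizer (O : Set G) := hP.le.trans hKO
  have hM : Odd (Nat.card (P ⊔ O : Subgroup G)) :=
    ((odd_card_of_pGroup hp hP.isPGroup).mul hO).of_dvd_nat (CfsgLib.Core.card_sup_dvd P O hPO)
  have hvM : v ∈ normalizer ((P ⊔ O : Subgroup G) : Set G) := by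
    refine mem_normalizer_of_conj_le fun x hx => ?_
    obtain ⟨r, hr, o, ho, rfl⟩ := (CfsgLib.Core.mem_sup_iff_mul hPO).1 hx
    have e : v * (r * o) * v⁻¹ = v * r * v⁻¹ * r⁻¹ * r * (v * o * v⁻¹) := by group
    rw [e]
    exact mul_mem (mul_mem (mem_sup_right (hmod r (hP.le hr))) (mem_sup_left hr))
      (mem_sup_right ((mem_normalizer_iff.1 (hKO hvK) o).1 ho))
  obtain ⟨Q, hQ, hUQ, hvQ⟩ := exists_inv_syl_ge hv hM hvM (hUP.trans le_sup_left) hU hvU
  have hMK : P ⊔ O ≤ K := sup_le hP.le hOK
  refine ⟨Q, ⟨hQ.le.trans hMK, ?_⟩, hUQ, hvQ⟩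
  rw [hQ.2]
  congr 1
  refine le_antisymm (vp_card_mono hMK) ?_
  have h := vp_card_mono (p := p) (le_sup_left : P ≤ P ⊔ O)
  rw [hP.vp_eq] at h
  exact h

/-- Invariant Sylow subgroups are conjugate under the centraliser of the involution. -/
theorem inv_syl_conj [Fact p.Prime] (hv : orderOf v = 2) (hO : Odd (Nat.card O))
    (hKO : K ≤ normalizer (O : Set G)) (hmod : ∀ k ∈ K, v * k * v⁻¹ * k⁻¹ ∈ O) (hOK : O ≤ K)
    {P Q : Subgroup G} (hP : IsSyl p P K) (hQ : IsSyl p Q K) (hvP : v ∈ normalizer (P : Set G))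
    (hvQ : v ∈ normalizer (Q : Set G)) :
    ∃ c ∈ K, c * v = v * c ∧ P.map (MulAut.conj c).toMonoidHom = Q := by
  obtain ⟨k, hk, hkQ⟩ := hP.exists_conj hQ
  set v' := k⁻¹ * v * k with hv'
  have hord : orderOf v' = 2 := by
    have h := CfsgLib.Signalizer.orderOf_conj k⁻¹ v
    rw [inv_inv] at h
    rw [hv', h, hv]
  have h1 : v * v' ∈ O := by
    have h := inv_mem ((mem_normalizer_iff''.1 (hKO hk) _).1 (hmod k hk))
    have e : (k⁻¹ * (v * k * v⁻¹ * k⁻¹) * k)⁻¹ = v * v' := by
      rw [hv']; simp [mul_assoc, involution_inv hv]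
    rwa [e] at h
  have h2 : v' ∈ normalizer (P : Set G) := by
    refine mem_normalizer_of_conj_le fun x hx => ?_
    have h3 : k * x * k⁻¹ ∈ Q := hkQ ▸ conj_mem_map_conj hx
    have h4 := (mem_normalizer_iff.1 hvQ _).1 h3
    rw [← hkQ, mem_map_conj] at h4
    have e : v' * x * v'⁻¹ = k⁻¹ * (v * (k * x * k⁻¹) * v⁻¹) * k := by rw [hv']; group
    rwa [e]
  obtain ⟨o, ho, hov⟩ := exists_conj_of_mul_mem (W := O ⊓ normalizer (P : Set G))
    (odd_of_le inf_le_left hO) hv hord ⟨h1, mul_mem hvP h2⟩
  refine ⟨k * o, mul_mem hk (hOK ho.1), ?_, ?_⟩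
  · calc k * o * v = k * (o * v * o⁻¹) * o := by group
      _ = k * v' * o := by rw [hov]
      _ = v * (k * o) := by rw [hv']; group
  · rw [← hkQ]
    conv_rhs => rw [← map_conj_eq_of_mem_normalizer ho.2, Subgroup.map_map P]
    exact congrArg (fun f => P.map f) (MonoidHom.ext fun r => by simp [mul_assoc])

/-- In a subgroup where `v` commutes with no other involution, `v` is central modulo the odd core. -/
theorem exists_core_of_rank_one (hv : orderOf v = 2) (hvK : v ∈ K)
    (hr : ∀ e ∈ K, orderOf e = 2 → e * v = v * e → e = v) :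
    ∃ O : Subgroup G, O ≤ K ∧ Odd (Nat.card O) ∧ K ≤ normalizer (O : Set G) ∧
      (∀ k ∈ K, v * k * v⁻¹ * k⁻¹ ∈ O) ∧
      ∀ k ∈ K, ∃ o ∈ O, ∃ c ∈ K, c * v = v * c ∧ k = o * c := by
  classical
  have hall : ∀ e ∈ K, ∀ f ∈ K, orderOf e = 2 → orderOf f = 2 → e * f = f * e → e = f := by
    intro e he f hf he2 hf2 hef
    rcases Nat.even_or_odd (orderOf (v * e)) with hev | hodd
    · obtain ⟨h1, h2, -⟩ := CfsgLib.Signalizer.central_involution hv he2 hev
      have hz := hr _ (pow_mem (mul_mem hvK he) _) h1 h2.eq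
      have h5 := pow_mem (mem_zpowers (v * e)) (orderOf (v * e) / 2)
      rw [hz] at h5
      exact absurd h5 (CfsgLib.Signalizer.left_not_mem_zpowers hv he2)
    · obtain ⟨d, hd, hdv⟩ := CfsgLib.Signalizer.exists_conj_of_odd hv he2 hodd
      have hdK : d ∈ K := by
        refine ((closure_le (K := K)).2 ?_) hd
        intro z hz
        rcases hz with rfl | rfl
        · exact hvK
        · exact he
      have h3 : (d⁻¹ * f * d) * v = v * (d⁻¹ * f * d) := by
        have hv' : v = d⁻¹ * e * d := by rw [← hdv]; group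
        calc (d⁻¹ * f * d) * v = d⁻¹ * (f * e) * d := by rw [hv']; group
          _ = d⁻¹ * (e * f) * d := by rw [hef]
          _ = v * (d⁻¹ * f * d) := by rw [hv']; group
      have h4 := hr _ (mul_mem (mul_mem (inv_mem hdK) hf) hdK)
        (by rw [← hf2]; simpa using CfsgLib.Signalizer.orderOf_conj d⁻¹ f) h3
      rw [← hdv, ← h4]; group
  set O := (Cfsg.oddCore ↥K).map K.subtype with hOdef
  have hOodd : Odd (Nat.card O) := by
    rw [hOdef, ← Nat.card_congr ((Cfsg.oddCore _).equivMapOfInjective _ K.subtype_injective).toEquiv]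
    exact CfsgLib.ZStar.odd_card_oddCore _
  have hKO : K ≤ normalizer (O : Set G) := by
    intro k hk
    refine mem_normalizer_of_conj_le ?_
    rintro _ ⟨o, ho, rfl⟩
    exact ⟨⟨k, hk⟩ * o * ⟨k, hk⟩⁻¹, (inferInstance : (Cfsg.oddCore ↥K).Normal).conj_mem o ho _, rfl⟩
  have hvv : ∀ k ∈ K, v * (k * v * k⁻¹) ∈ O := fun k hk =>
    mul_mem_oddCore_of_rank_one K hall hvK (mul_mem (mul_mem hk hvK) (inv_mem hk)) hv
      (by rw [CfsgLib.Signalizer.orderOf_conj, hv])
  refine ⟨O, map_subtype_le _, hOodd, hKO, fun k hk => ?_, fun k hk => ?_⟩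
  · have e : v * k * v⁻¹ * k⁻¹ = v * (k * v * k⁻¹) := by rw [involution_inv hv]; group
    rw [e]; exact hvv k hk
  · obtain ⟨o, ho, hov⟩ := exists_conj_of_mul_mem hOodd hv
      (by rw [CfsgLib.Signalizer.orderOf_conj, hv]) (hvv k hk)
    refine ⟨o, ho, o⁻¹ * k, mul_mem (inv_mem (map_subtype_le _ ho)) hk, ?_, by group⟩
    calc o⁻¹ * k * v = o⁻¹ * (k * v * k⁻¹) * k := by group
      _ = o⁻¹ * (o * v * o⁻¹) * k := by rw [hov]
      _ = v * (o⁻¹ * k) := by group

/-- An involution normalising an even subgroup centralises one of its involutions. -/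
theorem exists_commute_invol_of_even {C : Subgroup G} (hC : Even (Nat.card C))
    (hv : orderOf v = 2) (hvC : v ∈ normalizer (C : Set G)) :
    ∃ e ∈ C, orderOf e = 2 ∧ e * v = v * e := by
  by_cases hvmem : v ∈ C
  · exact ⟨v, hvmem, hv, rfl⟩
  obtain ⟨⟨e, heC⟩, he⟩ := exists_prime_orderOf_dvd_card' 2 (hp := ⟨Nat.prime_two⟩) hC.two_dvd
  rw [Subgroup.orderOf_mk] at he
  rcases Nat.even_or_odd (orderOf (e * v)) with hev | hodd
  · obtain ⟨hz2, hze, hzv⟩ := CfsgLib.Signalizer.central_involution he hv hev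
    set z := (e * v) ^ (orderOf (e * v) / 2) with hz
    have key : ∀ j : ℕ, (e * v) ^ j ∈ C ∨ v * (e * v) ^ j ∈ C := by
      intro j
      induction j with
      | zero => exact Or.inl (by rw [pow_zero]; exact one_mem _)
      | succ j ih =>
        rw [pow_succ' (e * v)]
        rcases ih with h | h
        · refine Or.inr ?_
          have h1 := (mem_normalizer_iff.1 hvC e).1 heC
          rw [involution_inv hv] at h1
          have := mul_mem h1 h
          simpa [mul_assoc] using this
        · refine Or.inl ?_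
          simpa [mul_assoc] using mul_mem heC h
    rcases key (orderOf (e * v) / 2) with h | h
    · exact ⟨z, h, hz2, hzv.eq⟩
    · by_cases hzv' : z = v
      · refine ⟨e, heC, he, ?_⟩
        have := hze.eq
        rw [hzv'] at this
        exact this.symm
      · refine ⟨v * z, h, orderOf_eq_two_of (fun h1 => hzv' ?_) ?_, ?_⟩
        · rw [eq_inv_of_mul_eq_one_right h1, involution_inv hv]
        · rw [mul_assoc, ← mul_assoc z v z, hzv.eq, mul_assoc v z z, involution_sq hz2, mul_one,
            involution_sq hv]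
        · rw [mul_assoc, hzv.eq]
  · obtain ⟨d, hd, hdv⟩ := CfsgLib.Signalizer.exists_conj_of_odd he hv hodd
    refine absurd ?_ hvmem
    have hdn : d ∈ normalizer (C : Set G) := by
      refine ((closure_le (K := normalizer (C : Set G))).2 ?_) hd
      intro x hx
      rcases hx with rfl | rfl
      · exact le_normalizer heC
      · exact hvC
    rw [← hdv]
    exact (mem_normalizer_iff.1 hdn e).1 heC

end Group

section Setting0

variable {G Ω : Type*} [Group G] [Finite G] [MulAction G Ω] [Finite Ω] (hS : Setting0 G Ω)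
include hS

namespace Setting0

/-- Involutions with different centres are conjugate in the subgroup they generate. -/
theorem exists_conj_of_ne_centre {s t : G} {x y : Ω} (hs : InvAt s x) (ht : InvAt t y) (hxy : x ≠ y) :
    ∃ d ∈ closure ({s, t} : Set G), d * s * d⁻¹ = t := by
  rcases Nat.even_or_odd (orderOf (s * t)) with hev | hodd
  · obtain ⟨hz2, hzs, hzt⟩ := CfsgLib.Signalizer.central_involution hs.1 ht.1 hev
    exact absurd (hS.fix_unique ⟨hz2, hS.smul_of_commute hs hzs.eq⟩
      ⟨hz2, hS.smul_of_commute ht hzt.eq⟩) hxy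
  · exact CfsgLib.Signalizer.exists_conj_of_odd hs.1 ht.1 hodd

variable {v : G} {w : Ω} (hv : InvAt v w) {Y : Subgroup G} (hvY : v ∈ normalizer (Y : Set G))
include hv hvY

/-- `G1`. -/
theorem centralizer_le_stab_of_even (hne : ∃ y ∈ Y, y * v ≠ v * y)
    (he : Even (Nat.card (centralizer (Y : Set G)))) : centralizer (Y : Set G) ≤ stabilizer G w := by
  obtain ⟨y, hy, hyv⟩ := hne
  obtain ⟨e, heC, he2, hev⟩ := exists_commute_invol_of_even he hv.1 (le_normalizer_centralizer Y hvY)
  have hew : InvAt e w := ⟨he2, hS.smul_of_commute hv hev⟩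
  intro g hg
  by_contra hgw
  have he' := hew.conj g
  have he'C : g * e * g⁻¹ ∈ centralizer (Y : Set G) := mul_mem (mul_mem hg heC) (inv_mem hg)
  obtain ⟨d, hd, hde⟩ := hS.exists_conj_of_ne_centre hv he' fun h => hgw h.symm
  have hdn : d ∈ normalizer (centralizer (Y : Set G) : Set G) := by
    refine ((closure_le (K := normalizer (centralizer (Y : Set G) : Set G))).2 ?_) hd
    intro x hx
    rcases hx with rfl | rfl
    · exact le_normalizer_centralizer Y hvY
    · exact le_normalizer he'C
  refine hyv (mem_centralizer_iff.1 ((mem_normalizer_iff.1 hdn v).2 ?_) y hy)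
  rw [hde]
  exact he'C

/-- `G2`. -/
theorem centralizer_le_stab_of_four (hne : ∃ y ∈ Y, y * v ≠ v * y) {e : G}
    (heY : e ∈ normalizer (Y : Set G)) (he2 : orderOf e = 2) (hev : e * v = v * e) (hev' : e ≠ v) :
    centralizer (Y : Set G) ≤ stabilizer G w := by
  rcases Nat.even_or_odd (Nat.card (centralizer (Y : Set G))) with h | h
  · exact hS.centralizer_le_stab_of_even hv hvY hne h
  · exact hS.le_stab_of_four h ⟨he2, hS.smul_of_commute hv hev⟩ hv hev' hev
      (le_normalizer_centralizer Y heY) (le_normalizer_centralizer Y hvY)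

omit hvY
variable (hvY : v ∈ normalizer (Y : Set G)) (hYw : Y ≤ stabilizer G w)
include hvY hYw

private theorem commutator_le_stab_aux : ∀ (n : ℕ) (A : Subgroup G), Nat.card A = n →
    Odd (Nat.card A) → (Nat.card Y).Coprime (Nat.card A) → Y ≤ normalizer (A : Set G) →
    v ∈ normalizer (A : Set G) → ⁅A, ⁅Y, zpowers v⁆⁆ ≤ stabilizer G w := by
  intro n
  induction n using Nat.strong_induction_on with
  | _ n ih =>
    intro A hn hA hcop hYA hvA
    subst hn
    set B := ⁅Y, zpowers v⁆ with hBdef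
    have hBY : B ≤ Y := le_normalizer_iff_commutator_le_left.1 (zpowers_le.2 hvY)
    have hBw : B ≤ stabilizer G w := hBY.trans hYw
    have hYB : Y ≤ normalizer (B : Set G) := normalizer_commutator_ge_left Y (zpowers v)
    have hvB : v ∈ normalizer (B : Set G) :=
      normalizer_commutator_ge_right Y (zpowers v) (mem_zpowers v)
    have hBA : B ≤ normalizer (A : Set G) := hBY.trans hYA
    have hBcop : (Nat.card B).Coprime (Nat.card A) := hcop.coprime_dvd_left (card_dvd_of_le hBY)
    haveI hAsol : Group.IsSolvable A := Cfsg.Agent.S0205.result hA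
    set X := ⁅A, B⁆ with hXdef
    have hXA : X ≤ A := le_normalizer_iff_commutator_le_left.1 hBA
    by_cases hXlt : Nat.card X < Nat.card A
    · have hYX : Y ≤ normalizer (X : Set G) := fun y hy => le_normalizer_commutator ⟨hYA hy, hYB hy⟩
      have hvX : v ∈ normalizer (X : Set G) := le_normalizer_commutator ⟨hvA, hvB⟩
      have h := ih _ hXlt X rfl (odd_of_le hXA hA) (hcop.coprime_dvd_right (card_dvd_of_le hXA)) hYX hvX
      rwa [hXdef, CfsgLib.Core.commutator_commutator_eq hBA hBcop (Or.inr hAsol)] at h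
    have hXeq : X = A := eq_of_le_of_card_ge hXA (not_lt.1 hXlt)
    by_cases hAbot : A = ⊥
    · exact hXA.trans (hAbot ▸ bot_le)
    set D := ⁅A, A⁆ with hDdef
    have hDA : D ≤ A := commutator_le_self A
    have hDlt : Nat.card D < Nat.card A := by
      refine lt_of_le_of_ne (card_le_of_le hDA) fun h => ?_
      haveI : Nontrivial A := A.nontrivial_iff_ne_bot.2 hAbot
      refine (Group.IsSolvable.commutator_lt_top_of_nontrivial A).ne
        (map_injective A.subtype_injective ?_)
      rw [map_subtype_commutator, ← MonoidHom.range_eq_map, range_subtype]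
      exact eq_of_le_of_card_ge hDA h.ge
    have hDn : normalizer (A : Set G) ≤ normalizer (D : Set G) := fun g hg =>
      le_normalizer_commutator ⟨hg, hg⟩
    have ihD := ih _ hDlt D rfl (odd_of_le hDA hA) (hcop.coprime_dvd_right (card_dvd_of_le hDA))
      (hYA.trans hDn) (hDn hvA)
    set F := (A ⊓ stabilizer G w) ⊔ D with hFdef
    have hFA : F ≤ A := sup_le inf_le_left hDA
    have hDF : D ≤ F := le_sup_right
    have hFA' : A ≤ normalizer (F : Set G) := fun g hg => mem_normalizer_of_conj_le fun x hx => by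
      have h1 : ⁅g, x⁆ ∈ F := hDF (commutator_mem_commutator hg (hFA hx))
      have e : g * x * g⁻¹ = ⁅g, x⁆ * x := by simp [commutatorElement_def, mul_assoc]
      rw [e]; exact mul_mem h1 hx
    have hFn : ∀ g : G, g ∈ normalizer (A : Set G) → g • w = w → g ∈ normalizer (F : Set G) := by
      intro g hg hgw
      have hgw' : g⁻¹ • w = w := inv_smul_eq_iff.2 hgw.symm
      refine mem_normalizer_of_map_conj_eq ?_
      rw [hFdef, Subgroup.map_sup, Subgroup.map_inf _ _ _ (MulAut.conj g).injective,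
        map_conj_eq_of_mem_normalizer hg, map_conj_eq_of_mem_normalizer (hDn hg),
        ← stabilizer_smul_eq, hgw]
    -- the involution inverts `A` modulo `F`
    have hinv : ∀ a ∈ A, v * a * v⁻¹ * a ∈ F := by
      intro a ha
      have hva : v * a * v⁻¹ ∈ A := (mem_normalizer_iff.1 hvA a).1 ha
      set k := v * a * v⁻¹ * a with hk
      have hkA : k ∈ A := mul_mem hva ha
      obtain ⟨f, hf, hkf⟩ := CfsgLib.Core.exists_centralizing_in_coset (A := zpowers v) (N := F)
        (zpowers_le.2 (hFn v hvA hv.2)) (coprime_zpowers hv.1 (odd_of_le hFA hA))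
        (Or.inl inferInstance) (k := k) (by
          intro x hx
          rcases zpowers_cases hv.1 hx with rfl | rfl
          · simp
          · refine hDF ?_
            have e : k⁻¹ * (x * k * x⁻¹) = ⁅a⁻¹, (x * a * x⁻¹)⁻¹⁆ := by
              rw [hk, commutatorElement_def, involution_inv hv.1]
              simp [mul_assoc, ← mul_assoc x x, involution_sq hv.1]
            rw [e]
            exact commutator_mem_commutator (inv_mem ha) (inv_mem hva))
      have hkf' : k * f ∈ F := mem_sup_left
        ⟨mul_mem hkA (hFA hf), hS.smul_of_commute hv ((mem_centralizer_iff.1 hkf v (mem_zpowers v)).symm)⟩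
      simpa [mul_assoc] using mul_mem hkf' (inv_mem hf)
    have hXF : X ≤ F := by
      let S : Subgroup G :=
        { carrier := {s | s ∈ normalizer (A : Set G) ⊓ normalizer (F : Set G) ∧ ∀ a ∈ A, ⁅a, s⁆ ∈ F}
          one_mem' := ⟨one_mem _, fun a _ => by simp⟩
          mul_mem' := by
            rintro s t ⟨hs, hs'⟩ ⟨ht, ht'⟩
            refine ⟨mul_mem hs ht, fun a ha => ?_⟩
            have e : ⁅a, s * t⁆ = ⁅a, s⁆ * (s * ⁅a, t⁆ * s⁻¹) := by
              simp [commutatorElement_def, mul_assoc]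
            rw [e]
            exact mul_mem (hs' a ha) ((mem_normalizer_iff.1 hs.2 _).1 (ht' a ha))
          inv_mem' := by
            rintro s ⟨hs, hs'⟩
            refine ⟨inv_mem hs, fun a ha => ?_⟩
            have e : ⁅a, s⁻¹⁆ = s⁻¹ * ⁅a, s⁆⁻¹ * s := by simp [commutatorElement_def, mul_assoc]
            rw [e]
            exact (mem_normalizer_iff''.1 hs.2 _).1 (inv_mem (hs' a ha)) }
      have hBS : B ≤ S := by
        rw [hBdef, commutator_le]
        intro y hy z hz
        have hyn : y ∈ normalizer (A : Set G) ⊓ normalizer (F : Set G) :=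
          ⟨hYA hy, hFn y (hYA hy) (hYw hy)⟩
        have hzn : z ∈ normalizer (A : Set G) ⊓ normalizer (F : Set G) := by
          rcases zpowers_cases hv.1 hz with rfl | rfl
          · exact one_mem _
          · exact ⟨hvA, hFn _ hvA hv.2⟩
        refine ⟨?_, fun a ha => ?_⟩
        · rw [commutatorElement_def]
          exact mul_mem (mul_mem (mul_mem hyn hzn) (inv_mem hyn)) (inv_mem hzn)
        rcases zpowers_cases hv.1 hz with rfl | rfl
        · simp
        -- two inversions compose to the identity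
        set b : G := z * a * z⁻¹ with hb
        have hbA : b ∈ A := (mem_normalizer_iff.1 hvA a).1 ha
        set c : G := z * (y⁻¹ * b⁻¹ * y) * z⁻¹ with hc
        have hd : y⁻¹ * b⁻¹ * y ∈ A := (mem_normalizer_iff''.1 (hYA hy) _).1 (inv_mem hbA)
        have h1 : b * a ∈ F := hinv a ha
        have h2 : c * (y⁻¹ * b⁻¹ * y) ∈ F := hinv _ hd
        have h3 : y * (c * (y⁻¹ * b⁻¹ * y)) * y⁻¹ ∈ F := (mem_normalizer_iff.1 hyn.2 _).1 h2
        have h4 : b⁻¹ * (b * a) * b ∈ F := (mem_normalizer_iff''.1 (hFA' hbA) _).1 h1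
        have e : ⁅a, ⁅y, z⁆⁆ = a * (y * (c * (y⁻¹ * b⁻¹ * y)) * y⁻¹) * a⁻¹ * (b⁻¹ * (b * a) * b) := by
          rw [hc, hb]
          simp only [commutatorElement_def, involution_inv hv.1]
          simp [mul_assoc, ← mul_assoc z z, involution_sq hv.1, involution_inv hv.1]
        rw [e]
        exact mul_mem ((mem_normalizer_iff.1 (hFA' ha) _).1 h3) h4
      rw [hXdef, commutator_le]
      exact fun a ha s hs => (hBS hs).2 a ha
    intro x hx
    refine (show X ≤ stabilizer G w from ?_) hx
    rw [hXdef, commutator_le]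
    intro a ha b hb
    have haF : a ∈ F := hXF (hXeq.symm ▸ ha)
    obtain ⟨f, hf, d, hd, rfl⟩ := (CfsgLib.Core.mem_sup_iff_mul
      ((inf_le_left.trans le_normalizer).trans hDn)).1 haF
    have e : ⁅f * d, b⁆ = f * ⁅d, b⁆ * f⁻¹ * ⁅f, b⁆ := by simp [commutatorElement_def, mul_assoc]
    rw [e]
    refine mul_mem (mul_mem (mul_mem hf.2 (ihD (commutator_mem_commutator hd hb))) (inv_mem hf.2)) ?_
    rw [commutatorElement_def]
    exact mul_mem (mul_mem (mul_mem hf.2 (hBw hb)) (inv_mem hf.2)) (inv_mem (hBw hb))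

/-- The B-lemma: an odd `p'`-subgroup normalised by `Y` and `v` has its commutator with `[Y, v]` at `w`. -/
theorem commutator_le_stab {A : Subgroup G} (hA : Odd (Nat.card A))
    (hcop : (Nat.card Y).Coprime (Nat.card A)) (hYA : Y ≤ normalizer (A : Set G))
    (hvA : v ∈ normalizer (A : Set G)) : ⁅A, ⁅Y, zpowers v⁆⁆ ≤ stabilizer G w :=
  hS.commutator_le_stab_aux hv hvY hYw _ A rfl hA hcop hYA hvA

end Setting0

end Setting0

end CfsgLib.Bender
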