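import Cfsg.Agent.Lib.Bender.Gen.NSig
import Cfsg.Agent.Lib.Bender.Gen.NoMoveTools

/-!
Owner: helper29. General Bender theorem, slice G3 (`RegKStep`), first part: the elements of a two-point
stabiliser inverted by a swapper which commutes with an evil element.
-/

set_option autoImplicit false
set_option linter.style.haveILetI false
set_option linter.unusedSectionVars false

namespace CfsgLib.Bender.NRegK

open Subgroup MulAction
open CfsgLib.Signalizer (involution_sq involution_inv orderOf_eq_two_of involution_ne_one)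

universe u

section Odd

variable {G : Type*} [Group G] [Finite G] {H : Subgroup G}

/-- Square roots in a subgroup of odd order. -/
theorem sq_pow_half (hH : Odd (Nat.card H)) {x : G} (hx : x ∈ H) :
    (x * x) ^ ((Nat.card H + 1) / 2) = x := by
  obtain ⟨n, hn⟩ := hH
  have h1 : x ^ Nat.card H = 1 := orderOf_dvd_iff_pow_eq_one.1 (H.orderOf_dvd_natCard hx)
  rw [← pow_two, ← pow_mul, show 2 * ((Nat.card H + 1) / 2) = Nat.card H + 1 by omega, pow_succ, h1,
    one_mul]

theorem eq_of_sq (hH : Odd (Nat.card H)) {x y : G} (hx : x ∈ H) (hy : y ∈ H) (h : x * x = y * y) :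
    x = y := by rw [← sq_pow_half hH hx, h, sq_pow_half hH hy]

theorem eq_one_of_eq_inv (hH : Odd (Nat.card H)) {x : G} (hx : x ∈ H) (h : x = x⁻¹) : x = 1 := by
  refine eq_of_sq hH hx (one_mem _) ?_
  nth_rw 2 [h]
  rw [mul_inv_cancel, one_mul]

theorem commute_of_sq (hH : Odd (Nat.card H)) {x g : G} (hx : x ∈ H) (h : Commute (x * x) g) :
    Commute x g := by rw [← sq_pow_half hH hx]; exact h.pow_left _

/-- An element of odd order inverting `x` centralises it. -/
theorem eq_one_of_conj_inv (hH : Odd (Nat.card H)) {x d : G} (hx : x ∈ H) (hd : d ∈ H)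
    (h : d * x * d⁻¹ = x⁻¹) : x = 1 := by
  have h2 : Commute (d * d) x := by
    refine mul_inv_eq_iff_eq_mul.1 ?_
    calc d * d * x * (d * d)⁻¹ = d * (d * x * d⁻¹) * d⁻¹ := by group
      _ = (d * x * d⁻¹)⁻¹ := by rw [conj_inv, ← h]
      _ = x := by rw [h, inv_inv]
  refine eq_one_of_eq_inv hH hx ?_
  rw [← h, (commute_of_sq hH hd h2).eq, mul_inv_cancel_right]

end Odd

section Perm

variable {G : Type*} [Group G] [Finite G] {y : G} {P : G → Prop}

theorem exists_conjPerm (hP : ∀ x, P x → P (y * x * y⁻¹)) :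
    ∃ σ : Equiv.Perm {x : G // P x}, ∀ (n : ℕ) (x : {x : G // P x}),
      (((σ ^ n) x : {x : G // P x}) : G) = y ^ n * x * (y ^ n)⁻¹ := by
  let f : {x : G // P x} → {x : G // P x} := fun x => ⟨y * x * y⁻¹, hP x x.2⟩
  have hf : Function.Bijective f :=
    Finite.injective_iff_bijective.1 fun x z h => Subtype.ext (by simpa [f] using congrArg Subtype.val h)
  refine ⟨Equiv.ofBijective f hf, fun n => ?_⟩
  induction n with
  | zero => intro x; simp
  | succ n ih =>
    intro x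
    rw [pow_succ', Equiv.Perm.mul_apply]
    show y * _ * y⁻¹ = _
    rw [ih, pow_succ']
    group

theorem exists_commute_of_not_dvd {q : ℕ} [Fact q.Prime] (hy : orderOf y = q)
    (hP : ∀ x, P x → P (y * x * y⁻¹)) (h : ¬ q ∣ Nat.card {x : G // P x}) :
    ∃ x, P x ∧ y * x = x * y := by
  classical
  have := Fintype.ofFinite {x : G // P x}
  obtain ⟨σ, hσ⟩ := exists_conjPerm hP
  obtain ⟨x, hx⟩ := Equiv.Perm.exists_fixed_point_of_prime (n := 1) (by rwa [← Nat.card_eq_fintype_card])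
    (show σ ^ q ^ 1 = 1 from Equiv.ext fun x => Subtype.ext (by
      rw [pow_one, hσ, ← hy, pow_orderOf_eq_one, one_mul, inv_one, mul_one, Equiv.Perm.one_apply]))
  refine ⟨x, x.2, mul_inv_eq_iff_eq_mul.1 ?_⟩
  have h1 := hσ 1 x
  rwa [pow_one, pow_one, hx, eq_comm] at h1

theorem not_dvd_of_unique_commute {q : ℕ} [Fact q.Prime] (hy : orderOf y = q)
    (hP : ∀ x, P x → P (y * x * y⁻¹)) (h1 : P 1) (huniq : ∀ x, P x → y * x = x * y → x = 1) :
    ¬ q ∣ Nat.card {x : G // P x} := by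
  classical
  intro hd
  have := Fintype.ofFinite {x : G // P x}
  obtain ⟨σ, hσ⟩ := exists_conjPerm hP
  have hone : σ ⟨1, h1⟩ = ⟨1, h1⟩ := Subtype.ext (by
    have := hσ 1 ⟨1, h1⟩; rw [pow_one] at this; rw [this]; simp)
  obtain ⟨x, hx, hne⟩ := Equiv.Perm.exists_fixed_point_of_prime' (n := 1)
    (by rwa [← Nat.card_eq_fintype_card])
    (show σ ^ q ^ 1 = 1 from Equiv.ext fun x => Subtype.ext (by
      rw [pow_one, hσ, ← hy, pow_orderOf_eq_one, one_mul, inv_one, mul_one, Equiv.Perm.one_apply])) hone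
  refine hne (Subtype.ext (huniq x x.2 (mul_inv_eq_iff_eq_mul.1 ?_)))
  have h2 := hσ 1 x
  rwa [pow_one, pow_one, hx, eq_comm] at h2

end Perm

variable {G Ω : Type u} [Group G] [Finite G] [MulAction G Ω] [Finite Ω]

/-- The elements fixing `a`, `b` inverted by `v`. -/
def Inv (a b : Ω) (v x : G) : Prop := x ∈ pairStab G a b ∧ v * x * v⁻¹ = x⁻¹

/-- The data of `RegKStep`: an evil element commuting with a swapper. -/
structure Ctx (a b : Ω) (v y : G) : Prop where
  nc : NC G Ω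
  ne : a ≠ b
  hv : orderOf v = 2
  va : v • a = b
  evil : Evil a b y
  hyv : y * v = v * y
  perm : ∀ d ∈ pairStab G a b, d ≠ 1 →
    ((∃ t : G, InvAt t a ∧ d * t = t * d) ↔ ∃ w : G, orderOf w = 2 ∧ w • a = b ∧ d * w = w * d)
  torus : ∀ (c s t : G), c ∈ pairStab G a b → c ≠ 1 →
    c * v = v * c → InvAt s a → InvAt t a → s ≠ t → c * s = s * c → c * t = t * c →
    ∃ (A : Subgroup G) (e : ℕ), 2 ≤ e ∧ Nat.card A = 2 ^ e - 1 ∧ (∃ g ∈ A, A = zpowers g) ∧
      (∀ x : G, x ∈ A ↔ x ∈ pairStab G a b ∧ v * x * v⁻¹ = x⁻¹ ∧ c * x = x * c) ∧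
      (∀ d ∈ pairStab G a b, d * v = v * d → d * c * d⁻¹ ∈ zpowers c →
        ∃ i < e, ∀ x ∈ A, d * x * d⁻¹ = x ^ 2 ^ i) ∧
      Nat.card {u : G // InvAt u a ∧ c * u = u * c} = 2 ^ e - 1

theorem exists_ctx (hP : PermCharStep.{u}) (hT : TorusStep.{u}) (h : NC G Ω) {a b : Ω} (hab : a ≠ b)
    {y : G} (hy : Evil a b y) : ∃ v, Ctx a b v y := by
  obtain ⟨t, ⟨ht, hyt⟩, -⟩ := hy.2.2
  have hy1 : y ≠ 1 := fun e => hy.1.ne_one (by rw [e, orderOf_one])
  obtain ⟨v, hv, hva, hyv⟩ := (hP G Ω h a b hab y hy.2.1 hy1).1 ⟨t, ht, hyt⟩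
  exact ⟨v, h, hab, hv, hva, hy, hyv, hP G Ω h a b hab, fun c s t => hT G Ω h a b hab v c s t hv hva⟩

namespace Ctx

variable {a b : Ω} {v y : G} (h : Ctx a b v y)
include h

theorem vinv : v⁻¹ = v := involution_inv h.hv

theorem odd : Odd (Nat.card (pairStab G a b)) := h.nc.setting.odd_pairStab h.ne

theorem vb : v • b = a := h.nc.setting.swap_back h.hv h.va

theorem v_mem : v ∈ normalizer (pairStab G a b : Set G) := h.nc.setting.swapper_normalizer h.hv h.va

theorem inv_one' : Inv a b v (1 : G) := ⟨one_mem _, by simp⟩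

theorem inv_inv' {x : G} (hx : Inv a b v x) : Inv a b v x⁻¹ :=
  ⟨inv_mem hx.1, by rw [← conj_inv, hx.2]⟩

theorem inv_pow {x : G} (hx : Inv a b v x) (n : ℕ) : Inv a b v (x ^ n) :=
  ⟨pow_mem hx.1 n, by rw [← conj_pow, hx.2, _root_.inv_pow]⟩

theorem inv_conj {x c : G} (hc : c ∈ pairStab G a b) (hcv : c * v = v * c) (hx : Inv a b v x) :
    Inv a b v (c * x * c⁻¹) := by
  refine ⟨mul_mem (mul_mem hc hx.1) (inv_mem hc), ?_⟩
  have hc' : v * c⁻¹ = c⁻¹ * v := ((Commute.inv_left (show Commute c v from hcv)).eq).symm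
  calc v * (c * x * c⁻¹) * v⁻¹ = (v * c) * x * (c⁻¹ * v⁻¹) := by group
    _ = (c * v) * x * (v⁻¹ * c⁻¹) := by
      rw [← hcv, h.vinv, hc']
    _ = c * (v * x * v⁻¹) * c⁻¹ := by group
    _ = _ := by rw [hx.2]; group

theorem y_mem : y ∈ pairStab G a b := h.evil.2.1

theorem inv_conj_y {x : G} (hx : Inv a b v x) : Inv a b v (y * x * y⁻¹) := h.inv_conj h.y_mem h.hyv hx

theorem conj_v {x : G} (hx : x ∈ pairStab G a b) : v * x * v⁻¹ ∈ pairStab G a b :=
  (mem_normalizer_iff.1 h.v_mem x).1 hx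

/-- An inverted element centralises no swapper. -/
theorem eq_one_of_swapper {x w : G} (hx : Inv a b v x) (hw : orderOf w = 2) (hwa : w • a = b)
    (hc : x * w = w * x) : x = 1 := by
  have hwb := h.nc.setting.swap_back hw hwa
  refine eq_one_of_conj_inv h.odd hx.1 (d := v * w)
    ⟨show (v * w) • a = a by rw [mul_smul, hwa, h.vb], show (v * w) • b = b by rw [mul_smul, hwb, h.va]⟩ ?_
  calc v * w * x * (v * w)⁻¹ = v * (w * x * w⁻¹) * v⁻¹ := by group
    _ = x⁻¹ := by rw [← hc, mul_inv_cancel_right, hx.2]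

/-- An inverted element centralises no involution at `a`. -/
theorem eq_one_of_fix {x t : G} (hx : Inv a b v x) (ht : InvAt t a) (hc : x * t = t * x) : x = 1 := by
  by_contra hne
  obtain ⟨w, hw, hwa, hxw⟩ := (h.perm x hx.1 hne).1 ⟨t, ht, hc⟩
  exact hne (h.eq_one_of_swapper hx hw hwa hxw)

theorem q_prime : (orderOf y).Prime := h.evil.1

/-- The evil element centralises no non trivial inverted element. -/
theorem eq_one_of_commute {x : G} (hx : Inv a b v x) (hc : y * x = x * y) : x = 1 := by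
  obtain ⟨t, ⟨ht, hyt⟩, huniq⟩ := h.evil.2.2
  refine h.eq_one_of_fix hx ht (mul_inv_eq_iff_eq_mul.1 (huniq _ ⟨ht.conj' hx.1.1, ?_⟩))
  exact (((show Commute y x from hc).mul_right (show Commute y t from hyt)).mul_right
    (show Commute y x from hc).inv_right).eq

/-- The inverted elements are as many as the involutions at `a`. -/
theorem card_inv : Nat.card {x : G // Inv a b v x} = Nat.card {t : G // InvAt t a} := by
  rw [← h.nc.setting.card_swap h.ne]
  refine Nat.card_congr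
    { toFun := fun x => ⟨x * v, ?_⟩
      invFun := fun i => ⟨i * v, ?_⟩
      left_inv := fun x => Subtype.ext (by show (x : G) * v * v = x; rw [mul_assoc, involution_sq h.hv, mul_one])
      right_inv := fun i => Subtype.ext (by show (i : G) * v * v = i; rw [mul_assoc, involution_sq h.hv, mul_one]) }
  · have e : ((x : G) * v) • a = b := by rw [mul_smul, h.va]; exact x.2.1.2
    refine ⟨orderOf_eq_two_of (fun e1 => h.ne (by rwa [e1, one_smul] at e)) ?_, e⟩
    calc (x : G) * v * (x * v) = x * (v * x * v⁻¹) * (v * v) := by group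
      _ = 1 := by rw [x.2.2, involution_sq h.hv, mul_one, mul_inv_cancel]
  · obtain ⟨i, hi, hia⟩ := i
    have hib := h.nc.setting.swap_back hi hia
    refine ⟨⟨show (i * v) • a = a by rw [mul_smul, h.va, hib],
      show (i * v) • b = b by rw [mul_smul, h.vb, hia]⟩, ?_⟩
    rw [mul_inv_rev, h.vinv, involution_inv hi, mul_assoc, mul_assoc, involution_sq h.hv, mul_one]

/-- Decomposition of an invariant subgroup into fixed and inverted elements. -/
theorem split {N : Subgroup G} (hN : N ≤ pairStab G a b) (hvN : v ∈ normalizer (N : Set G)) {n : G}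
    (hn : n ∈ N) : ∃ c x : G, c ∈ N ∧ c * v = v * c ∧ Inv a b v x ∧ x ∈ N ∧ n = c * x := by
  set w := (v * n * v⁻¹)⁻¹ * n with hw
  have hwN : w ∈ N := mul_mem (inv_mem ((mem_normalizer_iff.1 hvN n).1 hn)) hn
  have hwI : Inv a b v w := ⟨hN hwN, by
    calc v * w * v⁻¹ = (v * v) * n⁻¹ * (v⁻¹ * n * v⁻¹) := by rw [hw]; group
      _ = n⁻¹ * (v * n * v⁻¹) := by rw [involution_sq h.hv, one_mul, h.vinv]
      _ = w⁻¹ := by rw [hw]; group⟩
  set x := w ^ ((Nat.card (pairStab G a b) + 1) / 2) with hx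
  have hxx : x * x = w := by
    rw [hx, ← ((Commute.refl w).mul_pow _)]
    exact sq_pow_half h.odd hwI.1
  have hxI := h.inv_pow hwI ((Nat.card (pairStab G a b) + 1) / 2)
  refine ⟨n * x⁻¹, x, mul_mem hn (inv_mem (pow_mem hwN _)), ?_, hxI, pow_mem hwN _, by group⟩
  refine (mul_inv_eq_iff_eq_mul.1 ?_).symm
  have e : v * n * v⁻¹ = n * w⁻¹ := by rw [hw]; group
  calc v * (n * x⁻¹) * v⁻¹ = (v * n * v⁻¹) * (v * x * v⁻¹)⁻¹ := by group
    _ = n * x⁻¹ := by
      rw [e, show v * x * v⁻¹ = x⁻¹ from hxI.2, ← hxx]; group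

theorem mem_normalizer_of_fix {N : Subgroup G} (hN : ∀ n ∈ N, y * n * y⁻¹ ∈ N) :
    y ∈ normalizer (N : Set G) := mem_normalizer_of_conj_le hN

/-- The evil element fixes no non trivial inverted coset of an invariant subgroup. -/
theorem mem_of_coset {N : Subgroup G} (hyN : y ∈ normalizer (N : Set G))
    {x : G} (hx : Inv a b v x) (hxN : x ∈ normalizer (N : Set G))
    (hfix : x⁻¹ * (y * x * y⁻¹) ∈ N) : x ∈ N := by
  haveI : Fact (orderOf y).Prime := ⟨h.q_prime⟩
  have h0 : ¬ orderOf y ∣ Nat.card {n : G // Inv a b v n ∧ n ∈ N} :=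
    not_dvd_of_unique_commute rfl (fun n hn => ⟨h.inv_conj_y hn.1, (mem_normalizer_iff.1 hyN n).1 hn.2⟩)
      ⟨h.inv_one', one_mem _⟩ fun n hn hc => h.eq_one_of_commute hn.1 hc
  set k := (Nat.card (pairStab G a b) + 1) / 2 with hk
  set r := x ^ k with hr
  have hrr : r * r = x := by
    rw [hr, ← ((Commute.refl x).mul_pow _)]; exact sq_pow_half h.odd hx.1
  have hrI : Inv a b v r := h.inv_pow hx k
  have hrN : r ∈ normalizer (N : Set G) := pow_mem hxN k
  have e : Nat.card {n : G // Inv a b v n ∧ x⁻¹ * n ∈ N} = Nat.card {n : G // Inv a b v n ∧ n ∈ N} := by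
    refine Nat.card_congr
      { toFun := fun n => ⟨r⁻¹ * n * r⁻¹, ⟨mul_mem (mul_mem (inv_mem hrI.1) n.2.1.1) (inv_mem hrI.1), ?_⟩, ?_⟩
        invFun := fun n => ⟨r * n * r, ⟨mul_mem (mul_mem hrI.1 n.2.1.1) hrI.1, ?_⟩, ?_⟩
        left_inv := fun n => Subtype.ext (by show r * (r⁻¹ * n * r⁻¹) * r = n; group)
        right_inv := fun n => Subtype.ext (by show r⁻¹ * (r * n * r) * r⁻¹ = n; group) }
    · calc v * (r⁻¹ * (n : G) * r⁻¹) * v⁻¹ = (v * r * v⁻¹)⁻¹ * (v * n * v⁻¹) * (v * r * v⁻¹)⁻¹ := by group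
        _ = _ := by rw [hrI.2, n.2.1.2]; group
    · have := (mem_normalizer_iff.1 hrN _).1 n.2.2
      convert this using 1
      simp only [← hrr]; group
    · calc v * (r * (n : G) * r) * v⁻¹ = (v * r * v⁻¹) * (v * n * v⁻¹) * (v * r * v⁻¹) := by group
        _ = _ := by rw [hrI.2, n.2.1.2]; group
    · have := (mem_normalizer_iff''.1 hrN _).1 n.2.2
      convert this using 1
      simp only [← hrr]; group
  rw [← e] at h0
  obtain ⟨n, ⟨hnI, hnN⟩, hc⟩ := exists_commute_of_not_dvd rfl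
    (P := fun n => Inv a b v n ∧ x⁻¹ * n ∈ N) (fun n hn => ⟨h.inv_conj_y hn.1, by
      have h1 := mul_mem hfix ((mem_normalizer_iff.1 hyN _).1 hn.2)
      convert h1 using 1
      group⟩) h0
  rw [h.eq_one_of_commute hnI hc, mul_one] at hnN
  simpa using inv_mem hnN

/-- The inverted elements commuting with a fixed element form a cyclic group. -/
theorem inv_torus {f : G} (hf : f ∈ pairStab G a b) (hfv : f * v = v * f) (hf1 : f ≠ 1) :
    ∃ A : Subgroup G, (∃ g, A = zpowers g) ∧ (∀ x, x ∈ A ↔ Inv a b v x ∧ f * x = x * f) ∧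
      Nat.card A = Nat.card {u : G // InvAt u a ∧ f * u = u * f} := by
  obtain ⟨t, ht, hft⟩ := (h.perm f hf hf1).2 ⟨v, h.hv, h.va, hfv⟩
  by_cases huniq : ∀ s, InvAt s a → f * s = s * f → s = t
  · refine ⟨⊥, ⟨1, zpowers_one_eq_bot.symm⟩, fun x => ⟨fun hx => ?_, fun hx => mem_bot.2 ?_⟩, ?_⟩
    · rw [mem_bot.1 hx]; exact ⟨h.inv_one', by simp⟩
    · have hfx : Commute f x := hx.2
      exact h.eq_one_of_fix hx.1 ht (mul_inv_eq_iff_eq_mul.1 (huniq _ (ht.conj' hx.1.1.1)
        ((hfx.mul_right (show Commute f t from hft)).mul_right hfx.inv_right).eq))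
    · rw [card_bot]
      haveI : Unique {u : G // InvAt u a ∧ f * u = u * f} :=
        ⟨⟨⟨t, ht, hft⟩⟩, fun u => Subtype.ext (huniq _ u.2.1 u.2.2)⟩
      exact Nat.card_unique.symm
  · push Not at huniq
    obtain ⟨s, hs, hfs, hst⟩ := huniq
    obtain ⟨A, e, -, hA, ⟨g, -, hg⟩, hmem, -, hcard⟩ := h.torus f s t hf hf1 hfv hs ht hst hfs hft
    exact ⟨A, ⟨g, hg⟩, fun x => (hmem x).trans (by simp only [Inv, and_assoc]), hA.trans hcard.symm⟩

theorem commute_of_torus {f x z : G} (hf : f ∈ pairStab G a b) (hfv : f * v = v * f) (hf1 : f ≠ 1)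
    (hx : Inv a b v x) (hfx : f * x = x * f) (hz : Inv a b v z) (hfz : f * z = z * f) :
    x * z = z * x := by
  obtain ⟨A, ⟨g, rfl⟩, hA, -⟩ := h.inv_torus hf hfv hf1
  obtain ⟨i, rfl⟩ := mem_zpowers_iff.1 ((hA x).2 ⟨hx, hfx⟩)
  obtain ⟨j, rfl⟩ := mem_zpowers_iff.1 ((hA z).2 ⟨hz, hfz⟩)
  exact ((Commute.refl g).zpow_zpow i j).eq

/-- An element commuting with the swapper and all inverted elements is trivial. -/
theorem eq_one_of_centralizes {f : G} (hf : f ∈ pairStab G a b) (hfv : f * v = v * f)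
    (hall : ∀ x, Inv a b v x → f * x = x * f) : f = 1 := by
  by_contra hf1
  obtain ⟨A, -, hA, hcard⟩ := h.inv_torus hf hfv hf1
  have e : Nat.card A = Nat.card {t : G // InvAt t a} := by
    rw [← h.card_inv]
    exact Nat.card_congr (Equiv.subtypeEquivRight fun x =>
      ⟨fun hx => ((hA x).1 hx).1, fun hx => (hA x).2 ⟨hx, hall x hx⟩⟩)
  refine hf1 (h.nc.cons.faithful_img a b f h.ne hf fun t ht => ?_)
  have hinj : Function.Injective (fun u : {u : G // InvAt u a ∧ f * u = u * f} =>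
      (⟨u, u.2.1⟩ : {t : G // InvAt t a})) := fun u w e => Subtype.ext (congrArg Subtype.val e :)
  obtain ⟨u, hu⟩ := (hinj.bijective_of_nat_card_le (le_of_eq (e.symm.trans hcard))).2 ⟨t, ht⟩
  rw [← show (u : G) = t from congrArg Subtype.val hu]
  exact u.2.2

/-- An invariant inverted subgroup is abelian. -/
theorem comm_of_inverted {J : Subgroup G} (hJ : ∀ j ∈ J, Inv a b v j) {x z : G} (hx : x ∈ J) (hz : z ∈ J) :
    x * z = z * x := by
  have e := (hJ _ (mul_mem hx hz)).2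
  rw [show v * (x * z) * v⁻¹ = (v * x * v⁻¹) * (v * z * v⁻¹) by group, (hJ x hx).2, (hJ z hz).2] at e
  have := congrArg Inv.inv e
  simp only [mul_inv_rev, inv_inv] at this
  exact this.symm

/-- An inverted element centralises an inverted subgroup which it normalises. -/
theorem commute_inverted {J : Subgroup G} (hJ : ∀ j ∈ J, Inv a b v j) {x : G} (hx : Inv a b v x)
    (hxJ : x ∈ normalizer (J : Set G)) {j : G} (hj : j ∈ J) : x * j = j * x := by
  refine (commute_of_sq h.odd hx.1 (mul_inv_eq_iff_eq_mul.1 ?_)).eq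
  have e := (hJ _ ((mem_normalizer_iff.1 hxJ j).1 hj)).2
  rw [show v * (x * j * x⁻¹) * v⁻¹ = (v * x * v⁻¹) * (v * j * v⁻¹) * (v * x * v⁻¹)⁻¹ by group,
    hx.2, (hJ j hj).2, ← conj_inv, inv_inv] at e
  have e2 : x⁻¹ * j * x = x * j * x⁻¹ := by
    have := congrArg Inv.inv e
    simpa [mul_assoc] using this
  calc x * x * j * (x * x)⁻¹ = x * (x * j * x⁻¹) * x⁻¹ := by group
    _ = j := by rw [← e2]; group

end Ctx

end CfsgLib.Bender.NRegK
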