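import Cfsg.Agent.Lib.Bender.Gen.Sig

/-!
Owner: helper29. Slice G of the general Bender theorem: the sub-slices of the noncommuting case
(`notes/bender_noncomm_helper29.md`, G0-G5).
-/

set_option autoImplicit false
set_option linter.style.haveILetI false
set_option linter.unusedSectionVars false

namespace CfsgLib.Bender

open Subgroup MulAction

universe u

/-- The standing hypotheses of the noncommuting case. -/
structure NC (G Ω : Type u) [Group G] [Finite G] [MulAction G Ω] [Finite Ω] : Prop where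
  setting : Setting0 G Ω
  faith : Faithful G Ω
  ih : IH.{u} (Nat.card G)
  localOK : LocalOK G Ω
  noTwo : NoTwo G Ω
  sr : SR G Ω
  cons : SRCons G Ω
  not_comm : ¬ CommMod G Ω

variable {G Ω : Type*} [Group G] [Finite G] [MulAction G Ω] [Finite Ω]

/-- An element of prime order fixing `a`, `b` and centralising exactly one involution at `a`. -/
def Evil (a b : Ω) (y : G) : Prop :=
  (orderOf y).Prime ∧ y ∈ pairStab G a b ∧ ∃! t : G, InvAt t a ∧ y * t = t * y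

/-- A subgroup with no transfer onto a quotient of its two-point stabiliser. -/
structure Residual (a b : Ω) (M₀ : Subgroup G) : Prop where
  le : M₀ ≤ stabilizer G a
  two_mem : ∀ g : G, g • a = a → (∃ k : ℕ, g ^ 2 ^ k = 1) → g ∈ M₀
  sup : ∀ g : G, g • a = a → ∃ h ∈ M₀, ∃ d ∈ pairStab G a b, g = h * d
  evil : ∃ y ∈ M₀, Evil a b y
  /-- A `q`-element without an evil power lies in the kernel of every map onto a group of order `q`. -/
  kills : ∀ (q : ℕ), q.Prime → ∀ (ξ : ↥(M₀ ⊓ pairStab G a b) →* Multiplicative (ZMod q))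
    (y : ↥(M₀ ⊓ pairStab G a b)), (∃ k : ℕ, y ^ q ^ k = 1) →
    (∀ z ∈ zpowers (y : G), ¬ Evil a b z) → ξ y = 1

/-- The regular abelian normal subgroup of a two-point stabiliser. -/
structure RegK (a b : Ω) (K : Subgroup G) : Prop where
  le : K ≤ pairStab G a b
  normal : pairStab G a b ≤ normalizer (K : Set G)
  comm : ∀ x ∈ K, ∀ y ∈ K, x * y = y * x
  inverted : ∀ v : G, orderOf v = 2 → v • a = b → ∀ x ∈ K, v * x * v⁻¹ = x⁻¹
  /-- `K` is regular on the involutions at `a`. -/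
  regular : ∀ s t : G, InvAt s a → InvAt t a → ∃! x : G, x ∈ K ∧ x * s * x⁻¹ = t
  self_centralizing : ∀ d ∈ pairStab G a b, (∀ x ∈ K, d * x = x * d) → d ∈ K

/-- Sub-slice G0: evil elements exist. -/
def EvilStep : Prop :=
  ∀ (G Ω : Type u) [Group G] [Finite G] [MulAction G Ω] [Finite Ω], NC G Ω →
    ∀ a b : Ω, a ≠ b → ∃ y : G, Evil a b y

/-- Sub-slice G0: the residual subgroup containing a given regular subgroup. -/
def DescentStep : Prop :=
  ∀ (G Ω : Type u) [Group G] [Finite G] [MulAction G Ω] [Finite Ω], NC G Ω →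
    ∀ a b : Ω, a ≠ b → ∀ K : Subgroup G, RegK a b K → ∃ M₀ : Subgroup G, Residual a b M₀ ∧ K ≤ M₀

/-- Sub-slice G1. -/
def PermCharStep : Prop :=
  ∀ (G Ω : Type u) [Group G] [Finite G] [MulAction G Ω] [Finite Ω], NC G Ω →
    ∀ a b : Ω, a ≠ b → ∀ d ∈ pairStab G a b, d ≠ 1 →
      ((∃ t : G, InvAt t a ∧ d * t = t * d) ↔ ∃ v : G, orderOf v = 2 ∧ v • a = b ∧ d * v = v * d)

/-- The elements inverted by `v` commuting with an element of `C(t) ⊓ C(v)` form a cyclic group, on which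
its centraliser and normaliser in `C(v)` act by Galois maps. -/
def TorusStep : Prop :=
  ∀ (G Ω : Type u) [Group G] [Finite G] [MulAction G Ω] [Finite Ω], NC G Ω →
    ∀ a b : Ω, a ≠ b → ∀ (v c s t : G), orderOf v = 2 → v • a = b → c ∈ pairStab G a b → c ≠ 1 →
      c * v = v * c → InvAt s a → InvAt t a → s ≠ t → c * s = s * c → c * t = t * c →
      ∃ (A : Subgroup G) (e : ℕ), 2 ≤ e ∧ Nat.card A = 2 ^ e - 1 ∧ (∃ g ∈ A, A = zpowers g) ∧
        (∀ x : G, x ∈ A ↔ x ∈ pairStab G a b ∧ v * x * v⁻¹ = x⁻¹ ∧ c * x = x * c) ∧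
        (∀ d ∈ pairStab G a b, d * v = v * d → d * c * d⁻¹ ∈ zpowers c →
          ∃ i < e, ∀ x ∈ A, d * x * d⁻¹ = x ^ 2 ^ i) ∧
        Nat.card {u : G // InvAt u a ∧ c * u = u * c} = 2 ^ e - 1

/-- Sub-slice G3. -/
def RegKStep : Prop :=
  ∀ (G Ω : Type u) [Group G] [Finite G] [MulAction G Ω] [Finite Ω], NC G Ω →
    ∀ a b : Ω, a ≠ b → (∃ y : G, Evil a b y) → ∃ K : Subgroup G, RegK a b K

/-- Sub-slice G4: a subgroup of `K` inside every commutator with a nontrivial element fixing an involution. -/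
def SubBStep : Prop :=
  ∀ (G Ω : Type u) [Group G] [Finite G] [MulAction G Ω] [Finite Ω], NC G Ω →
    ∀ a b : Ω, a ≠ b → ∀ (M₀ K : Subgroup G), Residual a b M₀ → RegK a b K → K ≤ M₀ → ∀ t : G, InvAt t a →
      ∃ B : Subgroup G, B ≤ K ∧ B ≠ ⊥ ∧
        ∀ g ∈ M₀ ⊓ pairStab G a b, g ≠ 1 → g * t = t * g → ∀ β ∈ B, ∃ x ∈ K, g * x * g⁻¹ * x⁻¹ = β

/-- Sub-slice G5. -/
def FourierStep : Prop :=
  ∀ (G Ω : Type u) [Group G] [Finite G] [MulAction G Ω] [Finite Ω], NC G Ω →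
    ∀ a b : Ω, a ≠ b → ∀ (M₀ K B : Subgroup G), Residual a b M₀ → RegK a b K → K ≤ M₀ → ∀ t : G, InvAt t a →
      B ≤ K → B ≠ ⊥ →
      (∀ g ∈ M₀ ⊓ pairStab G a b, g ≠ 1 → g * t = t * g → ∀ β ∈ B, ∃ x ∈ K, g * x * g⁻¹ * x⁻¹ = β) →
      False

/-- The noncommuting case from its sub-slices. -/
theorem noncommStep_of (hE : EvilStep.{u}) (hD : DescentStep.{u}) (hK : RegKStep.{u}) (hB : SubBStep.{u})
    (hF : FourierStep.{u}) : NoncommStep.{u} := by
  intro G Ω _ _ _ _ hS hfaith hIH hloc hno hsr hcons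
  by_contra hnc
  have h : NC G Ω := ⟨hS, hfaith, hIH, hloc, hno, hsr, hcons, hnc⟩
  by_cases hΩ : Nonempty Ω
  · obtain ⟨a⟩ := hΩ
    obtain ⟨b, hb⟩ := hS.exists_ne a
    obtain ⟨t, ht⟩ := hS.exists_invAt a
    obtain ⟨K, hKK⟩ := hK G Ω h a b hb.symm (hE G Ω h a b hb.symm)
    obtain ⟨M₀, hM, hKM⟩ := hD G Ω h a b hb.symm K hKK
    obtain ⟨B, h1, h2, h4⟩ := hB G Ω h a b hb.symm M₀ K hM hKK hKM t ht
    exact hF G Ω h a b hb.symm M₀ K B hM hKK hKM t ht h1 h2 h4
  · exact hnc fun {x _ _} _ _ => absurd ⟨x⟩ hΩ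

end CfsgLib.Bender
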