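import Cfsg.Agent.Lib.Bender.Gen.NSubBUnique
import Cfsg.Agent.Lib.Bender.Gen.NSig
import Cfsg.Agent.Lib.Bender.Gen.NDescent
import Cfsg.Agent.Lib.Bender.Gen.NRegKTools

/-!
Owner: helper27. General Bender theorem, slice G4: `SubBStep` from `PermCharStep` and `TorusStep`.
-/

set_option autoImplicit false
set_option linter.style.haveILetI false
set_option linter.unusedSectionVars false

namespace CfsgLib.Bender.NSubB

open Subgroup MulAction
open CfsgLib.PGroups.FixRank (Fix fixedSub)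

universe u

section Common

variable {X : Type*} [Group X] [Finite X] {M : Type*} [CommGroup M] [Finite M] {φ : X →* MulAut M}

/-- The map `x ↦ φ r x * x⁻¹`. -/
def delta (φ : X →* MulAut M) (r : X) : M →* M where
  toFun x := φ r x * x⁻¹
  map_one' := by simp
  map_mul' x y := by rw [map_mul, mul_inv, mul_mul_mul_comm]

theorem delta_pow_mem (r : X) (n : ℕ) : ∀ x : M, delta φ (r ^ n) x ∈ (delta φ r).range := by
  induction n with
  | zero => intro x; simp [delta, one_mem]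
  | succ n ih =>
    intro x
    have e : delta φ (r ^ (n + 1)) x = delta φ (r ^ n) (φ r x) * delta φ r x := by
      show φ (r ^ (n + 1)) x * x⁻¹ = φ (r ^ n) (φ r x) * (φ r x)⁻¹ * (φ r x * x⁻¹)
      rw [pow_succ, map_mul, MulAut.mul_apply, ← mul_assoc, inv_mul_cancel_right]
    rw [e]
    exact mul_mem (ih _) ⟨x, rfl⟩

/-- A nontrivial subgroup inside the commutators with every nontrivial element. -/
theorem Act.exists_common_range (hA : Act φ) :
    ∃ B : Subgroup M, B ≠ ⊥ ∧ ∀ r : X, r ≠ 1 → B ≤ (delta φ r).range := by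
  classical
  obtain ⟨z, hz⟩ := hA.evil
  have hz1 : z ≠ 1 := fun e => hz.1.ne_one (by rw [e, orderOf_one])
  have hM : (⊤ : Subgroup M) ≠ ⊥ := fun e => hz1 (hA.fix_top
    (eq_top_iff.2 fun m hm => by rw [e, mem_bot] at hm; rw [hm]; exact one_mem _))
  have hfree : ∀ r : X, ¬ Fix φ r → (delta φ r).range = ⊤ := by
    intro r hr
    refine MonoidHom.range_eq_top.2 (Finite.injective_iff_surjective.1 ?_)
    refine (injective_iff_map_eq_one _).2 fun x hx => by_contra fun hx1 => hr ⟨x, hx1, ?_⟩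
    exact mul_inv_eq_one.1 hx
  have hprime : ∀ r : X, r ≠ 1 → ∃ s ∈ zpowers r, (orderOf s).Prime := by
    intro r hr
    obtain ⟨p, hp, hpd⟩ := Nat.exists_prime_and_dvd (fun h => hr (orderOf_eq_one_iff.1 h))
    refine ⟨r ^ (orderOf r / p), pow_mem (mem_zpowers r) _, ?_⟩
    have hne : orderOf r / p ≠ 0 := (Nat.div_pos (Nat.le_of_dvd (orderOf_pos r) hpd) hp.pos).ne'
    rw [orderOf_pow_of_dvd hne (Nat.div_dvd_of_dvd hpd), Nat.div_div_self hpd (orderOf_pos r).ne']
    exact hp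
  by_cases hw : ∃ w : X, (orderOf w).Prime ∧ Fix φ w
  · obtain ⟨w, hwp, hwf⟩ := hw
    have hw1 : w ≠ 1 := fun e => hwp.ne_one (by rw [e, orderOf_one])
    refine ⟨(delta φ w).range, fun e => hw1 (hA.fix_top (eq_top_iff.2 fun m _ => ?_)), fun r hr => ?_⟩
    · exact mul_inv_eq_one.1 (mem_bot.1 (e ▸ ⟨m, rfl⟩ : delta φ w m ∈ (⊥ : Subgroup M)))
    by_cases hrf : Fix φ r
    · obtain ⟨s, hs, hsp⟩ := hprime r hr
      have hws : w ∈ zpowers r := zpowers_le.2 hs (hA.unique hsp (fix_of_mem hrf hs) hwp hwf)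
      obtain ⟨n, rfl⟩ : ∃ n : ℕ, r ^ n = w := mem_powers_iff_mem_zpowers.2 hws
      rintro _ ⟨x, rfl⟩
      exact delta_pow_mem r n x
    · rw [hfree r hrf]; exact le_top
  · refine ⟨⊤, hM, fun r hr => ?_⟩
    rw [hfree r fun hrf => hw ?_]
    obtain ⟨s, hs, hsp⟩ := hprime r hr
    exact ⟨s, hsp, fix_of_mem hrf hs⟩

end Common

variable {G Ω : Type u} [Group G] [Finite G] [MulAction G Ω] [Finite Ω]
variable {a b : Ω} {M₀ K : Subgroup G} {v : G}

/-- The swappers of the pair are the conjugates of one of them under `K`. -/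
theorem exists_conj_K (h : NC G Ω) (hab : a ≠ b) (hK : RegK a b K) (hv : orderOf v = 2) (hva : v • a = b)
    {w : G} (hw : orderOf w = 2) (hwa : w • a = b) : ∃ k ∈ K, k * v * k⁻¹ = w := by
  obtain ⟨t, ht⟩ := h.setting.exists_invAt a
  have hodd : Odd (Nat.card K) := odd_of_le hK.le (h.setting.odd_pairStab hab)
  have hsw : ∀ x : K, orderOf ((x : G) * v * (x : G)⁻¹) = 2 ∧ ((x : G) * v * (x : G)⁻¹) • a = b := by
    intro x
    refine ⟨by rw [CfsgLib.Signalizer.orderOf_conj]; exact hv, ?_⟩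
    rw [mul_smul, mul_smul, inv_smul_eq_iff.2 (show (x : G) • a = a from (hK.le x.2).1).symm, hva]
    exact (hK.le x.2).2
  let f : K → {i : G // orderOf i = 2 ∧ i • a = b} := fun x => ⟨(x : G) * v * (x : G)⁻¹, hsw x⟩
  have hf : Function.Injective f := by
    intro x y e
    have e' : (x : G) * v * (x : G)⁻¹ = (y : G) * v * (y : G)⁻¹ := congrArg Subtype.val e
    have hd : (y : G)⁻¹ * x ∈ K := mul_mem (inv_mem y.2) x.2
    have hc : v * ((y : G)⁻¹ * x) * v⁻¹ = (y : G)⁻¹ * x := by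
      calc v * ((y : G)⁻¹ * x) * v⁻¹ = (y : G)⁻¹ * (((y : G) * v * (y : G)⁻¹) * x) * v⁻¹ := by group
        _ = (y : G)⁻¹ * (((x : G) * v * (x : G)⁻¹) * x) * v⁻¹ := by rw [e']
        _ = (y : G)⁻¹ * x := by group
    have hone : (y : G)⁻¹ * x = 1 :=
      NRegK.eq_one_of_eq_inv hodd hd (hc.symm.trans (hK.inverted v hv hva _ hd))
    exact Subtype.ext (inv_mul_eq_one.1 hone).symm
  let g : K → {s : G // InvAt s a} := fun x => ⟨(x : G) * t * (x : G)⁻¹, ht.conj' (hK.le x.2).1⟩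
  have hg : Function.Surjective g := fun s => by
    obtain ⟨x, ⟨hx, e⟩, -⟩ := hK.regular t s ht s.2
    exact ⟨⟨x, hx⟩, Subtype.ext e⟩
  have hcard : Nat.card {i : G // orderOf i = 2 ∧ i • a = b} ≤ Nat.card K := by
    rw [h.setting.card_swap hab]
    exact Nat.card_le_card_of_surjective g hg
  obtain ⟨x, hx⟩ := (hf.bijective_of_nat_card_le hcard).2 ⟨w, hw, hwa⟩
  exact ⟨x, x.2, congrArg Subtype.val hx⟩

/-- The acting group. -/
abbrev actGroup (a b : Ω) (M₀ : Subgroup G) (v : G) : Subgroup G :=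
  M₀ ⊓ pairStab G a b ⊓ centralizer {v}

theorem actGroup_le_normalizer (hK : RegK a b K) : actGroup a b M₀ v ≤ normalizer (K : Set G) :=
  (inf_le_left.trans inf_le_right).trans hK.normal

/-- The conjugation action on `K`. -/
noncomputable def phi (hK : RegK a b K) : actGroup a b M₀ v →* MulAut K :=
  (normalizerMonoidHom K).comp (inclusion (actGroup_le_normalizer hK))

theorem phi_apply (hK : RegK a b K) (x : actGroup a b M₀ v) (m : K) :
    ((phi hK x m : K) : G) = (x : G) * m * (x : G)⁻¹ := rfl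

theorem actGroup_commute {x : G} (hx : x ∈ actGroup a b M₀ v) : x * v = v * x :=
  mem_centralizer_singleton_iff.1 hx.2

/-- The group `C(v) ⊓ M₀ ⊓ D` satisfies the hypotheses `Act`. -/
theorem exists_act (hP : PermCharStep.{u}) (hT : TorusStep.{u}) (h : NC G Ω) (hab : a ≠ b)
    (hM : Residual a b M₀) (hK : RegK a b K) (hKM : K ≤ M₀) (hv : orderOf v = 2) (hva : v • a = b) :
    let _i : CommGroup K :=
      { (inferInstance : Group K) with mul_comm := fun x y => Subtype.ext (hK.comm x x.2 y y.2) }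
    Act (phi (M₀ := M₀) (v := v) hK) := by
  intro _i
  classical
  have hodd := h.setting.odd_pairStab hab
  set φ := phi (M₀ := M₀) (v := v) hK with hφ
  have hfixed : ∀ (x : actGroup a b M₀ v) (m : K), φ x m = m ↔ (x : G) * m = m * x := fun x m => by
    rw [← mul_inv_eq_iff_eq_mul, Subtype.ext_iff, hφ, phi_apply]
  have hDmem : ∀ x : actGroup a b M₀ v, (x : G) ∈ pairStab G a b := fun x => x.2.1.2
  have hinvt : ∀ x : actGroup a b M₀ v, x ≠ 1 → ∃ t : G, InvAt t a ∧ (x : G) * t = t * x := fun x hx =>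
    (hP G Ω h a b hab x (hDmem x) fun e => hx (Subtype.ext e)).2 ⟨v, hv, hva, actGroup_commute x.2⟩
  -- an element of `K` moving one commuting involution to another is fixed
  have hregfix : ∀ (x : actGroup a b M₀ v) (t u : G), InvAt t a → InvAt u a → (x : G) * t = t * x →
      (x : G) * u = u * x → ∀ m : K, (m : G) * t * (m : G)⁻¹ = u → φ x m = m := by
    intro x t u ht hu hxt hxu m hm
    obtain ⟨k, -, huniq⟩ := hK.regular t u ht hu
    refine Subtype.ext ((huniq _ ⟨(φ x m).2, ?_⟩).trans (huniq _ ⟨m.2, hm⟩).symm)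
    rw [hφ, phi_apply]
    calc (x : G) * m * (x : G)⁻¹ * t * ((x : G) * m * (x : G)⁻¹)⁻¹
        = (x : G) * m * ((x : G)⁻¹ * (t * x)) * (m : G)⁻¹ * (x : G)⁻¹ := by group
      _ = (x : G) * ((m : G) * t * (m : G)⁻¹) * (x : G)⁻¹ := by rw [← hxt]; group
      _ = u := by rw [hm, hxu, mul_inv_cancel_right]
  have hcomm_conj : ∀ (x : actGroup a b M₀ v) (t : G) (m : K), (x : G) * t = t * x → φ x m = m →
      (x : G) * ((m : G) * t * (m : G)⁻¹) = (m : G) * t * (m : G)⁻¹ * x := fun x t m hxt hm =>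
    (((show Commute (x : G) m from (hfixed x m).1 hm).mul_right (show Commute (x : G) t from hxt)).mul_right
      (show Commute (x : G) m from (hfixed x m).1 hm).inv_right).eq
  have hconj_ne : ∀ (t : G) (m : K), InvAt t a → m ≠ 1 → (m : G) * t * (m : G)⁻¹ ≠ t := by
    intro t m ht hm1 e
    obtain ⟨k, -, huniq⟩ := hK.regular t t ht ht
    exact hm1 (Subtype.ext ((huniq _ ⟨m.2, e⟩).trans (huniq _ ⟨one_mem _, by simp⟩).symm))
  have hevil : ∀ x : actGroup a b M₀ v, IsEvil φ x ↔ Evil a b (x : G) := by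
    intro x
    unfold IsEvil Evil
    rw [← Subgroup.orderOf_coe]
    refine and_congr_right fun hp => ?_
    have hx1 : x ≠ 1 := fun e => hp.ne_one (by rw [e, coe_one, orderOf_one])
    constructor
    · intro hfree
      obtain ⟨t, ht, hxt⟩ := hinvt x hx1
      refine ⟨hDmem x, t, ⟨ht, hxt⟩, fun u hu => ?_⟩
      obtain ⟨k, ⟨hk, e⟩, -⟩ := hK.regular t u ht hu.1
      have hk1 : (⟨k, hk⟩ : K) = 1 := by
        by_contra hne
        exact hfree ⟨_, hne, hregfix x t u ht hu.1 hxt hu.2 ⟨k, hk⟩ e⟩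
      rw [show k = 1 from congrArg Subtype.val hk1] at e
      simpa using e.symm
    · rintro ⟨-, t, ⟨ht, hxt⟩, huniq⟩ ⟨m, hm1, hm⟩
      exact hconj_ne t m ht hm1 (huniq _ ⟨ht.conj' (hK.le m.2).1, hcomm_conj x t m hxt hm⟩)
  -- the torus of an element with fixed points
  have htorus : ∀ x : actGroup a b M₀ v, x ≠ 1 → Fix φ x → ∃ (A : Subgroup G) (e : ℕ), 2 ≤ e ∧
      IsCyclic A ∧ Nat.card (fixedSub φ x) = 2 ^ e - 1 ∧ (∀ m ∈ fixedSub φ x, (m : G) ∈ A) ∧
      (∀ d ∈ pairStab G a b, d * v = v * d → d * x * d⁻¹ ∈ zpowers (x : G) →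
        ∃ i < e, ∀ y ∈ A, d * y * d⁻¹ = y ^ 2 ^ i) := by
    rintro x hx ⟨m, hm1, hm⟩
    obtain ⟨t, ht, hxt⟩ := hinvt x hx
    have hx1 : (x : G) ≠ 1 := fun e => hx (Subtype.ext e)
    obtain ⟨A, e, he, -, ⟨g, -, hg⟩, hAmem, hgal, hcard⟩ := hT G Ω h a b hab v x
      ((m : G) * t * (m : G)⁻¹) t hv hva (hDmem x) hx1 (actGroup_commute x.2) (ht.conj' (hK.le m.2).1) ht
      (hconj_ne t m ht hm1) (hcomm_conj x t m hxt hm) hxt
    refine ⟨A, e, he, hg ▸ isCyclic_zpowers g, ?_, fun n hn => (hAmem n).2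
      ⟨hK.le n.2, hK.inverted v hv hva n n.2, (hfixed x n).1 hn⟩, hgal⟩
    rw [← hcard]
    let f : fixedSub φ x → {u : G // InvAt u a ∧ (x : G) * u = u * x} := fun n =>
      ⟨((n : K) : G) * t * ((n : K) : G)⁻¹, ht.conj' (hK.le (n : K).2).1, hcomm_conj x t n hxt n.2⟩
    refine Nat.card_congr (Equiv.ofBijective f ⟨fun n n' e => ?_, fun u => ?_⟩)
    · obtain ⟨k, -, huniq⟩ := hK.regular t ((f n : G)) ht (f n).2.1
      refine Subtype.ext (Subtype.ext ((huniq _ ⟨(n : K).2, rfl⟩).trans (huniq _ ⟨(n' : K).2, ?_⟩).symm))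
      exact (congrArg Subtype.val e).symm
    · obtain ⟨k, ⟨hk, e⟩, -⟩ := hK.regular t u ht u.2.1
      exact ⟨⟨⟨k, hk⟩, hregfix x t u ht u.2.1 hxt u.2.2 ⟨k, hk⟩ e⟩, Subtype.ext e⟩
  refine ⟨odd_of_le (inf_le_left.trans inf_le_right) hodd, ?_, ?_, ?_, ?_, ?_⟩
  · -- faithful
    refine (injective_iff_map_eq_one _).2 fun x hx => ?_
    have hxK : (x : G) ∈ K := hK.self_centralizing x (hDmem x) fun k hk =>
      (hfixed x ⟨k, hk⟩).1 (by rw [hx]; rfl)
    refine Subtype.ext (NRegK.eq_one_of_eq_inv (odd_of_le hK.le hodd) hxK ?_)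
    have e := hK.inverted v hv hva x hxK
    rwa [← actGroup_commute x.2, mul_inv_cancel_right] at e
  · intro x hx hf
    obtain ⟨A, e, he, hA, hcard, hmem, -⟩ := htorus x hx hf
    haveI := hA
    exact ⟨isCyclic_of_injective
      ((K.subtype.comp (fixedSub φ x).subtype).codRestrict A fun n => hmem n n.2)
      (fun n n' e => Subtype.ext (Subtype.ext (congrArg (fun z : A => (z : G)) e :))), e, he, hcard⟩
  · intro x hx d hd hf
    obtain ⟨A, e, -, -, -, hmem, hgal⟩ := htorus x hx hf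
    obtain ⟨i, -, hi⟩ := hgal d (hDmem d) (actGroup_commute d.2) (by
      obtain ⟨j, hj⟩ := hd
      exact ⟨j, by simpa using congrArg Subtype.val hj⟩)
    refine ⟨i, fun m hm => Subtype.ext ?_⟩
    rw [hφ, phi_apply, hi m (hmem m hm), SubmonoidClass.coe_pow]
  · -- an evil element
    obtain ⟨y, hyM, hy⟩ := hM.evil
    obtain ⟨t, ⟨ht, hyt⟩, -⟩ := hy.2.2
    obtain ⟨w, hw, hwa, hyw⟩ :=
      (hP G Ω h a b hab y hy.2.1 fun e => hy.1.ne_one (by rw [e, orderOf_one])).1 ⟨t, ht, hyt⟩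
    obtain ⟨k, hk, hkw⟩ := exists_conj_K h hab hK hv hva hw hwa
    have hmem : k⁻¹ * y * k⁻¹⁻¹ ∈ pairStab G a b :=
      mul_mem (mul_mem (inv_mem (hK.le hk)) hy.2.1) (inv_mem (inv_mem (hK.le hk)))
    have hX : k⁻¹ * y * k⁻¹⁻¹ ∈ actGroup a b M₀ v := by
      refine ⟨Subgroup.mem_inf.2 ⟨mul_mem (mul_mem (inv_mem (hKM hk)) hyM) (inv_mem (inv_mem (hKM hk))), hmem⟩,
        mem_centralizer_singleton_iff.2 ?_⟩
      calc k⁻¹ * y * k⁻¹⁻¹ * v = k⁻¹ * (y * (k * v * k⁻¹)) * k := by group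
        _ = k⁻¹ * ((k * v * k⁻¹) * y) * k := by rw [hkw, hyw]
        _ = v * (k⁻¹ * y * k⁻¹⁻¹) := by group
    exact ⟨⟨_, hX⟩, (hevil _).2
      (NDescent.evil_conj (inv_smul_eq_iff.2 (show k • a = a from (hK.le hk).1).symm) hy hmem)⟩
  · -- the transfer condition
    intro q hq ξ y hy hno
    set D₀ : Subgroup G := M₀ ⊓ pairStab G a b with hD₀
    set N : Subgroup D₀ := K.subgroupOf D₀ with hN
    haveI : N.Normal := normal_subgroupOf_of_le_normalizer (inf_le_right.trans hK.normal)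
    let ψ : actGroup a b M₀ v →* D₀ ⧸ N := (QuotientGroup.mk' N).comp (inclusion inf_le_left)
    have hψ : Function.Bijective ψ := by
      constructor
      · refine (injective_iff_map_eq_one ψ).2 fun x hx => ?_
        have hxK : (x : G) ∈ K := (QuotientGroup.eq_one_iff (N := N) _).1 hx
        refine Subtype.ext (NRegK.eq_one_of_eq_inv (odd_of_le hK.le hodd) hxK ?_)
        have e := hK.inverted v hv hva x hxK
        rwa [← actGroup_commute x.2, mul_inv_cancel_right] at e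
      · intro u
        obtain ⟨⟨g, hg⟩, rfl⟩ := QuotientGroup.mk'_surjective N u
        have hga : g • a = a := hg.2.1
        have hgb : g • b = b := hg.2.2
        obtain ⟨k, hk, hkg⟩ := exists_conj_K h hab hK hv hva
          (w := g * v * g⁻¹) (by rw [CfsgLib.Signalizer.orderOf_conj]; exact hv)
          (by rw [mul_smul, mul_smul, inv_smul_eq_iff.2 hga.symm, hva, hgb])
        have hx : k⁻¹ * g ∈ actGroup a b M₀ v := by
          refine ⟨Subgroup.mem_inf.2 ⟨mul_mem (inv_mem (hKM hk)) hg.1, mul_mem (inv_mem (hK.le hk)) hg.2⟩,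
            mem_centralizer_singleton_iff.2 ?_⟩
          calc k⁻¹ * g * v = k⁻¹ * (g * v * g⁻¹) * g := by group
            _ = k⁻¹ * (k * v * k⁻¹) * g := by rw [hkg]
            _ = v * (k⁻¹ * g) := by group
        refine ⟨⟨_, hx⟩, (QuotientGroup.eq).2 ?_⟩
        show ((k⁻¹ * g)⁻¹ * g) ∈ K
        have e : (k⁻¹ * g)⁻¹ * g = g⁻¹ * k * g⁻¹⁻¹ := by group
        rw [e]
        exact (mem_normalizer_iff.1 (inv_mem (hK.normal hg.2)) k).1 hk
    let π : D₀ →* actGroup a b M₀ v := (MulEquiv.ofBijective ψ hψ).symm.toMonoidHom.comp (QuotientGroup.mk' N)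
    have hπ : π ⟨y, y.2.1⟩ = y := (MulEquiv.ofBijective ψ hψ).symm_apply_apply y
    obtain ⟨j, hj⟩ := hy
    have h1 := hM.kills q hq (ξ.comp π) ⟨y, y.2.1⟩
      ⟨j, Subtype.ext (by simpa using congrArg Subtype.val hj)⟩ fun z hz hze => by
        obtain ⟨i, rfl⟩ := hz
        exact hno (y ^ i) (zpow_mem (mem_zpowers y) i) ((hevil _).2 (by simpa using hze))
    rwa [MonoidHom.comp_apply, hπ] at h1

/-- Slice G4. -/
theorem subBStep_of (hP : PermCharStep.{u}) (hT : TorusStep.{u}) : SubBStep.{u} := by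
  intro G Ω _ _ _ _ h a b hab M₀ K hM hK hKM t ht
  obtain ⟨v, hv, hva⟩ := h.setting.exists_swapper hab
  letI : CommGroup K :=
    { (inferInstance : Group K) with mul_comm := fun x y => Subtype.ext (hK.comm x x.2 y y.2) }
  have hA : Act (phi (M₀ := M₀) (v := v) hK) := exists_act hP hT h hab hM hK hKM hv hva
  obtain ⟨B, hB, hBr⟩ := hA.exists_common_range
  refine ⟨B.map K.subtype, map_subtype_le _, fun e => hB ?_, fun g hg hg1 hgt => ?_⟩
  · exact (Subgroup.map_eq_bot_iff_of_injective B K.subtype_injective).1 e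
  obtain ⟨w, hw, hwa, hgw⟩ := (hP G Ω h a b hab g hg.2 hg1).1 ⟨t, ht, hgt⟩
  obtain ⟨k, hk, hkw⟩ := exists_conj_K h hab hK hv hva hw hwa
  have hr : k⁻¹ * g * k ∈ actGroup a b M₀ v := by
    refine ⟨Subgroup.mem_inf.2 ⟨mul_mem (mul_mem (inv_mem (hKM hk)) hg.1) (hKM hk),
      mul_mem (mul_mem (inv_mem (hK.le hk)) hg.2) (hK.le hk)⟩, mem_centralizer_singleton_iff.2 ?_⟩
    calc k⁻¹ * g * k * v = k⁻¹ * (g * (k * v * k⁻¹)) * k := by group
      _ = k⁻¹ * ((k * v * k⁻¹) * g) * k := by rw [hkw, hgw]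
      _ = v * (k⁻¹ * g * k) := by group
  have hr1 : (⟨_, hr⟩ : actGroup a b M₀ v) ≠ 1 := fun e => hg1 (by
    have e' : k⁻¹ * g * k = 1 := congrArg Subtype.val e
    calc g = k * (k⁻¹ * g * k) * k⁻¹ := by group
      _ = 1 := by rw [e']; group)
  rintro _ ⟨β, hβ, rfl⟩
  obtain ⟨x, rfl⟩ := hBr _ hr1 hβ
  refine ⟨x, x.2, ?_⟩
  show g * x * g⁻¹ * (x : G)⁻¹ = k⁻¹ * g * k * x * (k⁻¹ * g * k)⁻¹ * (x : G)⁻¹
  have hgx : g * x * g⁻¹ ∈ K := (mem_normalizer_iff.1 (hK.normal hg.2) _).1 x.2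
  have e1 : k * x * k⁻¹ = (x : G) := by rw [hK.comm k hk x x.2, mul_inv_cancel_right]
  have e2 : k⁻¹ * (g * x * g⁻¹) * k = g * x * g⁻¹ := by
    rw [hK.comm k⁻¹ (inv_mem hk) _ hgx, inv_mul_cancel_right]
  calc g * x * g⁻¹ * (x : G)⁻¹ = k⁻¹ * (g * x * g⁻¹) * k * (x : G)⁻¹ := by rw [e2]
    _ = k⁻¹ * (g * (k * x * k⁻¹) * g⁻¹) * k * (x : G)⁻¹ := by rw [e1]
    _ = _ := by group

end CfsgLib.Bender.NSubB

namespace CfsgLib.Bender

universe u

/-- Slice G4: a subgroup of `K` inside all commutators with elements fixing an involution. -/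
theorem subBStep (hP : PermCharStep.{u}) (hT : TorusStep.{u}) : SubBStep.{u} := NSubB.subBStep_of hP hT

end CfsgLib.Bender
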