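import Cfsg.Agent.Lib.Bender.Gen.Assembly
import Cfsg.Agent.Lib.Bender.Gen.NRegK
import Cfsg.Agent.Lib.Bender.Gen.NFourier
import Cfsg.Agent.Lib.Bender.Gen.NSubB

/-!
Owner: helper29. The general Bender theorem.
-/

set_option autoImplicit false

namespace CfsgLib.Bender

universe u

/-- Bender's theorem: a group of 2-rank at least two with a strongly embedded subgroup acts as a rank one group. -/
theorem benderGen : BenderGen.{u} :=
  benderGen_of_noncomm (regKStep permCharStep torusStep) (subBStep permCharStep torusStep) fourierStep

end CfsgLib.Bender
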