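import Cfsg.Agent.Lib.Bender.Gen.Local

/-!
Owner: helper24. General Bender theorem, slice E: the induction, from the steps of the other slices.
-/

set_option autoImplicit false
set_option linter.style.haveILetI false
set_option linter.unusedSectionVars false

namespace CfsgLib.Bender

open Subgroup MulAction
open CfsgLib.Signalizer (involution_sq involution_inv orderOf_eq_two_of involution_ne_one)

universe u

/-- If the involutions at a point commute modulo the core of some subgroup containing them, they commute modulo the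
core of the stabiliser. -/
theorem noTwo_of_not_commMod {G : Type u} {Ω : Type*} [Group G] [Finite G] [MulAction G Ω] [Finite Ω]
    (hS : Setting0 G Ω) (hloc : LocalOK G Ω) (hnc : ¬ CommMod G Ω) : NoTwo G Ω := by
  intro N w hN hall i hi hi2
  by_contra hiw
  refine hnc fun {x s t} hs ht => ?_
  obtain ⟨e, f, he, hf, hne, hef⟩ := hS.four w
  have hL := hloc N w ⟨hN, ⟨e, f, hall e he, hall f hf, he, hf, hne, hef⟩, ⟨i, hi, hi2, hiw⟩⟩
  -- the subgroup generated by the involutions at `w`
  set J := Subgroup.closure {r : G | InvAt r w} with hJ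
  have hJw : J ≤ stabilizer G w := (closure_le _).2 fun r hr => hr.2
  have hJN : J ≤ N := (closure_le _).2 fun r hr => hall r hr
  have hJn : stabilizer G w ≤ normalizer (J : Set G) := by
    intro g hg
    refine mem_normalizer_of_map_conj_eq (le_antisymm ?_ ?_) <;> rw [hJ, MonoidHom.map_closure]
    · refine closure_mono ?_
      rintro _ ⟨r, hr, rfl⟩
      exact hr.conj' hg
    · refine closure_mono fun r hr => ⟨g⁻¹ * r * g, ?_, by simp [mul_assoc]⟩
      have := InvAt.conj' hr (g := g⁻¹) (inv_smul_eq_iff.2 (show g • w = w from hg).symm)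
      rwa [inv_inv] at this
  set R : Subgroup G := (Cfsg.oddCore J).map J.subtype with hR
  have hRn : stabilizer G w ≤ normalizer (R : Set G) := by
    intro g hg
    have hgJ := hJn hg
    let φ : J ≃* J :=
      { toFun := fun r => ⟨g * r * g⁻¹, (mem_normalizer_iff.1 hgJ r).1 r.2⟩
        invFun := fun r => ⟨g⁻¹ * r * g, (mem_normalizer_iff''.1 hgJ r).1 r.2⟩
        left_inv := fun r => Subtype.ext (by simp [mul_assoc])
        right_inv := fun r => Subtype.ext (by simp [mul_assoc])
        map_mul' := fun r r' => Subtype.ext (by simp [mul_assoc]) }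
    have hφ : (Cfsg.oddCore J).map φ.toMonoidHom = Cfsg.oddCore J := by
      refine Subgroup.eq_of_le_of_card_ge (CfsgLib.ZStar.le_oddCore
        ((inferInstance : (Cfsg.oddCore J).Normal).map _ φ.surjective) ?_) ?_
      · rw [Subgroup.card_map_of_injective φ.injective]; exact CfsgLib.ZStar.odd_card_oddCore _
      · rw [Subgroup.card_map_of_injective φ.injective]
    refine mem_normalizer_of_map_conj_eq ?_
    rw [hR, Subgroup.map_map]
    conv_rhs => rw [← hφ, Subgroup.map_map]
    exact congrArg (fun f => Subgroup.map f _) (MonoidHom.ext fun r => rfl)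
  have hRcore : R ≤ core G w := by
    refine le_core ((map_subtype_le _).trans hJw) hRn ?_
    exact (CfsgLib.ZStar.odd_card_oddCore J).of_dvd_nat (Subgroup.card_map_dvd _ _)
  have hcomm : ∀ a b : G, InvAt a w → InvAt b w → a * b * a * b ∈ core G w := by
    intro a b ha hb
    have haJ : a ∈ J := subset_closure ha
    have hbJ : b ∈ J := subset_closure hb
    have h1 := hL.comm a b (hall a ha) (hall b hb) ha hb
    refine hRcore ⟨⟨_, mul_mem (mul_mem (mul_mem haJ hbJ) haJ) hbJ⟩, ?_, rfl⟩
    haveI : ((coreIn N w).subgroupOf J).Normal := normal_subgroupOf_of_le_normalizer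
      fun z hz => coreIn_normal N w ⟨hJN hz, hJw hz⟩
    refine CfsgLib.ZStar.le_oddCore (N := (coreIn N w).subgroupOf J) inferInstance ?_ (mem_subgroupOf.2 h1)
    refine (coreIn_odd N w).of_dvd_nat ?_
    rw [Nat.card_congr (Subgroup.equivMapOfInjective _ _ J.subtype_injective).toEquiv]
    exact card_dvd_of_le (by rintro _ ⟨y, hy, rfl⟩; exact hy)
  obtain ⟨g, rfl⟩ := hS.trans w x
  have hs' := hs.conj g⁻¹
  have ht' := ht.conj g⁻¹
  rw [inv_smul_smul, inv_inv] at hs' ht'
  have h := core_smul_mem g (hcomm _ _ hs' ht')
  simpa [mul_assoc] using h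

/-- **The induction.** The general Bender theorem from its steps. -/
theorem benderGen_of_steps (hT : TemplateStep.{u}) (hUM : UMStep.{u}) (hSR : SRStep.{u}) (hCons : ConsStep.{u})
    (hComm : CommStep.{u}) (hNC : NoncommStep.{u}) : BenderGen.{u} := by
  suffices h : ∀ m, IH.{u} m from fun G _ _ M hM hfour => h (Nat.card G + 1) G (Nat.lt_succ_self _) M hM hfour
  intro m
  induction m using Nat.strong_induction_on with
  | _ m ih =>
    intro G _ _ hlt M hM hfour
    have hIH : IH.{u} (Nat.card G) := ih _ hlt
    by_cases hK : M.normalCore = ⊥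
    · have hfaith : Faithful G (G ⧸ M) := fun g hg => by
        have h : g ∈ M.normalCore := by
          rw [Subgroup.normalCore_eq_ker, MonoidHom.mem_ker]
          exact Equiv.ext hg
        rwa [hK, mem_bot] at h
      have h0 := setting0_of_stronglyEmbedded hM hfour
      have hloc := localStep G (G ⧸ M) h0 hIH
      have hc : CommMod G (G ⧸ M) := by
        by_contra hnc
        have hno := noTwo_of_not_commMod h0 hloc hnc
        have hsr := hSR G _ h0 (hUM G _ h0 hfaith hloc hno (hT G _ h0 hfaith hno))
        exact hnc (hNC G _ h0 hfaith hIH hloc hno hsr (hCons G _ h0 hfaith hloc hno hsr))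
      exact ⟨h0.toSetting hc, hComm G _ (h0.toSetting hc) hfaith hIH _⟩
    · obtain ⟨hS', hsol'⟩ := hIH (G ⧸ M.normalCore) (CfsgLib.Core.card_quotient_lt _ hK) _
        (quot_stronglyEmbedded hM) (quot_four hM hfour)
      exact ⟨setting_of_quot hM hfour hS', solvMod_of_quot hM hfour hsol'⟩

end CfsgLib.Bender
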