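import Cfsg.Agent.Lib.Bender.Gen.Quot
import Cfsg.Agent.Lib.Bender.Gen.Main
import Cfsg.Agent.Lib.Bender.Main
import Cfsg.Agent.Lib.LocalEven.StronglyEmbedded
import Cfsg.Agent.Lib.ZStar.Apps
import Cfsg.Agent.Lib.Core.UniqueOrderP
import Cfsg.Agent.S0205

/-!
Owner: helper24. General Bender theorem, slice E: the statements that follow from `BenderGen`.
-/

set_option autoImplicit false
set_option linter.style.haveILetI false
set_option linter.unusedSectionVars false

namespace CfsgLib.Bender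

open Subgroup MulAction
open CfsgLib.Signalizer (involution_sq involution_inv orderOf_eq_two_of involution_ne_one)

universe u

/-- Two commuting involutions are equal. -/
def RankOne (G : Type*) [Group G] : Prop :=
  ∀ s t : G, orderOf s = 2 → orderOf t = 2 → s * t = t * s → s = t

section Basic

variable {G : Type u} [Group G] [Finite G] {M : Subgroup G}

theorem spe_of_se (hM : Cfsg.IsStronglyEmbedded M) : Cfsg.IsStronglyPEmbedded 2 M := by
  haveI : Fact (Nat.Prime 2) := ⟨Nat.prime_two⟩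
  exact CfsgLib.LocalEven.stronglyPEmbedded_iff_disjoint.2 ⟨hM.1, even_iff_two_dvd.1 hM.2.1,
    fun g hg h => Nat.not_even_iff_odd.2 (hM.2.2 g hg) (even_iff_two_dvd.2 h)⟩

theorem se_of_spe (hM : Cfsg.IsStronglyPEmbedded 2 M) : Cfsg.IsStronglyEmbedded M := by
  haveI : Fact (Nat.Prime 2) := ⟨Nat.prime_two⟩
  obtain ⟨h1, h2, h3⟩ := CfsgLib.LocalEven.stronglyPEmbedded_iff_disjoint.1 hM
  exact ⟨h1, even_iff_two_dvd.2 h2,
    fun g hg => Nat.not_even_iff_odd.1 fun h => h3 g hg (even_iff_two_dvd.1 h)⟩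

theorem mem_of_commute_involution (hM : Cfsg.IsStronglyEmbedded M) {t g : G} (ht : orderOf t = 2) (htM : t ∈ M)
    (h : g * t = t * g) : g ∈ M := by
  have h1 : t • ((1 : G) : G ⧸ M) = ((1 : G) : G ⧸ M) := (invAt_base.2 ⟨ht, htM⟩).2
  have h2 : t • (g • ((1 : G) : G ⧸ M)) = g • ((1 : G) : G ⧸ M) := by rw [← mul_smul, ← h, mul_smul, h1]
  have h3 := CfsgLib.TwoGroups.SE.fixed_unique hM ht h2 h1
  rwa [← mem_stabilizer_iff, stab_base] at h3

/-- Two commuting involutions have the same fixed point. -/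
theorem invAt_of_commute (hM : Cfsg.IsStronglyEmbedded M) {s t : G} (hs : orderOf s = 2) {x : G ⧸ M}
    (hx : s • x = x) (ht : orderOf t = 2) (h : t * s = s * t) : InvAt t x :=
  ⟨ht, CfsgLib.TwoGroups.SE.fixed_unique hM hs (show s • t • x = t • x by rw [← mul_smul, ← h, mul_smul, hx]) hx⟩

theorem four_of_not_rankOne (hM : Cfsg.IsStronglyEmbedded M) (h : ¬ RankOne G) :
    ∃ s ∈ M, ∃ t ∈ M, orderOf s = 2 ∧ orderOf t = 2 ∧ s ≠ t ∧ s * t = t * s := by
  simp only [RankOne, not_forall] at h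
  obtain ⟨s, t, hs, ht, hc, hne⟩ := h
  obtain ⟨x, hx⟩ := CfsgLib.TwoGroups.SE.exists_fixed hM hs
  have ht' := invAt_of_commute hM hs hx ht hc.symm
  obtain ⟨g, rfl⟩ := MulAction.exists_smul_eq G ((1 : G) : G ⧸ M) x
  have h1 := InvAt.conj (show InvAt s _ from ⟨hs, hx⟩) g⁻¹
  have h2 := InvAt.conj ht' g⁻¹
  rw [inv_smul_smul] at h1 h2
  refine ⟨_, (invAt_base.1 h1).2, _, (invAt_base.1 h2).2, h1.1, h2.1, fun e => hne ?_, ?_⟩
  · exact mul_left_cancel (mul_right_cancel e)
  · simp only [inv_inv, mul_assoc, mul_inv_cancel_left]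
    rw [← mul_assoc s t, hc, mul_assoc]

/-- In rank one a 2-subgroup has only one involution. -/
theorem RankOne.unique (hr : RankOne G) {P : Subgroup G} (hP : IsPGroup 2 P) {s t : G} (hs : s ∈ P) (ht : t ∈ P)
    (hs2 : orderOf s = 2) (ht2 : orderOf t = 2) : s = t := by
  haveI : Fact (Nat.Prime 2) := ⟨Nat.prime_two⟩
  haveI : Nontrivial P := ⟨⟨⟨s, hs⟩, 1, fun e => involution_ne_one hs2 (congrArg Subtype.val e)⟩⟩
  haveI : Nontrivial (center P) := hP.center_nontrivial
  obtain ⟨w, hw⟩ := exists_prime_orderOf_dvd_card' (G := center P) 2 (by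
    obtain ⟨k, hk0, hk⟩ := (hP.to_subgroup _).nontrivial_iff_card.1 ‹_›
    exact hk ▸ dvd_pow_self 2 hk0.ne')
  have hz : orderOf ((w : P) : G) = 2 := by rw [Subgroup.orderOf_coe, Subgroup.orderOf_coe, hw]
  have key : ∀ r ∈ P, orderOf r = 2 → r = ((w : P) : G) := fun r hr' hr2 =>
    hr r _ hr2 hz (congrArg Subtype.val (mem_center_iff.1 w.2 ⟨r, hr'⟩))
  rw [key s hs hs2, key t ht ht2]

theorem RankOne.sylow_shape (hr : RankOne G) (S : Sylow 2 G) :
    IsCyclic S ∨ ∃ m : ℕ, 1 ≤ m ∧ Nonempty ((S : Subgroup G) ≃* QuaternionGroup (2 ^ m)) := by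
  haveI : Fact (Nat.Prime 2) := ⟨Nat.prime_two⟩
  rcases CfsgLib.Core.UniqueOrderP.isCyclic_or_quaternion_of_unique (G := (S : Subgroup G)) S.isPGroup' (by
      intro X Y hX hY
      obtain ⟨x, hx⟩ := exists_prime_orderOf_dvd_card' (G := X) 2 (by rw [hX])
      obtain ⟨y, hy⟩ := exists_prime_orderOf_dvd_card' (G := Y) 2 (by rw [hY])
      have h : (x : (S : Subgroup G)) = (y : (S : Subgroup G)) := Subtype.ext
        (hr.unique S.isPGroup' (x : (S : Subgroup G)).2 (y : (S : Subgroup G)).2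
          (by rw [Subgroup.orderOf_coe, Subgroup.orderOf_coe, hx])
          (by rw [Subgroup.orderOf_coe, Subgroup.orderOf_coe, hy]))
      have hX' : zpowers (x : (S : Subgroup G)) = X := Subgroup.eq_of_le_of_card_ge (zpowers_le.2 x.2)
        (by rw [hX, Nat.card_zpowers, Subgroup.orderOf_coe, hx])
      have hY' : zpowers (y : (S : Subgroup G)) = Y := Subgroup.eq_of_le_of_card_ge (zpowers_le.2 y.2)
        (by rw [hY, Nat.card_zpowers, Subgroup.orderOf_coe, hy])
      rw [← hX', ← hY', h]) with hc | ⟨-, n, ⟨e⟩⟩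
  · exact Or.inl hc
  · rcases n with _ | n
    · haveI : IsCyclic (QuaternionGroup (2 ^ 0)) := QuaternionGroup.quaternionGroup_one_isCyclic
      exact Or.inl (e.isCyclic.2 inferInstance)
    · exact Or.inr ⟨n + 1, Nat.le_add_left 1 n, ⟨e⟩⟩

/-- Brauer-Suzuki and the Z*-theorem: in rank one the odd core and the subgroup generate. -/
theorem RankOne.oddCore_sup (hr : RankOne G) (hM : Cfsg.IsStronglyEmbedded M) : Cfsg.oddCore G ⊔ M = ⊤ := by
  haveI : Fact (Nat.Prime 2) := ⟨Nat.prime_two⟩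
  obtain ⟨u, huM, hu⟩ := CfsgLib.Signalizer.exists_involution_of_even hM.2.1
  have hzp : IsPGroup 2 (zpowers u) := IsPGroup.of_card (n := 1) (by rw [Nat.card_zpowers, hu, pow_one])
  obtain ⟨P, hP⟩ := hzp.exists_le_sylow
  have huP : u ∈ (P : Subgroup G) := hP (mem_zpowers u)
  refine eq_top_iff.2 fun g _ => ?_
  have h := CfsgLib.ZStar.mem_oddCore_of_unique P hu huP (fun x hx hx2 => hr.unique P.isPGroup' hx huP hx2 hu) g
  rw [involution_inv hu, mul_assoc (u * g), mul_assoc u, ← mul_assoc g] at h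
  obtain ⟨w, hw, he⟩ := exists_conj_of_mul_mem (CfsgLib.ZStar.odd_card_oddCore G) hu
    (show orderOf (g * u * g⁻¹) = 2 by rw [CfsgLib.Signalizer.orderOf_conj]; exact hu) h
  have h1 : w⁻¹ * g ∈ M := mem_of_commute_involution hM hu huM (by
    have : g * u = w * u * w⁻¹ * g := by rw [he]; group
    rw [mul_assoc, this]; group)
  have := mul_mem (mem_sup_left (T := M) hw) (mem_sup_right (S := Cfsg.oddCore G) h1)
  rwa [mul_inv_cancel_left] at this

theorem normalCore_le_oddCore (hM : Cfsg.IsStronglyEmbedded M) : M.normalCore ≤ Cfsg.oddCore G :=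
  CfsgLib.ZStar.le_oddCore inferInstance (odd_normalCore hM)

theorem faithful_of_core (hK : M.normalCore = ⊥) : ∀ g : G, (∀ x : G ⧸ M, g • x = x) → g = 1 := fun g hg => by
  have h : g ∈ M.normalCore := by
    rw [Subgroup.normalCore_eq_ker, MonoidHom.mem_ker]
    exact Equiv.ext hg
  rwa [hK, mem_bot] at h

end Basic

section Faith

variable {G Ω : Type u} [Group G] [Finite G] [MulAction G Ω] [Finite Ω] (hS : Setting G Ω)
  (hfaith : ∀ g : G, (∀ x : Ω, g • x = x) → g = 1)
include hS hfaith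

/-- In a faithful setting the core of a stabiliser is trivial. -/
theorem Setting.core_trivial {a : Ω} (hsol : SolvMod G a) (x : Ω) {g : G} (hg : g ∈ core G x) : g = 1 := by
  obtain ⟨c, rfl⟩ := hS.trans a x
  suffices h : ∀ w ∈ core G a, w = 1 by
    have := h (c⁻¹ * g * c⁻¹⁻¹) (by
      have := core_smul_mem c⁻¹ hg
      rwa [inv_smul_smul] at this)
    exact conj_eq_one_iff.1 this
  intro w hw
  obtain ⟨U, hUa, hUn, htr, hfree, hU, -⟩ := hS.exists_regular (smallerOK _) hfaith a hsol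
  have hco : Nat.Coprime (Nat.card U) (Nat.card (core G a)) := by
    rw [hU]; exact Nat.Coprime.pow_left _ (core_odd a).coprime_two_left
  obtain ⟨b, hb⟩ := hS.exists_ne a
  have hwb : w • b ≠ a := fun h => hb (smul_left_cancel w (h.trans (core_smul a hw).symm))
  obtain ⟨u, hu, hub⟩ := htr b (w • b) hb hwb
  have h1 : w * u * w⁻¹ * u⁻¹ = 1 := by
    refine orderOf_eq_one_iff.1 (Nat.eq_one_of_dvd_coprimes hco (U.orderOf_dvd_natCard ?_)
      ((core G a).orderOf_dvd_natCard ?_))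
    · exact mul_mem ((mem_normalizer_iff.1 (hUn (core_le a hw)) u).1 hu) (inv_mem hu)
    · rw [mul_assoc, mul_assoc, ← mul_assoc u]
      exact mul_mem hw (core_conj_mem (hUa hu) (inv_mem hw))
  have h2 : Commute w u := mul_inv_eq_iff_eq_mul.1 (mul_inv_eq_one.1 h1)
  have h3 : ∀ k : ℕ, w ^ k • b = u ^ k • b := by
    intro k
    induction k with
    | zero => simp
    | succ k ih =>
      rw [pow_succ, mul_smul, ← hub, ← mul_smul, (h2.pow_left k).eq, mul_smul, ih, ← mul_smul, ← pow_succ']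
  have h4 := h3 (orderOf w)
  rw [pow_orderOf_eq_one, one_smul] at h4
  have h5 : u ^ orderOf w = 1 := hfree b hb _ (pow_mem hu _) h4.symm
  have h6 : u = 1 := orderOf_eq_one_iff.1 (Nat.eq_one_of_dvd_coprimes hco (U.orderOf_dvd_natCard hu)
    ((orderOf_dvd_of_pow_eq_one h5).trans ((core G a).orderOf_dvd_natCard hw)))
  rw [h6, one_smul] at hub
  exact hS.core_eq_one hfaith hsol hw hb hub.symm

/-- The stabiliser in a faithful setting is solvable. -/
theorem Setting.isSolvable_stabilizer {a : Ω} (hsol : SolvMod G a) : Group.IsSolvable (stabilizer G a) := by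
  haveI : Fact (Nat.Prime 2) := ⟨Nat.prime_two⟩
  obtain ⟨U, hUa, hUn, htr, hfree, hU, -⟩ := hS.exists_regular (smallerOK _) hfaith a hsol
  obtain ⟨b, hb⟩ := hS.exists_ne a
  set H := stabilizer G a with hH
  haveI : (U.subgroupOf H).Normal := normal_subgroupOf_of_le_normalizer hUn
  have hUp : IsPGroup 2 (U.subgroupOf H) :=
    (IsPGroup.of_card (G := U) hU).of_equiv (subgroupOfEquivOfLe hUa).symm
  haveI := hUp.isNilpotent
  set D := pairStab G a b with hD
  have hDodd : Odd (Nat.card D) := hS.odd_pairStab hb.symm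
  set f : D →* H ⧸ U.subgroupOf H := (QuotientGroup.mk' _).comp (Subgroup.inclusion inf_le_left) with hf
  have hfs : Function.Surjective f := by
    intro q
    obtain ⟨h, rfl⟩ := QuotientGroup.mk'_surjective _ q
    have hhb : (h : G) • b ≠ a := fun e => hb (smul_left_cancel (h : G) (e.trans (show (h : G) • a = a from h.2).symm))
    obtain ⟨u, hu, he⟩ := htr ((h : G) • b) b hhb hb
    refine ⟨⟨u * h, mul_mem (hUa hu) h.2, ?_⟩, ?_⟩
    · show (u * h) • b = b
      rw [mul_smul, he]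
    · refine QuotientGroup.eq_iff_div_mem.2 ?_
      simpa [mem_subgroupOf, div_eq_mul_inv, Subgroup.inclusion] using hu
  haveI : Group.IsSolvable D := Cfsg.Agent.S0205.result hDodd
  haveI : Group.IsSolvable (H ⧸ U.subgroupOf H) := Group.isSolvable_of_surjective hfs
  exact Group.isSolvable_of_ker_le_range (U.subgroupOf H).subtype (QuotientGroup.mk' (U.subgroupOf H))
    (by rw [QuotientGroup.ker_mk', Subgroup.range_subtype])

end Faith

section Wiring

variable {G : Type u} [Group G] [Finite G] {M : Subgroup G}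

/-- A group with a four group in the subgroup: the core lies in the normal core. -/
theorem core_le_normalCore (hB : BenderGen.{u}) (hM : Cfsg.IsStronglyEmbedded M)
    (hfour : ∃ s ∈ M, ∃ t ∈ M, orderOf s = 2 ∧ orderOf t = 2 ∧ s ≠ t ∧ s * t = t * s) {w : G}
    (hw : w ∈ core G ((1 : G) : G ⧸ M)) : w ∈ M.normalCore := by
  set π := QuotientGroup.mk' M.normalCore
  obtain ⟨hS', hsol'⟩ := hB (G ⧸ M.normalCore) (M.map π) (quot_stronglyEmbedded hM) (quot_four hM hfour)
  have hK : (M.map π).normalCore = ⊥ := by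
    refine (Subgroup.eq_bot_iff_forall _).2 fun z hz => ?_
    obtain ⟨z, rfl⟩ := QuotientGroup.mk'_surjective _ z
    refine (QuotientGroup.eq_one_iff z).2 fun b => ?_
    have h1 := hz (π b)
    rw [← map_inv, ← map_mul, ← map_mul, mk_mem_map_iff] at h1
    exact h1
  exact (QuotientGroup.eq_one_iff w).1 (hS'.core_trivial (faithful_of_core hK) hsol' _ (mem_core_quot hM hw))

/-- S1220. -/
theorem dichotomy_of_benderGen (hB : BenderGen.{u}) (hM : Cfsg.IsStronglyEmbedded M) :
    (∀ g₁ g₂ : G, g₁ ∉ M → g₂ ∉ M → ∃ h ∈ M, g₂⁻¹ * (h * g₁) ∈ M) ∨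
      ((∀ S : Sylow 2 G, IsCyclic S ∨ ∃ m : ℕ, 1 ≤ m ∧ Nonempty ((S : Subgroup G) ≃* QuaternionGroup (2 ^ m))) ∧
        Cfsg.oddCore G ⊔ M = ⊤) := by
  by_cases hr : RankOne G
  · exact Or.inr ⟨hr.sylow_shape, hr.oddCore_sup hM⟩
  refine Or.inl fun g₁ g₂ h₁ h₂ => ?_
  have hne : ∀ g : G, g ∉ M → (g : G ⧸ M) ≠ ((1 : G) : G ⧸ M) := fun g hg h =>
    hg (by simpa using QuotientGroup.eq.1 h)
  obtain ⟨h, hh, he⟩ := (hB G M hM (four_of_not_rankOne hM hr)).1.exists_stab_smul (hne g₁ h₁) (hne g₂ h₂)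
  refine ⟨h, stab_base M ▸ (show h ∈ stabilizer G ((1 : G) : G ⧸ M) from hh), ?_⟩
  rw [MulAction.Quotient.smul_coe, smul_eq_mul] at he
  exact QuotientGroup.eq.1 he.symm

/-- S1221. -/
theorem core_in_core_of_benderGen (hB : BenderGen.{u}) (hM : Cfsg.IsStronglyEmbedded M) :
    (Cfsg.oddCore ↥M).map M.subtype ≤ Cfsg.oddCore G := by
  set X := (Cfsg.oddCore ↥M).map M.subtype with hX
  have hXodd : Odd (Nat.card X) :=
    (CfsgLib.ZStar.odd_card_oddCore M).of_dvd_nat (Subgroup.card_map_dvd _ _)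
  have hXn : M ≤ normalizer (X : Set G) := by
    intro g hg
    refine mem_normalizer_iff.2 fun x => ⟨?_, fun h => ?_⟩
    · rintro ⟨v, hv, rfl⟩
      exact ⟨⟨g, hg⟩ * v * ⟨g, hg⟩⁻¹, (inferInstance : (Cfsg.oddCore ↥M).Normal).conj_mem v hv _, rfl⟩
    · obtain ⟨v, hv, he⟩ := h
      refine ⟨⟨g, hg⟩⁻¹ * v * ⟨g, hg⟩, ?_, ?_⟩
      · simpa using (inferInstance : (Cfsg.oddCore ↥M).Normal).conj_mem v hv ⟨g, hg⟩⁻¹
      · rw [map_mul, map_mul, map_inv, he]
        show g⁻¹ * (g * x * g⁻¹) * g = x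
        group
  by_cases hr : RankOne G
  · haveI hn : (Cfsg.oddCore G ⊔ X).Normal := by
      rw [← normalizer_eq_top_iff, eq_top_iff, ← hr.oddCore_sup hM]
      refine sup_le (le_sup_left.trans le_normalizer) fun g hg => ?_
      have h1 : g ∈ normalizer (Cfsg.oddCore G : Set G) := normalizer_eq_top (H := Cfsg.oddCore G) ▸ mem_top g
      exact mem_normalizer_of_map_conj_eq (by
        rw [Subgroup.map_sup, map_conj_eq_of_mem_normalizer h1, map_conj_eq_of_mem_normalizer (hXn hg)])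
    refine le_sup_right.trans (CfsgLib.ZStar.le_oddCore hn ?_)
    refine (hXodd.mul (CfsgLib.ZStar.odd_card_oddCore G)).of_dvd_nat ?_
    rw [sup_comm]
    exact CfsgLib.Core.card_sup_dvd X (Cfsg.oddCore G) (normalizer_eq_top (H := Cfsg.oddCore G) ▸ le_top)
  · refine le_trans ?_ (normalCore_le_oddCore hM)
    intro w hw
    refine core_le_normalCore hB hM (four_of_not_rankOne hM hr) (le_core ?_ ?_ hXodd hw)
    · rw [stab_base]; exact map_subtype_le _
    · rw [stab_base]; exact hXn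

/-- S1223. -/
theorem odd_centralizer_of_benderGen (hB : BenderGen.{u}) (hM : Cfsg.IsStronglyEmbedded M)
    (hcore : M.normalCore = ⊥) {u j : G} (hu : orderOf u = 2) (huM : u ∉ M)
    (hj : j ∈ (M ⊓ M.map (MulAut.conj u).toMonoidHom)) (hj1 : j ≠ 1) (hinv : u * j * u⁻¹ = j⁻¹) :
    Odd (Nat.card (centralizer ({j} : Set G))) := by
  classical
  haveI : Fact (Nat.Prime 2) := ⟨Nat.prime_two⟩
  have hjodd : Odd (orderOf j) := (hM.2.2 u huM).of_dvd_nat (Subgroup.orderOf_dvd_natCard _ hj)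
  rw [← Nat.not_even_iff_odd]
  intro heven
  set C := centralizer ({j} : Set G) with hC
  have hCmem : ∀ {x : G}, x ∈ C ↔ x * j = j * x := mem_centralizer_singleton_iff
  have huC : ∀ x ∈ C, u * x * u⁻¹ ∈ C := fun x hx => by
    rw [hCmem] at hx ⊢
    have e : u * j⁻¹ * u⁻¹ = j := by rw [show u * j⁻¹ * u⁻¹ = (u * j * u⁻¹)⁻¹ by group, hinv, inv_inv]
    have h : u * (x * j⁻¹) * u⁻¹ = u * (j⁻¹ * x) * u⁻¹ := by rw [(Commute.inv_right (hx : Commute x j)).eq]
    calc u * x * u⁻¹ * j = u * (x * j⁻¹) * u⁻¹ := by nth_rw 1 [← e]; group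
      _ = u * (j⁻¹ * x) * u⁻¹ := h
      _ = j * (u * x * u⁻¹) := by nth_rw 2 [← e]; group
  -- an involution commuting with both
  obtain ⟨P, hPu⟩ : ∃ t : G, orderOf t = 2 ∧ t * j = j * t ∧ u * t = t * u := by
    haveI := Fintype.ofFinite C
    let f : Function.End {x : C // x⁻¹ = x} := fun x => ⟨⟨u * x.1 * u⁻¹, huC _ x.1.2⟩, by
      refine Subtype.ext ?_
      show (u * x.1 * u⁻¹)⁻¹ = u * x.1 * u⁻¹
      rw [conj_inv, ← Subgroup.coe_inv, x.2]⟩
    have hf : f ^ 2 ^ 1 = 1 := by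
      funext x
      refine Subtype.ext (Subtype.ext ?_)
      show u * (u * (x.1 : G) * u⁻¹) * u⁻¹ = (x.1 : G)
      rw [involution_inv hu, show u * (u * (x.1 : G) * u) * u = (u * u) * (x.1 : G) * (u * u) by group,
        involution_sq hu, one_mul, mul_one]
    let g : Function.End C := fun x => x⁻¹
    have hg : g ^ 2 ^ 1 = 1 := by
      funext x
      exact inv_inv x
    have e1 := Equiv.Perm.card_fixedPoints_modEq (p := 2) (n := 1) hg
    have e2 := Equiv.Perm.card_fixedPoints_modEq (p := 2) (n := 1) hf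
    have hpar : Even (Nat.card {x : C // x⁻¹ = x}) := by
      rw [← Nat.card_eq_fintype_card (α := C)] at e1
      rw [Nat.even_iff, Nat.card_eq_fintype_card]
      have : Fintype.card (Function.fixedPoints g) = Fintype.card {x : C // x⁻¹ = x} :=
        Fintype.card_congr (Equiv.refl _)
      rw [← this, ← e1]
      exact Nat.even_iff.1 heven
    haveI hne : Nonempty (Function.fixedPoints f) := ⟨⟨⟨1, inv_one⟩, by
      refine Subtype.ext (Subtype.ext ?_)
      show u * 1 * u⁻¹ = 1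
      group⟩⟩
    have h2 : 2 ≤ Fintype.card (Function.fixedPoints f) := by
      have h0 := Fintype.card_pos (α := Function.fixedPoints f)
      rw [Nat.card_eq_fintype_card, Nat.even_iff] at hpar
      unfold Nat.ModEq at e2
      omega
    obtain ⟨⟨⟨⟨t, htC⟩, ht⟩, htf⟩, hne'⟩ := Fintype.exists_ne_of_one_lt_card (show 1 < Fintype.card _ from h2)
      (⟨⟨1, inv_one⟩, by
        refine Subtype.ext (Subtype.ext ?_)
        show u * 1 * u⁻¹ = 1
        group⟩ : Function.fixedPoints f)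
    refine ⟨t, orderOf_eq_two_of (fun e => hne' ?_) ?_, hCmem.1 htC, ?_⟩
    · exact Subtype.ext (Subtype.ext (Subtype.ext e))
    · have := congrArg Subtype.val ht
      exact inv_eq_iff_mul_eq_one.1 (this : t⁻¹ = t)
    · have := congrArg (fun x : {x : C // x⁻¹ = x} => ((x.1 : C) : G)) (htf : f _ = _)
      exact mul_inv_eq_iff_eq_mul.1 (this : u * t * u⁻¹ = t)
  obtain ⟨ht, htj, hut⟩ := hPu
  by_cases hr : RankOne G
  · have : u = P := hr u P hu ht hut
    rw [this, htj, mul_inv_cancel_right] at hinv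
    have h2 : j ^ 2 = 1 := by rw [pow_two]; nth_rw 1 [hinv]; exact inv_mul_cancel j
    exact hj1 (CfsgLib.ZStar.eq_one_of_odd_of_sq hjodd h2)
  obtain ⟨hS, hsol⟩ := hB G M hM (four_of_not_rankOne hM hr)
  obtain ⟨z, hz⟩ := CfsgLib.TwoGroups.SE.exists_fixed hM ht
  have huz := invAt_of_commute hM ht hz hu hut
  have hjz : j • z = z := CfsgLib.TwoGroups.SE.fixed_unique hM ht
    (show P • j • z = j • z by rw [← mul_smul, htj, mul_smul, hz]) hz
  have hju : InvAt (j * u * j⁻¹) z := huz.conj' hjz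
  have h1 := hS.core_trivial (faithful_of_core hcore) hsol z (hS.comm_mod hju huz)
  have e : j * u * j⁻¹ * u = j ^ 2 := by
    have : u * j⁻¹ * u = j := by
      have : u * j⁻¹ * u⁻¹ = j := by rw [show u * j⁻¹ * u⁻¹ = (u * j * u⁻¹)⁻¹ by group, hinv, inv_inv]
      rwa [involution_inv hu] at this
    rw [show j * u * j⁻¹ * u = j * (u * j⁻¹ * u) by group, this, pow_two]
  rw [show j * u * j⁻¹ * u * (j * u * j⁻¹) * u = (j * u * j⁻¹ * u) * (j * u * j⁻¹ * u) by group, e, ← pow_two] at h1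
  have h2 : j ^ 2 = 1 := CfsgLib.ZStar.eq_one_of_odd_of_sq (hjodd.of_dvd_nat (orderOf_pow_dvd 2)) h1
  exact hj1 (CfsgLib.ZStar.eq_one_of_odd_of_sq hjodd h2)

/-- S2903. -/
theorem solvable_of_benderGen (hB : BenderGen.{u}) (hrank : Cfsg.PRankAtLeast 2 2 G)
    (hM : Cfsg.IsStronglyPEmbedded 2 M) : Group.IsSolvable M := by
  have hSE := se_of_spe hM
  have hr : ¬ RankOne G := by
    intro hr
    obtain ⟨A, hAc, hA2, hA4⟩ := hrank
    have hab : ∀ a b : A, a ≠ 1 → b ≠ 1 → a = b := fun a b ha hb => Subtype.ext (hr _ _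
      (orderOf_eq_two_of (fun h => ha (Subtype.ext h)) (by rw [← pow_two]; exact hA2 _ a.2))
      (orderOf_eq_two_of (fun h => hb (Subtype.ext h)) (by rw [← pow_two]; exact hA2 _ b.2))
      (congrArg Subtype.val (mul_comm' a b)))
    haveI := Fintype.ofFinite A
    classical
    have hle : Nat.card A ≤ 2 := by
      rw [Nat.card_eq_fintype_card, ← Finset.card_univ]
      by_cases h : ∃ a : A, a ≠ 1
      · obtain ⟨a, ha⟩ := h
        refine le_trans (Finset.card_le_card (t := {1, a}) fun b _ => ?_) Finset.card_le_two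
        by_cases hb : b = 1
        · simp [hb]
        · simp [hab b a hb ha]
      · push Not at h
        exact le_trans (Finset.card_le_card (t := {1}) fun b _ => by simp [h b]) (by simp)
    omega
  have hfour := four_of_not_rankOne hSE hr
  set π := QuotientGroup.mk' M.normalCore
  obtain ⟨hS', hsol'⟩ := hB (G ⧸ M.normalCore) (M.map π) (quot_stronglyEmbedded hSE) (quot_four hSE hfour)
  have hK : (M.map π).normalCore = ⊥ := by
    refine (Subgroup.eq_bot_iff_forall _).2 fun z hz => ?_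
    obtain ⟨z, rfl⟩ := QuotientGroup.mk'_surjective _ z
    refine (QuotientGroup.eq_one_iff z).2 fun b => ?_
    have h1 := hz (π b)
    rw [← map_inv, ← map_mul, ← map_mul, mk_mem_map_iff] at h1
    exact h1
  have h1 := hS'.isSolvable_stabilizer (faithful_of_core hK) hsol'
  rw [stab_base] at h1
  haveI := h1
  haveI : Group.IsSolvable (M.normalCore.subgroupOf M) := Cfsg.Agent.S0205.result
    ((odd_normalCore hSE).of_dvd_nat (by rw [Nat.card_congr (subgroupOfEquivOfLe M.normalCore_le).toEquiv]))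
  refine Group.isSolvable_of_ker_le_range (M.normalCore.subgroupOf M).subtype (π.subgroupMap M) ?_
  intro x hx
  rw [Subgroup.range_subtype, mem_subgroupOf]
  exact (QuotientGroup.eq_one_iff (x : G)).1 (congrArg Subtype.val hx)

/-- The simple groups (S0222). -/
theorem classify_of_benderGen (hB : BenderGen.{u}) [IsSimpleGroup G] (hM : Cfsg.IsStronglyEmbedded M) :
    (∃ (F : Type) (_ : Field F) (_ : Fintype F), (∃ n : ℕ, 2 ≤ n ∧ Fintype.card F = 2 ^ n) ∧
        Nonempty (G ≃* Matrix.ProjectiveSpecialLinearGroup (Fin 2) F)) ∨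
      Cfsg.IsSuzuki G ∨
      (∃ (F : Type) (_ : Field F) (_ : Fintype F) (n : ℕ), 2 ≤ n ∧ Fintype.card F = (2 ^ n) ^ 2 ∧
        Nonempty (G ≃* Cfsg.PSU 3 F (2 ^ n))) := by
  have hr : ¬ RankOne G := by
    intro hr
    have h := hr.oddCore_sup hM
    rcases IsSimpleGroup.eq_bot_or_eq_top_of_normal (Cfsg.oddCore G) inferInstance with e | e
    · rw [e, bot_sup_eq] at h; exact hM.1 h
    · have h2 := CfsgLib.ZStar.odd_card_oddCore G
      rw [e, Subgroup.card_top] at h2
      exact Nat.not_even_iff_odd.2 h2 (even_iff_two_dvd.2 (dvd_trans (even_iff_two_dvd.1 hM.2.1)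
        (Subgroup.card_subgroup_dvd_card M)))
  have hcore : M.normalCore = ⊥ :=
    (IsSimpleGroup.eq_bot_or_eq_top_of_normal _ inferInstance).resolve_right
      fun h => hM.1 (top_le_iff.1 (h ▸ M.normalCore_le))
  obtain ⟨hS, hsol⟩ := hB G M hM (four_of_not_rankOne hM hr)
  obtain ⟨U, hUa, hUn, htr, hfree, -, -⟩ := hS.exists_regular (smallerOK _) (faithful_of_core hcore) _ hsol
  rw [stab_base] at hUa hUn
  have hne : ∀ g : G, g ∉ M → (g : G ⧸ M) ≠ ((1 : G) : G ⧸ M) := fun g hg h =>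
    hg (by simpa using QuotientGroup.eq.1 h)
  refine CfsgLib.Lie.RankOneClass.classify_regular M hM U hUa (normal_subgroupOf_of_le_normalizer hUn) ?_ ?_
  · intro g₁ g₂ h₁ h₂
    obtain ⟨u, hu, he⟩ := htr _ _ (hne g₁ h₁) (hne g₂ h₂)
    rw [MulAction.Quotient.smul_coe, smul_eq_mul] at he
    exact ⟨u, hu, QuotientGroup.eq.1 he.symm⟩
  · intro g hg u hu h
    refine hfree _ (hne g hg) u hu ?_
    rw [MulAction.Quotient.smul_coe, smul_eq_mul]
    exact (QuotientGroup.eq.2 h).symm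

end Wiring

end CfsgLib.Bender
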