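import Cfsg.Agent.Lib.Bender.Gen.CommTheta

/-!
Owner: helper2 (slice F2). The commuting case: a doubly transitive action of the stabiliser on the
involutions gives too many characters that are constant on the scalars.
-/

set_option autoImplicit false
set_option linter.style.haveILetI false
set_option linter.unusedSectionVars false

namespace CfsgLib.Bender

open Subgroup MulAction CfsgLib.Char
open scoped Classical ComplexConjugate

universe u

variable {G Ω : Type u} [Group G] [Fintype G] [MulAction G Ω] [Finite Ω] {a b : Ω} {q : ℕ}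
  {F : Type u} [Field F] {coord : Multiplicative F →* G}

theorem sq_add_two_lt_two_pow {q : ℕ} (hq : 5 ≤ q) : q * q + 2 < 2 ^ q := by
  induction q, hq using Nat.le_induction with
  | base => norm_num
  | succ n hn ih =>
    rw [pow_succ]
    nlinarith

namespace CommData

variable (h : CommData G a b q F coord) (hS : Setting G Ω)
include h hS

theorem dvd_points_sub : ((2 ^ q - 1 : ℕ) : ℤ) ∣ (Nat.card Ω : ℤ) - 2 := by
  haveI := Fintype.ofFinite Ω
  haveI := Fintype.ofFinite h.scal
  have hB := MulAction.sum_card_fixedBy_eq_card_orbits_mul_card_group h.scal Ω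
  simp only [← Nat.card_eq_fintype_card, h.card_scal] at hB
  rw [← Finset.add_sum_erase _ _ (Finset.mem_univ (1 : h.scal))] at hB
  have h1 : Nat.card (fixedBy Ω (1 : h.scal)) = Nat.card Ω := by
    rw [MulAction.fixedBy_one_eq_univ, Nat.card_coe_set_eq, Set.ncard_univ]
  have h2 : ∀ s ∈ (Finset.univ : Finset h.scal).erase 1, Nat.card (fixedBy Ω s) = 2 := by
    intro s hs
    have hs1 := Finset.ne_of_mem_erase hs
    have e : fixedBy Ω s = {a, b} := by
      ext c
      constructor
      · exact fun hc => h.fix_scal hS s.2 (fun e => hs1 (Subtype.ext e)) hc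
      · rintro (rfl | rfl)
        · exact (h.scal_le s.2).1
        · exact (h.scal_le s.2).2
    rw [e, Nat.card_coe_set_eq, Set.ncard_pair h.ne]
  rw [h1, Finset.sum_congr rfl h2, Finset.sum_const, smul_eq_mul,
    Finset.card_erase_of_mem (Finset.mem_univ _), Finset.card_univ, ← Nat.card_eq_fintype_card,
    h.card_scal] at hB
  refine ⟨(Nat.card (orbitRel.Quotient h.scal Ω) : ℤ) - 2, ?_⟩
  have hB' := congrArg (fun x : ℕ => (x : ℤ)) hB
  simp only [Nat.cast_add, Nat.cast_mul,
    Nat.cast_sub (show 1 ≤ 2 ^ q - 1 from le_trans h.prime.one_lt.le h.q_le_m), Nat.cast_one,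
    Nat.cast_ofNat] at hB'
  linear_combination hB'

variable [Fintype (Cfsg.IrrCharacter G)] {k : ℕ} (r : Fin k → Cfsg.IrrCharacter h.scal)
  (hk : k * (2 * q) + 1 = 2 ^ q - 1)

include hk in
/-- The value of a character constant on the scalars, bounded by a Bessel inequality. -/
theorem sum_sq_le {N : Finset (Cfsg.IrrCharacter G)} (hN : trivChar G ∉ N)
    {c : Cfsg.IrrCharacter G → ℤ}
    (hc : ∀ χ ∈ N, ∀ x : h.scal, x ≠ 1 → (χ : G → ℂ) x = (c χ : ℂ)) :
    ∑ χ ∈ N, c χ * c χ ≤ 2 * q := by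
  haveI := Fintype.ofFinite h.scal
  haveI := Fintype.ofFinite (normalizer (h.scal : Set G))
  set f : h.scal → ℂ := fun x => if x = 1 then 0 else 1 with hf
  have hf1 : f 1 = 0 := by simp [hf]
  have hm : (Nat.card h.scal : ℂ) = ((2 ^ q - 1 : ℕ) : ℂ) := by rw [h.card_scal]
  have hm0 : (Nat.card h.scal : ℂ) ≠ 0 := Nat.cast_ne_zero.2 Nat.card_pos.ne'
  have hcard : ((Finset.univ : Finset h.scal).filter fun x => ¬x = 1).card = 2 ^ q - 1 - 1 := by
    rw [Finset.filter_ne' Finset.univ (1 : h.scal), Finset.card_erase_of_mem (Finset.mem_univ _),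
      Finset.card_univ, ← Nat.card_eq_fintype_card, h.card_scal]
  have hkey : ((2 ^ q - 1 - 1 : ℕ) : ℂ) = (k : ℂ) * (2 * q) := by
    rw [← hk, Nat.add_sub_cancel]; push_cast; rfl
  have hinner : ∀ (χ : Cfsg.IrrCharacter G) (z : ℤ), (∀ x : h.scal, x ≠ 1 → (χ : G → ℂ) x = (z : ℂ)) →
      Cfsg.classInner (Cfsg.indFun h.scal f) (χ : G → ℂ) =
        (Nat.card h.scal : ℂ)⁻¹ * ((k : ℂ) * (2 * q) * z) := by
    intro χ z hz
    rw [frobenius_reciprocity _ _ (IsIrr.isClassFunction χ.2), Cfsg.classInner]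
    congr 1
    rw [Finset.sum_congr rfl (g := fun x : h.scal => if ¬x = 1 then (z : ℂ) else 0) fun x _ => ?_,
      ← Finset.sum_filter, Finset.sum_const, hcard, nsmul_eq_mul, hkey]
    by_cases hx : x = 1
    · simp [hf, hx]
    · simp [hf, hx, hz x hx]
  have hnorm := CA.classInner_indFun (h.selfCent hS) f hf1
  have hcomp : ∀ g : normalizer (h.scal : Set G), f ∘ CA.cj h.scal g = f := fun g => by
    funext x
    simp only [hf, Function.comp_apply, EmbeddingLike.map_eq_one_iff]
  have hff : Cfsg.classInner f f = (Nat.card h.scal : ℂ)⁻¹ * ((k : ℂ) * (2 * q)) := by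
    rw [Cfsg.classInner]
    congr 1
    rw [Finset.sum_congr rfl (g := fun x : h.scal => if ¬x = 1 then (1 : ℂ) else 0) fun x _ => ?_,
      ← Finset.sum_filter, Finset.sum_const, hcard, nsmul_eq_mul, hkey, mul_one]
    by_cases hx : x = 1
    · simp [hf, hx]
    · simp [hf, hx]
  simp only [hcomp, Finset.sum_const, Finset.card_univ, nsmul_eq_mul, hff,
    ← Nat.card_eq_fintype_card, h.card_normalizer hS] at hnorm
  -- Parseval
  set z : Cfsg.IrrCharacter G → ℂ :=
    fun χ => Cfsg.classInner (Cfsg.indFun h.scal f) (χ : G → ℂ) with hz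
  have hpar : Cfsg.classInner (Cfsg.indFun h.scal f) (Cfsg.indFun h.scal f) = ∑ χ, z χ * conj (z χ) :=
    classInner_eq_sum (isClassFunction_indFun _ f) _
  set M := insert (trivChar G) N
  set e : Cfsg.IrrCharacter G → ℤ := fun χ => if χ = trivChar G then 1 else c χ with he
  have hM : ∀ χ ∈ M, ∀ x : h.scal, x ≠ 1 → (χ : G → ℂ) x = (e χ : ℂ) := by
    intro χ hχ x hx
    by_cases h1 : χ = trivChar G
    · rw [h1, trivChar_apply, he]; simp
    · rw [hc χ ((Finset.mem_insert.1 hχ).resolve_left h1) x hx]; simp [he, h1]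
  have hle : ∑ χ ∈ M, Complex.normSq (z χ) ≤ ∑ χ, Complex.normSq (z χ) :=
    Finset.sum_le_univ_sum_of_nonneg fun χ => Complex.normSq_nonneg _
  set mR : ℝ := ((2 ^ q - 1 : ℕ) : ℝ) with hmR
  have hmR0 : 0 < mR := by
    rw [hmR]; exact_mod_cast lt_of_lt_of_le h.prime.pos h.q_le_m
  have hsum : ∑ χ, Complex.normSq (z χ) = (k : ℝ) * (2 * q) * (2 * q) / mR := by
    apply Complex.ofReal_injective
    push_cast [Complex.normSq_eq_conj_mul_self]
    rw [Finset.sum_congr rfl fun χ _ => mul_comm _ _, ← hpar]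
    refine mul_left_cancel₀ hm0 ?_
    rw [hnorm, hm, hmR]
    push_cast
    field_simp
  have hval : ∀ χ ∈ M, Complex.normSq (z χ) = ((k : ℝ) * (2 * q)) ^ 2 / mR ^ 2 * ((e χ : ℝ) * e χ) := by
    intro χ hχ
    rw [hz]
    simp only [hinner χ (e χ) (hM χ hχ), hm, map_mul, map_inv₀, Complex.normSq_natCast,
      Complex.normSq_intCast, Complex.normSq_ofNat, hmR]
    ring
  rw [hsum, Finset.sum_congr rfl hval, ← Finset.mul_sum, Finset.sum_insert hN] at hle
  have he1 : e (trivChar G) = 1 := by simp [he]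
  have heN : ∀ χ ∈ N, e χ = c χ := fun χ hχ => by
    have : χ ≠ trivChar G := fun e1 => hN (e1 ▸ hχ)
    simp [he, this]
  rw [he1, Finset.sum_congr rfl (fun χ hχ => by rw [heN χ hχ] :
    ∀ χ ∈ N, ((e χ : ℝ) * e χ) = ((c χ : ℝ) * c χ)), Int.cast_one, one_mul] at hle
  have hk0 : 0 < k := by
    rcases Nat.eq_zero_or_pos k with h0 | h0
    · exfalso
      rw [h0, zero_mul, zero_add] at hk
      have := h.q_le_m
      have := h.prime.one_lt
      omega
    · exact h0
  set S := ∑ χ ∈ N, c χ * c χ with hS'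
  have hSR : ∑ χ ∈ N, ((c χ : ℝ) * c χ) = (S : ℝ) := by rw [hS']; push_cast; rfl
  rw [hSR, div_mul_eq_mul_div, div_le_div_iff₀ (pow_pos hmR0 2) hmR0] at hle
  have hkq : (0 : ℝ) < (k : ℝ) * (2 * q) := by
    have := h.prime.pos
    positivity
  have h1 : (k : ℝ) * (1 + (S : ℝ)) ≤ mR := by
    refine le_of_mul_le_mul_left ?_ (mul_pos (mul_pos hkq hmR0) (show (0 : ℝ) < 2 * q by
      have := h.prime.pos; positivity))
    nlinarith [hle]
  rw [hmR, ← hk] at h1
  have h2 : (k : ℤ) * (1 + S) ≤ ((k * (2 * q) + 1 : ℕ) : ℤ) := by exact_mod_cast h1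
  push_cast at h2
  by_contra hcon
  push Not at hcon
  have h3 : (k : ℤ) * (2 * q + 2) ≤ k * (1 + S) :=
    mul_le_mul_of_nonneg_left (by omega) (by positivity)
  have : (1 : ℤ) ≤ k := by exact_mod_cast hk0
  linarith

include hk in
theorem not_irr : ¬ Cfsg.IsIrrCharacter (stabilizer G a)
    (fun g => permChar (stabilizer G a) (IAt G a) g - 1) := by
  intro hirr
  haveI := Fintype.ofFinite h.scal
  have hA := h.selfCent hS
  obtain ⟨k', r, hk', hr1, hr2, hr3, -⟩ := CA.exists_reps hA
  rw [h.relIndex_normalizer hS, h.card_scal] at hk'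
  obtain rfl : k' = k := by
    have h2 : 0 < 2 * q := by have := h.prime.pos; omega
    exact Nat.eq_of_mul_eq_mul_right h2 (by omega)
  obtain ⟨t, ht⟩ := hS.exists_invAt a
  obtain ⟨T, j, hT, hTv, hjsum⟩ := h.theta_data hS hirr ht (k := 2 * k') (by rw [← hk]; ring)
  set N := T \ CC.nonconst r with hN
  obtain ⟨hnc, hnc1⟩ := CC.card_nonconst hA r hr1 hr2
  have hNcard : T.card ≤ N.card + (CC.nonconst r).card := Finset.card_le_card_sdiff_add_card
  have hk0 : 0 < k' := by
    rcases Nat.eq_zero_or_pos k' with h0 | h0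
    · exfalso
      rw [h0, zero_mul, zero_add] at hk
      have := h.q_le_m
      have := h.prime.one_lt
      omega
    · exact h0
  have hNbig : 2 * q < 4 * (N.card - 1) := by
    by_cases hq5 : 5 ≤ q
    · have h1 := sq_add_two_lt_two_pow hq5
      have h2 : q < 2 * k' := by
        by_contra hcon
        push Not at hcon
        have h3 : 2 * k' * q ≤ q * q := Nat.mul_le_mul_right q hcon
        have h4 : k' * (2 * q) = 2 * k' * q := by ring
        omega
      omega
    · have hq3 : q = 3 := by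
        have := h.three_le hS
        obtain ⟨i, hi⟩ := h.odd_q hS
        omega
      subst hq3
      have : k' = 1 := by norm_num at hk; omega
      rw [hnc1 this.le, Finset.card_empty] at hNcard
      omega
  -- the common value on the scalars
  set j₀ : Fin k' := ⟨0, hk0⟩
  let c : Cfsg.IrrCharacter G → ℤ :=
    fun χ => (CC.res h.scal χ (trivChar h.scal) : ℤ) - CC.res h.scal χ (r j₀)
  have hcv : ∀ χ ∈ N, (∀ x : h.scal, x ≠ 1 → (χ : G → ℂ) x = (c χ : ℂ)) ∧
      ((2 ^ q - 1 : ℕ) : ℤ) ∣ c χ - 2 * j χ := by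
    intro χ hχ
    rw [hN, Finset.mem_sdiff] at hχ
    obtain ⟨h1, h2⟩ := CC.res_value hA χ _ (CC.res_const hA r hr3 hχ.2 j₀)
    refine ⟨fun x hx => by rw [h1 x hx]; simp [c], ?_⟩
    obtain ⟨-, -, hχ1, -⟩ := hTv χ hχ.1
    rw [hχ1, h.card_scal] at h2
    have h3 : (Nat.card Ω : ℤ) * j χ =
        c χ + ((2 ^ q - 1 : ℕ) : ℤ) * CC.res h.scal χ (r j₀) := by
      have : (((Nat.card Ω : ℤ) * j χ : ℤ) : ℂ) =
          ((c χ + ((2 ^ q - 1 : ℕ) : ℤ) * CC.res h.scal χ (r j₀) : ℤ) : ℂ) := by
        simp only [c, Int.cast_mul, Int.cast_add, Int.cast_sub, Int.cast_natCast]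
        exact h2
      exact_mod_cast this
    obtain ⟨u, hu⟩ := h.dvd_points_sub hS
    exact ⟨u * j χ - CC.res h.scal χ (r j₀), by linear_combination (j χ : ℤ) * hu - h3⟩
  have hsq := h.sum_sq_le hS hk (N := N) (c := c)
    (fun h0 => (hTv _ (Finset.mem_sdiff.1 h0).1).2.2.2 rfl) (fun χ hχ => (hcv χ hχ).1)
  set B := N.filter fun χ => ¬ c χ = 2 * j χ with hB
  have hbig : ∀ χ ∈ B, ((2 ^ q - 1 : ℕ) : ℤ) ≤ |c χ| + 2 * j χ := by
    intro χ hχ
    rw [hB, Finset.mem_filter] at hχ
    obtain ⟨u, hu⟩ := (hcv χ hχ.1).2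
    have hne : u ≠ 0 := fun e0 => hχ.2 (by rw [e0, mul_zero, sub_eq_zero] at hu; exact hu)
    have h1 : ((2 ^ q - 1 : ℕ) : ℤ) ≤ |c χ - 2 * j χ| := by
      rw [hu, abs_mul, Nat.abs_cast]
      exact le_mul_of_one_le_right (by positivity) (Int.one_le_abs hne)
    have h2 := abs_sub (c χ) (2 * (j χ : ℤ))
    rw [abs_of_nonneg (show (0 : ℤ) ≤ 2 * (j χ : ℤ) by positivity)] at h2
    linarith
  have hone : B.card ≤ 1 := by
    by_contra hcon
    push Not at hcon
    obtain ⟨χ, hχ, χ', hχ', hne⟩ := Finset.one_lt_card.1 hcon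
    have hBT : B ⊆ T := (Finset.filter_subset _ _).trans Finset.sdiff_subset
    have hBN : B ⊆ N := Finset.filter_subset _ _
    have hjj : j χ + j χ' + (2 * k' + 1 - 2) ≤ 2 ^ q - 1 - 1 := by
      rw [← hjsum, ← Finset.sum_sdiff (Finset.insert_subset (hBT hχ)
        (Finset.singleton_subset_iff.2 (hBT hχ'))), Finset.sum_pair hne]
      have h1 : (T \ {χ, χ'}).card * 1 ≤ ∑ x ∈ T \ {χ, χ'}, j x := by
        rw [← smul_eq_mul]
        exact Finset.card_nsmul_le_sum _ _ _ fun x hx => (hTv x (Finset.mem_sdiff.1 hx).1).1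
      have h2 := Finset.card_le_card_sdiff_add_card (s := T) (t := {χ, χ'})
      rw [Finset.card_pair hne, hT] at h2
      omega
    have h4 : (4 : ℤ) * k' ≤ |c χ| + |c χ'| := by
      have h1 := hbig χ hχ
      have h2 := hbig χ' hχ'
      have h3 : ((j χ + j χ' + (2 * k' + 1 - 2) : ℕ) : ℤ) ≤ ((2 ^ q - 1 - 1 : ℕ) : ℤ) := by
        exact_mod_cast hjj
      rw [Nat.cast_sub (show 1 ≤ 2 ^ q - 1 from le_trans h.prime.one_lt.le h.q_le_m), Nat.cast_add,
        Nat.cast_sub (by omega)] at h3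
      push_cast at h3
      linarith
    have h5 : c χ * c χ + c χ' * c χ' ≤ ∑ x ∈ N, c x * c x := by
      rw [← Finset.sum_pair (f := fun x => c x * c x) hne]
      exact Finset.sum_le_sum_of_subset_of_nonneg
        (Finset.insert_subset (hBN hχ) (Finset.singleton_subset_iff.2 (hBN hχ')))
        fun x _ _ => mul_self_nonneg _
    have h6 : (q : ℤ) < 4 * k' * k' := by
      by_cases hq5 : 5 ≤ q
      · have h1 := sq_add_two_lt_two_pow hq5
        have h2 : q < 2 * k' := by
          by_contra hcon'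
          push Not at hcon'
          have h3 : 2 * k' * q ≤ q * q := Nat.mul_le_mul_right q hcon'
          have h4 : k' * (2 * q) = 2 * k' * q := by ring
          omega
        have : (q : ℤ) < 2 * k' := by exact_mod_cast h2
        nlinarith
      · have h1 : (1 : ℤ) ≤ k' := by exact_mod_cast hk0
        have h2 : (q : ℤ) ≤ 3 := by
          have := h.three_le hS
          obtain ⟨i, hi⟩ := h.odd_q hS
          omega
        nlinarith
    nlinarith [abs_mul_abs_self (c χ), abs_mul_abs_self (c χ'), sq_nonneg (|c χ| - |c χ'|),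
      abs_nonneg (c χ), abs_nonneg (c χ')]
  have hsmall : (4 : ℤ) * (N \ B).card ≤ ∑ x ∈ N, c x * c x := by
    refine le_trans ?_ (Finset.sum_le_sum_of_subset_of_nonneg (Finset.sdiff_subset (s := N) (t := B))
      fun x _ _ => mul_self_nonneg _)
    rw [mul_comm, ← nsmul_eq_mul]
    refine Finset.card_nsmul_le_sum _ _ _ fun x hx => ?_
    rw [Finset.mem_sdiff] at hx
    have he : c x = 2 * j x := by
      by_contra hne
      exact hx.2 (Finset.mem_filter.2 ⟨hx.1, hne⟩)
    have hj : (1 : ℤ) ≤ j x := by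
      exact_mod_cast (hTv x (Finset.mem_sdiff.1 hx.1).1).1
    rw [he]
    nlinarith
  have h7 := Finset.card_le_card_sdiff_add_card (s := N) (t := B)
  have h8 : ((2 * q : ℕ) : ℤ) < ((4 * (N \ B).card : ℕ) : ℤ) := by
    exact_mod_cast lt_of_lt_of_le hNbig (by omega)
  push_cast at h8
  linarith

end CommData

/-- Slice F2. -/
theorem commCharStep : CommCharStep.{u} := by
  intro G Ω _ _ _ _ hS a b q F _ coord h
  haveI := Fintype.ofFinite G
  rcases h.irr_or_solv hS with hirr | hsol
  · exfalso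
    haveI := Fintype.ofFinite h.scal
    haveI := Fintype.ofFinite (Cfsg.IrrCharacter G)
    obtain ⟨k, r, hk, -⟩ := CA.exists_reps (h.selfCent hS)
    rw [h.relIndex_normalizer hS, h.card_scal] at hk
    exact h.not_irr hS hk hirr
  · exact hsol

end CfsgLib.Bender
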