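import Mathlib.FieldTheory.Finite.Basic
import Mathlib.FieldTheory.Fixed
import Mathlib.Algebra.Algebra.ZMod
import Mathlib.GroupTheory.Transfer
import Mathlib.GroupTheory.SpecificGroups.Cyclic

/-!
Owner: helper13 (slice F1). Automorphisms of finite fields of characteristic two and the transfer at an
element with constant terms.
-/

set_option autoImplicit false

namespace CfsgLib.Bender.FieldAut

open MulAction

section Field

variable {F : Type*} [Field F] [Finite F]

/-- The automorphisms of a finite field of characteristic two form a cyclic group. -/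
theorem isCyclic_aut [CharP F 2] : IsCyclic (F ≃+* F) := by
  haveI : Fact (Nat.Prime 2) := ⟨Nat.prime_two⟩
  cases nonempty_fintype F
  let _ : Algebra (ZMod 2) F := ZMod.algebra F 2
  have hfr : ∀ (m : ℕ) (t : F), (frobeniusEquiv F 2 ^ m) t = t ^ 2 ^ m := by
    intro m
    induction m with
    | zero => intro t; simp
    | succ m ih =>
      intro t
      rw [pow_succ, RingAut.mul_apply, ih, frobeniusEquiv_def, ← pow_mul, ← pow_succ']
  refine ⟨frobeniusEquiv F 2, fun σ => ?_⟩
  let a : F ≃ₐ[ZMod 2] F := AlgEquiv.ofRingEquiv (f := σ)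
    (fun x => RingHom.congr_fun (Subsingleton.elim (σ.toRingHom.comp (algebraMap (ZMod 2) F))
      (algebraMap (ZMod 2) F)) x)
  obtain ⟨n, hn⟩ := (FiniteField.bijective_frobeniusAlgEquivOfAlgebraic_pow (ZMod 2) F).2 a
  refine Subgroup.mem_zpowers_iff.2 ⟨((n : ℕ) : ℤ), RingEquiv.ext fun t => ?_⟩
  rw [zpow_natCast, hfr]
  show _ = a t
  rw [← hn]
  show _ = (FiniteField.frobeniusAlgEquivOfAlgebraic (ZMod 2) F ^ (n : ℕ)) t
  generalize (n : ℕ) = m
  clear hn
  induction m generalizing t with
  | zero => simp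
  | succ m ih =>
    rw [pow_succ (FiniteField.frobeniusAlgEquivOfAlgebraic (ZMod 2) F), AlgEquiv.mul_apply, ← ih]
    simp [pow_succ', pow_mul, pow_two]

/-- Artin: the order of a group of automorphisms is the degree over its fixed field. -/
theorem card_fixed_pow {H : Type*} [Group H] [Finite H] [MulSemiringAction H F] [FaithfulSMul H F] :
    Nat.card (FixedPoints.subfield H F) ^ Nat.card H = Nat.card F := by
  cases nonempty_fintype H
  rw [Module.natCard_eq_pow_finrank (K := FixedPoints.subfield H F) (V := F),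
    FixedPoints.finrank_eq_card, Nat.card_eq_fintype_card (α := H)]

/-- An automorphism fixing only `0` and `1` generates all automorphisms, and its order is the degree. -/
theorem orderOf_of_fixed {n : ℕ} (hn : Nat.card F = 2 ^ n) {σ : F ≃+* F}
    (h : ∀ x : F, σ x = x → x = 0 ∨ x = 1) :
    orderOf σ = n ∧ Nat.card (F ≃+* F) = n ∧ ∀ τ : F ≃+* F, τ ∈ Subgroup.zpowers σ := by
  haveI : Finite (F ≃+* F) := Finite.of_injective (fun e => (e : F → F)) fun e e' h => RingEquiv.ext (congrFun h)
  haveI : FaithfulSMul (F ≃+* F) F := ⟨fun {e e'} h => RingEquiv.ext h⟩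
  haveI : FaithfulSMul (Subgroup.zpowers σ) F := ⟨fun {e e'} h => Subtype.ext (RingEquiv.ext h)⟩
  have h1 : orderOf σ = n := by
    have hk := card_fixed_pow (F := F) (H := Subgroup.zpowers σ)
    have h2 : Nat.card (FixedPoints.subfield (Subgroup.zpowers σ) F) = 2 := by
      classical
      rw [← show Nat.card ({0, 1} : Set F) = 2 by
        rw [Nat.card_coe_set_eq, Set.ncard_pair zero_ne_one]]
      refine Nat.card_congr (Equiv.subtypeEquivRight fun x => ⟨fun hx => ?_, ?_⟩)
      · exact h x (hx ⟨σ, Subgroup.mem_zpowers σ⟩)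
      · rintro (rfl | rfl) g
        · exact smul_zero g
        · exact smul_one g
    rw [h2, Nat.card_zpowers, hn] at hk
    exact Nat.pow_right_injective le_rfl hk
  have h3 : Nat.card (F ≃+* F) = n := by
    refine le_antisymm ?_ (h1 ▸ orderOf_le_card)
    have hk := card_fixed_pow (F := F) (H := F ≃+* F)
    have h2 : 2 ≤ Nat.card (FixedPoints.subfield (F ≃+* F) F) := Finite.one_lt_card
    rw [hn] at hk
    exact (Nat.pow_le_pow_iff_right (le_refl 2)).1 (hk ▸ Nat.pow_le_pow_left h2 _)
  refine ⟨h1, h3, fun τ => ?_⟩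
  rw [Subgroup.eq_top_of_le_card (Subgroup.zpowers σ) (by rw [Nat.card_zpowers, h1, h3])]
  exact Subgroup.mem_top τ

end Field

/-- The transfer of an element all whose fixed cosets give the same value and whose other cycles
give one. -/
theorem transfer_eq_pow_fixed {M A : Type*} [Group M] [Finite M] [CommGroup A] {H : Subgroup M}
    (f : H →* A) (y : M) (v : A)
    (hfix : ∀ (g : M) (hg : g⁻¹ * y * g ∈ H), f ⟨_, hg⟩ = v)
    (hrest : ∀ (l : ℕ) (g : M) (hg : g⁻¹ * y ^ l * g ∈ H), 1 < l → l ∣ orderOf y → f ⟨_, hg⟩ = 1) :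
    MonoidHom.transfer f y = v ^ Nat.card {c : M ⧸ H // y • c = c} := by
  classical
  letI := Fintype.ofFinite (Quotient (orbitRel (Subgroup.zpowers y) (M ⧸ H)))
  rw [MonoidHom.transfer_eq_prod_quotient_orbitRel_zpowers_quot]
  have hdvd : ∀ x : M ⧸ H, Function.minimalPeriod (y • ·) x ∣ orderOf y := fun x =>
    Function.IsPeriodicPt.minimalPeriod_dvd (by
      show (y • ·)^[orderOf y] x = x
      rw [smul_iterate_apply, pow_orderOf_eq_one, one_smul])
  have hpos : ∀ x : M ⧸ H, 0 < Function.minimalPeriod (y • ·) x := fun x =>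
    Nat.pos_of_dvd_of_pos (hdvd x) (orderOf_pos y)
  have hterm : ∀ q : Quotient (orbitRel (Subgroup.zpowers y) (M ⧸ H)),
      f ⟨q.out.out⁻¹ * y ^ Function.minimalPeriod (y • ·) q.out * q.out.out,
        QuotientGroup.out_conj_pow_minimalPeriod_mem H y q.out⟩ =
      if y • q.out = q.out then v else 1 := by
    intro q
    split_ifs with h
    · have h1 : Function.minimalPeriod (y • ·) q.out = 1 :=
        Function.minimalPeriod_eq_one_iff_isFixedPt.2 h
      have hg : q.out.out⁻¹ * y * q.out.out ∈ H := by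
        simpa [h1] using QuotientGroup.out_conj_pow_minimalPeriod_mem H y q.out
      rw [← hfix _ hg]
      congr 1
      exact Subtype.ext (by simp only [h1, pow_one])
    · have h1 : Function.minimalPeriod (y • ·) q.out ≠ 1 := fun e =>
        h (Function.minimalPeriod_eq_one_iff_isFixedPt.1 e)
      exact hrest _ _ _ (by have := hpos q.out; omega) (hdvd q.out)
  rw [Finset.prod_congr rfl fun q _ => hterm q, ← Finset.prod_filter, Finset.prod_const,
    ← Fintype.card_subtype, ← Nat.card_eq_fintype_card]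
  congr 1
  have hfp : ∀ (c : M ⧸ H), y • c = c → ∀ z ∈ Subgroup.zpowers y, z • c = c := fun c hc z hz =>
    (Subgroup.zpowers_le.2 (show y ∈ MulAction.stabilizer M c from hc)) hz
  refine Nat.card_congr (Equiv.ofBijective (fun q => ⟨q.1.out, q.2⟩) ⟨fun q q' h => ?_, fun c => ?_⟩)
  · exact Subtype.ext (Quotient.out_injective (congrArg Subtype.val h :))
  · have h1 : (Quotient.mk (orbitRel (Subgroup.zpowers y) (M ⧸ H)) c.1).out = c.1 := by
      obtain ⟨z, hz⟩ := (Quotient.exact (Quotient.out_eq
        (Quotient.mk (orbitRel (Subgroup.zpowers y) (M ⧸ H)) c.1)) :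
          (Quotient.mk (orbitRel (Subgroup.zpowers y) (M ⧸ H)) c.1).out ∈
            MulAction.orbit (Subgroup.zpowers y) c.1)
      rw [← hz]
      exact hfp c.1 c.2 z z.2
    exact ⟨⟨Quotient.mk _ c.1, by rw [h1]; exact c.2⟩, Subtype.ext h1⟩

end CfsgLib.Bender.FieldAut
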