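import Cfsg.Agent.Lib.Bender.Gen.Sig

/-!
Owner: helper2 (slice F2). The interface between the group theory and the character theory of the
commuting case (`notes/bender_gen_slices.md`, F): F1 proves that a commuting minimal example whose
stabiliser acts non-solvably on the involutions carries `CommData`; F2 proves `CommCharStep`.
-/

set_option autoImplicit false
set_option linter.unusedSectionVars false

namespace CfsgLib.Bender

open Subgroup MulAction

universe u

/-- The involutions at `a` are the non-zero elements of a field of order `2 ^ q`, `q` prime, and the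
stabiliser of `a, b` is the whole semilinear group of that field. -/
structure CommData (G : Type*) {Ω : Type*} [Group G] [MulAction G Ω] (a b : Ω) (q : ℕ)
    (F : Type*) [Field F] (coord : Multiplicative F →* G) : Prop where
  ne : a ≠ b
  prime : q.Prime
  card_field : Nat.card F = 2 ^ q
  injective : Function.Injective coord
  inv_iff : ∀ t : G, InvAt t a ↔ ∃ x : F, x ≠ 0 ∧ coord (Multiplicative.ofAdd x) = t
  semilinear : ∀ d ∈ pairStab G a b, ∃ (c : F) (σ : F ≃+* F), ∀ x : F,
    d * coord (Multiplicative.ofAdd x) * d⁻¹ = coord (Multiplicative.ofAdd (c * σ x))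
  faithful : ∀ d ∈ pairStab G a b, (∀ t : G, InvAt t a → d * t = t * d) → d = 1
  card_pair : Nat.card (pairStab G a b) = (2 ^ q - 1) * q

/-- Slice F2. -/
def CommCharStep : Prop :=
  ∀ (G Ω : Type u) [Group G] [Finite G] [MulAction G Ω] [Finite Ω],
    Setting G Ω → ∀ (a b : Ω) (q : ℕ) (F : Type u) [Field F] (coord : Multiplicative F →* G),
      CommData G a b q F coord → SolvMod G a

end CfsgLib.Bender
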