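import Cfsg.Agent.Lib.Bender.Gen.CommKernel
import Cfsg.Agent.Lib.Bender.Gen.CommFieldAut
import Cfsg.Agent.Lib.Bender.Gen.CommSig
import Cfsg.Agent.Lib.Recog.Huppert.Main
import Cfsg.Agent.Lib.Core.Coprime
import Mathlib.GroupTheory.GroupAction.Blocks

/-!
Owner: helper13. General Bender theorem, slice F1: in the commuting case the stabiliser acts solvably
on the involutions at its point, given the character theoretic step `CommCharStep`.

The subgroup `M` generated by the 2-elements of the stabiliser has no homomorphism to a group of odd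
order; the transfer to the field automorphism part of `M ∩ G_b` leaves only the configuration of
`CommData`, or `M ∩ G_b = 1`, and then `M` centralises the involutions at the point.
-/

set_option autoImplicit false
set_option linter.style.haveILetI false
set_option linter.unusedSectionVars false

namespace CfsgLib.Bender

open Subgroup MulAction
open CfsgLib.Signalizer (involution_sq involution_inv orderOf_eq_two_of involution_ne_one)

universe u

section TwoGen

variable {G Ω : Type*} [Group G] [Finite G] [MulAction G Ω] [Finite Ω]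

variable (G) in
/-- The subgroup of a stabiliser generated by its 2-elements. -/
def twoGen (a : Ω) : Subgroup G := closure {g | g • a = a ∧ ∃ k : ℕ, g ^ 2 ^ k = 1}

theorem twoGen_le (a : Ω) : twoGen G a ≤ stabilizer G a := by
  rw [twoGen, closure_le]; exact fun g hg => hg.1

theorem mem_twoGen {a : Ω} {g : G} (hg : g • a = a) (h2 : ∃ k : ℕ, g ^ 2 ^ k = 1) : g ∈ twoGen G a :=
  subset_closure ⟨hg, h2⟩

theorem le_normalizer_twoGen (a : Ω) : stabilizer G a ≤ normalizer (twoGen G a : Set G) := by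
  intro g hg
  refine mem_normalizer_of_map_conj_eq ?_
  have key : ∀ g : G, g • a = a → ∀ x ∈ {x : G | x • a = a ∧ ∃ k : ℕ, x ^ 2 ^ k = 1},
      g * x * g⁻¹ ∈ {x : G | x • a = a ∧ ∃ k : ℕ, x ^ 2 ^ k = 1} := by
    rintro g hg x ⟨hx, k, hk⟩
    refine ⟨by rw [mul_smul, mul_smul, inv_smul_eq_iff.2 hg.symm, hx, hg], k, ?_⟩
    rw [conj_pow, hk, mul_one, mul_inv_cancel]
  rw [twoGen, MonoidHom.map_closure]
  congr 1
  refine Set.Subset.antisymm ?_ fun x hx => ⟨g⁻¹ * x * g, ?_, by simp [mul_assoc]⟩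
  · rintro _ ⟨x, hx, rfl⟩
    exact key g hg x hx
  · simpa using key g⁻¹ (inv_mem hg) x hx

/-- There is no non-trivial homomorphism to a group of odd order. -/
theorem twoGen_hom_trivial {a : Ω} {A : Type*} [Group A] [Finite A] (hA : Odd (Nat.card A))
    (f : twoGen G a →* A) (x : twoGen G a) : f x = 1 := by
  have hle : twoGen G a ≤ f.ker.map (twoGen G a).subtype := by
    conv_lhs => rw [twoGen]
    rw [closure_le]
    rintro g ⟨hga, k, hk⟩
    refine ⟨⟨g, mem_twoGen hga ⟨k, hk⟩⟩, MonoidHom.mem_ker.2 ?_, rfl⟩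
    have h1 : f ⟨g, mem_twoGen hga ⟨k, hk⟩⟩ ^ 2 ^ k = 1 := by
      rw [← map_pow, ← map_one f]; exact congrArg f (Subtype.ext hk)
    exact orderOf_eq_one_iff.1 (Nat.eq_one_of_dvd_coprimes
      (Nat.Coprime.pow_left k (Nat.coprime_two_left.2 hA))
      (orderOf_dvd_of_pow_eq_one h1) (orderOf_dvd_natCard _))
  obtain ⟨y, hy, hyx⟩ := hle x.2
  rw [← show y = x from Subtype.ext hyx]
  exact hy

/-- Fixed cosets of a point stabiliser are fixed points of the orbit. -/
theorem card_fixed_cosets (M : Subgroup G) (b : Ω) (y : M) :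
    Nat.card {c : M ⧸ stabilizer M b // y • c = c} =
      Nat.card {x : Ω // x ∈ orbit M b ∧ (y : G) • x = x} := by
  refine Nat.card_congr (Equiv.ofBijective (fun c => ⟨ofQuotientStabilizer M b c.1, ?_, ?_⟩) ⟨?_, ?_⟩)
  · exact ofQuotientStabilizer_mem_orbit M b c.1
  · exact (ofQuotientStabilizer_smul M b y c.1).symm.trans (congrArg _ c.2)
  · exact fun c c' h => Subtype.ext (injective_ofQuotientStabilizer M b (congrArg Subtype.val h))
  · rintro ⟨x, ⟨g, rfl⟩, hx⟩
    refine ⟨⟨(g : M ⧸ stabilizer M b), injective_ofQuotientStabilizer M b ?_⟩, Subtype.ext rfl⟩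
    rw [ofQuotientStabilizer_smul]
    exact hx

/-- Two commuting involutions with product in a subgroup of odd order are equal. -/
theorem eq_of_mul_mem_odd {R : Subgroup G} (hR : Odd (Nat.card R)) {s t : G} (hs : orderOf s = 2)
    (ht : orderOf t = 2) (hc : s * t = t * s) (h : s * t ∈ R) : s = t := by
  have h1 : s * t = 1 := orderOf_eq_one_iff.1 (Nat.eq_one_of_dvd_coprimes
    (Nat.coprime_two_left.2 hR) (orderOf_dvd_of_pow_eq_one (by
      rw [pow_two, mul_assoc, ← mul_assoc t s, ← hc, mul_assoc, involution_sq ht, mul_one,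
        involution_sq hs]))
    (orderOf_dvd_natCard _ h))
  exact (eq_inv_of_mul_eq_one_left h1).trans (involution_inv ht)

end TwoGen

variable {G : Type u} {Ω : Type u} [Group G] [Finite G] [MulAction G Ω] [Finite Ω] (hS : Setting G Ω)
  (hfaith : Faithful G Ω) (hIH : IH.{u} (Nat.card G))
include hS hfaith hIH

namespace Setting

/-- If all 2-elements act trivially the image is solvable. -/
theorem solvMod_of_two_mem_cmod {a : Ω}
    (h : ∀ g : G, g • a = a → (∃ k : ℕ, g ^ 2 ^ k = 1) → g ∈ cmod G a) : SolvMod G a := by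
  haveI : Fact (Nat.Prime 2) := ⟨Nat.prime_two⟩
  unfold SolvMod
  refine Cfsg.Agent.S0205.result (G := (imgHom G a).range) ?_
  rw [← Subgroup.index_ker, ← Nat.not_even_iff_odd]
  intro he
  obtain ⟨S⟩ : Nonempty (Sylow 2 (stabilizer G a)) := inferInstance
  have hSk : (S : Subgroup (stabilizer G a)) ≤ (imgHom G a).ker := by
    intro g hg
    obtain ⟨k, hk⟩ := S.isPGroup' ⟨g, hg⟩
    obtain ⟨g', hg', he'⟩ := h g g.2 ⟨k, by simpa [Subtype.ext_iff] using hk⟩
    rwa [← show g' = g from Subtype.ext he']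
  exact S.not_dvd_index (he.two_dvd.trans (Subgroup.index_dvd_of_le hSk))

theorem isClassAt_of_no_commute {a : Ω} {y : G} (hya : y • a = a)
    (h : ∀ t : G, InvAt t a → y * t ≠ t * y) : IsClassAt a (zpowers y) := by
  refine ⟨zpowers_le.2 hya, ?_⟩
  rintro ⟨t, ht, hf⟩
  exact h t ht (mul_inv_eq_iff_eq_mul.1
    (hS.eq_of_congr_core hfaith hIH (ht.conj' hya) ht (hf y (mem_zpowers y))))

/-- A prime power element of odd order fixing no involution at one of its points fixes only two. -/
theorem eq_of_fixed_class {a b c : Ω} {p : ℕ} [Fact p.Prime] (hp : Odd p) {y : G}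
    (hy : IsPGroup p (zpowers y)) (hya : y • a = a) (hcl : ∀ t : G, InvAt t a → y * t ≠ t * y)
    (hba : b ≠ a) (hca : c ≠ a) (hyb : y • b = b) (hyc : y • c = c) : c = b := by
  by_contra hne
  exact hS.fix_le_two hp (zpowers y) hy a b c (hS.isClassAt_of_no_commute hfaith hIH hya hcl)
    hba.symm hca.symm (Ne.symm hne) (zpowers_le.2 hyb) (zpowers_le.2 hyc)

/-- If an element centralises an involution at one of its points, then at each of them. -/
theorem exists_commute_at {a c : Ω} {p : ℕ} [Fact p.Prime] (hp : Odd p) {y : G}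
    (hy : IsPGroup p (zpowers y)) (hya : y • a = a) (hyc : y • c = c) {t : G} (ht : InvAt t a)
    (hyt : y * t = t * y) : ∃ u : G, InvAt u c ∧ y * u = u * y := by
  by_contra hcon
  push Not at hcon
  have hcl := hS.class_of_fix hy (fun S hS' _ _ => hS.fix_le_two hp S hS') hp
    (hS.isClassAt_of_no_commute hfaith hIH hyc hcon) (zpowers_le.2 hya)
  refine hcl.2 ⟨t, ht, fun r hr => ?_⟩
  obtain ⟨i, rfl⟩ := mem_zpowers_iff.1 hr
  rw [((show Commute y t from hyt).zpow_left i).eq, mul_inv_cancel_right, involution_sq ht.1]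
  exact one_mem _

/-- The centraliser of an element centralising a four group at a point. -/
theorem centralizer_moves {a b : Ω} (hab : a ≠ b) {p : ℕ} [Fact p.Prime] (hp : Odd p) {z : G}
    (hz : IsPGroup p (zpowers z)) (hzD : z ∈ pairStab G a b) (hz1 : z ≠ 1) {s t : G}
    (hs : InvAt s a) (ht : InvAt t a) (hne : s ≠ t) (hzs : z * s = s * z) (hzt : z * t = t * z) :
    (∃ k : ℕ, Nat.card {c : Ω // c ≠ a ∧ z • c = c} = 2 ^ k) ∧
      ∀ c : Ω, c ≠ a → z • c = c → ∃ g : G, g • a = a ∧ (∃ k : ℕ, g ^ 2 ^ k = 1) ∧ g • b = c ∧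
        g * z = z * g ∧ ∀ r : G, InvAt r a → r * z = z * r → g * r = r * g := by
  have hza : z • a = a := hzD.1
  set N := centralizer ({z} : Set G) with hN
  have hNtop : N ≠ ⊤ := fun h => hz1 (hfaith z fun x => by
    obtain ⟨k, rfl⟩ := hS.trans a x
    have hk : k * z = z * k := mem_centralizer_singleton_iff.1 (show k ∈ N from h ▸ mem_top k)
    rw [← mul_smul, ← hk, mul_smul, hza])
  have hat : ∀ c : Ω, z • c = c → ∃ u ∈ N, InvAt u c := fun c hc => by
    obtain ⟨u, hu, hzu⟩ := hS.exists_commute_at hfaith hIH hp hz hza hc ht hzt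
    exact ⟨u, mem_centralizer_singleton_iff.2 hzu.symm, hu⟩
  obtain ⟨i, hiN, hi⟩ := hat b hzD.2
  have hL := localConcl hS.toSetting0 hIH (N := N) (w := a)
    ⟨hNtop, ⟨s, t, mem_centralizer_singleton_iff.2 hzs.symm, mem_centralizer_singleton_iff.2 hzt.symm,
      hs, ht, hne, hS.commute_invAt hfaith hIH hs ht⟩, ⟨i, hiN, hi.1, hS.ne_of_inv hi hab⟩⟩
  have horb : ∀ c : Ω, z • c = c → c ∈ orb N a := fun c hc => by
    obtain ⟨u, huN, hu⟩ := hat c hc
    exact hL.centres u huN c hu
  refine ⟨?_, fun c hca hzc => ?_⟩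
  · obtain ⟨k, -, hk⟩ := hL.card
    refine ⟨k, Eq.trans (Nat.card_congr (Equiv.subtypeEquivRight fun c => ⟨fun h => ⟨h.1, horb c h.2⟩,
      ?_⟩)) hk⟩
    rintro ⟨hca, h, hh, rfl⟩
    refine ⟨hca, ?_⟩
    rw [← mul_smul, ← mem_centralizer_singleton_iff.1 hh, mul_smul, hza]
  · obtain ⟨g, hgN, hg2, hga, hgb, hgt⟩ := hL.move b c (horb b hzD.2) (horb c hzc) hab.symm hca
    refine ⟨g, hga, hg2, hgb, mem_centralizer_singleton_iff.1 hgN, fun r hr hrz => ?_⟩
    have hgr := hr.conj' hga
    refine mul_inv_eq_iff_eq_mul.1 (eq_of_mul_mem_odd (coreIn_odd N a) hgr.1 hr.1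
      (hS.commute_invAt hfaith hIH hgr hr) (hgt r (mem_centralizer_singleton_iff.2 hrz) hr))

/-- No 2-element acts if the two-point stabilisers meet their subgroup trivially. -/
theorem solvMod_of_free {a b : Ω} (hab : a ≠ b)
    (h : ∀ x ∈ twoGen G a, x • b = b → x = 1) : SolvMod G a := by
  classical
  set M := twoGen G a
  set N := M.subgroupOf (stabilizer G a) with hNdef
  haveI hNn : N.Normal := normal_subgroupOf_of_le_normalizer (le_normalizer_twoGen a)
  have hcop : ∀ r : ℕ, r.Prime → r ∣ Nat.card (Img G a) → ¬ r ∣ Nat.card M := by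
    intro r hr hd hM
    haveI := Fact.mk hr
    have hodd : Odd r := (hS.card_img_odd a).of_dvd_nat hd
    obtain ⟨P, hP⟩ := exists_isSyl r (pairStab G a b)
    obtain ⟨-, hPa, -⟩ := hS.syl_fix hab hodd hd hP
    have hPM := hPa.inf_of_le_normalizer (twoGen_le a) (le_normalizer_twoGen a)
    have hbot : P ⊓ M = ⊥ := (Subgroup.eq_bot_iff_forall _).2 fun x hx => h x hx.2 (hP.le hx.1).2
    have h1 := hPM.2
    rw [hbot, Subgroup.card_bot] at h1
    have h2 : 0 < vp r (Nat.card M) := hr.factorization_pos_of_dvd Nat.card_pos.ne' hM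
    exact (Nat.one_lt_pow h2.ne' hr.one_lt).ne h1
  haveI : IsPretransitive (stabilizer G a) (Img G a) := ⟨fun q q' => by
    obtain ⟨d, -, hd⟩ := hS.exists_smul_img hab q q'
    exact ⟨d, hd⟩⟩
  have htriv : ∀ q : Img G a, ∀ g : N, (g : stabilizer G a) • q = q := by
    intro q g
    have hB : IsBlock (stabilizer G a) (orbit N q) := IsBlock.orbit_of_normal q
    have h1 : Set.ncard (orbit N q) ∣ Nat.card (Img G a) := hB.ncard_dvd_card ⟨q, mem_orbit_self q⟩
    have h2 : Set.ncard (orbit N q) ∣ Nat.card M := by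
      rw [← Nat.card_congr (subgroupOfEquivOfLe (twoGen_le a)).toEquiv, ← Nat.card_coe_set_eq,
        ← hNdef]
      exact ⟨Nat.card (stabilizer N q), by
        rw [Nat.card_congr (orbitEquivQuotientStabilizer N q)]
        exact (stabilizer N q).card_eq_card_quotient_mul_card_subgroup⟩
    have h3 : Set.ncard (orbit N q) = 1 := Nat.eq_one_of_dvd_coprimes
      (Nat.coprime_of_dvd fun r hr hr1 hr2 => hcop r hr hr1 hr2) h1 h2
    obtain ⟨z, hz⟩ := Set.ncard_eq_one.1 h3
    have e1 : q = z := by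
      have := mem_orbit_self (M := N) q
      rwa [hz, Set.mem_singleton_iff] at this
    have e2 : (g : stabilizer G a) • q = z := by
      have h : (g : stabilizer G a) • q ∈ orbit N q := mem_orbit q g
      rwa [hz, Set.mem_singleton_iff] at h
    rw [e2, e1]
  refine hS.solvMod_of_two_mem_cmod hfaith hIH fun g hga hg2 => ?_
  exact ⟨⟨g, hga⟩, MonoidHom.mem_ker.2 (Equiv.ext fun q =>
    htriv q ⟨⟨g, hga⟩, mem_subgroupOf.2 (mem_twoGen hga hg2)⟩), rfl⟩

/-- The semilinear case. -/
theorem solvMod_of_semilinear (hF2 : CommCharStep.{u}) {a b : Ω} (hab : a ≠ b)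
    (hX : pairStab G a b ⊓ cmod G a = ⊥) {F : Type u} [Field F] [Finite F] [CharP F 2] {n : ℕ}
    (hn : Nat.card F = 2 ^ n) (coord : Multiplicative F →* G) (hinj : Function.Injective coord)
    (hinv : ∀ t : G, InvAt t a ↔ ∃ x : F, x ≠ 0 ∧ coord (Multiplicative.ofAdd x) = t)
    (hsem : ∀ d ∈ pairStab G a b, ∃ (c : F) (σ : F ≃+* F), ∀ x : F,
      d * coord (Multiplicative.ofAdd x) * d⁻¹ = coord (Multiplicative.ofAdd (c * σ x))) :
    SolvMod G a := by
  classical
  set D := pairStab G a b with hD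
  have hDodd : Odd (Nat.card D) := hS.odd_pairStab hab
  let j : F → G := fun x => coord (Multiplicative.ofAdd x)
  have hjinj : Function.Injective j := fun x y h => Multiplicative.ofAdd.injective (hinj h)
  have hjI : ∀ x : F, x ≠ 0 → InvAt (j x) a := fun x hx => (hinv _).2 ⟨x, hx, rfl⟩
  have hfaithD : ∀ d ∈ D, (∀ t : G, InvAt t a → d * t = t * d) → d = 1 := fun d hd h => by
    have : d ∈ D ⊓ cmod G a := ⟨hd, hS.mem_cmod_of_commute hfaith hIH hd.1 h⟩
    rwa [hX, mem_bot] at this
  choose c σ hact using fun d : D => hsem d d.2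
  have hc0 : ∀ d : D, c d ≠ 0 := fun d h0 => by
    have h1 := hact d 1
    rw [h0, zero_mul, show coord (Multiplicative.ofAdd (0 : F)) = 1 from map_one coord] at h1
    have h2 : j 1 = 1 := conj_eq_one_iff.1 h1
    exact involution_ne_one (hjI 1 one_ne_zero).1 h2
  have huniq : ∀ (d : D) (c' : F) (σ' : F ≃+* F),
      (∀ x : F, (d : G) * j x * (d : G)⁻¹ = j (c' * σ' x)) → c' = c d ∧ σ' = σ d := by
    intro d c' σ' h
    have h1 : ∀ x, c' * σ' x = c d * σ d x := fun x => hjinj ((h x).symm.trans (hact d x))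
    have h2 : c' = c d := by have := h1 1; simpa using this
    refine ⟨h2, RingEquiv.ext fun x => ?_⟩
    have h3 := h1 x
    rw [h2] at h3
    exact mul_left_cancel₀ (hc0 d) h3
  let τ : D →* (F ≃+* F) := MonoidHom.mk' σ fun d d' => by
    refine ((huniq (d * d') (c d * σ d (c d')) (σ d * σ d') fun x => ?_).2).symm
    calc ((d * d' : D) : G) * j x * ((d * d' : D) : G)⁻¹
        = (d : G) * ((d' : G) * j x * (d' : G)⁻¹) * (d : G)⁻¹ := by push_cast; group
      _ = (d : G) * j (c d' * σ d' x) * (d : G)⁻¹ := congrArg (fun z => (d : G) * z * (d : G)⁻¹) (hact d' x)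
      _ = j (c d * σ d (c d' * σ d' x)) := hact d _
      _ = _ := by rw [map_mul, RingAut.mul_apply, mul_assoc]
  -- fixed vectors of a semilinear map
  have hcomm : ∀ (d : D) (x : F), (d : G) * j x = j x * d ↔ c d * σ d x = x := fun d x => by
    constructor
    · intro h
      refine hjinj ((hact d x).symm.trans ?_)
      show (d : G) * j x * (d : G)⁻¹ = j x
      rw [h, mul_inv_cancel_right]
    · intro h
      refine mul_inv_eq_iff_eq_mul.1 ((hact d x).trans ?_)
      rw [h]
  have hlin : ∀ d : D, τ d = 1 → ∀ t : G, InvAt t a → (d : G) * t = t * d → d = 1 := by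
    intro d hd t ht hdt
    obtain ⟨x, hx, rfl⟩ := (hinv t).1 ht
    have h1 := (hcomm d x).1 hdt
    have h2 : σ d = 1 := hd
    rw [h2, RingAut.one_apply] at h1
    have h3 : c d = 1 := mul_right_cancel₀ hx (h1.trans (one_mul x).symm)
    refine Subtype.ext (hfaithD d d.2 fun t ht => ?_)
    obtain ⟨y, -, rfl⟩ := (hinv t).1 ht
    exact (hcomm d y).2 (by rw [h2, RingAut.one_apply, h3, one_mul])
  -- the subgroup generated by the 2-elements
  set M := twoGen G a with hM
  set H := stabilizer M b with hH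
  let ι : H →* D := ((M.subtype).comp H.subtype).codRestrict D fun h =>
    ⟨twoGen_le a (h : M).2, mem_stabilizer_iff.1 h.2⟩
  have hιinj : Function.Injective ι := fun x y h =>
    Subtype.ext (Subtype.ext (congrArg Subtype.val h :))
  have hHodd : Odd (Nat.card H) := hDodd.of_dvd_nat (Subgroup.card_dvd_of_injective ι hιinj)
  haveI : Finite (F ≃+* F) :=
    Finite.of_injective (fun e => (e : F → F)) fun e e' h => RingEquiv.ext (congrFun h)
  haveI := FieldAut.isCyclic_aut (F := F)
  set R := (τ.comp ι).range with hR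
  letI : CommGroup R := IsCyclic.commGroup
  have hfixb : ∀ (g y : M), g⁻¹ * y * g ∈ H → (y : G) • ((g : G) • b) = (g : G) • b ∧ (g : G) • b ≠ a := by
    intro g y hg
    refine ⟨?_, fun h => hab ((smul_left_cancel (g : G) (h.trans (twoGen_le a g.2).symm)).symm)⟩
    have h1 : (g⁻¹ * y * g) • b = b := mem_stabilizer_iff.1 hg
    rw [mul_smul, mul_smul, inv_smul_eq_iff] at h1
    exact h1
  by_cases hR1 : R = ⊥
  · -- all linear: `H` is trivial
    refine hS.solvMod_of_free hfaith hIH hab ?_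
    have hlinH : ∀ h : H, τ (ι h) = 1 := fun h => by
      have : τ (ι h) ∈ R := ⟨h, rfl⟩
      rwa [hR1, mem_bot] at this
    have hHcomm : ∀ x y : H, x * y = y * x := by
      intro x y
      have hh : ∀ (d : D), τ d = 1 → ∀ w, (d : G) * j w * (d : G)⁻¹ = j (c d * w) := fun d hd w => by
        have := hact d w
        rwa [show σ d = 1 from hd] at this
      have e1 := hh _ (hlinH x)
      have e2 := hh _ (hlinH y)
      have e3 : ((ι y * ι x)⁻¹ * (ι x * ι y) : D) = 1 := by
        refine Subtype.ext (hfaithD _ ((ι y * ι x)⁻¹ * (ι x * ι y) : D).2 fun t ht => ?_)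
        obtain ⟨z, -, rfl⟩ := (hinv t).1 ht
        refine mul_inv_eq_iff_eq_mul.1 ?_
        show _ * j z * _ = j z
        push_cast
        calc _ = ((ι y : G) * ι x)⁻¹ * ((ι x : G) * ((ι y : G) * j z * (ι y : G)⁻¹) * (ι x : G)⁻¹) *
              ((ι y : G) * ι x) := by group
          _ = ((ι y : G) * ι x)⁻¹ * ((ι y : G) * ((ι x : G) * j z * (ι x : G)⁻¹) * (ι y : G)⁻¹) *
              ((ι y : G) * ι x) := by rw [e2, e1, e1, e2, mul_left_comm]
          _ = j z := by group
      refine hιinj ?_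
      rw [map_mul, map_mul]
      exact (inv_mul_eq_one.1 e3).symm
    letI : CommGroup H := { (inferInstance : Group H) with mul_comm := hHcomm }
    intro x hxM hxb
    by_contra hx1
    have hxH : (⟨x, hxM⟩ : M) ∈ H := hxb
    haveI : Nontrivial H := ⟨⟨⟨⟨x, hxM⟩, hxH⟩, 1, fun e => hx1 (congrArg (fun z : H => ((z : M) : G)) e)⟩⟩
    obtain ⟨p, hp, hpH⟩ := Nat.exists_prime_and_dvd (Finite.one_lt_card (α := H)).ne'
    haveI := Fact.mk hp
    obtain ⟨y, hy⟩ := exists_prime_orderOf_dvd_card' (G := H) p hpH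
    have hodd : Odd p := hHodd.of_dvd_nat hpH
    have hyo : orderOf ((y : M) : G) = p := by rw [Subgroup.orderOf_coe, Subgroup.orderOf_coe, hy]
    have hyp : IsPGroup p (zpowers ((y : M) : G)) :=
      IsPGroup.of_card (n := 1) (by rw [Nat.card_zpowers, hyo, pow_one])
    have hcl : ∀ t : G, InvAt t a → ((y : M) : G) * t ≠ t * (y : M) := fun t ht h => by
      have h1 := congrArg (fun z : D => (z : G)) (hlin (ι y) (hlinH y) t ht h)
      have h2 : ((y : M) : G) = 1 := h1
      rw [h2, orderOf_one] at hyo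
      exact hp.ne_one hyo.symm
    have honly : ∀ c : Ω, c ≠ a → ((y : M) : G) • c = c → c = b := fun c hca hc =>
      hS.eq_of_fixed_class hfaith hIH hodd hyp (twoGen_le a (y : M).2) hcl hab.symm hca
        (mem_stabilizer_iff.1 y.2) hc
    have hV := FieldAut.transfer_eq_pow_fixed (MonoidHom.id H) (y : M) y
      (fun g hg => by
        obtain ⟨h1, h2⟩ := hfixb g y hg
        have hgH : g ∈ H := honly _ h2 h1
        have e : (⟨g⁻¹ * (y : M) * g, hg⟩ : H) = (⟨g, hgH⟩ : H)⁻¹ * y * ⟨g, hgH⟩ := Subtype.ext rfl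
        rw [MonoidHom.id_apply, e, hHcomm, mul_inv_cancel_left])
      (fun l g hg hl hld => by
        refine Subtype.ext ?_
        show g⁻¹ * (y : M) ^ l * g = 1
        rw [Subgroup.orderOf_coe, hy] at hld
        rw [((Nat.dvd_prime hp).1 hld).resolve_left (by omega),
          show (y : M) ^ p = 1 by rw [← hy, ← Subgroup.orderOf_coe]; exact pow_orderOf_eq_one _]
        simp)
    rw [twoGen_hom_trivial hHodd, card_fixed_cosets] at hV
    have hone : Nat.card {x : Ω // x ∈ orbit M b ∧ ((y : M) : G) • x = x} = 1 := by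
      refine Nat.card_eq_one_iff_unique.2 ⟨⟨fun u v => Subtype.ext ?_⟩,
        ⟨⟨b, mem_orbit_self b, mem_stabilizer_iff.1 y.2⟩⟩⟩
      have hne : ∀ z ∈ orbit M b, z ≠ a := by
        rintro _ ⟨g, rfl⟩ h
        exact hab ((smul_left_cancel (g : G) (h.trans (twoGen_le a g.2).symm)).symm)
      rw [honly _ (hne _ u.2.1) u.2.2, honly _ (hne _ v.2.1) v.2.2]
    rw [hone, pow_one] at hV
    rw [← hV, orderOf_one] at hy
    exact hp.ne_one hy.symm
  -- field automorphisms occur
  set K := Nat.card R with hK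
  have hK1 : K ≠ 1 := fun h => hR1 (Subgroup.card_eq_one.1 h)
  have hKodd : Odd K := hHodd.of_dvd_nat (Subgroup.card_range_dvd _)
  obtain ⟨q, hq, hqK⟩ := Nat.exists_prime_and_dvd hK1
  haveI := Fact.mk hq
  have hqodd : Odd q := hKodd.of_dvd_nat hqK
  set η : H →* R := (powMonoidHom (K / q)).comp (τ.comp ι).rangeRestrict with hη
  have hηq : ∀ h : H, η h ^ q = 1 := fun h => by
    show (((τ.comp ι).rangeRestrict h) ^ (K / q)) ^ q = 1
    rw [← pow_mul, Nat.div_mul_cancel hqK]
    exact pow_card_eq_one'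
  obtain ⟨g₀, hg₀⟩ := IsCyclic.exists_generator (α := R)
  obtain ⟨h₀, hh₀⟩ := (τ.comp ι).rangeRestrict_surjective g₀
  have hex : ∃ m, ∃ y : H, η y ≠ 1 ∧ orderOf y = m := by
    refine ⟨_, h₀, fun e => ?_, rfl⟩
    have e' : g₀ ^ (K / q) = 1 := by rw [← hh₀]; exact e
    have h1 := orderOf_dvd_of_pow_eq_one e'
    rw [orderOf_eq_card_of_forall_mem_zpowers hg₀, ← hK] at h1
    have h2 : K / q < K := Nat.div_lt_self Nat.card_pos hq.one_lt
    exact absurd (Nat.le_of_dvd (Nat.div_pos (Nat.le_of_dvd Nat.card_pos hqK) hq.pos) h1) (not_le.2 h2)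
  obtain ⟨y, hy1, hym⟩ := Nat.find_spec hex
  have hmin : ∀ y' : H, orderOf y' < orderOf y → η y' = 1 := fun y' hlt => by
    by_contra hne
    exact Nat.find_min hex (hym ▸ hlt) ⟨y', hne, rfl⟩
  have hηy : orderOf (η y) = q := orderOf_eq_prime (hηq y) hy1
  obtain ⟨i, hi⟩ : ∃ i, orderOf y = q ^ i := by
    refine ⟨_, Nat.eq_prime_pow_of_unique_prime_dvd (orderOf_pos y).ne' fun {d} hd hdy => ?_⟩
    by_contra hdq
    have hlt : orderOf (y ^ d) < orderOf y := by
      rw [orderOf_pow_of_dvd hd.ne_zero hdy]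
      exact Nat.div_lt_self (orderOf_pos y) hd.one_lt
    have h1 := hmin _ hlt
    rw [map_pow] at h1
    have h2 := orderOf_dvd_of_pow_eq_one h1
    rw [hηy] at h2
    exact hdq ((Nat.prime_dvd_prime_iff_eq hq hd).1 h2).symm
  set yg : G := ((y : M) : G) with hyg
  have hygo : orderOf yg = q ^ i := by rw [hyg, Subgroup.orderOf_coe, Subgroup.orderOf_coe, hi]
  have hyq : IsPGroup q (zpowers yg) := IsPGroup.of_card (by rw [Nat.card_zpowers, hygo])
  have hyD : yg ∈ D := (ι y).2
  have hne : ∀ z ∈ orbit M b, z ≠ a := by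
    rintro _ ⟨g, rfl⟩ h
    exact hab ((smul_left_cancel (g : G) (h.trans (twoGen_le a g.2).symm)).symm)
  -- constant terms contradict the count
  have hcount : (∀ (g : M) (hg : g⁻¹ * (y : M) * g ∈ H), η ⟨_, hg⟩ = η y) →
      q ∣ Nat.card {x : Ω // x ∈ orbit M b ∧ yg • x = x} := by
    intro hterm
    have hV := FieldAut.transfer_eq_pow_fixed η (y : M) (η y) hterm (fun l g hg hl hld => hmin _ ?_)
    · rw [twoGen_hom_trivial hKodd, card_fixed_cosets] at hV
      rw [← hηy]
      exact orderOf_dvd_of_pow_eq_one hV.symm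
    rw [← Subgroup.orderOf_coe]
    show orderOf (g⁻¹ * (y : M) ^ l * g) < orderOf y
    rw [show g⁻¹ * (y : M) ^ l * g = g⁻¹ * (y : M) ^ l * g⁻¹⁻¹ by rw [inv_inv],
      CfsgLib.Signalizer.orderOf_conj, orderOf_pow_of_dvd (by omega) hld, Subgroup.orderOf_coe]
    exact Nat.div_lt_self (orderOf_pos y) hl
  -- conjugation inside `H` does not change `η`
  have hηconj : ∀ (g u : M) (hg : g⁻¹ * (y : M) * g ∈ H) (hu : u⁻¹ * (y : M) * u ∈ H),
      u⁻¹ * g ∈ H → η ⟨_, hg⟩ = η ⟨_, hu⟩ := by
    intro g u hg hu hug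
    have e : (⟨g⁻¹ * (y : M) * g, hg⟩ : H) = (⟨_, hug⟩ : H)⁻¹ * ⟨_, hu⟩ * ⟨_, hug⟩ :=
      Subtype.ext (show g⁻¹ * (y : M) * g = (u⁻¹ * g)⁻¹ * (u⁻¹ * (y : M) * u) * (u⁻¹ * g) by group)
    rw [e, map_mul, map_mul, map_inv, mul_comm _ (η ⟨_, hu⟩), inv_mul_cancel_right]
  -- the centraliser of a power with a four group
  have key : ∀ z : G, z ∈ D → IsPGroup q (zpowers z) → z ≠ 1 → yg * z = z * yg →
      (∀ x : Ω, yg • x = x → z • x = x) →
      (∀ (u : M) (hu : u⁻¹ * (y : M) * u ∈ H), (u : G) * z = z * u →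
        (∀ r : G, InvAt r a → r * z = z * r → (u : G) * r = r * u) → η ⟨_, hu⟩ = η y) →
      ∀ s t : G, InvAt s a → InvAt t a → s ≠ t → z * s = s * z → z * t = t * z → False := by
    intro z hzD hzq hz1 hyz hsub hη' s t hs ht hst hzs hzt
    obtain ⟨⟨k, hk⟩, hmove⟩ := hS.centralizer_moves hfaith hIH hab hqodd hzq hzD hz1 hs ht hst hzs hzt
    have hd := hcount fun g hg => by
      obtain ⟨h1, h2⟩ := hfixb g y hg
      obtain ⟨u, hua, hu2, hub, huz, hur⟩ := hmove _ h2 (hsub _ h1)
      have hug : (⟨u, mem_twoGen hua hu2⟩ : M)⁻¹ * g ∈ H := by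
        refine mem_stabilizer_iff.2 ?_
        rw [mul_smul, inv_smul_eq_iff]
        exact hub.symm
      have hu : (⟨u, mem_twoGen hua hu2⟩ : M)⁻¹ * (y : M) * ⟨u, mem_twoGen hua hu2⟩ ∈ H := by
        refine mem_stabilizer_iff.2 ?_
        rw [mul_smul, mul_smul, inv_smul_eq_iff]
        show yg • u • b = u • b
        rw [hub]; exact h1
      rw [hηconj g _ hg hu hug]
      exact hη' _ hu huz hur
    -- the fixed points of `y` among those of `z`
    set P := {c : Ω // c ≠ a ∧ z • c = c}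
    let _ : MulAction (zpowers yg) P :=
      { smul := fun r p => ⟨(r : G) • p.1, fun h => p.2.1 (smul_left_cancel (r : G)
            (h.trans (show (r : G) • a = a from (zpowers_le.2 hyD.1) r.2).symm)), by
          have hrz : Commute z (r : G) := by
            obtain ⟨l, hl⟩ := mem_zpowers_iff.1 r.2
            rw [← hl]
            exact (show Commute z yg from hyz.symm).zpow_right l
          rw [← mul_smul, hrz.eq, mul_smul, p.2.2]⟩
        one_smul := fun p => Subtype.ext (one_smul G _)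
        mul_smul := fun r r' p => Subtype.ext (mul_smul (r : G) r' _) }
    have hmod := hyq.card_modEq_card_fixedPoints P
    have hequiv : Nat.card (fixedPoints (zpowers yg) P) =
        Nat.card {x : Ω // x ∈ orbit M b ∧ yg • x = x} := by
      refine Nat.card_congr (Equiv.ofBijective (fun p => ⟨(p.1 : P).1, ?_, ?_⟩) ⟨?_, ?_⟩)
      · obtain ⟨u, hua, hu2, hub, -, -⟩ := hmove _ p.1.2.1 p.1.2.2
        exact ⟨⟨u, mem_twoGen hua hu2⟩, hub⟩
      · exact congrArg Subtype.val (p.2 ⟨yg, mem_zpowers yg⟩)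
      · exact fun p p' h => Subtype.ext (Subtype.ext (congrArg Subtype.val h :))
      · rintro ⟨x, hxo, hx⟩
        refine ⟨⟨⟨x, hne x hxo, hsub x hx⟩, fun r => Subtype.ext ?_⟩, rfl⟩
        exact (zpowers_le.2 (show yg ∈ stabilizer G x from hx)) r.2
    rw [hequiv, hk] at hmod
    have h2 : q ∣ 2 ^ k := Nat.modEq_zero_iff_dvd.1 (hmod.trans (Nat.modEq_zero_iff_dvd.2 hd))
    have h3 := hq.dvd_of_dvd_pow h2
    rw [Nat.prime_dvd_prime_iff_eq hq Nat.prime_two] at h3
    rw [h3] at hqodd
    exact absurd hqodd (by decide)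
  have hyg1 : yg ≠ 1 := fun h => hy1 (by
    have : y = 1 := Subtype.ext (Subtype.ext h)
    rw [this, map_one])
  by_cases hcl : ∀ t : G, InvAt t a → yg * t ≠ t * yg
  · -- no involution centralised: two fixed points
    exfalso
    have honly : ∀ c : Ω, c ≠ a → yg • c = c → c = b := fun c hca hc =>
      hS.eq_of_fixed_class hfaith hIH hqodd hyq hyD.1 hcl hab.symm hca hyD.2 hc
    have hd := hcount fun g hg => by
      obtain ⟨h1, h2⟩ := hfixb g y hg
      have hgH : (1 : M)⁻¹ * g ∈ H := by rw [inv_one, one_mul]; exact honly _ h2 h1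
      have h11 : (1 : M)⁻¹ * (y : M) * 1 ∈ H := by rw [inv_one, one_mul, mul_one]; exact y.2
      rw [hηconj g 1 hg h11 hgH]
      exact congrArg η (Subtype.ext (by simp))
    rw [Nat.card_eq_one_iff_unique.2 ⟨⟨fun u v => Subtype.ext (by
        rw [honly _ (hne _ u.2.1) u.2.2, honly _ (hne _ v.2.1) v.2.2])⟩,
      ⟨⟨b, mem_orbit_self b, hyD.2⟩⟩⟩] at hd
    exact hq.not_dvd_one hd
  push Not at hcl
  obtain ⟨t₀, ht₀, hyt₀⟩ := hcl
  by_cases hfour : ∃ s : G, InvAt s a ∧ s ≠ t₀ ∧ yg * s = s * yg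
  · exfalso
    obtain ⟨s, hs, hst, hys⟩ := hfour
    refine key yg hyD hyq hyg1 rfl (fun _ h => h) (fun u hu huz _ => ?_) s t₀ hs ht₀ hst hys hyt₀
    refine congrArg η (Subtype.ext ?_)
    show u⁻¹ * (y : M) * u = (y : M)
    refine Subtype.ext ?_
    show (u : G)⁻¹ * yg * u = yg
    rw [mul_assoc, ← huz, inv_mul_cancel_left]
  push Not at hfour
  obtain ⟨x₀, hx₀, rfl⟩ := (hinv t₀).1 ht₀
  set dy : D := ι y with hdy
  have hfix0 : c dy * σ dy x₀ = x₀ := (hcomm dy x₀).1 hyt₀
  have hσfix : ∀ x : F, σ dy x = x → x = 0 ∨ x = 1 := by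
    intro x hx
    by_cases hx0 : x = 0
    · exact Or.inl hx0
    refine Or.inr ?_
    by_contra hx1
    refine hfour (j (x₀ * x)) (hjI _ (mul_ne_zero hx₀ hx0)) (fun e => hx1 ?_)
      ((hcomm dy _).2 (by rw [map_mul, hx, ← mul_assoc, hfix0]))
    exact mul_left_cancel₀ hx₀ ((hjinj e).trans (mul_one x₀).symm)
  obtain ⟨hord, hcard, hgen⟩ := FieldAut.orderOf_of_fixed hn hσfix
  have hτy : orderOf (τ dy) = n := hord
  have hdyn : orderOf dy = n := by
    refine Nat.dvd_antisymm (orderOf_dvd_of_pow_eq_one ?_) (hτy ▸ orderOf_map_dvd τ dy)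
    have h1 : τ (dy ^ n) = 1 := by rw [map_pow, ← hτy, pow_orderOf_eq_one]
    exact hlin _ h1 _ ht₀ (by
      rw [Subgroup.coe_pow]
      exact ((show Commute (dy : G) (coord (Multiplicative.ofAdd x₀)) from hyt₀).pow_left n).eq)
  have hni : n = q ^ i := by rw [← hdyn, ← hygo, ← Subgroup.orderOf_coe]; rfl
  have hyR : τ dy ∈ R := ⟨y, rfl⟩
  have hKn : K = n := by
    refine le_antisymm (hcard ▸ Subgroup.card_le_card_group R) ?_
    rw [← hτy, ← Subgroup.orderOf_mk (τ dy) hyR]
    exact orderOf_le_card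
  by_cases hzne : yg ^ q = 1
  · -- the configuration of the character step
    have hnq : n = q := by
      have h1 := orderOf_dvd_of_pow_eq_one hzne
      rw [hygo, ← hni] at h1
      rcases (Nat.dvd_prime hq).1 h1 with h | h
      · exact absurd (orderOf_eq_one_iff.1 (show orderOf yg = 1 by rw [hygo, ← hni, h])) hyg1
      · exact h
    have hF : Nat.card F = 2 ^ q := hnq ▸ hn
    have hI : Nat.card {t : G // InvAt t a} = 2 ^ q - 1 := by
      rw [Nat.card_congr (Equiv.ofBijective (fun x : {x : F // x ≠ 0} =>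
          (⟨j x.1, hjI x.1 x.2⟩ : {t : G // InvAt t a}))
        ⟨fun x x' h => Subtype.ext (hjinj (congrArg Subtype.val h :)), fun t => by
          obtain ⟨x, hx, hxt⟩ := (hinv t.1).1 t.2
          exact ⟨⟨x, hx⟩, Subtype.ext hxt⟩⟩).symm]
      haveI := Fintype.ofFinite F
      rw [Nat.card_eq_fintype_card, Fintype.card_subtype_compl, Fintype.card_subtype_eq,
        ← Nat.card_eq_fintype_card, hF]
    set T : Subgroup G := D ⊓ centralizer {coord (Multiplicative.ofAdd x₀)} with hT
    have hTq : Nat.card T = q := by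
      refine le_antisymm ?_ ?_
      · rw [← hnq, ← hcard]
        let f : T →* (F ≃+* F) := τ.comp (Subgroup.inclusion inf_le_left)
        have hf : Function.Injective f := (injective_iff_map_eq_one f).2 fun d hd => by
          have h1 := hlin (Subgroup.inclusion inf_le_left d) hd _ ht₀
            (mem_centralizer_singleton_iff.1 d.2.2)
          exact Subtype.ext (congrArg Subtype.val h1 :)
        exact Nat.card_le_card_of_injective f hf
      · have h1 : orderOf yg ∣ Nat.card T :=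
          Subgroup.orderOf_dvd_natCard _ ⟨hyD, mem_centralizer_singleton_iff.2 hyt₀⟩
        rw [hygo, ← hni, hnq] at h1
        exact Nat.le_of_dvd Nat.card_pos h1
    have hDc : Nat.card D = (2 ^ q - 1) * q := by
      rw [← hS.card_pairStab_invAt hab ht₀, hI, ← hT, hTq]
    exact hF2 G Ω hS a b q F coord
      ⟨hab, hq, hF, hinj, hinv, hsem, hfaithD, hDc⟩
  -- a proper power with a four group
  exfalso
  have hzD : yg ^ q ∈ D := D.pow_mem hyD q
  have hzq : IsPGroup q (zpowers (yg ^ q)) :=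
    hyq.to_le (zpowers_le.2 (pow_mem (mem_zpowers yg) q))
  have hzt₀ : yg ^ q * coord (Multiplicative.ofAdd x₀) = coord (Multiplicative.ofAdd x₀) * yg ^ q :=
    ((show Commute yg (coord (Multiplicative.ofAdd x₀)) from hyt₀).pow_left q).eq
  set dz : D := dy ^ q with hdz
  have hdzg : (dz : G) = yg ^ q := by rw [hdz, Subgroup.coe_pow]; rfl
  have hσz : σ dz = σ dy ^ q := map_pow τ dy q
  have hfz : c dz * σ dz x₀ = x₀ := (hcomm dz x₀).1 (by rw [hdzg]; exact hzt₀)
  -- the fixed field of the power is not prime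
  obtain ⟨x₁, hx₁, hx₁0, hx₁1⟩ : ∃ x : F, (σ dy ^ q) x = x ∧ x ≠ 0 ∧ x ≠ 1 := by
    by_contra hcon
    push Not at hcon
    have h1 : ∀ x : F, (σ dy ^ q) x = x → x = 0 ∨ x = 1 := fun x hx => by
      by_cases hx0 : x = 0
      · exact Or.inl hx0
      · exact Or.inr (hcon x hx hx0)
    have h2 := (FieldAut.orderOf_of_fixed hn h1).1
    have hqn : q ∣ orderOf (σ dy) := by
      rw [show orderOf (σ dy) = n from hord, hni]
      refine dvd_pow_self q fun h0 => hyg1 ?_
      rw [h0, pow_zero] at hygo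
      exact orderOf_eq_one_iff.1 hygo
    rw [orderOf_pow_of_dvd hq.ne_zero hqn, show orderOf (σ dy) = n from hord] at h2
    have hn0 : 0 < n := hdyn ▸ orderOf_pos dy
    have := Nat.div_lt_self hn0 hq.one_lt
    omega
  refine key _ hzD hzq hzne (by rw [← pow_succ', pow_succ]) (fun x hx => ?_) ?_
    (j (x₀ * x₁)) (coord (Multiplicative.ofAdd x₀)) (hjI _ (mul_ne_zero hx₀ hx₁0)) ht₀ ?_ ?_ hzt₀
  · exact (stabilizer G x).pow_mem hx q
  · intro u hu huz hur
    set y' : H := ⟨_, hu⟩ with hy'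
    have hy'g : ((ι y' : D) : G) = (u : G)⁻¹ * yg * u := rfl
    -- agreement on the involutions centralising the power
    have hagree : ∀ x : F, (σ dy ^ q) x = x → σ (ι y') x = σ dy x := by
      have hz : ∀ x : F, (σ dy ^ q) x = x →
          c (ι y') * σ (ι y') (x₀ * x) = c dy * σ dy (x₀ * x) := by
        intro x hx
        by_cases hx0 : x = 0
        · simp [hx0]
        have h1 : yg ^ q * j (x₀ * x) = j (x₀ * x) * yg ^ q := by
          rw [← hdzg]
          exact (hcomm dz _).2 (by rw [map_mul, hσz, hx, ← mul_assoc, ← hσz, hfz])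
        have hr : InvAt (j (x₀ * x)) a := hjI _ (mul_ne_zero hx₀ hx0)
        have hr' : InvAt (yg * j (x₀ * x) * yg⁻¹) a := hr.conj' hyD.1
        have h2 : (u : G) * j (x₀ * x) = j (x₀ * x) * u := hur _ hr h1.symm
        have h3 : (u : G) * (yg * j (x₀ * x) * yg⁻¹) = yg * j (x₀ * x) * yg⁻¹ * u := by
          refine hur _ hr' ?_
          have e1 : Commute (yg ^ q) yg := (Commute.refl yg).pow_left q
          exact ((e1.mul_right (show Commute (yg ^ q) (j (x₀ * x)) from h1)).mul_right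
            e1.inv_right).eq.symm
        refine hjinj ((hact (ι y') _).symm.trans (Eq.trans ?_ (hact dy _)))
        show (u : G)⁻¹ * yg * u * j (x₀ * x) * ((u : G)⁻¹ * yg * u)⁻¹ = yg * j (x₀ * x) * yg⁻¹
        calc _ = (u : G)⁻¹ * yg * ((u : G) * j (x₀ * x)) * (u : G)⁻¹ * yg⁻¹ * u := by group
          _ = (u : G)⁻¹ * (yg * j (x₀ * x) * yg⁻¹ * u) := by rw [h2]; group
          _ = _ := by rw [← h3, inv_mul_cancel_left]
      intro x hx
      have h1 := hz 1 (map_one _)
      rw [mul_one] at h1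
      have h2 := hz x hx
      rw [map_mul, map_mul, ← mul_assoc, ← mul_assoc, h1, hfix0] at h2
      exact mul_left_cancel₀ hx₀ h2
    -- so the automorphisms agree modulo `q`-th powers
    obtain ⟨e, he⟩ := mem_zpowers_iff.1 (hgen ((σ dy)⁻¹ * σ (ι y')))
    have hqe : (q : ℤ) ∣ e := by
      by_contra hnd
      obtain ⟨α, β, hαβ⟩ := ((Nat.prime_iff_prime_int.1 hq).coprime_iff_not_dvd.2 hnd : IsCoprime (q : ℤ) e)
      have h1 : σ dy ^ q ∈ stabilizer (F ≃+* F) x₁ := hx₁
      have h2 : σ dy ^ e ∈ stabilizer (F ≃+* F) x₁ := by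
        rw [he]
        show (σ dy)⁻¹ (σ (ι y') x₁) = x₁
        rw [hagree x₁ hx₁]
        exact (σ dy).symm_apply_apply x₁
      have h3 : σ dy ∈ stabilizer (F ≃+* F) x₁ := by
        have := mul_mem (Subgroup.zpow_mem _ h1 α) (Subgroup.zpow_mem _ h2 β)
        rwa [← zpow_natCast, ← _root_.zpow_mul, ← _root_.zpow_mul, ← _root_.zpow_add,
          show (q : ℤ) * α + e * β = 1 by rw [← hαβ]; ring, zpow_one] at this
      rcases hσfix x₁ h3 with h | h
      · exact hx₁0 h
      · exact hx₁1 h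
    obtain ⟨e', rfl⟩ := hqe
    have hσy' : σ (ι y') = σ dy * (σ dy ^ (q : ℤ)) ^ e' := by
      rw [← _root_.zpow_mul, he, mul_inv_cancel_left]
    refine Subtype.ext ?_
    show σ (ι y') ^ (K / q) = σ dy ^ (K / q)
    have hcomm' : Commute (σ dy) ((σ dy ^ (q : ℤ)) ^ e') :=
      (((Commute.refl (σ dy)).zpow_right _).zpow_right _)
    rw [hσy', hcomm'.mul_pow, ← zpow_natCast ((σ dy ^ (q : ℤ)) ^ e'), ← _root_.zpow_mul,
      ← _root_.zpow_mul]
    have : σ dy ^ ((q : ℤ) * (e' * ((K / q : ℕ) : ℤ))) = 1 := by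
      rw [mul_left_comm, ← Nat.cast_mul, Nat.mul_div_cancel' hqK, hKn, mul_comm, _root_.zpow_mul,
        zpow_natCast, ← hord, pow_orderOf_eq_one, one_zpow]
    rw [this, mul_one]
  · exact fun e => hx₁1 (mul_left_cancel₀ hx₀ ((hjinj e).trans (mul_one x₀).symm))
  · rw [← hdzg]
    exact (hcomm dz _).2 (by rw [map_mul, hσz, hx₁, ← mul_assoc, ← hσz, hfz])

end Setting

omit hS hfaith hIH in
/-- Slice F1: the commuting case, given the character theoretic step. -/
theorem commStep (hF2 : CommCharStep.{u}) : CommStep.{u} := by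
  intro G Ω _ _ _ _ hS hfaith hIH a
  classical
  obtain ⟨b, hba⟩ := hS.exists_ne a
  by_cases hX : pairStab G a b ⊓ cmod G a = ⊥
  swap
  · exact hS.solvMod_of_kernel hfaith hIH hba.symm hX
  haveI : Fact (Nat.Prime 2) := ⟨Nat.prime_two⟩
  obtain ⟨E, hE⟩ := hS.exists_invGroup hfaith hIH a
  have hE2 : ∀ e ∈ E, e * e = 1 := fun e he => by
    rcases (hE e).1 he with rfl | h
    · exact one_mul 1
    · exact involution_sq h.1
  have hEc : ∀ x y : E, x * y = y * x := fun x y => by
    have h := hE2 _ (mul_mem x.2 y.2)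
    refine Subtype.ext ?_
    show (x : G) * y = y * x
    rw [eq_inv_of_mul_eq_one_left h, mul_inv_rev, inv_eq_of_mul_eq_one_left (hE2 _ x.2),
      inv_eq_of_mul_eq_one_left (hE2 _ y.2)]
  letI : CommGroup E := { (inferInstance : Group E) with mul_comm := hEc }
  letI : Module (ZMod 2) (Additive E) := AddCommGroup.zmodModule fun v => by
    show (v.toMul ^ 2 : E) = 1
    exact Subtype.ext (by rw [Subgroup.coe_pow, pow_two]; exact hE2 _ v.toMul.2)
  obtain ⟨s, t, hs, ht, hne, hst⟩ := hS.four a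
  haveI : Nontrivial E :=
    ⟨⟨⟨s, (hE s).2 (Or.inr hs)⟩, 1, fun e => involution_ne_one hs.1 (congrArg Subtype.val e)⟩⟩
  haveI : Nontrivial (Additive E) := inferInstanceAs (Nontrivial E)
  haveI : Finite (Additive E) := inferInstanceAs (Finite E)
  set D := pairStab G a b
  have hDn : D ≤ normalizer (E : Set G) := by
    intro d hd
    refine mem_normalizer_iff.2 fun e => ?_
    simp only [hE, conj_eq_one_iff]
    refine or_congr_right ⟨fun h => h.conj' hd.1, fun h => ?_⟩
    have h1 := h.conj' (inv_mem hd.1 : d⁻¹ ∈ stabilizer G a)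
    simpa [mul_assoc] using h1
  have hconjE : ∀ (d : D) (e : E), (d : G) * e * (d : G)⁻¹ ∈ E := fun d e =>
    (mem_normalizer_iff.1 (hDn d.2) e).1 e.2
  let act : D →* MulAut E := MonoidHom.mk' (fun d =>
    { toFun := fun e => ⟨(d : G) * e * (d : G)⁻¹, hconjE d e⟩
      invFun := fun e => ⟨(d : G)⁻¹ * e * d, by simpa using hconjE d⁻¹ e⟩
      left_inv := fun e => Subtype.ext (by simp [mul_assoc])
      right_inv := fun e => Subtype.ext (by simp [mul_assoc])
      map_mul' := fun e e' => Subtype.ext (by simp [mul_assoc]) })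
    fun d d' => MulEquiv.ext fun e => Subtype.ext (by simp [mul_assoc])
  let ρ : D →* (Additive E ≃ₗ[ZMod 2] Additive E) :=
    { toFun := fun d => (MulEquiv.toAdditive (act d)).toLinearEquiv
        (ZMod.map_smul (MulEquiv.toAdditive (act d)).toAddMonoidHom)
      map_one' := by
        refine LinearEquiv.ext fun v => ?_
        show Additive.ofMul (act 1 v.toMul) = v
        rw [map_one]; rfl
      map_mul' := fun d d' => by
        refine LinearEquiv.ext fun v => ?_
        show Additive.ofMul (act (d * d') v.toMul) = Additive.ofMul (act d (act d' v.toMul))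
        rw [map_mul]; rfl }
  have hρ : Function.Injective ρ := (injective_iff_map_eq_one ρ).2 fun d hd => by
    refine Subtype.ext ?_
    have h1 : (d : G) ∈ D ⊓ cmod G a := ⟨d.2, hS.mem_cmod_of_commute hfaith hIH d.2.1 fun t ht => by
      have h2 := LinearEquiv.congr_fun hd (Additive.ofMul ⟨t, (hE t).2 (Or.inr ht)⟩)
      have h3 : (d : G) * t * (d : G)⁻¹ = t := congrArg (fun v : Additive E => (v.toMul : G)) h2
      exact mul_inv_eq_iff_eq_mul.1 h3⟩
    rwa [hX, mem_bot] at h1
  haveI : Group.IsSolvable D := Cfsg.Agent.S0205.result (hS.odd_pairStab hba.symm)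
  have htr : ∀ v w : Additive E, v ≠ 0 → w ≠ 0 → ∃ g : D, ρ g v = w := by
    intro v w hv hw
    have hI : ∀ v : Additive E, v ≠ 0 → InvAt (v.toMul : G) a := fun v hv =>
      ((hE _).1 v.toMul.2).resolve_left fun e => hv (by
        rw [← ofMul_toMul v, show v.toMul = 1 from Subtype.ext e]; rfl)
    obtain ⟨d, hd, hde⟩ := hS.conj_fixing hba.symm (hI v hv) (hI w hw)
    exact ⟨⟨d, hd⟩, Additive.toMul.injective (Subtype.ext hde)⟩
  obtain ⟨j, hj⟩ := IsPGroup.exists_card_eq (p := 2) (G := E)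
    fun e => ⟨1, Subtype.ext (by simpa [pow_two] using hE2 e e.2)⟩
  have hj0 : j ≠ 0 := fun h0 => by
    have := Finite.one_lt_card (α := E)
    rw [hj, h0, pow_zero] at this
    omega
  rcases CfsgLib.Recog.Huppert.semilinear_or_exceptional hρ htr with ⟨F₀, _, _, e, he⟩ | hex
  swap
  · exfalso
    rw [show Nat.card (Additive E) = Nat.card E from rfl, hj] at hex
    have h2 : 2 ∣ 2 ^ j := dvd_pow_self 2 hj0
    simp only [Set.mem_insert_iff, Set.mem_singleton_iff] at hex
    omega
  let F := ULift.{u} F₀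
  let eF : F₀ ≃+* F := ULift.ringEquiv.symm
  let e' : Additive E ≃+ F := e.trans eF.toAddEquiv
  have hFn : Nat.card F = 2 ^ j := by
    rw [← Nat.card_congr e'.toEquiv, show Nat.card (Additive E) = Nat.card E from rfl, hj]
  haveI : Finite F := Finite.of_equiv _ e'.toEquiv
  haveI : CharP F 2 := by
    obtain ⟨v, hv⟩ := exists_ne (0 : Additive E)
    have h0 : e' v + e' v = 0 := by
      rw [← map_add, show v + v = 0 from Additive.toMul.injective (Subtype.ext (hE2 _ v.toMul.2)),
        map_zero]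
    have hv' : e' v ≠ 0 := fun h => hv (e'.injective (h.trans (map_zero e').symm))
    refine CharTwo.of_one_ne_zero_of_two_eq_zero one_ne_zero ?_
    have : (2 : F) * e' v = 0 := by rw [two_mul]; exact h0
    exact (mul_eq_zero.1 this).resolve_right hv'
  let coord : Multiplicative F →* G :=
    { toFun := fun x => ((e'.symm x.toAdd).toMul : G)
      map_one' := by simp
      map_mul' := fun x y => by simp }
  have hcoord : ∀ x : F, coord (Multiplicative.ofAdd x) = ((e'.symm x).toMul : G) := fun x => rfl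
  refine hS.solvMod_of_semilinear hfaith hIH hF2 hba.symm hX hFn coord ?_ ?_ ?_
  · exact fun x y h => Multiplicative.toAdd.injective (e'.symm.injective (Additive.toMul.injective (Subtype.ext h)))
  · intro r
    constructor
    · intro hr
      refine ⟨e' (Additive.ofMul ⟨r, (hE r).2 (Or.inr hr)⟩), fun h => ?_, ?_⟩
      · have h1 := e'.injective (h.trans (map_zero e').symm)
        exact involution_ne_one hr.1 (congrArg (fun v : Additive E => (v.toMul : G)) h1)
      · rw [hcoord, AddEquiv.symm_apply_apply]; rfl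
    · rintro ⟨x, hx, rfl⟩
      rw [hcoord]
      refine ((hE _).1 (e'.symm x).toMul.2).resolve_left fun h => hx ?_
      have : e'.symm x = 0 := Additive.toMul.injective (Subtype.ext h)
      rw [← e'.apply_symm_apply x, this, map_zero]
  · intro d hd
    obtain ⟨c, σ, hcσ⟩ := he ⟨d, hd⟩
    refine ⟨eF c, (eF.symm.trans σ).trans eF, fun x => ?_⟩
    rw [hcoord, hcoord]
    have key : e'.symm (eF c * ((eF.symm.trans σ).trans eF) x) = ρ ⟨d, hd⟩ (e'.symm x) := by
      rw [AddEquiv.symm_apply_eq]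
      show eF c * eF (σ (eF.symm x)) = eF (e (ρ ⟨d, hd⟩ (e'.symm x)))
      rw [hcσ, map_mul]
      congr 3
      show eF.symm x = e (e.symm (eF.symm x))
      rw [e.apply_symm_apply]
    rw [key]
    rfl

end CfsgLib.Bender
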