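import Cfsg.Agent.Lib.Bender.Gen.Structure
import Cfsg.Prelude.Def_ClassificationStages

/-!
Owner: helper24. General Bender theorem, slice E: a strongly embedded subgroup of a simple group is a Borel
subgroup (S1792, S2027), from `BenderGen`.
-/

set_option autoImplicit false
set_option linter.style.haveILetI false
set_option linter.unusedSectionVars false

namespace CfsgLib.Bender

open Subgroup MulAction
open CfsgLib.Signalizer (involution_sq involution_inv orderOf_eq_two_of involution_ne_one)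

universe u

variable {G : Type u} [Group G] [Finite G] {M : Subgroup G}

theorem map_conj_conj (M : Subgroup G) (x g : G) :
    (M.map (MulAut.conj g).toMonoidHom).map (MulAut.conj x).toMonoidHom = M.map (MulAut.conj (x * g)).toMonoidHom := by
  rw [Subgroup.map_map]
  refine congrArg (fun f => Subgroup.map f M) (MonoidHom.ext fun y => ?_)
  show x * (g * y * g⁻¹) * x⁻¹ = x * g * y * (x * g)⁻¹
  group

theorem conj_eq_self_iff (hM : Cfsg.IsStronglyEmbedded M) {g : G} :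
    M.map (MulAut.conj g).toMonoidHom = M ↔ g ∈ M := by
  refine ⟨fun h => ?_, fun h => map_conj_eq_of_mem_normalizer (le_normalizer h)⟩
  by_contra hg
  have h1 := hM.2.2 g hg
  rw [h, inf_idem] at h1
  exact Nat.not_even_iff_odd.2 h1 hM.2.1

theorem conj_eq_conj_iff (hM : Cfsg.IsStronglyEmbedded M) {g₁ g₂ : G} :
    M.map (MulAut.conj g₁).toMonoidHom = M.map (MulAut.conj g₂).toMonoidHom ↔ g₂⁻¹ * g₁ ∈ M := by
  rw [← conj_eq_self_iff hM]
  constructor
  · intro h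
    rw [← map_conj_conj, h, map_conj_conj, inv_mul_cancel, conj_eq_self_iff hM]
    exact one_mem M
  · intro h
    rw [← mul_inv_cancel_left g₂ g₁, ← map_conj_conj, h]

/-- The regular normal 2-subgroup of a strongly embedded subgroup of a simple group. -/
theorem simple_regular (hB : BenderGen.{u}) [IsSimpleGroup G] (hM : Cfsg.IsStronglyEmbedded M) :
    ∃ U : Subgroup G, U ≤ M ∧ M ≤ normalizer (U : Set G) ∧ IsPGroup 2 U ∧
      Nat.card U = 2 ^ (Nat.card G).factorization 2 ∧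
      (∀ g₁ g₂ : G, g₁ ∉ M → g₂ ∉ M → ∃ u ∈ U, g₂⁻¹ * (u * g₁) ∈ M) ∧
      (∀ g : G, g ∉ M → ∀ u ∈ U, g⁻¹ * (u * g) ∈ M → u = 1) ∧
      (∃ s ∈ M, ∃ t ∈ M, orderOf s = 2 ∧ orderOf t = 2 ∧ s ≠ t ∧ s * t = t * s) := by
  have hr : ¬ RankOne G := by
    intro hr
    have h := hr.oddCore_sup hM
    rcases IsSimpleGroup.eq_bot_or_eq_top_of_normal (Cfsg.oddCore G) inferInstance with e | e
    · rw [e, bot_sup_eq] at h; exact hM.1 h
    · have h2 := CfsgLib.ZStar.odd_card_oddCore G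
      rw [e, Subgroup.card_top] at h2
      exact Nat.not_even_iff_odd.2 h2 (even_iff_two_dvd.2 (dvd_trans (even_iff_two_dvd.1 hM.2.1)
        (Subgroup.card_subgroup_dvd_card M)))
  have hfour := four_of_not_rankOne hM hr
  have hcore : M.normalCore = ⊥ :=
    (IsSimpleGroup.eq_bot_or_eq_top_of_normal _ inferInstance).resolve_right
      fun h => hM.1 (top_le_iff.1 (h ▸ M.normalCore_le))
  obtain ⟨hS, hsol⟩ := hB G M hM hfour
  obtain ⟨U, hUa, hUn, htr, hfree, hU, -⟩ := hS.exists_regular (smallerOK _) (faithful_of_core hcore) _ hsol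
  rw [stab_base] at hUa hUn
  have hne : ∀ g : G, g ∉ M → (g : G ⧸ M) ≠ ((1 : G) : G ⧸ M) := fun g hg h =>
    hg (by simpa using QuotientGroup.eq.1 h)
  refine ⟨U, hUa, hUn, IsPGroup.of_card hU, hU, ?_, ?_, hfour⟩
  · intro g₁ g₂ h₁ h₂
    obtain ⟨u, hu, he⟩ := htr _ _ (hne g₁ h₁) (hne g₂ h₂)
    rw [MulAction.Quotient.smul_coe, smul_eq_mul] at he
    exact ⟨u, hu, QuotientGroup.eq.1 he.symm⟩
  · intro g hg u hu h
    refine hfree _ (hne g hg) u hu ?_
    rw [MulAction.Quotient.smul_coe, smul_eq_mul]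
    exact (QuotientGroup.eq.2 h).symm

/-- S1792. -/
theorem borel_of_benderGen (hB : BenderGen.{u}) [IsSimpleGroup G] (hmax : IsCoatom M)
    (hM : Cfsg.IsStronglyPEmbedded 2 M) :
    ((∃ (F : Type) (_ : Field F) (_ : Fintype F) (n : ℕ), 2 ≤ n ∧ Fintype.card F = 2 ^ n ∧
          Nonempty (G ≃* Matrix.ProjectiveSpecialLinearGroup (Fin 2) F)) ∨
        Cfsg.Lie.IsoSuzuki G ∨
        (∃ (F : Type) (_ : Field F) (_ : Fintype F) (n : ℕ), 2 ≤ n ∧ Fintype.card F = (2 ^ n) ^ 2 ∧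
          Nonempty (G ≃* Cfsg.PSU 3 F (2 ^ n)))) ∧
      ∃ S : Sylow 2 G, M = normalizer ((S : Subgroup G) : Set G) := by
  haveI : Fact (Nat.Prime 2) := ⟨Nat.prime_two⟩
  have hSE := se_of_spe hM
  obtain ⟨U, hUM, hUn, hUp, hU, htr, hreg, hfour⟩ := simple_regular hB hSE
  refine ⟨?_, Sylow.ofCard U hU, ?_⟩
  · obtain ⟨t, hR, hF, hGeven, h2⟩ := CfsgLib.Lie.RankOneClass.exists_setup M hSE U hUM
      (normal_subgroupOf_of_le_normalizer hUn) htr hreg
    obtain ⟨L, hLn, hLodd, hcases⟩ := Cfsg.Agent.S1136.result hR h2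
    have hLtop : L = ⊤ := by
      refine hLn.eq_bot_or_eq_top.resolve_left fun h => ?_
      rw [h, Subgroup.index_bot] at hLodd
      exact Nat.not_even_iff_odd.2 hLodd hGeven
    subst hLtop
    rcases hcases with ⟨F, iF, iFt, ⟨n, hn, hF⟩, ⟨e⟩⟩ | h | ⟨F, iF, iFt, n, hn, hF, ⟨e⟩⟩
    · exact Or.inl ⟨F, iF, iFt, n, hn, hF, ⟨Subgroup.topEquiv.symm.trans e⟩⟩
    · obtain ⟨F, iF, iFt, m, hm, hF, ⟨e⟩⟩ := h
      exact Or.inr (Or.inl ⟨F, iF, iFt, m, hm, hF, ⟨Subgroup.topEquiv.symm.trans e⟩⟩)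
    · exact Or.inr (Or.inr ⟨F, iF, iFt, n, hn, hF, ⟨Subgroup.topEquiv.symm.trans e⟩⟩)
  · rw [Sylow.coe_ofCard]
    refine ((eq_or_lt_of_le hUn).resolve_right fun h => ?_)
    have h1 := hmax.2 _ h
    rw [normalizer_eq_top_iff] at h1
    rcases IsSimpleGroup.eq_bot_or_eq_top_of_normal U h1 with e | e
    · obtain ⟨g, -, hg⟩ := SetLike.exists_of_lt (lt_top_iff_ne_top.2 hSE.1)
      obtain ⟨s, hs, -, -, hs2, -, -, -⟩ := hfour
      -- a trivial regular subgroup leaves no room for an involution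
      have key : ∀ g₁ g₂ : G, g₁ ∉ M → g₂ ∉ M → g₂⁻¹ * g₁ ∈ M := fun g₁ g₂ h₁ h₂ => by
        obtain ⟨u, hu, he⟩ := htr g₁ g₂ h₁ h₂
        rw [e, mem_bot] at hu
        rwa [hu, one_mul] at he
      have hsg : g⁻¹ * (s * g) ∈ M := key _ _ (fun h' => hg ((mul_mem_cancel_left hs).1 h')) hg
      have h2 : Odd (Nat.card ↥(M ⊓ M.map (MulAut.conj g).toMonoidHom)) := hSE.2.2 g hg
      refine not_mem_of_odd h2 hs2 ⟨hs, ⟨g⁻¹ * (s * g), hsg, ?_⟩⟩
      show g * (g⁻¹ * (s * g)) * g⁻¹ = s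
      group
    · exact hSE.1 (top_le_iff.1 (e ▸ hUM))

/-- S2027. -/
theorem suzukiType_of_benderGen (hB : BenderGen.{u}) [IsSimpleGroup G] (hM : Cfsg.IsStronglyPEmbedded 2 M) :
    Cfsg.IsDoublyTransitiveSuzukiType M := by
  haveI : Fact (Nat.Prime 2) := ⟨Nat.prime_two⟩
  have hSE := se_of_spe hM
  obtain ⟨U, hUM, hUn, hUp, hU, htr, hreg, -⟩ := simple_regular hB hSE
  obtain ⟨g, -, hg⟩ := SetLike.exists_of_lt (lt_top_iff_ne_top.2 hSE.1)
  have hne : ∀ {a : G}, M.map (MulAut.conj a).toMonoidHom ≠ M → a ∉ M := fun h h' => h ((conj_eq_self_iff hSE).2 h')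
  have hgM : M.map (MulAut.conj g).toMonoidHom ≠ M := fun h => hg ((conj_eq_self_iff hSE).1 h)
  have hnor : normalizer (M : Set G) = M :=
    le_antisymm (fun x hx => (conj_eq_self_iff hSE).1 (map_conj_eq_of_mem_normalizer hx)) le_normalizer
  have hmemD : ∀ {x : G}, x ∈ normalizer ((M.map (MulAut.conj g).toMonoidHom : Subgroup G) : Set G) ↔ g⁻¹ * (x * g) ∈ M := by
    intro x
    rw [← conj_eq_conj_iff hSE, ← map_conj_conj]
    exact ⟨fun h => map_conj_eq_of_mem_normalizer h, fun h => mem_normalizer_of_map_conj_eq h⟩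
  refine ⟨hnor, ⟨g, hgM⟩, fun g₁ g₂ h₁ h₂ => ?_, g, hgM, U, hUM, normal_subgroupOf_of_le_normalizer hUn, ?_, ?_,
    hUp.isNilpotent, ⟨Sylow.ofCard U hU, (Sylow.coe_ofCard U hU).le⟩, fun g₁ g₂ h₁ h₂ => ?_⟩
  · obtain ⟨u, hu, he⟩ := htr g₁ g₂ (hne h₁) (hne h₂)
    exact ⟨u, hUM hu, by rw [map_conj_conj, conj_eq_conj_iff hSE]; exact he⟩
  · refine (Subgroup.eq_bot_iff_forall _).2 fun x hx => ?_
    exact hreg g hg x hx.1 (hmemD.1 hx.2.2)
  · refine le_antisymm (sup_le hUM inf_le_left) fun m hm => ?_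
    have hmg : m * g ∉ M := fun h => hg ((mul_mem_cancel_left hm).1 h)
    obtain ⟨u, hu, he⟩ := htr (m * g) g hmg hg
    have h1 : u * m ∈ M ⊓ normalizer ((M.map (MulAut.conj g).toMonoidHom : Subgroup G) : Set G) :=
      ⟨mul_mem (hUM hu) hm, hmemD.2 (by rwa [mul_assoc])⟩
    have := mul_mem (mem_sup_left (T := M ⊓ normalizer ((M.map (MulAut.conj g).toMonoidHom : Subgroup G) : Set G))
      (inv_mem hu)) (mem_sup_right (S := U) h1)
    rwa [inv_mul_cancel_left] at this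
  · obtain ⟨u, hu, he⟩ := htr g₁ g₂ (hne h₁) (hne h₂)
    refine ⟨⟨u, hu⟩, by dsimp only; rw [map_conj_conj, conj_eq_conj_iff hSE]; exact he, fun y hy => ?_⟩
    dsimp only at hy
    rw [map_conj_conj, conj_eq_conj_iff hSE] at hy
    have h1 := hreg g₁ (hne h₁) ((y : G)⁻¹ * u) (mul_mem (inv_mem y.2) hu) (by
      have h2 := mul_mem (inv_mem hy) he
      rwa [show (g₂⁻¹ * ((y : G) * g₁))⁻¹ * (g₂⁻¹ * (u * g₁)) = g₁⁻¹ * ((y : G)⁻¹ * u * g₁) by group] at h2)
    exact Subtype.ext (inv_mul_eq_one.1 h1)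

end CfsgLib.Bender
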