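import Cfsg.Agent.Lib.Bender.Gen.ConsClass
import Cfsg.Agent.S0205

/-!
Owner: helper18. General Bender theorem, slice D: the consequences of `SR`.
-/

set_option autoImplicit false
set_option linter.style.haveILetI false
set_option linter.unusedSectionVars false

namespace CfsgLib.Bender.Cons

open Subgroup MulAction
open CfsgLib.Signalizer (involution_sq involution_inv orderOf_eq_two_of involution_ne_one)

variable {G Ω : Type*} [Group G] [Finite G] [MulAction G Ω] [Finite Ω]

theorem eq_of_forall_vp_le {A B : Subgroup G} (hle : A ≤ B)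
    (h : ∀ p : ℕ, p.Prime → p ∣ Nat.card B → vp p (Nat.card B) ≤ vp p (Nat.card A)) : A = B := by
  refine eq_of_le_of_card_ge hle (Nat.le_of_dvd Nat.card_pos ?_)
  refine (Nat.factorization_le_iff_dvd Nat.card_pos.ne' Nat.card_pos.ne').1 fun p => ?_
  by_cases hp : p.Prime ∧ p ∣ Nat.card B
  · exact h p hp.1 hp.2
  · rw [not_and_or] at hp
    rcases hp with hp | hp
    · rw [Nat.factorization_eq_zero_of_not_prime _ hp]; exact Nat.zero_le _
    · rw [Nat.factorization_eq_zero_of_not_dvd hp]; exact Nat.zero_le _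

omit [Finite Ω] in
/-- In a proper local subgroup the odd core of a stabiliser fixes the whole orbit. -/
theorem coreIn_fixes [Finite Ω] {N : Subgroup G} {w : Ω} (hL : LocalConcl G N w) {g : G}
    (hg : g ∈ coreIn N w) {y : Ω} (hy : y ∈ orb N w) : g • y = y := by
  set K := coreIn N w with hK
  have hKle : K ≤ N ⊓ stabilizer G w := map_subtype_le _
  have hKodd : Odd (Nat.card K) := by
    rw [hK, coreIn, ← Nat.card_congr ((Cfsg.oddCore _).equivMapOfInjective _
      (N ⊓ stabilizer G w).subtype_injective).toEquiv]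
    exact CfsgLib.ZStar.odd_card_oddCore _
  have hKn : ∀ h ∈ N ⊓ stabilizer G w, h ∈ normalizer (K : Set G) := by
    intro h hh
    refine mem_normalizer_of_map_conj_eq (eq_of_le_of_card_ge ?_ (card_map_conj h K).ge)
    rintro _ ⟨_, ⟨v, hv, rfl⟩, rfl⟩
    exact ⟨⟨h, hh⟩ * v * ⟨h, hh⟩⁻¹, (inferInstance : (Cfsg.oddCore _).Normal).conj_mem v hv _, rfl⟩
  rcases eq_or_ne y w with rfl | hyw
  · exact (hKle hg).2
  suffices h : K ⊓ stabilizer G y = K from (h.ge hg).2
  refine eq_of_forall_vp_le inf_le_left fun p hp hpK => ?_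
  haveI := Fact.mk hp
  obtain ⟨P, hP⟩ := exists_isSyl p K
  obtain ⟨k, -, hk⟩ := hL.card
  have hmem : ∀ (r : P) (c : {c : Ω // c ≠ w ∧ c ∈ orb N w}),
      (r : G) • (c : Ω) ≠ w ∧ (r : G) • (c : Ω) ∈ orb N w := fun r c => by
    refine ⟨fun h => c.2.1 (smul_left_cancel (r : G) ?_), ?_⟩
    · rw [h, (hKle (hP.le r.2)).2]
    · obtain ⟨h, hh, hc⟩ := c.2.2
      exact ⟨(r : G) * h, mul_mem (hKle (hP.le r.2)).1 hh, by rw [mul_smul, hc]⟩
  let _ : MulAction P {c : Ω // c ≠ w ∧ c ∈ orb N w} :=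
    { smul := fun r c => ⟨(r : G) • (c : Ω), hmem r c⟩
      one_smul := fun c => Subtype.ext (one_smul G (c : Ω))
      mul_smul := fun r r' c => Subtype.ext (mul_smul (r : G) (r' : G) (c : Ω)) }
  have hodd : ¬ p ∣ Nat.card {c : Ω // c ≠ w ∧ c ∈ orb N w} := by
    rw [hk]
    intro hd
    have h2 := (Nat.prime_dvd_prime_iff_eq hp Nat.prime_two).1 (hp.dvd_of_dvd_pow hd)
    exact (Nat.not_even_iff_odd.2 hKodd) (even_iff_two_dvd.2 (h2 ▸ hpK))
  obtain ⟨z, hz⟩ := hP.isPGroup.nonempty_fixed_point_of_prime_not_dvd_card _ hodd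
  obtain ⟨h, hh, hhw, hhy⟩ := hL.two y z hy z.2.2 hyw z.2.1
  have hmap : (K ⊓ stabilizer G y).map (MulAut.conj h).toMonoidHom = K ⊓ stabilizer G (z : Ω) := by
    rw [Subgroup.map_inf _ _ _ (MulAut.conj h).injective, map_conj_eq_of_mem_normalizer (hKn h ⟨hh, hhw⟩),
      ← stabilizer_smul_eq, hhy]
  rw [← card_map_conj h (K ⊓ stabilizer G y), hmap, ← hP.vp_eq]
  exact vp_card_mono (le_inf hP.le fun r hr => congrArg Subtype.val (hz ⟨r, hr⟩))

variable (hS : Setting0 G Ω)
include hS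

/-- Two involutions at a point, in a subgroup with an odd normal subgroup moving it, fix another point. -/
theorem exists_fixed_ne {H O : Subgroup G} (hOn : H ≤ normalizer (O : Set G))
    (hOH : O ≤ H) (hOodd : Odd (Nat.card O)) {a : Ω} (hmove : ∃ o ∈ O, o • a ≠ a) {s t : G}
    (hsH : s ∈ H) (htH : t ∈ H) (hs : InvAt s a) (ht : InvAt t a) :
    ∃ x : Ω, x ≠ a ∧ (s * t) • x = x := by
  classical
  let P : ℕ → Prop := fun n => ∃ Θ : Subgroup G, Θ ≤ O ∧ H ≤ normalizer (Θ : Set G) ∧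
    (∃ θ ∈ Θ, θ • a ≠ a) ∧ Nat.card Θ = n
  have hex : ∃ n, P n := ⟨_, O, le_rfl, hOn, hmove, rfl⟩
  obtain ⟨Θ, hΘO, hΘn, ⟨θ₀, hθ₀, hθ₀a⟩, hcard⟩ := Nat.find_spec hex
  haveI := Cfsg.Agent.S0205.result (odd_of_le hΘO hOodd)
  set Θ₀ : Subgroup G := ⁅Θ, Θ⁆ with hΘ₀
  have hle : Θ₀ ≤ Θ := commutator_le_self Θ
  have hn0 : H ≤ normalizer (Θ₀ : Set G) := fun h hh => by
    refine mem_normalizer_of_map_conj_eq ?_
    rw [hΘ₀, map_commutator, map_conj_eq_of_mem_normalizer (hΘn hh)]
  have hne0 : Θ₀ ≠ Θ := by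
    intro he
    haveI : Nontrivial Θ := ⟨⟨θ₀, hθ₀⟩, 1, fun h => hθ₀a (by
      rw [show θ₀ = 1 from congrArg Subtype.val h, one_smul])⟩
    refine (Group.IsSolvable.commutator_lt_top_of_nontrivial Θ).ne ?_
    apply Subgroup.map_injective Θ.subtype_injective
    rw [_root_.commutator_def, map_commutator, ← MonoidHom.range_eq_map, range_subtype]
    exact he
  have hfix0 : ∀ h ∈ H, ∀ c ∈ Θ₀, c • h • a = h • a := by
    have key : ∀ c ∈ Θ₀, c • a = a := by
      by_contra hcon
      push Not at hcon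
      have hlt : Nat.card Θ₀ < Nat.card Θ := by
        by_contra h
        exact hne0 (eq_of_le_of_card_ge hle (not_lt.1 h))
      exact Nat.find_min hex (hcard ▸ hlt) ⟨Θ₀, hle.trans hΘO, hn0, hcon, rfl⟩
    intro h hh c hc
    have h1 := key _ ((mem_normalizer_iff''.1 (hn0 hh) c).1 hc)
    rwa [mul_smul, mul_smul, inv_smul_eq_iff] at h1
  have hinv : ∀ {u : G}, u ∈ H → InvAt u a → ∀ θ ∈ Θ, u • θ • a = θ⁻¹ • a := by
    intro u huH hu θ hθ
    set θ' := u * θ * u⁻¹ with hθ'
    have hθ'Θ : θ' ∈ Θ := (mem_normalizer_iff.1 (hΘn huH) θ).1 hθ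
    have hψ : θ * θ' ∈ Θ := mul_mem hθ hθ'Θ
    have hswap : (θ' * θ) • a = (θ * θ') • a := by
      have hc : θ' * θ * (θ * θ')⁻¹ ∈ Θ₀ := by
        have := commutator_mem_commutator hθ'Θ hθ
        rw [commutatorElement_def] at this
        convert this using 1
        group
      have h1 := hfix0 _ (hOH (hΘO hψ)) _ hc
      rwa [← mul_smul, inv_mul_cancel_right] at h1
    have hfix : u • (θ * θ') • a = (θ * θ') • a := by
      refine Eq.trans ?_ hswap
      have e : u * (θ * θ') = θ' * θ * u := by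
        rw [hθ', involution_inv hu.1]
        calc u * (θ * (u * θ * u)) = u * θ * u * θ * u := by group
          _ = _ := rfl
      rw [← mul_smul, e, mul_smul, hu.2]
    have h0 : (θ * θ') • a = a := hS.fix_unique ⟨hu.1, hfix⟩ hu
    rw [mul_smul] at h0
    calc u • θ • a = θ' • a := by rw [hθ', mul_smul, mul_smul, inv_smul_eq_iff.2 hu.2.symm]
      _ = θ⁻¹ • a := eq_inv_smul_iff.2 h0
  refine ⟨θ₀ • a, hθ₀a, ?_⟩
  rw [mul_smul, hinv htH ht θ₀ hθ₀, hinv hsH hs _ (inv_mem hθ₀), inv_inv]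

/-- The number of involutions at a point is odd. -/
theorem odd_card_invAt {x : Ω} : Odd (Nat.card {t : G // InvAt t x}) := by
  obtain ⟨t, ht⟩ := hS.exists_invAt x
  obtain ⟨y, hy⟩ := hS.exists_ne x
  exact (hS.odd_pairStab hy.symm).of_dvd_nat ⟨_, (hS.card_pairStab_invAt hy.symm ht).symm⟩

theorem one_lt_card_invAt {x : Ω} : 1 < Nat.card {t : G // InvAt t x} := by
  obtain ⟨s, t, hs, ht, hne, -⟩ := hS.four x
  haveI : Nontrivial {t : G // InvAt t x} := ⟨⟨s, hs⟩, ⟨t, ht⟩, fun h => hne (congrArg Subtype.val h)⟩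
  exact Finite.one_lt_card

theorem card_invAt_eq (x y : Ω) :
    Nat.card {t : G // InvAt t x} = Nat.card {t : G // InvAt t y} := by
  obtain ⟨g, rfl⟩ := hS.trans x y
  exact Nat.card_congr ((MulAut.conj g).toEquiv.subtypeEquiv fun t =>
    ⟨fun h => by simpa using h.conj g, fun h => by simpa [mul_assoc] using h.conj g⁻¹⟩)

theorem class_of_syl {x y : Ω} (hxy : x ≠ y) {p : ℕ} [hp : Fact p.Prime] {P : Subgroup G}
    (hP : IsSyl p P (pairStab G x y)) (hd : p ∣ Nat.card {t : G // InvAt t x}) : IsClass0 x P := by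
  refine ⟨hP.le.trans inf_le_left, fun t ht => ?_⟩
  by_contra hcon
  push Not at hcon
  haveI : Nonempty {t : G // InvAt t x} := ⟨⟨t, ht⟩⟩
  have e := congrArg (vp p) (hS.card_pairStab_invAt hxy ht)
  simp only [vp, Nat.factorization_mul Nat.card_pos.ne' Nat.card_pos.ne', Finsupp.add_apply] at e
  have hle : P ≤ pairStab G x y ⊓ centralizer ({t} : Set G) :=
    le_inf hP.le fun r hr => mem_centralizer_singleton_iff.2 (hcon r hr)
  have h1 := vp_card_mono (p := p) hle
  have h2 := hP.vp_eq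
  have h3 := hp.out.factorization_pos_of_dvd Nat.card_pos.ne' hd
  simp only [vp] at h1 h2
  omega

variable (hSR : SR G Ω)
include hSR

theorem syl_fix {x y : Ω} (hxy : x ≠ y) {p : ℕ} [hp : Fact p.Prime]
    (hd : p ∣ Nat.card {t : G // InvAt t x}) {P : Subgroup G} (hP : IsSyl p P (pairStab G x y)) :
    (∀ z : Ω, P ≤ stabilizer G z → z = x ∨ z = y) ∧ IsSyl p P (stabilizer G x) := by
  have hodd : Odd p := (odd_card_invAt hS).of_dvd_nat hd
  have hfix : ∀ z : Ω, P ≤ stabilizer G z → z = x ∨ z = y := by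
    intro z hz
    by_contra hcon
    push Not at hcon
    exact fix_le_two hS hSR hodd P hP.isPGroup x y z (class_of_syl hS hxy hP hd) hxy (Ne.symm hcon.1)
      (Ne.symm hcon.2) (hP.le.trans inf_le_right) hz
  exact ⟨hfix, (syl_stab_of_fix hS hxy hP hfix).1⟩

/-- A stabiliser is transitive on the other points. -/
theorem two {x y z : Ω} (hy : y ≠ x) (hz : z ≠ x) : ∃ g : G, g • x = x ∧ g • y = z := by
  obtain ⟨p, hp, hd⟩ := Nat.exists_prime_and_dvd (one_lt_card_invAt hS (x := x)).ne'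
  haveI := Fact.mk hp
  obtain ⟨P, hP⟩ := exists_isSyl p (pairStab G x y)
  obtain ⟨Q, hQ⟩ := exists_isSyl p (pairStab G x z)
  obtain ⟨-, hP'⟩ := syl_fix hS hSR hy.symm hd hP
  obtain ⟨hfQ, hQ'⟩ := syl_fix hS hSR hz.symm hd hQ
  obtain ⟨g, hg, hgP⟩ := hP'.exists_conj hQ'
  refine ⟨g, hg, ?_⟩
  have hle : Q ≤ stabilizer G (g • y) := by
    rw [stabilizer_smul_eq, ← hgP]
    exact map_mono (hP.le.trans inf_le_right)
  rcases hfQ _ hle with h | h
  · exact absurd (smul_left_cancel g (h.trans (show g • x = x from hg).symm)) hy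
  · exact h

/-- The core of a stabiliser centralises the involutions at its point. -/
theorem core_le_centralizer {a : Ω} {t : G} (ht : InvAt t a) : core G a ≤ centralizer ({t} : Set G) := by
  obtain ⟨b, hb⟩ := hS.exists_ne a
  haveI : Nonempty {t : G // InvAt t a} := ⟨⟨t, ht⟩⟩
  set W := core G a with hW
  set C := stabilizer G a ⊓ centralizer ({t} : Set G) with hC
  suffices h : W ⊓ centralizer ({t} : Set G) = W from h.ge.trans inf_le_right
  refine eq_of_forall_vp_le inf_le_left fun p hp hpW => ?_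
  haveI := Fact.mk hp
  by_contra hlt
  push Not at hlt
  -- `p` divides the number of involutions at `a`
  have e1 := card_conj_class W t
  have e2 := card_conj_class (stabilizer G a) t
  have hcl : Nat.card {s : G // ∃ d ∈ stabilizer G a, d * t * d⁻¹ = s} = Nat.card {t : G // InvAt t a} := by
    refine Nat.card_congr (Equiv.subtypeEquivRight fun s => ⟨?_, fun hs => ?_⟩)
    · rintro ⟨d, hd, rfl⟩; exact ht.conj' hd
    · obtain ⟨d, hd, he⟩ := hS.conj_fixing hb.symm ht hs
      exact ⟨d, hd.1, he⟩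
  rw [hcl] at e2
  set f := Nat.card {s : G // ∃ d ∈ W, d * t * d⁻¹ = s}
  have hWC : W ⊓ C = W ⊓ centralizer ({t} : Set G) := by
    rw [hC, ← inf_assoc, inf_eq_left.2 (core_le a)]
  have e3 := CfsgLib.Core.card_sup_mul_card_inf C W (inf_le_left.trans (le_normalizer_core a))
  rw [inf_comm, hWC, ← e1] at e3
  have hsup : Nat.card (C ⊔ W : Subgroup G) = f * Nat.card C :=
    Nat.eq_of_mul_eq_mul_right (Nat.card_pos (α := (W ⊓ centralizer ({t} : Set G) : Subgroup G)))
      (e3.trans (by ring))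
  have hfm : f ∣ Nat.card {t : G // InvAt t a} := by
    have h := Subgroup.card_dvd_of_le (sup_le inf_le_left (core_le a) : C ⊔ W ≤ stabilizer G a)
    rw [hsup, ← e2] at h
    exact Nat.dvd_of_mul_dvd_mul_right Nat.card_pos h
  have hf0 : f ≠ 0 := fun h => by
    rw [h, zero_mul] at e1
    exact Nat.card_pos.ne' e1.symm
  have hvp : vp p (Nat.card W) = vp p f + vp p (Nat.card (W ⊓ centralizer ({t} : Set G) : Subgroup G)) := by
    rw [← e1, vp, Nat.factorization_mul hf0 Nat.card_pos.ne', Finsupp.add_apply]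
  have hpm : p ∣ Nat.card {t : G // InvAt t a} :=
    (Nat.dvd_of_factorization_pos (by show vp p f ≠ 0; omega)).trans hfm
  -- an invariant Sylow subgroup of the core fixes a second point
  obtain ⟨T, hT⟩ := exists_isSyl p (pairStab G a b)
  obtain ⟨-, hTa⟩ := syl_fix hS hSR hb.symm hpm hT
  have hTW : IsSyl p (T ⊓ W) W := hTa.inf_of_le_normalizer (core_le a) (le_normalizer_core a)
  have hWodd : Odd (Nat.card W) := core_odd a
  obtain ⟨P', -, hP't⟩ := CfsgLib.Core.exists_invariant_sylow_ge (p := p) (U := (⊥ : Subgroup G))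
    (zpowers_le.2 (le_normalizer_core a ht.2) : zpowers t ≤ normalizer (W : Set G))
    (by rw [Nat.card_zpowers, ht.1]; exact Nat.coprime_two_left.2 hWodd) (Or.inl inferInstance)
    bot_le IsPGroup.of_bot (zpowers_le.2 (mem_normalizer_of_map_conj_eq (Subgroup.map_bot _)))
  set R := (P' : Subgroup W).map W.subtype with hRdef
  have hR : IsSyl p R W := ⟨map_subtype_le _, by
    rw [← Nat.card_congr ((P' : Subgroup W).equivMapOfInjective _ W.subtype_injective).toEquiv]
    exact P'.card_eq_multiplicity⟩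
  obtain ⟨k, hk, hkR⟩ := hTW.exists_conj hR
  have hkb : k • b ≠ a := fun h => hb (smul_left_cancel k (h.trans (core_smul a hk).symm))
  have hRpair : R ≤ pairStab G a (k • b) := by
    refine le_inf (hR.le.trans (core_le a)) ?_
    rw [stabilizer_smul_eq, ← hkR]
    exact map_mono (inf_le_left.trans (hT.le.trans inf_le_right))
  have hRc : R ≤ W ⊓ centralizer ({t} : Set G) := le_inf hR.le fun r hr =>
    mem_centralizer_singleton_iff.2 (centralizes hS hSR hkb.symm hRpair ht
      (zpowers_le.1 hP't) hr)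
  have := vp_card_mono (p := p) hRc
  rw [hR.vp_eq] at this
  omega

omit hS hSR in
theorem exists_prime_pow {d : G} (hd : d ≠ 1) : ∃ (p : ℕ) (y : G), p.Prime ∧ orderOf y = p ∧ y ∈ zpowers d := by
  obtain ⟨p, hp, hpd⟩ := Nat.exists_prime_and_dvd (n := Nat.card (zpowers d))
    (fun h => hd (zpowers_eq_bot.1 (Subgroup.card_eq_one.1 h)))
  haveI := Fact.mk hp
  obtain ⟨y, hy⟩ := exists_prime_orderOf_dvd_card' p hpd
  exact ⟨p, y, hp, by rw [Subgroup.orderOf_coe, hy], y.2⟩

variable (hF : Faithful G Ω)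
include hF

omit hSR in
theorem centralizer_ne_top {a : Ω} {y : G} (hy : y • a = a) (hy1 : y ≠ 1) :
    centralizer ({y} : Set G) ≠ ⊤ := by
  refine fun h => hy1 (hF y fun z => ?_)
  obtain ⟨g, rfl⟩ := hS.trans a z
  rw [← mul_smul, ← mem_centralizer_singleton_iff.1 (h ▸ mem_top g), mul_smul, hy]

/-- A nontrivial `p`-element fixing two points and commuting with an involution at one of them
commutes with an involution at the other. -/
theorem exists_inv_other {a b : Ω} (hab : a ≠ b) {p : ℕ} [Fact p.Prime] (hp : Odd p) {y : G}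
    (hy : orderOf y = p) (hya : y • a = a) (hyb : y • b = b) {t : G} (ht : InvAt t a)
    (hyt : y * t = t * y) : ∃ u : G, InvAt u b ∧ y * u = u * y := by
  by_contra hcon
  push Not at hcon
  have hP : IsPGroup p (zpowers y) := IsPGroup.of_card (n := 1) (by rw [Nat.card_zpowers, hy, pow_one])
  have hcl : IsClass0 b (zpowers y) :=
    ⟨zpowers_le.2 hyb, fun u hu => ⟨y, mem_zpowers y, hcon u hu⟩⟩
  have hytb : y • t • b = t • b := by rw [← mul_smul, hyt, mul_smul, hyb]
  refine fix_le_two hS hSR hp (zpowers y) hP b a (t • b) hcl hab.symm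
    (hS.ne_of_inv ht hab.symm).symm ?_ (zpowers_le.2 hya) (zpowers_le.2 hytb)
  intro h
  exact hab (smul_left_cancel t (ht.2.trans h))

theorem faithful_img (hK : NoTwo G Ω) {a b : Ω} {d : G} (hab : a ≠ b) (hd : d ∈ pairStab G a b)
    (hc : ∀ t : G, InvAt t a → d * t = t * d) : d = 1 := by
  by_contra hd1
  obtain ⟨p, y, hp, hy, hyd⟩ := exists_prime_pow hd1
  haveI := Fact.mk hp
  have hy1 : y ≠ 1 := fun h => hp.ne_one (by rw [← hy, h, orderOf_one])
  have hypair : y ∈ pairStab G a b := zpowers_le.2 hd hyd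
  have hodd : Odd p := (hS.odd_pairStab hab).of_dvd_nat (hy ▸ orderOf_dvd_natCard _ hypair)
  have hcy : ∀ t : G, InvAt t a → y * t = t * y := fun t ht => by
    obtain ⟨k, rfl⟩ := mem_zpowers_iff.1 hyd
    exact (Commute.zpow_left (hc t ht) k).eq
  obtain ⟨t, ht⟩ := hS.exists_invAt a
  obtain ⟨u, hu, hyu⟩ := exists_inv_other hS hSR hF hab hodd hy hypair.1 hypair.2 ht (hcy t ht)
  exact hS.ne_of_inv hu hab (hK _ a (centralizer_ne_top hS hF hypair.1 hy1)
    (fun s hs => mem_centralizer_singleton_iff.2 (hcy s hs).symm) u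
    (mem_centralizer_singleton_iff.2 hyu.symm) hu.1)

theorem pair_free (hL : LocalOK G Ω) {a b : Ω} {d s t : G} (hab : a ≠ b) (hd : d ∈ pairStab G a b)
    (hs : InvAt s a) (ht : InvAt t a) (hst : s * t ≠ t * s) (hds : d * s = s * d)
    (hdt : d * t = t * d) : d = 1 := by
  by_contra hd1
  obtain ⟨p, y, hp, hy, hyd⟩ := exists_prime_pow hd1
  haveI := Fact.mk hp
  have hy1 : y ≠ 1 := fun h => hp.ne_one (by rw [← hy, h, orderOf_one])
  have hypair : y ∈ pairStab G a b := zpowers_le.2 hd hyd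
  have hodd : Odd p := (hS.odd_pairStab hab).of_dvd_nat (hy ▸ orderOf_dvd_natCard _ hypair)
  obtain ⟨k, hk⟩ := mem_zpowers_iff.1 hyd
  have hys : y * s = s * y := hk ▸ (Commute.zpow_left hds k).eq
  have hyt : y * t = t * y := hk ▸ (Commute.zpow_left hdt k).eq
  obtain ⟨u, hu, hyu⟩ := exists_inv_other hS hSR hF hab hodd hy hypair.1 hypair.2 hs hys
  set H := centralizer ({y} : Set G) with hH
  have hsH : s ∈ H := mem_centralizer_singleton_iff.2 hys.symm
  have htH : t ∈ H := mem_centralizer_singleton_iff.2 hyt.symm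
  have huH : u ∈ H := mem_centralizer_singleton_iff.2 hyu.symm
  have hHtop : H ≠ ⊤ := centralizer_ne_top hS hF hypair.1 hy1
  have hua : u • a ≠ a := hS.ne_of_inv hu hab
  -- the product fixes another point
  suffices h : ∃ x : Ω, x ≠ a ∧ (s * t) • x = x ∨ x ≠ a ∧ (s * t * s * t) • x = x by
    obtain ⟨x, ⟨hxa, hx⟩ | ⟨hxa, hx⟩⟩ := h
    · have h1 : s * t = 1 := hSR a x _ t hxa ht (by rw [mul_smul, ht.2, hs.2]) hx (by
        rw [mul_inv_rev, involution_inv hs.1, involution_inv ht.1, mul_assoc, mul_assoc,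
          involution_sq ht.1, mul_one])
      rw [eq_inv_of_mul_eq_one_left h1, involution_inv ht.1] at hst
      exact hst rfl
    · have h1 : s * t * s * t = 1 := hSR a x _ t hxa ht
        (by rw [mul_smul, mul_smul, mul_smul, ht.2, hs.2, ht.2, hs.2]) hx (by
        simp only [mul_inv_rev, involution_inv hs.1, involution_inv ht.1, mul_assoc,
          involution_sq ht.1, mul_one])
      refine hst ?_
      calc s * t = (s * t * s * t) * (t⁻¹ * s⁻¹) := by group
        _ = t * s := by rw [h1, one_mul, involution_inv hs.1, involution_inv ht.1]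
  by_cases hfour : ∃ e ∈ H, ∃ f ∈ H, orderOf e = 2 ∧ orderOf f = 2 ∧ e * f = f * e ∧ e ≠ f
  · obtain ⟨e, heH, f, hfH, he, hf, hef, hne⟩ := hfour
    obtain ⟨z, hz⟩ := hS.fix_exists he
    have hfa : ∃ e f : G, e ∈ H ∧ f ∈ H ∧ InvAt e a ∧ InvAt f a ∧ e ≠ f ∧ e * f = f * e := by
      have hez : InvAt e z := ⟨he, hz⟩
      have hfz : InvAt f z := ⟨hf, hS.fix_of_commute hez hef⟩
      rcases eq_or_ne a z with rfl | haz
      · exact ⟨e, f, heH, hfH, hez, hfz, hne, hef⟩
      have hT : TwoCentres G H z :=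
        ⟨hHtop, ⟨e, f, heH, hfH, hez, hfz, hne, hef⟩, s, hsH, hs.1, hS.ne_of_inv hs haz.symm⟩
      obtain ⟨h, hh, hhz⟩ := (hL H z hT).centres s hsH a hs
      refine ⟨h * e * h⁻¹, h * f * h⁻¹, mul_mem (mul_mem hh heH) (inv_mem hh),
        mul_mem (mul_mem hh hfH) (inv_mem hh), hhz ▸ hez.conj h, hhz ▸ hfz.conj h,
        fun h' => hne (by simpa using h'), ?_⟩
      simp only [conj_mul, hef]
    obtain ⟨e, f, heH, hfH, hea, hfa, hne, hef⟩ := hfa
    have hLH := hL H a ⟨hHtop, ⟨e, f, heH, hfH, hea, hfa, hne, hef⟩, u, huH, hu.1, hua⟩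
    exact ⟨u • a, Or.inr ⟨hua, coreIn_fixes hLH (hLH.comm s t hsH htH hs ht) ⟨u, huH, rfl⟩⟩⟩
  · push Not at hfour
    set O : Subgroup G := (Cfsg.oddCore ↥H).map H.subtype with hOdef
    have hOodd : Odd (Nat.card O) := by
      rw [hOdef, ← Nat.card_congr ((Cfsg.oddCore _).equivMapOfInjective _ H.subtype_injective).toEquiv]
      exact CfsgLib.ZStar.odd_card_oddCore _
    have hOn : H ≤ normalizer (O : Set G) := fun k hk => by
      refine mem_normalizer_of_map_conj_eq (eq_of_le_of_card_ge ?_ (card_map_conj k O).ge)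
      rintro _ ⟨_, ⟨o, ho, rfl⟩, rfl⟩
      exact ⟨⟨k, hk⟩ * o * ⟨k, hk⟩⁻¹, (inferInstance : (Cfsg.oddCore ↥H).Normal).conj_mem o ho _, rfl⟩
    have hus : u * s ∈ O := mul_mem_oddCore_of_rank_one H
      (fun e he f hf ho1 ho2 h => hfour e he f hf ho1 ho2 h) huH hsH hu.1 hs.1
    obtain ⟨x, hxa, hx⟩ := exists_fixed_ne hS hOn (map_subtype_le _) hOodd
      ⟨u * s, hus, by rwa [mul_smul, hs.2]⟩ hsH htH hs ht
    exact ⟨x, Or.inl ⟨hxa, hx⟩⟩

end CfsgLib.Bender.Cons

namespace CfsgLib.Bender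

universe u

/-- Slice D. -/
theorem consStep : ConsStep.{u} := by
  intro G Ω _ _ _ _ hS hF hL hK hSR
  refine
    { fix_le_two := fun p hp hp2 R hR a b c ha hab hac hbc hb hc => by
        haveI := Fact.mk hp
        exact Cons.fix_le_two hS hSR (hp.odd_of_ne_two hp2) R hR a b c ha hab hac hbc hb hc
      two := fun x y z hy hz => Cons.two hS hSR hy hz
      core_commute := fun a t w ht hw =>
        Subgroup.mem_centralizer_singleton_iff.1 (Cons.core_le_centralizer hS hSR ht hw)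
      core_free := fun a b w hab hw hwb => Cons.faithful_img hS hSR hF hK hab ⟨core_smul a hw, hwb⟩
        fun t ht => Subgroup.mem_centralizer_singleton_iff.1 (Cons.core_le_centralizer hS hSR ht hw)
      inj := fun a b s t hab hs ht he => Cons.inj hS hSR hab hs ht he
      centralizes := fun a b R hab hR t ht htR r hr => Cons.centralizes hS hSR hab hR ht htR hr
      faithful_img := fun a b d hab hd hc => Cons.faithful_img hS hSR hF hK hab hd hc
      pair_free := fun a b d s t hab hd hs ht hst hds hdt =>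
        Cons.pair_free hS hSR hF hL hab hd hs ht hst hds hdt }

end CfsgLib.Bender
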