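import Cfsg.Agent.Lib.Bender.Gen.Setting
import Cfsg.Agent.Lib.Bender.Main

/-!
Owner: helper24. General Bender theorem, slice E: passing to the quotient by the kernel of the action, and the fixed
points of core elements.
-/

set_option autoImplicit false
set_option linter.style.haveILetI false
set_option linter.unusedSectionVars false

namespace CfsgLib.Bender

open Subgroup MulAction
open CfsgLib.Signalizer (involution_sq involution_inv orderOf_eq_two_of involution_ne_one)

universe u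

section Faithful

variable {G : Type u} {Ω : Type*} [Group G] [Finite G] [MulAction G Ω] [Finite Ω] (hS : Setting G Ω)
include hS

/-- In a faithful setting an element of the core fixing another point is trivial. -/
theorem Setting.core_eq_one (hfaith : ∀ g : G, (∀ x : Ω, g • x = x) → g = 1) {a : Ω} (hsol : SolvMod G a)
    {g : G} (hg : g ∈ core G a) {b : Ω} (hb : b ≠ a) (hgb : g • b = b) : g = 1 := by
  obtain ⟨U, hUa, hUn, htr, hfree, hU, -⟩ := hS.exists_regular (smallerOK _) hfaith a hsol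
  refine hfaith g fun x => ?_
  by_cases hxa : x = a
  · rw [hxa]; exact core_smul a hg
  obtain ⟨u, hu, rfl⟩ := htr b x hb hxa
  have h1 : u * g * u⁻¹ * g⁻¹ ∈ core G a := mul_mem (core_conj_mem (hUa hu) hg) (inv_mem hg)
  have h2 : u * g * u⁻¹ * g⁻¹ ∈ U := by
    have : g * u⁻¹ * g⁻¹ ∈ U := (mem_normalizer_iff.1 (hUn (core_le a hg)) u⁻¹).1 (inv_mem hu)
    have h := mul_mem hu this
    simpa [mul_assoc] using h
  have hco : Nat.Coprime (Nat.card U) (Nat.card (core G a)) := by
    rw [hU]; exact Nat.Coprime.pow_left _ (core_odd a).coprime_two_left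
  have h3 : u * g * u⁻¹ * g⁻¹ = 1 := orderOf_eq_one_iff.1
    (Nat.eq_one_of_dvd_coprimes hco (U.orderOf_dvd_natCard h2) ((core G a).orderOf_dvd_natCard h1))
  have h4 : g * u = u * g := by
    calc g * u = u * g * u⁻¹ * g⁻¹ * (g * u) := by rw [h3, one_mul]
      _ = u * g := by group
  rw [← mul_smul, h4, mul_smul, hgb]

end Faithful

section Quot

variable {G : Type u} [Group G] [Finite G] {M : Subgroup G}

theorem mk_mem_map_iff {x : G} :
    QuotientGroup.mk' M.normalCore x ∈ M.map (QuotientGroup.mk' M.normalCore) ↔ x ∈ M := by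
  refine ⟨fun ⟨y, hy, he⟩ => ?_, fun h => ⟨x, h, rfl⟩⟩
  have := mul_mem hy (M.normalCore_le (QuotientGroup.eq.1 he))
  rwa [mul_inv_cancel_left] at this

theorem quot_stronglyEmbedded (hM : Cfsg.IsStronglyEmbedded M) :
    Cfsg.IsStronglyEmbedded (M.map (QuotientGroup.mk' M.normalCore)) := by
  set π := QuotientGroup.mk' M.normalCore
  refine ⟨fun h => hM.1 (eq_top_iff.2 fun x _ => mk_mem_map_iff.1 (h ▸ mem_top _)), ?_, fun g hg => ?_⟩
  · obtain ⟨t, htM, ht⟩ := CfsgLib.Signalizer.exists_involution_of_even hM.2.1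
    refine even_iff_two_dvd.2 ?_
    have h := (M.map π).orderOf_dvd_natCard (mk_mem_map_iff.2 htM)
    have h2 : orderOf (π t) ∣ 2 := ht ▸ orderOf_map_dvd π t
    rcases (Nat.dvd_prime Nat.prime_two).1 h2 with h' | h'
    · exfalso
      exact not_mem_of_odd (odd_normalCore hM) ht ((QuotientGroup.eq_one_iff t).1 (orderOf_eq_one_iff.1 h'))
    · rwa [h'] at h
  · obtain ⟨x, rfl⟩ := QuotientGroup.mk'_surjective _ g
    have hx : x ∉ M := fun h => hg (mk_mem_map_iff.2 h)
    refine (hM.2.2 x hx).of_dvd_nat (dvd_trans (card_dvd_of_le ?_) (Subgroup.card_map_dvd _ π))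
    intro z hz
    obtain ⟨y, hy, rfl⟩ := hz.1
    obtain ⟨y', hy', he⟩ := hz.2
    obtain ⟨y'', hy'', rfl⟩ := hy'
    refine ⟨y, ⟨hy, ?_⟩, rfl⟩
    have h1 : π (x⁻¹ * y * x) = π y'' := by
      rw [map_mul, map_mul, map_inv, ← he]
      simp [π, mul_assoc]
    exact ⟨_, mk_mem_map_iff.1 (show π (x⁻¹ * y * x) ∈ M.map π from h1 ▸ ⟨y'', hy'', rfl⟩), by simp [mul_assoc]⟩

variable (hM : Cfsg.IsStronglyEmbedded M)
include hM

theorem quot_invAt {t : G} (ht : InvAt t ((1 : G) : G ⧸ M)) :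
    InvAt (QuotientGroup.mk' M.normalCore t)
      ((1 : G ⧸ M.normalCore) : (G ⧸ M.normalCore) ⧸ M.map (QuotientGroup.mk' M.normalCore)) := by
  obtain ⟨ht2, htM⟩ := invAt_base.1 ht
  exact invAt_base.2 ⟨orderOf_eq_two_of
    (fun h => not_mem_of_odd (odd_normalCore hM) ht2 ((QuotientGroup.eq_one_iff t).1 h))
    (by rw [← map_mul, involution_sq ht2, map_one]), mk_mem_map_iff.2 htM⟩

theorem quot_four (hfour : ∃ s ∈ M, ∃ t ∈ M, orderOf s = 2 ∧ orderOf t = 2 ∧ s ≠ t ∧ s * t = t * s) :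
    ∃ s ∈ M.map (QuotientGroup.mk' M.normalCore), ∃ t ∈ M.map (QuotientGroup.mk' M.normalCore),
      orderOf s = 2 ∧ orderOf t = 2 ∧ s ≠ t ∧ s * t = t * s := by
  obtain ⟨s, hs, t, ht, hs2, ht2, hne, hc⟩ := hfour
  have h1 := invAt_base.1 (quot_invAt hM (invAt_base.2 ⟨hs2, hs⟩))
  have h2 := invAt_base.1 (quot_invAt hM (invAt_base.2 ⟨ht2, ht⟩))
  refine ⟨_, h1.2, _, h2.2, h1.1, h2.1, fun h => ?_, by rw [← map_mul, hc, map_mul]⟩
  have h3 : s⁻¹ * t ∈ M.normalCore := QuotientGroup.eq.1 h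
  refine not_mem_of_odd (odd_normalCore hM) (orderOf_eq_two_of (fun e => hne ?_) ?_) h3
  · exact inv_mul_eq_one.1 e
  · rw [involution_inv hs2, mul_assoc, hc, ← mul_assoc t, involution_sq ht2, one_mul, involution_sq hs2]

theorem mem_core_quot {w : G} (hw : w ∈ core G ((1 : G) : G ⧸ M)) :
    QuotientGroup.mk' M.normalCore w ∈ core (G ⧸ M.normalCore)
      ((1 : G ⧸ M.normalCore) : (G ⧸ M.normalCore) ⧸ M.map (QuotientGroup.mk' M.normalCore)) := by
  set π := QuotientGroup.mk' M.normalCore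
  set o : G ⧸ M := ((1 : G) : G ⧸ M)
  refine le_core (N := (core G o).map π) ?_ ?_ ?_ ⟨w, hw, rfl⟩
  · rw [stab_base]
    exact map_mono ((core_le o).trans (stab_base M).le)
  · rw [stab_base]
    rintro _ ⟨g, hg, rfl⟩
    exact le_normalizer_map π ⟨g, le_normalizer_core o ((stab_base M).symm ▸ hg), rfl⟩
  · exact (core_odd o).of_dvd_nat (Subgroup.card_map_dvd _ π)

theorem mem_core_of_quot {w : G} (hw : QuotientGroup.mk' M.normalCore w ∈ core (G ⧸ M.normalCore)
    ((1 : G ⧸ M.normalCore) : (G ⧸ M.normalCore) ⧸ M.map (QuotientGroup.mk' M.normalCore))) :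
    w ∈ core G ((1 : G) : G ⧸ M) := by
  set π := QuotientGroup.mk' M.normalCore
  set o' : (G ⧸ M.normalCore) ⧸ M.map π := ((1 : G ⧸ M.normalCore) : (G ⧸ M.normalCore) ⧸ M.map π)
  refine le_core (N := (core (G ⧸ M.normalCore) o').comap π) ?_ ?_ ?_ hw
  · intro x hx
    rw [stab_base]
    exact mk_mem_map_iff.1 ((stab_base _).le (core_le o' hx))
  · intro g hg
    rw [stab_base] at hg
    have hgs : π g ∈ stabilizer (G ⧸ M.normalCore) o' := by
      rw [stab_base]; exact mk_mem_map_iff.2 hg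
    have hg' := le_normalizer_core o' hgs
    rw [mem_normalizer_iff] at hg' ⊢
    intro x
    simp only [mem_comap, map_mul, map_inv]
    exact hg' _
  · rw [CfsgLib.Core.card_comap_mk']
    exact (odd_normalCore hM).mul (core_odd o')

theorem quot_lift {z : G ⧸ M.normalCore} (hz : InvAt z
    ((1 : G ⧸ M.normalCore) : (G ⧸ M.normalCore) ⧸ M.map (QuotientGroup.mk' M.normalCore))) :
    ∃ t : G, InvAt t ((1 : G) : G ⧸ M) ∧ QuotientGroup.mk' M.normalCore t = z := by
  obtain ⟨hz2, hzM⟩ := invAt_base.1 hz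
  obtain ⟨x, rfl⟩ := QuotientGroup.mk'_surjective _ z
  obtain ⟨t, ht2, htx, k, hk⟩ := exists_involution_lift (odd_normalCore hM) (x := x) (by
    rw [← QuotientGroup.eq_one_iff]
    exact involution_sq hz2) (fun h => by
    rw [show QuotientGroup.mk' M.normalCore x = 1 from (QuotientGroup.eq_one_iff x).2 h, orderOf_one] at hz2
    exact absurd hz2 (by norm_num))
  exact ⟨t, invAt_base.2 ⟨ht2, hk ▸ M.pow_mem (mk_mem_map_iff.1 hzM) k⟩, (QuotientGroup.eq.2 htx).symm⟩

variable (hfour : ∃ s ∈ M, ∃ t ∈ M, orderOf s = 2 ∧ orderOf t = 2 ∧ s ≠ t ∧ s * t = t * s)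
include hfour

/-- The setting pulls back from the quotient by the kernel. -/
theorem setting_of_quot
    (h : Setting (G ⧸ M.normalCore) ((G ⧸ M.normalCore) ⧸ M.map (QuotientGroup.mk' M.normalCore))) :
    Setting G (G ⧸ M) := by
  refine setting_of_stronglyEmbedded hM hfour fun s t hs ht => mem_core_of_quot hM ?_
  rw [map_mul, map_mul, map_mul]
  exact h.comm_mod (quot_invAt hM hs) (quot_invAt hM ht)

theorem solvMod_of_quot
    (hsol : SolvMod (G ⧸ M.normalCore)
      ((1 : G ⧸ M.normalCore) : (G ⧸ M.normalCore) ⧸ M.map (QuotientGroup.mk' M.normalCore))) :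
    SolvMod G ((1 : G) : G ⧸ M) := by
  set π := QuotientGroup.mk' M.normalCore
  set o : G ⧸ M := ((1 : G) : G ⧸ M)
  set o' : (G ⧸ M.normalCore) ⧸ M.map π := ((1 : G ⧸ M.normalCore) : (G ⧸ M.normalCore) ⧸ M.map π)
  let f : stabilizer G o →* stabilizer (G ⧸ M.normalCore) o' :=
    (π.comp (stabilizer G o).subtype).codRestrict _ fun x => by
      rw [stab_base]
      exact mk_mem_map_iff.2 ((stab_base M).le x.2)
  set ψ := (imgHom (G ⧸ M.normalCore) o').comp f
  haveI : Group.IsSolvable ψ.range :=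
    CfsgLib.Core.isSolvable_of_le hsol (by rintro _ ⟨x, rfl⟩; exact ⟨f x, rfl⟩)
  have hker : ψ.rangeRestrict.ker ≤ (imgHom G o).rangeRestrict.ker := by
    intro x hx
    rw [MonoidHom.ker_rangeRestrict, MonoidHom.mem_ker] at hx ⊢
    refine Equiv.ext fun q => ?_
    induction q using Quotient.inductionOn with
    | _ r =>
      refine Quotient.sound ?_
      have h := Quotient.exact (Equiv.ext_iff.1 hx (img (quot_invAt hM r.2)))
      show (x : G) * (r : G) * (x : G)⁻¹ * (r : G) ∈ core G o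
      refine mem_core_of_quot hM ?_
      rw [map_mul, map_mul, map_mul, map_inv]
      exact h
  let g : ψ.range →* (imgHom G o).range :=
    ψ.rangeRestrict.liftOfSurjective ψ.rangeRestrict_surjective ⟨(imgHom G o).rangeRestrict, hker⟩
  refine Group.isSolvable_of_surjective (f := g) fun y => ?_
  obtain ⟨x, rfl⟩ := (imgHom G o).rangeRestrict_surjective y
  exact ⟨ψ.rangeRestrict x, MonoidHom.liftOfRightInverse_comp_apply _ _ _ _ _⟩

/-- An element of the core fixing another point fixes all points. -/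
theorem core_fixes_all
    (h : Setting (G ⧸ M.normalCore) ((G ⧸ M.normalCore) ⧸ M.map (QuotientGroup.mk' M.normalCore)))
    (hsol : SolvMod (G ⧸ M.normalCore)
      ((1 : G ⧸ M.normalCore) : (G ⧸ M.normalCore) ⧸ M.map (QuotientGroup.mk' M.normalCore)))
    {g : G} (hg : g ∈ core G ((1 : G) : G ⧸ M)) {x : G ⧸ M} (hx : x ≠ ((1 : G) : G ⧸ M)) (hgx : g • x = x)
    (z : G ⧸ M) : g • z = z := by
  set π := QuotientGroup.mk' M.normalCore
  obtain ⟨y, rfl⟩ := QuotientGroup.mk_surjective x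
  rw [MulAction.Quotient.smul_coe, smul_eq_mul, QuotientGroup.eq] at hgx
  have hy : y ∉ M := fun hy => hx (by rw [QuotientGroup.eq]; simpa using hy)
  have hfaith : ∀ k : G ⧸ M.normalCore, (∀ q : (G ⧸ M.normalCore) ⧸ M.map π, k • q = q) → k = 1 := by
    intro k hk
    obtain ⟨k, rfl⟩ := QuotientGroup.mk'_surjective _ k
    refine (QuotientGroup.eq_one_iff k).2 fun b => ?_
    have h1 := hk ((π b⁻¹ : G ⧸ M.normalCore) : (G ⧸ M.normalCore) ⧸ M.map π)
    rw [MulAction.Quotient.smul_coe, smul_eq_mul, eq_comm, QuotientGroup.eq, ← map_inv, ← map_mul, ← map_mul,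
      mk_mem_map_iff] at h1
    simpa [mul_assoc] using h1
  have hgK : π g = 1 := by
    refine h.core_eq_one hfaith hsol (mem_core_quot hM hg)
      (b := ((π y : G ⧸ M.normalCore) : (G ⧸ M.normalCore) ⧸ M.map π)) (fun e => hy ?_) ?_
    · rw [QuotientGroup.eq, ← map_inv, mul_one, mk_mem_map_iff] at e
      simpa using e
    · rw [MulAction.Quotient.smul_coe, smul_eq_mul, QuotientGroup.eq, ← map_mul, ← map_inv, ← map_mul, mk_mem_map_iff]
      exact hgx
  have hker : g ∈ M.normalCore := (QuotientGroup.eq_one_iff g).1 hgK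
  rw [Subgroup.normalCore_eq_ker, MonoidHom.mem_ker] at hker
  exact Equiv.ext_iff.1 hker z

end Quot

end CfsgLib.Bender
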