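import Cfsg.Agent.Lib.Bender.Gen.NSig
import Cfsg.Agent.Lib.Bender.Gen.Cons
import Cfsg.Agent.Lib.Bender.Gen.Quot
import Cfsg.Agent.Lib.Bender.Gen.Wiring

/-!
Owner: helper18. General Bender theorem, sub-slice G1: the two permutation characters of a two-point
stabiliser, on the involutions at a point and on the swappers, have the same fixed points.
-/

set_option autoImplicit false
set_option linter.style.haveILetI false
set_option linter.unusedSectionVars false

namespace CfsgLib.Bender.NPerm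

open Subgroup MulAction
open CfsgLib.Signalizer (involution_sq involution_inv orderOf_eq_two_of involution_ne_one)

universe u

variable {G Ω : Type u} [Group G] [Finite G] [MulAction G Ω] [Finite Ω]

/-- The involutions at `x` in a subgroup. -/
abbrev InvIn (H : Subgroup G) (x : Ω) : Type u := {t : G // InvAt t x ∧ t ∈ H}

/-- The involutions of a subgroup mapping `x` to `y`. -/
abbrev SwapIn (H : Subgroup G) (x y : Ω) : Type u := {i : G // (orderOf i = 2 ∧ i • x = y) ∧ i ∈ H}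

omit [Finite Ω] in
theorem swap_smul {v : G} {x y : Ω} (hv : orderOf v = 2) (h : v • x = y) : v • y = x := by
  rw [← h, ← mul_smul, involution_sq hv, one_smul]

theorem card_swapIn_comm (H : Subgroup G) (x y : Ω) :
    Nat.card (SwapIn H x y) = Nat.card (SwapIn H y x) :=
  Nat.card_congr (Equiv.subtypeEquivRight fun _ =>
    ⟨fun h => ⟨⟨h.1.1, swap_smul h.1.1 h.1.2⟩, h.2⟩, fun h => ⟨⟨h.1.1, swap_smul h.1.1 h.1.2⟩, h.2⟩⟩)

variable (hS : Setting0 G Ω)
include hS

/-- Two involutions with different centres are exchanged by an involution of the subgroup they generate. -/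
theorem exists_middle {H : Subgroup G} {a b : Ω} (hab : a ≠ b) {t w : G} (htH : t ∈ H) (hwH : w ∈ H)
    (ht : InvAt t a) (hw : InvAt w b) :
    ∃ v ∈ H, orderOf v = 2 ∧ v • a = b ∧ v * t * v⁻¹ = w := by
  have hinv : ∀ k : ℤ, t * (t * w) ^ k * t⁻¹ = ((t * w) ^ k)⁻¹ := fun k => by
    rw [← conj_zpow, ← inv_zpow, mul_inv_rev, involution_inv ht.1, involution_inv hw.1, ← mul_assoc t t w,
      involution_sq ht.1, one_mul]
  have hodd : Odd (Nat.card (zpowers (t * w))) := by
    rw [← Nat.not_even_iff_odd]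
    intro he
    obtain ⟨⟨z, hz⟩, hz2⟩ := exists_prime_orderOf_dvd_card' 2 (hp := ⟨Nat.prime_two⟩) he.two_dvd
    rw [Subgroup.orderOf_mk] at hz2
    obtain ⟨k, hk⟩ := mem_zpowers_iff.1 hz
    have hzt : t * z = z * t := by
      have := hinv k
      rw [hk, involution_inv hz2] at this
      exact mul_inv_eq_iff_eq_mul.1 this
    have hzw : w * z = z * w := by
      have hc : z * (t * w) = t * w * z := hk ▸ ((Commute.refl (t * w)).zpow_left k).eq
      calc w * z = t * (t * w * z) := by rw [← mul_assoc, ← mul_assoc, involution_sq ht.1, one_mul]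
        _ = t * (z * (t * w)) := by rw [hc]
        _ = t * z * t * w := by group
        _ = z * w := by rw [hzt, mul_assoc z, involution_sq ht.1, mul_one]
    exact hab (hS.fix_unique ⟨hz2, hS.fix_of_commute ht hzt⟩ ⟨hz2, hS.fix_of_commute hw hzw⟩)
  obtain ⟨r, hr, hrt⟩ := exists_conj_of_mul_mem hodd ht.1 hw.1 (mem_zpowers _)
  obtain ⟨k, hk⟩ := mem_zpowers_iff.1 hr
  have hrH : r ∈ H := zpowers_le.2 (mul_mem htH hwH) hr
  have htr : t * r * t⁻¹ = r⁻¹ := hk ▸ hinv k
  have hra : r • a = b := hS.fix_unique (t := w) (hrt ▸ ht.conj r) hw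
  refine ⟨r * t, mul_mem hrH htH, orderOf_eq_two_of (fun he => ?_) ?_, by rw [mul_smul, ht.2, hra], ?_⟩
  · have h1 : (r * t) • a = b := by rw [mul_smul, ht.2, hra]
    rw [he, one_smul] at h1
    exact hab h1
  · have h1 : t * r * t = r⁻¹ := by rw [← htr, involution_inv ht.1]
    rw [mul_assoc, ← mul_assoc t, h1, mul_inv_cancel]
  · rw [← hrt]; group

/-- A subgroup has at least as many swappers of a pair as involutions at the first point. -/
theorem card_inv_le_card_swap {H : Subgroup G} {a b : Ω} (hab : a ≠ b)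
    (hex : ∀ t : G, InvAt t a → t ∈ H → ∃ w : G, InvAt w b ∧ w ∈ H) :
    Nat.card (InvIn H a) ≤ Nat.card (SwapIn H a b) := by
  rcases isEmpty_or_nonempty (InvIn H a) with he | ⟨⟨t, ht, htH⟩⟩
  · rw [Nat.card_of_isEmpty]; exact Nat.zero_le _
  obtain ⟨w, hw, hwH⟩ := hex t ht htH
  obtain ⟨v, hvH, hv, hva, -⟩ := exists_middle hS hab htH hwH ht hw
  choose f hfH hf2 hfa hft using fun x : InvIn H b => exists_middle hS hab htH x.2.2 ht x.2.1
  have h1 : Nat.card (InvIn H b) ≤ Nat.card (SwapIn H a b) :=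
    Nat.card_le_card_of_injective (fun x => ⟨f x, ⟨hf2 x, hfa x⟩, hfH x⟩) fun x y h => by
      have h' : f x = f y := congrArg Subtype.val h
      exact Subtype.ext ((hft x).symm.trans (h' ▸ hft y))
  refine le_trans (Nat.card_le_card_of_injective (fun x : InvIn H a =>
    (⟨v * x * v⁻¹, hva ▸ x.2.1.conj v, mul_mem (mul_mem hvH x.2.2) (inv_mem hvH)⟩ : InvIn H b))
    fun x y h => Subtype.ext ?_) h1
  simpa using congrArg Subtype.val h

/-- Inside a proper subgroup with two centres an element fixing the centre and two points of its orbit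
fixes an involution at the centre modulo an odd subgroup. -/
theorem exists_inv_fixed (hIH : IH.{u} (Nat.card G)) {N : Subgroup G} {w : Ω} (hN : TwoCentres G N w)
    {g : G} (hgN : g ∈ N) (hgw : g • w = w) {y z : Ω} (hy : y ∈ orb N w) (hz : z ∈ orb N w)
    (hyw : y ≠ w) (hzw : z ≠ w) (hyz : y ≠ z) (hgy : g • y = y) (hgz : g • z = z) :
    ∃ i ∈ N, InvAt i w ∧ Odd (orderOf (g * i * g⁻¹ * i)) := by
  classical
  set M : Subgroup N := (stabilizer G w).subgroupOf N with hMdef
  have hmem : ∀ h : N, h ∈ M ↔ (h : G) • w = w := fun h => Iff.rfl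
  obtain ⟨s, t, hsN, htN, hs, ht, hne, hc⟩ := hN.four
  obtain ⟨i, hiN, -, hiw⟩ := hN.other
  have hSE : Cfsg.IsStronglyEmbedded M := by
    refine ⟨fun h => hiw ((hmem ⟨i, hiN⟩).1 (h ▸ mem_top _)), ?_, fun g hg => ?_⟩
    · refine even_iff_two_dvd.2 ?_
      have := M.orderOf_dvd_natCard (x := ⟨s, hsN⟩) ((hmem _).2 hs.2)
      rwa [Subgroup.orderOf_mk, hs.1] at this
    · have hga : w ≠ (g : G) • w := fun h => hg ((hmem g).2 h.symm)
      refine (hS.odd_pairStab hga).of_dvd_nat ?_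
      rw [Nat.card_congr (Subgroup.equivMapOfInjective _ _ N.subtype_injective).toEquiv]
      refine card_dvd_of_le ?_
      rintro _ ⟨x, hx, rfl⟩
      obtain ⟨y, hy, hxy⟩ := hx.2
      refine ⟨(hmem x).1 hx.1, ?_⟩
      show (x : G) • (g : G) • w = (g : G) • w
      rw [← hxy]
      simp [mul_smul, (hmem y).1 hy]
  have hfour : ∃ x ∈ M, ∃ y ∈ M, orderOf x = 2 ∧ orderOf y = 2 ∧ x ≠ y ∧ x * y = y * x :=
    ⟨⟨s, hsN⟩, (hmem _).2 hs.2, ⟨t, htN⟩, (hmem _).2 ht.2, by rw [Subgroup.orderOf_mk]; exact hs.1,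
      by rw [Subgroup.orderOf_mk]; exact ht.1, fun h => hne (congrArg Subtype.val h), Subtype.ext hc⟩
  obtain ⟨hSQ, hsolQ⟩ := hIH (N ⧸ M.normalCore)
    (lt_of_le_of_lt (Nat.le_of_dvd Nat.card_pos M.normalCore.card_quotient_dvd_card)
      (CfsgLib.Core.card_subgroup_lt N hN.ne_top)) _ (quot_stronglyEmbedded hSE) (quot_four hSE hfour)
  set π := QuotientGroup.mk' M.normalCore with hπ
  set o' : (N ⧸ M.normalCore) ⧸ M.map π := ((1 : N ⧸ M.normalCore) : (N ⧸ M.normalCore) ⧸ M.map π)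
  have hfaith : ∀ k : N ⧸ M.normalCore, (∀ q : (N ⧸ M.normalCore) ⧸ M.map π, k • q = q) → k = 1 := by
    intro k hk
    obtain ⟨k, rfl⟩ := QuotientGroup.mk'_surjective _ k
    refine (QuotientGroup.eq_one_iff k).2 fun b => ?_
    have h1 := hk ((π b⁻¹ : N ⧸ M.normalCore) : (N ⧸ M.normalCore) ⧸ M.map π)
    rw [MulAction.Quotient.smul_coe, smul_eq_mul, eq_comm, QuotientGroup.eq, ← map_inv, ← map_mul, ← map_mul,
      mk_mem_map_iff] at h1
    simpa [mul_assoc] using h1
  obtain ⟨U, hUa, hUn, htr, hfree, hUc, -⟩ := hSQ.exists_regular (smallerOK _) hfaith o' hsolQ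
  have hpt : ∀ h k : N, π h • o' = π k • o' ↔ (h : G) • w = (k : G) • w := by
    intro h k
    rw [MulAction.Quotient.smul_coe, MulAction.Quotient.smul_coe, smul_eq_mul, smul_eq_mul, mul_one, mul_one,
      QuotientGroup.eq, ← map_inv, ← map_mul, mk_mem_map_iff, hmem, Subgroup.coe_mul, Subgroup.coe_inv,
      mul_smul, inv_smul_eq_iff, eq_comm]
  have hone : ∀ h : N, π h • o' = o' ↔ (h : G) • w = w := fun h => by
    have := hpt h 1
    rwa [map_one, one_smul, Subgroup.coe_one, one_smul] at this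
  obtain ⟨hy', hyN, rfl⟩ := hy
  obtain ⟨hz', hzN, rfl⟩ := hz
  set gn : N := ⟨g, hgN⟩
  set p := π ⟨hy', hyN⟩ • o' with hp
  set q := π ⟨hz', hzN⟩ • o' with hq
  have hpo : p ≠ o' := fun h => hyw ((hone _).1 h)
  have hqo : q ≠ o' := fun h => hzw ((hone _).1 h)
  obtain ⟨x, hx, hxpq⟩ := htr p q hpo hqo
  have hgo : π gn • o' = o' := (hone _).2 hgw
  have hgp : π gn • p = p := by
    rw [hp, ← mul_smul, ← map_mul]; exact (hpt _ _).2 (by rw [Subgroup.coe_mul, mul_smul]; exact hgy)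
  have hgq : π gn • q = q := by
    rw [hq, ← mul_smul, ← map_mul]; exact (hpt _ _).2 (by rw [Subgroup.coe_mul, mul_smul]; exact hgz)
  have hxg : π gn * x * (π gn)⁻¹ = x := by
    have hm : π gn * x * (π gn)⁻¹ ∈ U := (mem_normalizer_iff.1 (hUn hgo) x).1 hx
    refine (inv_mul_eq_one.1 (hfree p hpo _ (mul_mem (inv_mem hx) hm) ?_)).symm
    rw [mul_smul, mul_smul, mul_smul, inv_smul_eq_iff.2 hgp.symm, hxpq, hgq, ← hxpq, inv_smul_smul]
  have hx1 : x ≠ 1 := fun h => by
    rw [h, one_smul] at hxpq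
    exact hyz ((hpt _ _).1 hxpq)
  obtain ⟨k, hk⟩ : ∃ k, orderOf x = 2 ^ (k + 1) := by
    obtain ⟨j, -, hj⟩ := (Nat.dvd_prime_pow Nat.prime_two).1 (hUc ▸ U.orderOf_dvd_natCard hx)
    rcases j with - | j
    · exact absurd (orderOf_eq_one_iff.1 hj) hx1
    · exact ⟨j, hj⟩
  have hi' : InvAt (x ^ 2 ^ k) o' := by
    refine ⟨?_, (stabilizer _ o').pow_mem (hUa hx) _⟩
    rw [orderOf_pow_of_dvd (pow_ne_zero _ two_ne_zero) (hk ▸ pow_dvd_pow 2 (Nat.le_succ k)), hk, pow_succ]
    exact Nat.mul_div_cancel_left 2 (Nat.two_pow_pos k)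
  obtain ⟨j, hj, hjπ⟩ := quot_lift hSE hi'
  obtain ⟨hj2, hjM⟩ := invAt_base.1 hj
  refine ⟨j, j.2, ⟨by rw [Subgroup.orderOf_coe]; exact hj2, hjM⟩, ?_⟩
  have hker : gn * j * gn⁻¹ * j ∈ M.normalCore := by
    refine (QuotientGroup.eq_one_iff _).1 ?_
    show π (gn * j * gn⁻¹ * j) = 1
    rw [map_mul, map_mul, map_mul, map_inv, hjπ, ← conj_pow, hxg, involution_sq hi'.1]
  have := (odd_normalCore hSE).of_dvd_nat (M.normalCore.orderOf_dvd_natCard hker)
  rwa [← Subgroup.orderOf_coe] at this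

variable (hF : Faithful G Ω) (hSR : SR G Ω)
include hF hSR

omit hF in
theorem commute_at (hSC : SRCons G Ω) {a b : Ω} (hab : a ≠ b) {c : G} (hc : c ∈ pairStab G a b) (hc1 : c ≠ 1)
    {s t : G} (hs : InvAt s a) (ht : InvAt t a) (hcs : c * s = s * c) (hct : c * t = t * c) :
    s * t = t * s := by
  by_contra h
  exact hc1 (hSC.pair_free a b c s t hab hc hs ht h hcs hct)

/-- An element commuting with `c` and an involution at one point commutes with an involution at the
other which commutes with `c`. -/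
theorem exists_other (hIH : IH.{u} (Nat.card G)) (hSC : SRCons G Ω) {a b : Ω} (hab : a ≠ b) {c d t w : G}
    (hc : c ∈ pairStab G a b) (hc1 : c ≠ 1) (hd : d ∈ pairStab G a b) (hdc : d * c = c * d)
    (ht : InvAt t a) (hct : c * t = t * c) (hdt : d * t = t * d) (hw : InvAt w b) (hcw : c * w = w * c) :
    ∃ i : G, InvAt i b ∧ c * i = i * c ∧ d * i = i * d := by
  have hcd : c ∈ pairStab G b a := ⟨hc.2, hc.1⟩
  by_cases huniq : ∀ i : G, InvAt i b → c * i = i * c → i = w
  · refine ⟨w, hw, hcw, ?_⟩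
    have h1 := huniq (d * w * d⁻¹) (hw.conj' hd.2) (by
      calc c * (d * w * d⁻¹) = (c * d) * w * d⁻¹ := by group
        _ = d * (c * w) * d⁻¹ := by rw [← hdc]; group
        _ = d * w * (c * d⁻¹) := by rw [hcw]; group
        _ = d * w * d⁻¹ * c := by
          rw [show c * d⁻¹ = d⁻¹ * c from ((show Commute c d from hdc.symm).inv_right).eq]; group)
    exact mul_inv_eq_iff_eq_mul.1 h1
  push Not at huniq
  obtain ⟨s, hs, hcs, hsw⟩ := huniq
  set H := centralizer ({c} : Set G)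
  have hmemH : ∀ {x : G}, c * x = x * c → x ∈ H := fun h => mem_centralizer_singleton_iff.2 h.symm
  have hH : H ≠ ⊤ := Cons.centralizer_ne_top hS hF hc.1 hc1
  have hT : TwoCentres G H b := ⟨hH, ⟨s, w, hmemH hcs, hmemH hcw, hs, hw, hsw,
    commute_at hS hSR hSC hab.symm hcd hc1 hs hw hcs hcw⟩, t, hmemH hct, ht.1, hS.ne_of_inv ht hab.symm⟩
  obtain ⟨v, hvH, hv, hva, -⟩ := exists_middle hS hab (hmemH hct) (hmemH hcw) ht hw
  have haO : a ∈ orb H b := ⟨v, hvH, swap_smul hv hva⟩
  have htO : t • b ∈ orb H b := ⟨t, hmemH hct, rfl⟩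
  have htb : t • b ≠ b := hS.ne_of_inv ht hab.symm
  have hta : a ≠ t • b := fun h => hab (smul_left_cancel t (ht.2.trans h))
  have hdtb : d • t • b = t • b := by rw [← mul_smul, hdt, mul_smul, hd.2]
  obtain ⟨i, hiH, hi, hodd⟩ := exists_inv_fixed hS hIH hT (hmemH hdc.symm) hd.2 haO htO hab htb hta
    hd.1 hdtb
  have hci : c * i = i * c := (mem_centralizer_singleton_iff.1 hiH).symm
  refine ⟨i, hi, hci, ?_⟩
  have hdi : c * (d * i * d⁻¹) = d * i * d⁻¹ * c := (mem_centralizer_singleton_iff.1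
    (mul_mem (mul_mem (hmemH hdc.symm) hiH) (inv_mem (hmemH hdc.symm))) : _ = c * _).symm
  have hcomm := commute_at hS hSR hSC hab.symm hcd hc1 (hi.conj' hd.2) hi hdi hci
  have h2 : (d * i * d⁻¹ * i) ^ 2 = 1 := by
    rw [(show Commute (d * i * d⁻¹) i from hcomm).mul_pow, pow_two, pow_two, involution_sq hi.1,
      involution_sq (hi.conj' hd.2).1, mul_one]
  have h1 := orderOf_eq_one_iff.1 (Nat.eq_one_of_dvd_coprimes (Nat.coprime_two_left.2 hodd)
    (orderOf_dvd_of_pow_eq_one h2) dvd_rfl)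
  calc d * i = d * i * d⁻¹ * i * (i⁻¹ * d) := by group
    _ = i * d := by rw [h1, one_mul, involution_inv hi.1]

/-- An element fixing two points and commuting with an involution at the first commutes with one at the second. -/
theorem exists_inv_at_other (hIH : IH.{u} (Nat.card G)) (hSC : SRCons G Ω) {a b : Ω} (hab : a ≠ b) {d t : G}
    (hd : d ∈ pairStab G a b) (ht : InvAt t a) (hdt : d * t = t * d) :
    ∃ i : G, InvAt i b ∧ d * i = i * d := by
  rcases eq_or_ne d 1 with rfl | hd1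
  · obtain ⟨i, hi⟩ := hS.exists_invAt b
    exact ⟨i, hi, by rw [one_mul, mul_one]⟩
  obtain ⟨p, c, hp, hc, hcd⟩ := Cons.exists_prime_pow hd1
  haveI := Fact.mk hp
  have hc1 : c ≠ 1 := fun h => hp.ne_one (by rw [← hc, h, orderOf_one])
  have hcpair : c ∈ pairStab G a b := zpowers_le.2 hd hcd
  have hodd : Odd p := (hS.odd_pairStab hab).of_dvd_nat (hc ▸ orderOf_dvd_natCard _ hcpair)
  obtain ⟨k, hk⟩ := mem_zpowers_iff.1 hcd
  have hct : c * t = t * c := hk ▸ (Commute.zpow_left hdt k).eq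
  have hdc : d * c = c * d := hk ▸ ((Commute.refl d).zpow_right k).eq
  obtain ⟨w, hw, hcw⟩ := Cons.exists_inv_other hS hSR hF hab hodd hc hcpair.1 hcpair.2 ht hct
  obtain ⟨i, hi, -, hdi⟩ := exists_other hS hF hSR hIH hSC hab hcpair hc1 hd hdc ht hct hdt hw hcw
  exact ⟨i, hi, hdi⟩

omit hF hSR in
theorem sum_card_commuting {a b : Ω} {T : Type u} [Finite T] [Nonempty T] [Fintype ↥(pairStab G a b)]
    (f : T → G) (h : ∀ x : T, Nat.card T * Nat.card (pairStab G a b ⊓ centralizer {f x} : Subgroup G) =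
      Nat.card (pairStab G a b)) :
    ∑ d : ↥(pairStab G a b), Nat.card {x : T // (d : G) * f x = f x * d} = Nat.card (pairStab G a b) := by
  classical
  haveI := Fintype.ofFinite T
  rw [← Nat.card_sigma]
  let e : (Σ d : ↥(pairStab G a b), {x : T // (d : G) * f x = f x * d}) ≃
      Σ x : T, ↥(pairStab G a b ⊓ centralizer {f x} : Subgroup G) :=
    { toFun := fun p => ⟨p.2.1, (p.1 : G), p.1.2, mem_centralizer_singleton_iff.2 p.2.2⟩
      invFun := fun p => ⟨⟨(p.2 : G), p.2.2.1⟩, p.1, mem_centralizer_singleton_iff.1 p.2.2.2⟩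
      left_inv := fun p => rfl
      right_inv := fun p => rfl }
  rw [Nat.card_congr e, Nat.card_sigma]
  refine Nat.eq_of_mul_eq_mul_left (Nat.card_pos (α := T)) ?_
  rw [Finset.mul_sum, Finset.sum_congr rfl (fun x _ => h x), Finset.sum_const, Finset.card_univ,
    ← Nat.card_eq_fintype_card, smul_eq_mul]

theorem card_fixed_eq (hIH : IH.{u} (Nat.card G)) (hSC : SRCons G Ω) {a b : Ω} (hab : a ≠ b) {d : G}
    (hd : d ∈ pairStab G a b) :
    Nat.card (InvIn (centralizer ({d} : Set G)) a) = Nat.card (SwapIn (centralizer ({d} : Set G)) a b) := by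
  classical
  haveI := Fintype.ofFinite ↥(pairStab G a b)
  set IA := {t : G // InvAt t a}
  set SW := {i : G // orderOf i = 2 ∧ i • a = b}
  have hle : ∀ x : ↥(pairStab G a b),
      Nat.card {t : IA // (x : G) * t.1 = t.1 * x} ≤ Nat.card {i : SW // (x : G) * i.1 = i.1 * x} := by
    intro x
    have h := card_inv_le_card_swap (H := centralizer ({(x : G)} : Set G)) hS hab (fun t ht htH => by
      obtain ⟨i, hi, hxi⟩ := exists_inv_at_other hS hF hSR hIH hSC hab x.2 ht
        (mem_centralizer_singleton_iff.1 htH).symm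
      exact ⟨i, hi, mem_centralizer_singleton_iff.2 hxi.symm⟩)
    refine le_trans (le_of_eq ?_) (h.trans (le_of_eq ?_))
    · exact Nat.card_congr
        { toFun := fun p => ⟨p.1.1, p.1.2, mem_centralizer_singleton_iff.2 p.2.symm⟩
          invFun := fun p => ⟨⟨p.1, p.2.1⟩, (mem_centralizer_singleton_iff.1 p.2.2).symm⟩
          left_inv := fun p => rfl
          right_inv := fun p => rfl }
    · exact Nat.card_congr
        { toFun := fun p => ⟨⟨p.1, p.2.1⟩, (mem_centralizer_singleton_iff.1 p.2.2).symm⟩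
          invFun := fun p => ⟨p.1.1, p.1.2, mem_centralizer_singleton_iff.2 p.2.symm⟩
          left_inv := fun p => rfl
          right_inv := fun p => rfl }
  obtain ⟨t₀, ht₀⟩ := hS.exists_invAt a
  obtain ⟨v₀, hv₀⟩ := hS.exists_swapper hab
  haveI : Nonempty IA := ⟨⟨t₀, ht₀⟩⟩
  haveI : Nonempty SW := ⟨⟨v₀, hv₀⟩⟩
  have h1 := sum_card_commuting hS (a := a) (b := b) (T := IA) Subtype.val
    fun t => hS.card_pairStab_invAt hab t.2
  have h2 := sum_card_commuting hS (a := a) (b := b) (T := SW) Subtype.val fun i => by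
    rw [hS.card_swap hab]; exact hS.card_pairStab_swapper hab i.2.1 i.2.2
  have h := (Finset.sum_eq_sum_iff_of_le fun x _ => hle x).1 (h1.trans h2.symm) ⟨d, hd⟩ (Finset.mem_univ _)
  refine (Eq.trans ?_ h).trans ?_
  · exact Nat.card_congr
      { toFun := fun p => ⟨⟨p.1, p.2.1⟩, (mem_centralizer_singleton_iff.1 p.2.2).symm⟩
        invFun := fun p => ⟨p.1.1, p.1.2, mem_centralizer_singleton_iff.2 p.2.symm⟩
        left_inv := fun p => rfl
        right_inv := fun p => rfl }
  · exact Nat.card_congr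
      { toFun := fun p => ⟨p.1.1, p.1.2, mem_centralizer_singleton_iff.2 p.2.symm⟩
        invFun := fun p => ⟨⟨p.1, p.2.1⟩, (mem_centralizer_singleton_iff.1 p.2.2).symm⟩
        left_inv := fun p => rfl
        right_inv := fun p => rfl }

end CfsgLib.Bender.NPerm

namespace CfsgLib.Bender

open Subgroup MulAction

universe u

/-- Sub-slice G1. -/
theorem permCharStep : PermCharStep.{u} := by
  intro G Ω _ _ _ _ h a b hab d hd _
  have key := NPerm.card_fixed_eq h.setting h.faith h.sr h.ih h.cons hab hd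
  constructor
  · rintro ⟨t, ht, hdt⟩
    haveI : Nonempty (NPerm.InvIn (centralizer ({d} : Set G)) a) :=
      ⟨⟨t, ht, mem_centralizer_singleton_iff.2 hdt.symm⟩⟩
    obtain ⟨⟨v, hv, hvd⟩⟩ := (Nat.card_pos_iff.1 (key ▸ Nat.card_pos)).1
    exact ⟨v, hv.1, hv.2, (mem_centralizer_singleton_iff.1 hvd).symm⟩
  · rintro ⟨v, hv, hva, hdv⟩
    haveI : Nonempty (NPerm.SwapIn (centralizer ({d} : Set G)) a b) :=
      ⟨⟨v, ⟨hv, hva⟩, mem_centralizer_singleton_iff.2 hdv.symm⟩⟩
    obtain ⟨⟨t, ht, htd⟩⟩ := (Nat.card_pos_iff.1 (key.symm ▸ Nat.card_pos :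
      0 < Nat.card (NPerm.InvIn (centralizer ({d} : Set G)) a))).1
    exact ⟨t, ht, (mem_centralizer_singleton_iff.1 htd).symm⟩

end CfsgLib.Bender
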