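import Cfsg.Agent.Lib.Bender.GroupLemmas
import Mathlib.FieldTheory.Finite.Basic
import Mathlib.FieldTheory.Fixed

/-!
Owner: helper18. General Bender theorem, sub-slice G2: the semilinear torus of an odd group with an
involution, abstractly.
-/

set_option autoImplicit false
set_option linter.style.haveILetI false
set_option linter.unusedSectionVars false

namespace CfsgLib.Bender.NTorus

open Subgroup

section Field

variable {F : Type} [Field F] [Finite F]

theorem charP_two {e : ℕ} (he : Nat.card F = 2 ^ e) : CharP F 2 := by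
  haveI := Fintype.ofFinite F
  haveI : Fact (Nat.Prime 2) := ⟨Nat.prime_two⟩
  exact charP_of_card_eq_prime_pow (f := e) (by rw [← Nat.card_eq_fintype_card, he])

/-- A ring automorphism of the field with `2 ^ e` elements is a power of the Frobenius. -/
theorem exists_frob {e : ℕ} (he : Nat.card F = 2 ^ e) (φ : F ≃+* F) :
    ∃ i < e, ∀ x : F, φ x = x ^ 2 ^ i := by
  haveI := charP_two he
  haveI : Fact (Nat.Prime 2) := ⟨Nat.prime_two⟩
  letI : Algebra (ZMod 2) F := ZMod.algebra F 2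
  haveI : Module.Finite (ZMod 2) F := Module.Finite.of_finite
  have hrank : Module.finrank (ZMod 2) F = e := by
    have h1 := Module.natCard_eq_pow_finrank (K := ZMod 2) (V := F)
    rw [he, Nat.card_zmod] at h1
    exact (Nat.pow_right_injective (le_refl 2) h1).symm
  let τ : F ≃ₐ[ZMod 2] F := AlgEquiv.ofRingEquiv (f := φ) fun x =>
    RingHom.congr_fun (Subsingleton.elim ((φ : F →+* F).comp (algebraMap (ZMod 2) F))
      (algebraMap (ZMod 2) F)) x
  obtain ⟨⟨i, hi⟩, hτ⟩ := (FiniteField.bijective_frobeniusAlgEquivOfAlgebraic_pow (ZMod 2) F).2 τ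
  refine ⟨i, hrank ▸ hi, fun x => ?_⟩
  have h : (FiniteField.frobeniusAlgEquivOfAlgebraic (ZMod 2) F ^ i) x = φ x := by
    rw [show FiniteField.frobeniusAlgEquivOfAlgebraic (ZMod 2) F ^ i = τ from hτ]; rfl
  rw [← h]
  clear h hτ hi
  induction i generalizing x with
  | zero => simp
  | succ n ih =>
    rw [pow_succ', AlgEquiv.mul_apply, FiniteField.frobeniusAlgEquivOfAlgebraic_apply, ih, ZMod.card,
      ← pow_mul, ← pow_succ]

theorem card_aut_le {e : ℕ} (he : Nat.card F = 2 ^ e) : Nat.card (F ≃+* F) ≤ e := by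
  choose i hi hφ using fun φ : F ≃+* F => exists_frob he φ
  refine le_trans (Nat.card_le_card_of_injective (fun φ => (⟨i φ, hi φ⟩ : Fin e)) fun φ ψ h => ?_)
    (by rw [Nat.card_fin])
  exact RingEquiv.ext fun x => by rw [hφ φ x, hφ ψ x, show i φ = i ψ from congrArg Fin.val h]

theorem mul_succ_le_two_pow {n : ℕ} (hn : 1 ≤ n) : 2 * n ≤ 2 ^ n := by
  induction n with
  | zero => omega
  | succ m ih =>
    rcases Nat.eq_zero_or_pos m with rfl | hm
    · norm_num
    · rw [pow_succ]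
      have := ih hm
      omega

theorem arith {k f : ℕ} (hk : 3 ≤ k) (hf : 1 ≤ f) :
    k * f * (2 ^ f - 1) ^ 2 < 2 ^ (k * f) - 1 := by
  obtain ⟨n, rfl⟩ : ∃ n, k = n + 3 := ⟨k - 3, by omega⟩
  by_cases hsmall : n = 0 ∧ f ≤ 3
  · obtain ⟨rfl, hf3⟩ := hsmall
    interval_cases f <;> norm_num
  have hq : 2 ≤ 2 ^ f := by
    calc 2 = 2 ^ 1 := rfl
      _ ≤ _ := Nat.pow_le_pow_right two_pos hf
  have h1 : (n + 3) * f ≤ 2 ^ ((n + 1) * f) := by
    rcases Nat.eq_zero_or_pos n with rfl | hn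
    · have hf4 : 4 ≤ f := by omega
      simp only [zero_add, one_mul]
      clear hsmall hq hf hk
      induction f, hf4 using Nat.le_induction with
      | base => norm_num
      | succ m hm ih =>
        rw [pow_succ]
        omega
    · refine le_trans ?_ (mul_succ_le_two_pow (Nat.mul_pos (Nat.succ_pos n) hf))
      rw [← mul_assoc]
      exact Nat.mul_le_mul_right f (by omega)
  have h2 : 2 ^ ((n + 3) * f) = 2 ^ ((n + 1) * f) * (2 ^ f) ^ 2 := by
    rw [← pow_mul, ← pow_add]; ring_nf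
  have h3 : (2 ^ f - 1) ^ 2 + 2 ≤ (2 ^ f) ^ 2 := by
    obtain ⟨q, hq'⟩ : ∃ q, 2 ^ f = q + 1 := ⟨2 ^ f - 1, by omega⟩
    rw [hq', Nat.add_sub_cancel]
    nlinarith
  have h4 : 0 < 2 ^ ((n + 1) * f) := Nat.two_pow_pos _
  have h5 : (n + 3) * f * (2 ^ f - 1) ^ 2 ≤ 2 ^ ((n + 1) * f) * (2 ^ f - 1) ^ 2 := Nat.mul_le_mul_right _ h1
  have h6 : 2 ^ ((n + 1) * f) * ((2 ^ f - 1) ^ 2 + 2) ≤ 2 ^ ((n + 3) * f) := h2 ▸ Nat.mul_le_mul_left _ h3
  rw [mul_add] at h6
  omega

/-- A group of units whose quotients under a non-trivial automorphism of odd order are fixed by it is small. -/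
theorem small_of_moved {e : ℕ} (he : Nat.card F = 2 ^ e) {σ : F ≃+* F} (hσ : σ ≠ 1)
    (hodd : Odd (orderOf σ)) (S : Subgroup Fˣ)
    (h : ∀ ξ ∈ S, σ (σ (ξ : F) / ξ) = σ (ξ : F) / ξ) : e * Nat.card S < 2 ^ e - 1 := by
  haveI : Finite (F ≃+* F) := Finite.of_injective (fun φ : F ≃+* F => (φ : F → F)) DFunLike.coe_injective
  haveI : Fintype ↥(zpowers σ) := Fintype.ofFinite _
  set K := FixedPoints.subfield ↥(zpowers σ) F
  have hrank : Module.finrank K F = orderOf σ := by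
    rw [FixedPoints.finrank_eq_card, ← Nat.card_eq_fintype_card, Nat.card_zpowers]
  have hcard := Module.natCard_eq_pow_finrank (K := K) (V := F)
  rw [hrank, he] at hcard
  set k := orderOf σ with hk
  obtain ⟨f, -, hf⟩ := (Nat.dvd_prime_pow Nat.prime_two).1
    (hcard ▸ dvd_pow_self _ (orderOf_pos σ).ne' : Nat.card K ∣ 2 ^ e)
  rw [hf, ← pow_mul] at hcard
  have hek : e = f * k := Nat.pow_right_injective le_rfl hcard
  have hf1 : 1 ≤ f := by
    rcases Nat.eq_zero_or_pos f with rfl | h'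
    · have h1 := Finite.one_lt_card (α := K)
      rw [hf] at h1
      omega
    · exact h'
  have hk3 : 3 ≤ k := by
    have h1 : k ≠ 1 := fun h1 => hσ (orderOf_eq_one_iff.1 h1)
    obtain ⟨j, hj⟩ := hodd
    omega
  have hfix : ∀ x : F, x ∈ K ↔ σ x = x := by
    intro x
    refine ⟨fun hx => hx ⟨σ, mem_zpowers σ⟩, fun hx g => ?_⟩
    exact (show (g : F ≃+* F) ∈ MulAction.stabilizer (F ≃+* F) x from
      zpowers_le.2 hx g.2 : (g : F ≃+* F) • x = x)
  let mv : S →* Fˣ :=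
    { toFun := fun ξ => Units.map (σ.toRingHom.toMonoidHom) (ξ : Fˣ) / ξ
      map_one' := by simp
      map_mul' := fun x y => by rw [Subgroup.coe_mul, map_mul, mul_div_mul_comm] }
  have hle : Nat.card S ≤ (2 ^ f - 1) * (2 ^ f - 1) := by
    have hKu : Nat.card Kˣ = 2 ^ f - 1 := by rw [Nat.card_units, hf]
    rw [← hKu, ← Subgroup.card_mul_index mv.ker, Subgroup.index_ker]
    have hin : ∀ (u : Fˣ), σ (u : F) = u → ∃ w : Kˣ, ((w : K) : F) = u := fun u hu =>
      ⟨Units.mk0 ⟨u, (hfix _).2 hu⟩ (fun h0 => u.ne_zero (congrArg Subtype.val h0)), rfl⟩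
    refine Nat.mul_le_mul ?_ ?_
    · choose w hw using fun x : mv.ker => hin ((x : S) : Fˣ) (by
        have hx := congrArg (Units.val) (MonoidHom.mem_ker.1 x.2)
        simpa [mv, div_eq_one_iff_eq] using hx)
      refine Nat.card_le_card_of_injective w fun x y h => Subtype.ext (Subtype.ext (Units.ext ?_))
      rw [← hw x, ← hw y, h]
    · choose w hw using fun x : mv.range => hin (x : Fˣ) (by
        obtain ⟨ξ, hξ⟩ := x.2
        rw [← hξ]
        simpa [mv] using h _ ξ.2)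
      refine Nat.card_le_card_of_injective w fun x y h => Subtype.ext (Units.ext ?_)
      rw [← hw x, ← hw y, h]
  have := arith hk3 hf1
  rw [pow_two] at this
  rw [hek, mul_comm f k]
  exact lt_of_le_of_lt (Nat.mul_le_mul_left _ hle) this

end Field

/-- An odd group `D` acting semilinearly and transitively on the field, with an involution. -/
structure Model {G : Type*} [Group G] [Finite G] (D : Subgroup G) (v : G) (F : Type) [Field F]
    (el : F → G) (sc : G → F) (au : G → F ≃+* F) : Prop where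
  odd : Odd (Nat.card D)
  sq : v * v = 1
  inv : ∀ d ∈ D, v * d * v ∈ D
  inj : Function.Injective el
  act : ∀ d ∈ D, ∀ x : F, d * el x * d⁻¹ = el (sc d * au d x)
  trans : ∀ ξ : F, ξ ≠ 0 → ∃ d ∈ D, sc d = ξ
  ker : ∀ d ∈ D, sc d = 1 → au d = 1 → v * d = d * v
  fix : ∀ d ∈ D, v * d = d * v → ∃ x : F, x ≠ 0 ∧ sc d * au d x = x
  count : Nat.card {x : G // x ∈ D ∧ v * x * v = x⁻¹} = Nat.card {ξ : F // ξ ≠ 0}

namespace Model

variable {G : Type*} [Group G] [Finite G] {D : Subgroup G} {v : G} {F : Type} [Field F] [Finite F]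
  {el : F → G} {sc : G → F} {au : G → F ≃+* F} (M : Model D v F el sc au)
include M

theorem law {d d' : G} (hd : d ∈ D) (hd' : d' ∈ D) :
    sc (d * d') = sc d * au d (sc d') ∧ au (d * d') = au d * au d' := by
  have key : ∀ x : F, sc (d * d') * au (d * d') x = sc d * au d (sc d' * au d' x) := fun x => M.inj (by
    rw [← M.act _ (mul_mem hd hd'), ← M.act _ hd, ← M.act _ hd']; group)
  have h1 := key 1
  rw [map_one, map_one, mul_one, mul_one] at h1
  refine ⟨h1, RingEquiv.ext fun x => ?_⟩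
  have h0 : sc (d * d') ≠ 0 := fun h0 => by
    have e0 := M.act _ (mul_mem hd hd') 1
    have e0' := M.act _ (mul_mem hd hd') 0
    rw [h0, zero_mul] at e0 e0'
    exact one_ne_zero (M.inj (mul_left_cancel (mul_right_cancel (e0.trans e0'.symm))))
  have h2 := key x
  rw [map_mul, ← mul_assoc, ← h1] at h2
  exact mul_left_cancel₀ h0 h2

theorem sc_ne {d : G} (hd : d ∈ D) : sc d ≠ 0 := fun h0 => by
  have e0 := M.act _ hd 1
  have e0' := M.act _ hd 0
  rw [h0, zero_mul] at e0 e0'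
  exact one_ne_zero (M.inj (mul_left_cancel (mul_right_cancel (e0.trans e0'.symm))))

theorem one_law : sc 1 = 1 ∧ au 1 = 1 := by
  obtain ⟨h1, h2⟩ := M.law (one_mem D) (one_mem D)
  rw [one_mul] at h1 h2
  have h3 : au 1 = 1 := mul_eq_left.1 h2.symm
  rw [h3, RingAut.one_apply] at h1
  exact ⟨(mul_eq_left₀ (M.sc_ne (one_mem D))).1 h1.symm, h3⟩

theorem au_inv {d : G} (hd : d ∈ D) : au d⁻¹ = (au d)⁻¹ := by
  have h := (M.law hd (inv_mem hd)).2
  rw [mul_inv_cancel, M.one_law.2] at h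
  exact eq_inv_of_mul_eq_one_right h.symm

theorem au_pow {d : G} (hd : d ∈ D) : ∀ n : ℕ, au (d ^ n) = au d ^ n := by
  intro n
  induction n with
  | zero => rw [pow_zero, pow_zero, M.one_law.2]
  | succ k ih => rw [pow_succ, pow_succ, (M.law (pow_mem hd k) hd).2, ih]

theorem au_odd {d : G} (hd : d ∈ D) : Odd (orderOf (au d)) :=
  (M.odd.of_dvd_nat (D.orderOf_dvd_natCard hd)).of_dvd_nat (orderOf_dvd_of_pow_eq_one (by
    rw [← M.au_pow hd, pow_orderOf_eq_one, M.one_law.2]))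

theorem au_conj {d x : G} (hd : d ∈ D) (hx : x ∈ D) : au (d * x * d⁻¹) = au d * au x * (au d)⁻¹ := by
  rw [(M.law (mul_mem hd hx) (inv_mem hd)).2, (M.law hd hx).2, M.au_inv hd]

/-- A conjugate of a scalar. -/
theorem sc_conj {d x : G} (hd : d ∈ D) (hx : x ∈ D) (hlin : au x = 1) :
    sc (d * x * d⁻¹) = au d (sc x) := by
  have hm : d * x * d⁻¹ ∈ D := mul_mem (mul_mem hd hx) (inv_mem hd)
  have h1 := (M.law hm hd).1
  rw [inv_mul_cancel_right, (M.law hd hx).1, M.au_conj hd hx, hlin, mul_one, mul_inv_cancel,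
    RingAut.one_apply, mul_comm] at h1
  exact (mul_right_cancel₀ (M.sc_ne hd) h1).symm

theorem sc_mul {x y : G} (hx : x ∈ D) (hy : y ∈ D) (hlin : au x = 1) : sc (x * y) = sc x * sc y := by
  rw [(M.law hx hy).1, hlin, RingAut.one_apply]

theorem sc_inv {x : G} (hx : x ∈ D) (hlin : au x = 1) : sc x⁻¹ = (sc x)⁻¹ := by
  refine eq_inv_of_mul_eq_one_right ?_
  rw [← M.sc_mul hx (inv_mem hx) hlin, mul_inv_cancel, M.one_law.1]

theorem sc_pow {x : G} (hx : x ∈ D) (hlin : au x = 1) : ∀ n : ℕ, sc (x ^ n) = sc x ^ n := by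
  intro n
  induction n with
  | zero => rw [pow_zero, pow_zero, M.one_law.1]
  | succ k ih => rw [pow_succ', pow_succ', M.sc_mul hx (pow_mem hx k) hlin, ih]

theorem vinv : v⁻¹ = v := inv_eq_of_mul_eq_one_right M.sq

theorem vv (x : G) : v * (v * x * v) * v = x := by
  rw [show v * (v * x * v) * v = v * v * x * (v * v) by group, M.sq, one_mul, mul_one]

theorem vmul (x y : G) : v * (x * y) * v = v * x * v * (v * y * v) := by
  rw [show v * x * v * (v * y * v) = v * x * (v * v) * y * v by group, M.sq]; group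

theorem vinv' (x : G) : v * x⁻¹ * v = (v * x * v)⁻¹ := by
  rw [mul_inv_rev, mul_inv_rev, M.vinv, mul_assoc]

theorem eq_one_of_sq {z : G} (hz : z ∈ D) (h : z * z = 1) : z = 1 :=
  orderOf_eq_one_iff.1 (Nat.eq_one_of_dvd_coprimes (Nat.coprime_two_left.2 M.odd)
    (orderOf_dvd_of_pow_eq_one (by rw [pow_two]; exact h)) (D.orderOf_dvd_natCard hz))

theorem commutator_ker {x y : G} (hx : x ∈ D) (hy : y ∈ D) (h1 : au x = 1) (h2 : au y = 1) :
    v * (x * y * x⁻¹ * y⁻¹) = x * y * x⁻¹ * y⁻¹ * v := by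
  have hm : x * y * x⁻¹ ∈ D := mul_mem (mul_mem hx hy) (inv_mem hx)
  have hl : au (x * y * x⁻¹) = 1 := by rw [M.au_conj hx hy, h1, h2, mul_one, one_mul, inv_one]
  refine M.ker _ (mul_mem hm (inv_mem hy)) ?_ ?_
  · rw [M.sc_mul hm (inv_mem hy) hl, M.sc_inv hy h2, M.sc_conj hx hy h2, h1, RingAut.one_apply,
      mul_inv_cancel₀ (M.sc_ne hy)]
  · rw [(M.law hm (inv_mem hy)).2, hl, M.au_inv hy, h2, inv_one, mul_one]

/-- The scalars of the group. -/
def units : Subgroup Fˣ where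
  carrier := {ξ | ∃ x ∈ D, au x = 1 ∧ sc x = ξ}
  one_mem' := ⟨1, one_mem D, M.one_law.2, M.one_law.1⟩
  mul_mem' := by
    rintro ξ η ⟨x, hx, h1, h2⟩ ⟨y, hy, h3, h4⟩
    exact ⟨x * y, mul_mem hx hy, by rw [(M.law hx hy).2, h1, h3, mul_one],
      by rw [M.sc_mul hx hy h1, h2, h4, Units.val_mul]⟩
  inv_mem' := by
    rintro ξ ⟨x, hx, h1, h2⟩
    exact ⟨x⁻¹, inv_mem hx, by rw [M.au_inv hx, h1, inv_one], by rw [M.sc_inv hx h1, h2, Units.val_inv_eq_inv_val]⟩

variable {e : ℕ} (he : Nat.card F = 2 ^ e)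
include he

theorem units_large : 2 ^ e - 1 ≤ e * Nat.card M.units := by
  classical
  haveI := Fintype.ofFinite F
  haveI : Finite (F ≃+* F) := Finite.of_injective (fun φ : F ≃+* F => (φ : F → F)) DFunLike.coe_injective
  have hd : ∀ ξ : Fˣ, ∃ d ∈ D, sc d = ξ := fun ξ => M.trans _ ξ.ne_zero
  choose d hdD hd using hd
  let rep : (F ≃+* F) → G := fun σ => if h : ∃ g ∈ D, au g = σ then h.choose else 1
  have hrep : ∀ ξ, rep (au (d ξ)) ∈ D ∧ au (rep (au (d ξ))) = au (d ξ) := by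
    intro ξ
    have h : ∃ g ∈ D, au g = au (d ξ) := ⟨_, hdD ξ, rfl⟩
    simp only [rep, dif_pos h]
    exact h.choose_spec
  let f : Fˣ → M.units × (F ≃+* F) := fun ξ =>
    (⟨Units.mk0 (sc (d ξ * (rep (au (d ξ)))⁻¹)) (M.sc_ne (mul_mem (hdD ξ) (inv_mem (hrep ξ).1))),
      d ξ * (rep (au (d ξ)))⁻¹, mul_mem (hdD ξ) (inv_mem (hrep ξ).1),
      by rw [(M.law (hdD ξ) (inv_mem (hrep ξ).1)).2, M.au_inv (hrep ξ).1, (hrep ξ).2, mul_inv_cancel], rfl⟩,
      au (d ξ))
  have hf : Function.Injective f := by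
    intro ξ η h
    have h1 : sc (d ξ * (rep (au (d ξ)))⁻¹) = sc (d η * (rep (au (d η)))⁻¹) :=
      congrArg (fun p => (((p.1 : M.units) : Fˣ) : F)) h
    have h2 : au (d ξ) = au (d η) := congrArg Prod.snd h
    have key : ∀ ζ : Fˣ, (ζ : F) = sc (d ζ * (rep (au (d ζ)))⁻¹) * sc (rep (au (d ζ))) := fun ζ => by
      have hl : au (d ζ * (rep (au (d ζ)))⁻¹) = 1 := by
        rw [(M.law (hdD ζ) (inv_mem (hrep ζ).1)).2, M.au_inv (hrep ζ).1, (hrep ζ).2, mul_inv_cancel]
      rw [← M.sc_mul (mul_mem (hdD ζ) (inv_mem (hrep ζ).1)) (hrep ζ).1 hl, inv_mul_cancel_right, hd]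
    exact Units.ext (by rw [key ξ, key η, h1, h2])
  have h := Nat.card_le_card_of_injective f hf
  rw [Nat.card_prod, Nat.card_units, he, mul_comm] at h
  exact h.trans (Nat.mul_le_mul_right _ (card_aut_le he))

theorem not_moved {σ : F ≃+* F} (hodd : Odd (orderOf σ))
    (h : ∀ x ∈ D, au x = 1 → σ (σ (sc x) / sc x) = σ (sc x) / sc x) : σ = 1 := by
  by_contra hσ
  have h1 := small_of_moved he hσ hodd M.units (by
    rintro ξ ⟨x, hx, h1, h2⟩
    rw [← h2]
    exact h x hx h1)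
  exact absurd (M.units_large he) (not_le.2 h1)

/-- The involution normalises the scalars. -/
theorem lin_conj {x : G} (hx : x ∈ D) (hlin : au x = 1) : au (v * x * v) = 1 := by
  set d := v * x * v with hd
  have hdD : d ∈ D := M.inv x hx
  refine M.not_moved he (M.au_odd hdD) fun y hy hylin => ?_
  set w := d * y * d⁻¹ * y⁻¹ with hw
  have hm : d * y * d⁻¹ ∈ D := mul_mem (mul_mem hdD hy) (inv_mem hdD)
  have hwD : w ∈ D := mul_mem hm (inv_mem hy)
  have hml : au (d * y * d⁻¹) = 1 := by rw [M.au_conj hdD hy, hylin, mul_one, mul_inv_cancel]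
  have hwlin : au w = 1 := by rw [hw, (M.law hm (inv_mem hy)).2, hml, M.au_inv hy, hylin, inv_one, mul_one]
  have hwsc : sc w = au d (sc y) / sc y := by
    rw [hw, M.sc_mul hm (inv_mem hy) hml, M.sc_inv hy hylin, M.sc_conj hdD hy hylin, div_eq_mul_inv]
  set y' := v * y * v with hy'
  have hy'D : y' ∈ D := M.inv y hy
  have hw' : v * w * v = x * y' * x⁻¹ * y'⁻¹ := by
    rw [hw, M.vmul, M.vmul, M.vmul, M.vinv', M.vinv', hd, M.vv]
  have hvwlin : au (v * w * v) = 1 := by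
    rw [hw', (M.law (mul_mem (mul_mem hx hy'D) (inv_mem hx)) (inv_mem hy'D)).2, M.au_conj hx hy'D, hlin,
      M.au_inv hy'D, one_mul, inv_one, mul_one, mul_inv_cancel]
  have hc := M.commutator_ker hx (M.inv w hwD) hlin hvwlin
  have h1 : d * w * d⁻¹ * w⁻¹ = x * (v * w * v) * x⁻¹ * (v * w * v)⁻¹ := by
    have h2 : v * (x * (v * w * v) * x⁻¹ * (v * w * v)⁻¹) * v = d * w * d⁻¹ * w⁻¹ := by
      rw [M.vmul, M.vmul, M.vmul, M.vinv', M.vinv', M.vv, hd]
    rw [← h2, hc, mul_assoc, M.sq, mul_one]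
  have hdw : d * w * d⁻¹ ∈ D := mul_mem (mul_mem hdD hwD) (inv_mem hdD)
  have hdwl : au (d * w * d⁻¹) = 1 := by rw [M.au_conj hdD hwD, hwlin, mul_one, mul_inv_cancel]
  have hxw : au (x * (v * w * v) * x⁻¹) = 1 := by
    rw [M.au_conj hx (M.inv w hwD), hvwlin, mul_one, mul_inv_cancel]
  have h3 := congrArg sc h1
  rw [M.sc_mul hdw (inv_mem hwD) hdwl, M.sc_inv hwD hwlin, M.sc_conj hdD hwD hwlin,
    M.sc_mul (mul_mem (mul_mem hx (M.inv w hwD)) (inv_mem hx)) (inv_mem (M.inv w hwD)) hxw,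
    M.sc_inv (M.inv w hwD) hvwlin, M.sc_conj hx (M.inv w hwD) hvwlin, hlin, RingAut.one_apply,
    mul_inv_cancel₀ (M.sc_ne (M.inv w hwD))] at h3
  rw [← hwsc]
  exact (mul_inv_eq_one₀ (M.sc_ne hwD)).1 h3

/-- The involution inverts the scalars. -/
theorem sc_conj_v {x : G} (hx : x ∈ D) (hlin : au x = 1) : sc (v * x * v) = (sc x)⁻¹ := by
  set y := v * x * v with hy
  have hyD : y ∈ D := M.inv x hx
  have hylin : au y = 1 := M.lin_conj he hx hlin
  set z := x * y * x⁻¹ * y⁻¹ with hz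
  have hzD : z ∈ D := mul_mem (mul_mem (mul_mem hx hyD) (inv_mem hx)) (inv_mem hyD)
  have hzv := M.commutator_ker hx hyD hlin hylin
  have hz1 : z = 1 := by
    refine M.eq_one_of_sq hzD ?_
    have h1 : v * z * v = z⁻¹ := by
      rw [hz, M.vmul, M.vmul, M.vmul, M.vinv', M.vinv', hy, M.vv]; group
    have h2 : z = z⁻¹ := by
      rw [← h1, show v * z = z * v from hzv, mul_assoc, M.sq, mul_one]
    calc z * z = z * z⁻¹ := by rw [← h2]
      _ = 1 := mul_inv_cancel z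
  have hxy : x * y = y * x := by
    calc x * y = z * (y * x) := by rw [hz]; group
      _ = y * x := by rw [hz1, one_mul]
  obtain ⟨u, hu, hux⟩ := M.fix (x * y) (mul_mem hx hyD) (by
    have h1 : v * (x * y) * v = x * y := by
      rw [M.vmul, ← hy, show v * y * v = x from M.vv x, hxy]
    calc v * (x * y) = v * (x * y) * (v * v) := by rw [M.sq, mul_one]
      _ = v * (x * y) * v * v := by group
      _ = x * y * v := by rw [h1])
  rw [(M.law hx hyD).2, hlin, hylin, mul_one, RingAut.one_apply, M.sc_mul hx hyD hlin] at hux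
  exact eq_inv_of_mul_eq_one_right (mul_right_cancel₀ hu (hux.trans (one_mul u).symm))

theorem lin_of_inverted {y : G} (hy : y ∈ D) (hyv : v * y * v = y⁻¹) : au y = 1 := by
  refine M.not_moved he (M.au_odd hy) fun x hx hlin => ?_
  have hx1 : y * x * y⁻¹ ∈ D := mul_mem (mul_mem hy hx) (inv_mem hy)
  have hx1l : au (y * x * y⁻¹) = 1 := by rw [M.au_conj hy hx, hlin, mul_one, mul_inv_cancel]
  have h1 := M.sc_conj_v he hx1 hx1l
  have hlv : au (v * x * v) = 1 := M.lin_conj he hx hlin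
  rw [M.vmul, M.vmul, M.vinv', hyv, inv_inv] at h1
  have h2 := M.sc_conj (inv_mem hy) (M.inv x hx) hlv
  rw [inv_inv, h1, M.sc_conj hy hx hlin, M.au_inv hy, M.sc_conj_v he hx hlin, map_inv₀, inv_inj] at h2
  set σ := au y
  set ξ := sc x
  have h3 : (σ * σ) ξ = ξ := by
    rw [RingAut.mul_apply, h2, ← RingAut.mul_apply, mul_inv_cancel, RingAut.one_apply]
  obtain ⟨n, hn⟩ := M.au_odd hy
  have h4 : σ = (σ * σ) ^ (n + 1) := by
    rw [← pow_two, ← pow_mul, show 2 * (n + 1) = 2 * n + 1 + 1 by ring, pow_succ, ← hn, pow_orderOf_eq_one,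
      one_mul]
  have h5 : σ ξ = ξ := by
    rw [h4]
    exact (MulAction.stabilizer (F ≃+* F) ξ).pow_mem h3 _
  rw [h5, div_self (M.sc_ne hx), map_one]

theorem inverted_inj {x y : G} (hx : x ∈ D) (hy : y ∈ D) (hxv : v * x * v = x⁻¹) (hyv : v * y * v = y⁻¹)
    (h : sc x = sc y) : x = y := by
  have hxl := M.lin_of_inverted he hx hxv
  have hyl := M.lin_of_inverted he hy hyv
  set z := x⁻¹ * y with hz
  have hzD : z ∈ D := mul_mem (inv_mem hx) hy
  have hxil : au x⁻¹ = 1 := by rw [M.au_inv hx, hxl, inv_one]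
  have hzl : au z = 1 := by rw [hz, (M.law (inv_mem hx) hy).2, hxil, hyl, mul_one]
  have hzs : sc z = 1 := by
    rw [hz, M.sc_mul (inv_mem hx) hy hxil, M.sc_inv hx hxl, h, inv_mul_cancel₀ (M.sc_ne hy)]
  have hzv : v * z * v = z := by rw [M.ker z hzD hzs hzl, mul_assoc, M.sq, mul_one]
  have hconj : v * (x * z * x⁻¹) * v = x * z * x⁻¹ := by
    have hxzl : au (x * z * x⁻¹) = 1 := by rw [M.au_conj hx hzD, hzl, mul_one, mul_inv_cancel]
    have hxzs : sc (x * z * x⁻¹) = 1 := by rw [M.sc_conj hx hzD hzl, hzs, map_one]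
    rw [M.ker _ (mul_mem (mul_mem hx hzD) (inv_mem hx)) hxzs hxzl, mul_assoc, M.sq, mul_one]
  rw [M.vmul, M.vmul, M.vinv', hxv, hzv, inv_inv] at hconj
  obtain ⟨n, hn⟩ := M.odd.of_dvd_nat (D.orderOf_dvd_natCard hx)
  have hx2 : (x * x) * z = z * (x * x) := by
    calc x * x * z = x * (x * z * x⁻¹) * x := by group
      _ = x * (x⁻¹ * z * x) * x := by rw [hconj]
      _ = z * (x * x) := by group
  have hxz : x * z = z * x := by
    have h4 : x = (x * x) ^ (n + 1) := by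
      rw [← pow_two, ← pow_mul, show 2 * (n + 1) = 2 * n + 1 + 1 by ring, pow_succ, ← hn, pow_orderOf_eq_one,
        one_mul]
    rw [h4]
    exact (Commute.pow_left hx2 _).eq
  have hy' : y = x * z := by rw [hz, mul_inv_cancel_left]
  rw [hy', M.vmul, hxv, hzv, mul_inv_rev] at hyv
  have hz2 : z * z = 1 := by
    calc z * z = x * (x⁻¹ * z) * z := by group
      _ = x * (z⁻¹ * x⁻¹) * z := by rw [hyv]
      _ = x * z⁻¹ * (x⁻¹ * z) := by group
      _ = x * z⁻¹ * (z * x⁻¹) := by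
        rw [show x⁻¹ * z = z * x⁻¹ from ((show Commute x z from hxz).inv_left).eq]
      _ = 1 := by group
  rw [hy', M.eq_one_of_sq hzD hz2, mul_one]

/-- The inverted elements form a cyclic group, isomorphic to the multiplicative group. -/
theorem torus : ∃ A : Subgroup G, Nat.card A = 2 ^ e - 1 ∧ (∃ g ∈ A, A = zpowers g) ∧
    (∀ x, x ∈ A ↔ x ∈ D ∧ v * x * v = x⁻¹) ∧ (∀ x ∈ A, au x = 1) ∧
    (∀ ξ : F, ξ ≠ 0 → ∃ x ∈ A, sc x = ξ) := by
  classical
  haveI := Fintype.ofFinite F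
  let f : {x : G // x ∈ D ∧ v * x * v = x⁻¹} → {ξ : F // ξ ≠ 0} := fun x => ⟨sc x, M.sc_ne x.2.1⟩
  have hf : Function.Injective f := fun x y h =>
    Subtype.ext (M.inverted_inj he x.2.1 y.2.1 x.2.2 y.2.2 (congrArg Subtype.val h))
  have hbij : Function.Bijective f := hf.bijective_of_nat_card_le M.count.ge
  obtain ⟨γ, hγ⟩ := IsCyclic.exists_generator (α := Fˣ)
  obtain ⟨⟨g, hgD, hgv⟩, hg⟩ := hbij.2 ⟨γ, γ.ne_zero⟩
  have hgs : sc g = γ := congrArg Subtype.val hg
  have hgl := M.lin_of_inverted he hgD hgv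
  have hpow : ∀ x ∈ zpowers g, x ∈ D ∧ v * x * v = x⁻¹ := by
    rintro x hx
    obtain ⟨n, rfl⟩ : ∃ n : ℕ, g ^ n = x := mem_powers_iff_mem_zpowers.2 hx
    refine ⟨pow_mem hgD n, ?_⟩
    rw [← inv_pow, ← hgv]
    conv_lhs => rw [show v * g ^ n * v = v * g ^ n * v⁻¹ by rw [M.vinv]]
    rw [← conj_pow, M.vinv]
  have hmem : ∀ x, x ∈ zpowers g ↔ x ∈ D ∧ v * x * v = x⁻¹ := by
    refine fun x => ⟨hpow x, fun hx => ?_⟩
    obtain ⟨n, hn⟩ : ∃ n : ℕ, γ ^ n = Units.mk0 (sc x) (M.sc_ne hx.1) :=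
      mem_powers_iff_mem_zpowers.2 (hγ _)
    have h1 := hpow (g ^ n) (pow_mem (mem_zpowers g) n)
    rw [← M.inverted_inj he h1.1 hx.1 h1.2 hx.2 (by
      rw [M.sc_pow hgD hgl, hgs, ← Units.val_pow_eq_pow_val, hn, Units.val_mk0])]
    exact pow_mem (mem_zpowers g) n
  refine ⟨zpowers g, ?_, ⟨g, mem_zpowers g, rfl⟩, hmem,
    fun x hx => M.lin_of_inverted he (hpow x hx).1 (hpow x hx).2, fun ξ hξ => ?_⟩
  · rw [Nat.card_congr (Equiv.subtypeEquivRight hmem), M.count, Nat.card_eq_fintype_card,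
      Fintype.card_subtype_compl, Fintype.card_subtype_eq, ← Nat.card_eq_fintype_card, he]
  · obtain ⟨x, hx⟩ := hbij.2 ⟨ξ, hξ⟩
    exact ⟨x, (hmem x).2 x.2, congrArg Subtype.val hx⟩

end Model

end CfsgLib.Bender.NTorus
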