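import Cfsg.Agent.Lib.Bender.Gen.NPerm
import Cfsg.Agent.Lib.Bender.Gen.NTorusField
import Cfsg.Agent.S3360
import Cfsg.Agent.S0205

/-!
Owner: helper18. General Bender theorem, sub-slice G2: the inverted elements commuting with an element
of rank two form a cyclic group acting as the scalars of a field.
-/

set_option autoImplicit false
set_option linter.style.haveILetI false
set_option linter.unusedSectionVars false

namespace CfsgLib.Bender.NTorus

open Subgroup MulAction NPerm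
open CfsgLib.Signalizer (involution_sq involution_inv orderOf_eq_two_of involution_ne_one)

universe u

variable {G Ω : Type u} [Group G] [Finite G] [MulAction G Ω] [Finite Ω]

omit [Finite Ω] in
theorem sum_fix {T : Type u} [Fintype T] (D : Subgroup G) [Fintype D] (f : T → G) :
    ∑ d : D, Nat.card {x : T // (d : G) * f x = f x * d} =
      ∑ x : T, Nat.card (D ⊓ centralizer {f x} : Subgroup G) := by
  classical
  rw [← Nat.card_sigma, ← Nat.card_sigma]
  exact Nat.card_congr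
    { toFun := fun p => ⟨p.2.1, (p.1 : G), p.1.2, mem_centralizer_singleton_iff.2 p.2.2⟩
      invFun := fun p => ⟨⟨(p.2 : G), p.2.2.1⟩, p.1, mem_centralizer_singleton_iff.1 p.2.2.2⟩
      left_inv := fun p => rfl
      right_inv := fun p => rfl }

/-- In the centraliser of an element with a commuting swapper the two-point stabiliser is transitive on
the involutions at a point and its elements fix as many of them as swappers. -/
theorem count (h : NC G Ω) {a b : Ω} (hab : a ≠ b) {c v : G} (hc : c ∈ pairStab G a b) (hc1 : c ≠ 1)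
    (hv : orderOf v = 2) (hva : v • a = b) (hcv : c * v = v * c)
    (hne : Nonempty (InvIn (centralizer ({c} : Set G)) a)) :
    (∀ d ∈ pairStab G a b ⊓ centralizer ({c} : Set G),
      Nat.card (InvIn (centralizer ({c} : Set G) ⊓ centralizer ({d} : Set G)) a) =
        Nat.card (SwapIn (centralizer ({c} : Set G) ⊓ centralizer ({d} : Set G)) a b)) ∧
    (∀ s t : InvIn (centralizer ({c} : Set G)) a,
      ∃ d ∈ pairStab G a b ⊓ centralizer ({c} : Set G), d * s.1 * d⁻¹ = t.1) ∧
    Nat.card (InvIn (centralizer ({c} : Set G)) a) = Nat.card (SwapIn (centralizer ({c} : Set G)) a b) := by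
  classical
  set H := centralizer ({c} : Set G) with hH
  set Dc := pairStab G a b ⊓ H with hDc
  have hmem : ∀ {x : G}, c * x = x * c → x ∈ H := fun e => mem_centralizer_singleton_iff.2 e.symm
  have hmem' : ∀ {x : G}, x ∈ H → c * x = x * c := fun e => (mem_centralizer_singleton_iff.1 e).symm
  have hvH : v ∈ H := hmem hcv
  haveI := Fintype.ofFinite (InvIn H a)
  haveI := Fintype.ofFinite (SwapIn H a b)
  haveI := Fintype.ofFinite Dc
  haveI : Nonempty (SwapIn H a b) := ⟨⟨v, ⟨hv, hva⟩, hvH⟩⟩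
  -- an involution at the first point gives one at the second
  have hle : ∀ d : Dc, Nat.card {x : InvIn H a // (d : G) * x.1 = x.1 * d} ≤
      Nat.card {x : SwapIn H a b // (d : G) * x.1 = x.1 * d} := by
    intro d
    have h1 := card_inv_le_card_swap (H := H ⊓ centralizer ({(d : G)} : Set G)) h.setting hab
      (fun t ht htm => by
        obtain ⟨i, hi, hci, hdi⟩ := exists_other h.setting h.faith h.sr h.ih h.cons hab hc hc1 d.2.1
          (hmem' d.2.2).symm ht (hmem' htm.1) (mem_centralizer_singleton_iff.1 htm.2).symm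
          (hva ▸ ht.conj v : InvAt (v * t * v⁻¹) b)
          (hmem' (mul_mem (mul_mem hvH htm.1) (inv_mem hvH)))
        exact ⟨i, hi, hmem hci, mem_centralizer_singleton_iff.2 hdi.symm⟩)
    refine le_trans (le_of_eq ?_) (h1.trans (le_of_eq ?_))
    · exact Nat.card_congr
        { toFun := fun p => ⟨p.1.1, p.1.2.1, p.1.2.2, mem_centralizer_singleton_iff.2 p.2.symm⟩
          invFun := fun p => ⟨⟨p.1, p.2.1, p.2.2.1⟩, (mem_centralizer_singleton_iff.1 p.2.2.2).symm⟩
          left_inv := fun p => rfl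
          right_inv := fun p => rfl }
    · exact Nat.card_congr
        { toFun := fun p => ⟨⟨p.1, p.2.1, p.2.2.1⟩, (mem_centralizer_singleton_iff.1 p.2.2.2).symm⟩
          invFun := fun p => ⟨p.1.1, p.1.2.1, p.1.2.2, mem_centralizer_singleton_iff.2 p.2.symm⟩
          left_inv := fun p => rfl
          right_inv := fun p => rfl }
  -- the swappers form one class
  have hU : ∀ x : SwapIn H a b, Nat.card (SwapIn H a b) * Nat.card (Dc ⊓ centralizer {x.1} : Subgroup G) =
      Nat.card Dc := by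
    intro x
    refine Eq.trans ?_ (card_conj_class Dc x.1)
    congr 1
    refine Nat.card_congr (Equiv.subtypeEquivRight fun i => ⟨fun hi => ?_, ?_⟩)
    · refine exists_conj_of_mul_mem (odd_of_le inf_le_left (h.setting.odd_pairStab hab)) x.2.1.1 hi.1.1
        ⟨⟨?_, ?_⟩, mul_mem x.2.2 hi.2⟩
      · show (x.1 * i) • a = a
        rw [mul_smul, hi.1.2, swap_smul x.2.1.1 x.2.1.2]
      · show (x.1 * i) • b = b
        rw [mul_smul, swap_smul hi.1.1 hi.1.2, x.2.1.2]
    · rintro ⟨d, hd, rfl⟩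
      refine ⟨⟨by rw [CfsgLib.Signalizer.orderOf_conj]; exact x.2.1.1, ?_⟩,
        mul_mem (mul_mem hd.2 x.2.2) (inv_mem hd.2)⟩
      rw [mul_smul, mul_smul, inv_smul_eq_iff.2 (show d • a = a from hd.1.1).symm, x.2.1.2]
      exact hd.1.2
  have hclass : ∀ x : InvIn H a, ∀ i, (∃ d ∈ Dc, d * x.1 * d⁻¹ = i) → InvAt i a ∧ i ∈ H := by
    rintro x _ ⟨d, hd, rfl⟩
    exact ⟨x.2.1.conj' hd.1.1, mul_mem (mul_mem hd.2 x.2.2) (inv_mem hd.2)⟩
  let j : ∀ x : InvIn H a, {i : G // ∃ d ∈ Dc, d * x.1 * d⁻¹ = i} → InvIn H a :=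
    fun x i => ⟨i.1, hclass x i.1 i.2⟩
  have hj : ∀ x, Function.Injective (j x) := fun x i i' e =>
    Subtype.ext (congrArg (fun p : InvIn H a => p.1) e)
  have hJ : ∀ x : InvIn H a, Nat.card Dc ≤
      Nat.card (InvIn H a) * Nat.card (Dc ⊓ centralizer {x.1} : Subgroup G) := fun x => by
    rw [← card_conj_class Dc x.1]
    exact Nat.mul_le_mul_right _ (Nat.card_le_card_of_injective _ (hj x))
  have sU : ∑ d : Dc, Nat.card {x : SwapIn H a b // (d : G) * x.1 = x.1 * d} = Nat.card Dc := by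
    rw [sum_fix Dc (fun x : SwapIn H a b => x.1)]
    refine Nat.eq_of_mul_eq_mul_left (Nat.card_pos (α := SwapIn H a b)) ?_
    rw [Finset.mul_sum, Finset.sum_congr rfl (fun x _ => hU x), Finset.sum_const, Finset.card_univ,
      ← Nat.card_eq_fintype_card, smul_eq_mul]
  have sJ1 : ∑ d : Dc, Nat.card {x : InvIn H a // (d : G) * x.1 = x.1 * d} ≤ Nat.card Dc :=
    sU ▸ Finset.sum_le_sum fun d _ => hle d
  have sJ2 : Nat.card (InvIn H a) * Nat.card Dc ≤
      ∑ x : InvIn H a, Nat.card (InvIn H a) * Nat.card (Dc ⊓ centralizer {x.1} : Subgroup G) := by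
    refine le_trans (le_of_eq ?_) (Finset.sum_le_sum fun x _ => hJ x)
    rw [Finset.sum_const, Finset.card_univ, ← Nat.card_eq_fintype_card, smul_eq_mul]
  have sJ : ∑ d : Dc, Nat.card {x : InvIn H a // (d : G) * x.1 = x.1 * d} = Nat.card Dc := by
    refine le_antisymm sJ1 (Nat.le_of_mul_le_mul_left ?_ (Nat.card_pos (α := InvIn H a)))
    rw [sum_fix Dc (fun x : InvIn H a => x.1), Finset.mul_sum]
    exact sJ2
  have hfix : ∀ d : Dc, Nat.card {x : InvIn H a // (d : G) * x.1 = x.1 * d} =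
      Nat.card {x : SwapIn H a b // (d : G) * x.1 = x.1 * d} := fun d =>
    (Finset.sum_eq_sum_iff_of_le fun x _ => hle x).1 (sJ.trans sU.symm) d (Finset.mem_univ _)
  refine ⟨fun d hd => ?_, fun s t => ?_, ?_⟩
  · refine Eq.trans ?_ ((hfix ⟨d, hd⟩).trans ?_)
    · exact Nat.card_congr
        { toFun := fun p => ⟨⟨p.1, p.2.1, p.2.2.1⟩, (mem_centralizer_singleton_iff.1 p.2.2.2).symm⟩
          invFun := fun p => ⟨p.1.1, p.1.2.1, p.1.2.2, mem_centralizer_singleton_iff.2 p.2.symm⟩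
          left_inv := fun p => rfl
          right_inv := fun p => rfl }
    · exact Nat.card_congr
        { toFun := fun p => ⟨p.1.1, p.1.2.1, p.1.2.2, mem_centralizer_singleton_iff.2 p.2.symm⟩
          invFun := fun p => ⟨⟨p.1, p.2.1, p.2.2.1⟩, (mem_centralizer_singleton_iff.1 p.2.2.2).symm⟩
          left_inv := fun p => rfl
          right_inv := fun p => rfl }
  · have heq : ∑ _x : InvIn H a, Nat.card Dc =
        ∑ x : InvIn H a, Nat.card (InvIn H a) * Nat.card (Dc ⊓ centralizer {x.1} : Subgroup G) := by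
      rw [← Finset.mul_sum, ← sum_fix Dc (fun x : InvIn H a => x.1), sJ, Finset.sum_const, Finset.card_univ,
        ← Nat.card_eq_fintype_card, smul_eq_mul]
    have hs := (Finset.sum_eq_sum_iff_of_le fun x _ => hJ x).1 heq s (Finset.mem_univ _)
    rw [← card_conj_class Dc s.1] at hs
    have hcard := Nat.eq_of_mul_eq_mul_right Nat.card_pos hs
    obtain ⟨⟨i, d, hd, hdi⟩, hi⟩ := ((hj s).bijective_of_nat_card_le hcard.ge).2 t
    exact ⟨d, hd, hdi.trans (congrArg Subtype.val hi)⟩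
  · refine Eq.trans ?_ ((hfix ⟨1, one_mem _⟩).trans ?_)
    · exact (Nat.card_congr (Equiv.subtypeUnivEquiv fun _ => by simp)).symm
    · exact Nat.card_congr (Equiv.subtypeUnivEquiv fun _ => by simp)

/-- An element fixing all involutions at the point in the centraliser centralises the swappers there. -/
theorem commute_of_fix_all (h : NC G Ω) {a b : Ω} (hab : a ≠ b) {c v d : G} (hc : c ∈ pairStab G a b)
    (hc1 : c ≠ 1) (hv : orderOf v = 2) (hva : v • a = b) (hcv : c * v = v * c)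
    (hne : Nonempty (InvIn (centralizer ({c} : Set G)) a))
    (hd : d ∈ pairStab G a b ⊓ centralizer ({c} : Set G))
    (hall : ∀ t : InvIn (centralizer ({c} : Set G)) a, d * t.1 = t.1 * d) : v * d = d * v := by
  obtain ⟨h1, -, h3⟩ := count h hab hc hc1 hv hva hcv hne
  have hge : Nat.card (InvIn (centralizer ({c} : Set G)) a) ≤
      Nat.card (InvIn (centralizer ({c} : Set G) ⊓ centralizer ({d} : Set G)) a) :=
    Nat.card_le_card_of_injective
      (fun t => ⟨t.1, t.2.1, t.2.2, mem_centralizer_singleton_iff.2 (hall t).symm⟩)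
      fun x y e => Subtype.ext (congrArg Subtype.val e :)
  rw [h1 d hd, h3] at hge
  have hinj : Function.Injective
      (fun i : SwapIn (centralizer ({c} : Set G) ⊓ centralizer ({d} : Set G)) a b =>
        (⟨i.1, i.2.1, i.2.2.1⟩ : SwapIn (centralizer ({c} : Set G)) a b)) :=
    fun x y e => Subtype.ext (congrArg Subtype.val e :)
  obtain ⟨⟨i, hi, hi'⟩, e⟩ := (hinj.bijective_of_nat_card_le hge).2
    ⟨v, ⟨hv, hva⟩, mem_centralizer_singleton_iff.2 hcv.symm⟩
  obtain rfl : i = v := congrArg Subtype.val e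
  exact mem_centralizer_singleton_iff.1 hi'.2

theorem torus (h : NC G Ω) {a b : Ω} (hab : a ≠ b) {v c s t : G} (hv : orderOf v = 2) (hva : v • a = b)
    (hc : c ∈ pairStab G a b) (hc1 : c ≠ 1) (hcv : c * v = v * c) (hs : InvAt s a) (ht : InvAt t a)
    (hst : s ≠ t) (hcs : c * s = s * c) (hct : c * t = t * c) :
    ∃ (A : Subgroup G) (e : ℕ), 2 ≤ e ∧ Nat.card A = 2 ^ e - 1 ∧ (∃ g ∈ A, A = zpowers g) ∧
      (∀ x : G, x ∈ A ↔ x ∈ pairStab G a b ∧ v * x * v⁻¹ = x⁻¹ ∧ c * x = x * c) ∧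
      (∀ d ∈ pairStab G a b, d * v = v * d → d * c * d⁻¹ ∈ zpowers c →
        ∃ i < e, ∀ x ∈ A, d * x * d⁻¹ = x ^ 2 ^ i) ∧
      Nat.card {u : G // InvAt u a ∧ c * u = u * c} = 2 ^ e - 1 := by
  classical
  have hS := h.setting
  set H := centralizer ({c} : Set G) with hH
  set Dc := pairStab G a b ⊓ H with hDc
  have hmem : ∀ {x : G}, c * x = x * c → x ∈ H := fun e => mem_centralizer_singleton_iff.2 e.symm
  have hmem' : ∀ {x : G}, x ∈ H → c * x = x * c := fun e => (mem_centralizer_singleton_iff.1 e).symm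
  haveI hne : Nonempty (InvIn H a) := ⟨⟨t, ht, hmem hct⟩⟩
  obtain ⟨hfix, htrans, hcard⟩ := count h hab hc hc1 hv hva hcv hne
  have hvv : v * v = 1 := involution_sq hv
  have hvi : v⁻¹ = v := involution_inv hv
  -- the elementary group at `a`
  have hmul : ∀ {x y : G}, (x = 1 ∨ InvAt x a ∧ x ∈ H) → (y = 1 ∨ InvAt y a ∧ y ∈ H) →
      x * y = y * x ∧ (x * y = 1 ∨ InvAt (x * y) a ∧ x * y ∈ H) := by
    rintro x y (rfl | ⟨hx, hxH⟩) hy
    · exact ⟨by rw [one_mul, mul_one], by rwa [one_mul]⟩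
    rcases hy with rfl | ⟨hy, hyH⟩
    · exact ⟨by rw [one_mul, mul_one], Or.inr (by rw [mul_one]; exact ⟨hx, hxH⟩)⟩
    have hxy := commute_at hS h.sr h.cons hab hc hc1 hx hy (hmem' hxH) (hmem' hyH)
    refine ⟨hxy, ?_⟩
    rcases eq_or_ne x y with rfl | hne'
    · exact Or.inl (involution_sq hx.1)
    · exact Or.inr ⟨hS.invAt_mul hx hy hne' hxy, mul_mem hxH hyH⟩
  let E : Subgroup G :=
    { carrier := {x | x = 1 ∨ InvAt x a ∧ x ∈ H}
      one_mem' := Or.inl rfl
      mul_mem' := fun hx hy => (hmul hx hy).2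
      inv_mem' := fun {x} hx => by
        rcases hx with rfl | hx
        · exact Or.inl inv_one
        · exact Or.inr (by rwa [involution_inv hx.1.1]) }
  letI : CommGroup E :=
    { (inferInstance : Group E) with mul_comm := fun x y => Subtype.ext (hmul x.2 y.2).1 }
  have hEsq : ∀ x : E, x * x = 1 := fun x => Subtype.ext (by
    rcases x.2 with hx | ⟨hx, -⟩
    · show (x : G) * x = 1
      rw [hx, one_mul]
    · exact involution_sq hx.1)
  letI : Module (ZMod 2) (Additive E) := AddCommGroup.zmodModule fun x => by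
    rw [two_nsmul]; exact hEsq x.toMul
  -- conjugation
  have hEconj : ∀ (g : G), g • a = a → (∀ x ∈ H, g * x * g⁻¹ ∈ H) → ∀ x ∈ E, g * x * g⁻¹ ∈ E := by
    rintro g hga hgH x (rfl | ⟨hx, hxH⟩)
    · exact Or.inl (by group)
    · exact Or.inr ⟨hx.conj' hga, hgH x hxH⟩
  have hDconj : ∀ d : Dc, ∀ x ∈ E, (d : G) * x * (d : G)⁻¹ ∈ E := fun d =>
    hEconj d d.2.1.1 fun x hx => mul_mem (mul_mem d.2.2 hx) (inv_mem d.2.2)
  let ρ₀ : Dc → (Additive E →ₗ[ZMod 2] Additive E) := fun d => AddMonoidHom.toZModLinearMap 2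
    (AddMonoidHom.mk' (fun x => Additive.ofMul (⟨(d : G) * (x.toMul : G) * (d : G)⁻¹,
      hDconj d _ x.toMul.2⟩ : E)) fun x y => Additive.toMul.injective (Subtype.ext (by
        show (d : G) * ((x.toMul : G) * y.toMul) * (d : G)⁻¹ =
          (d : G) * x.toMul * (d : G)⁻¹ * ((d : G) * y.toMul * (d : G)⁻¹)
        group)))
  have hρ₀ : ∀ d x, (((ρ₀ d x).toMul : E) : G) = (d : G) * (x.toMul : G) * (d : G)⁻¹ := fun d x => rfl
  have hρmul : ∀ d d' x, ρ₀ d (ρ₀ d' x) = ρ₀ (d * d') x := fun d d' x =>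
    Additive.toMul.injective (Subtype.ext (by rw [hρ₀, hρ₀, hρ₀, Subgroup.coe_mul]; group))
  have hρone : ∀ x, ρ₀ 1 x = x := fun x =>
    Additive.toMul.injective (Subtype.ext (by rw [hρ₀, Subgroup.coe_one]; group))
  let ρ : Dc →* (Additive E ≃ₗ[ZMod 2] Additive E) := MonoidHom.mk'
    (fun d => { ρ₀ d with
      invFun := ρ₀ d⁻¹
      left_inv := fun x => by
        show ρ₀ d⁻¹ (ρ₀ d x) = x
        rw [hρmul, inv_mul_cancel, hρone]
      right_inv := fun x => by
        show ρ₀ d (ρ₀ d⁻¹ x) = x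
        rw [hρmul, mul_inv_cancel, hρone] })
    fun d d' => LinearEquiv.ext fun x => (hρmul d d' x).symm
  have hρ : ∀ d x, (((ρ d x).toMul : E) : G) = (d : G) * (x.toMul : G) * (d : G)⁻¹ := fun d x => rfl
  have hodd : Odd (Nat.card Dc) := odd_of_le inf_le_left (hS.odd_pairStab hab)
  haveI : Finite ρ.range := Finite.of_surjective ρ.rangeRestrict ρ.rangeRestrict_surjective
  have hsolv : Group.IsSolvable ρ.range :=
    Cfsg.Agent.S0205.result (hodd.of_dvd_nat (Subgroup.card_range_dvd ρ))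
  haveI : Fact (Nat.Prime 2) := ⟨Nat.prime_two⟩
  haveI : Nontrivial E := ⟨⟨s, Or.inr ⟨hs, hmem hcs⟩⟩, 1, fun e => involution_ne_one hs.1
    (congrArg Subtype.val e)⟩
  have hVtrans : ∀ x y : Additive E, x ≠ 0 → y ≠ 0 → ∃ g : ρ.range, ρ.range.subtype g x = y := by
    intro x y hx hy
    have hp : ∀ z : Additive E, z ≠ 0 → InvAt (z.toMul : G) a ∧ (z.toMul : G) ∈ H := fun z hz =>
      z.toMul.2.resolve_left fun e => hz (Additive.toMul.injective (Subtype.ext e))
    obtain ⟨d, hd, he⟩ := htrans ⟨_, hp x hx⟩ ⟨_, hp y hy⟩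
    exact ⟨⟨ρ ⟨d, hd⟩, ⟨d, hd⟩, rfl⟩, Additive.toMul.injective (Subtype.ext he)⟩
  obtain ⟨k, hk⟩ : ∃ k, Nat.card E = 2 ^ k := IsPGroup.iff_card.1 fun x =>
    ⟨1, by rw [pow_one, pow_two, hEsq]⟩
  rcases Cfsg.Agent.S3360.result 2 (V := Additive E) hsolv ρ.range.subtype (Subgroup.subtype_injective _)
    hVtrans with ⟨F, iF, iFF, ε, hε⟩ | hexc
  swap
  · exfalso
    have hk1 : 1 < Nat.card E := Finite.one_lt_card
    have hk0 : k ≠ 0 := by rintro rfl; rw [hk, pow_zero] at hk1; omega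
    have heven : 2 ∣ Nat.card (Additive E) := by
      rw [Nat.card_congr Additive.toMul, hk]; exact dvd_pow_self 2 hk0
    simp only [Set.mem_insert_iff, Set.mem_singleton_iff] at hexc
    rcases hexc with e | e | e | e | e | e <;> rw [e] at heven <;> norm_num at heven
  have hF : Nat.card F = 2 ^ k := by rw [← Nat.card_congr ε.toEquiv, Nat.card_congr Additive.toMul, hk]
  -- the coordinates
  let el : F → G := fun ξ => ((ε.symm ξ).toMul : E)
  have hel_inj : Function.Injective el := fun x y e =>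
    ε.symm.injective (Additive.toMul.injective (Subtype.ext e))
  have hel_add : ∀ x y, el (x + y) = el x * el y := fun x y => by
    show (((ε.symm (x + y)).toMul : E) : G) = _
    rw [map_add]; rfl
  have hel_zero : el 0 = 1 := by
    show (((ε.symm 0).toMul : E) : G) = 1
    rw [map_zero]; rfl
  have hel_inv : ∀ ξ, ξ ≠ 0 → InvAt (el ξ) a ∧ el ξ ∈ H := fun ξ hξ =>
    (ε.symm ξ).toMul.2.resolve_left fun e => hξ (hel_inj (e.trans hel_zero.symm))
  let eJ : {ξ : F // ξ ≠ 0} → InvIn H a := fun ξ => ⟨el ξ.1, hel_inv ξ.1 ξ.2⟩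
  have heJ : Function.Bijective eJ := by
    refine ⟨fun x y e => Subtype.ext (hel_inj (congrArg (fun p : InvIn H a => p.1) e)), fun u => ?_⟩
    have he : el (ε (Additive.ofMul (⟨u.1, Or.inr u.2⟩ : E))) = u.1 := by
      show (((ε.symm (ε _)).toMul : E) : G) = u.1
      rw [AddEquiv.symm_apply_apply]; rfl
    refine ⟨⟨_, fun h0 => ?_⟩, Subtype.ext he⟩
    rw [h0, hel_zero] at he
    exact involution_ne_one u.2.1.1 he.symm
  have hsl : ∀ d : Dc, ∃ (α : F) (σ : F ≃+* F), ∀ ξ : F,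
      (d : G) * el ξ * (d : G)⁻¹ = el (α * σ ξ) := by
    intro d
    obtain ⟨α, σ, hασ⟩ := hε ⟨ρ d, d, rfl⟩
    refine ⟨α, σ, fun ξ => ?_⟩
    have h1 : ρ d (ε.symm ξ) = ε.symm (α * σ ξ) := ε.injective (by
      rw [AddEquiv.apply_symm_apply]
      refine (hασ (ε.symm ξ)).trans ?_
      rw [AddEquiv.apply_symm_apply])
    show _ = (((ε.symm (α * σ ξ)).toMul : E) : G)
    rw [← h1]
    rfl
  choose α σ hασ using hsl
  let sc : G → F := fun d => if hd : d ∈ Dc then α ⟨d, hd⟩ else 0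
  let au : G → F ≃+* F := fun d => if hd : d ∈ Dc then σ ⟨d, hd⟩ else 1
  have hact : ∀ d ∈ Dc, ∀ ξ : F, d * el ξ * d⁻¹ = el (sc d * au d ξ) := fun d hd ξ => by
    simp only [sc, au, dif_pos hd]; exact hασ ⟨d, hd⟩ ξ
  have hvH : v ∈ H := hmem hcv
  have hvD : ∀ d ∈ Dc, v * d * v ∈ Dc := fun d hd => by
    refine ⟨⟨?_, ?_⟩, mul_mem (mul_mem hvH hd.2) hvH⟩
    · show (v * d * v) • a = a
      rw [mul_smul, mul_smul, hva, show d • b = b from hd.1.2, swap_smul hv hva]
    · show (v * d * v) • b = b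
      rw [mul_smul, mul_smul, swap_smul hv hva, show d • a = a from hd.1.1, hva]
  have hcount : Nat.card {x : G // x ∈ Dc ∧ v * x * v = x⁻¹} = Nat.card {ξ : F // ξ ≠ 0} := by
    rw [Nat.card_eq_of_bijective _ heJ, hcard]
    refine Nat.card_congr
      { toFun := fun x => ⟨x.1 * v, ⟨orderOf_eq_two_of (fun e => hab ?_) ?_, ?_⟩, mul_mem x.2.1.2 hvH⟩
        invFun := fun i => ⟨i.1 * v, ⟨⟨?_, ?_⟩, mul_mem i.2.2 hvH⟩, ?_⟩
        left_inv := fun x => Subtype.ext (by show x.1 * v * v = x.1; rw [mul_assoc, hvv, mul_one])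
        right_inv := fun i => Subtype.ext (by show i.1 * v * v = i.1; rw [mul_assoc, hvv, mul_one]) }
    · have h1 : (x.1 * v) • a = b := by rw [mul_smul, hva]; exact x.2.1.1.2
      rwa [e, one_smul] at h1
    · calc x.1 * v * (x.1 * v) = x.1 * (v * x.1 * v) := by group
        _ = 1 := by rw [x.2.2, mul_inv_cancel]
    · rw [mul_smul, hva]; exact x.2.1.1.2
    · show (i.1 * v) • a = a
      rw [mul_smul, hva, swap_smul i.2.1.1 i.2.1.2]
    · show (i.1 * v) • b = b
      rw [mul_smul, swap_smul hv hva, i.2.1.2]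
    · rw [mul_inv_rev, hvi, involution_inv i.2.1.1, mul_assoc v, mul_assoc, hvv, mul_one]
  have M : Model Dc v F el sc au :=
    { odd := hodd
      sq := hvv
      inv := hvD
      inj := hel_inj
      act := hact
      trans := fun ξ hξ => by
        obtain ⟨d, hd, he⟩ := htrans (eJ ⟨1, one_ne_zero⟩) (eJ ⟨ξ, hξ⟩)
        refine ⟨d, hd, ?_⟩
        have h1 := hel_inj ((hact d hd 1).symm.trans he)
        rwa [map_one, mul_one] at h1
      ker := fun d hd h1 h2 => commute_of_fix_all h hab hc hc1 hv hva hcv hne hd fun u => by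
        obtain ⟨⟨ξ, hξ⟩, rfl⟩ := heJ.2 u
        have h3 := hact d hd ξ
        rw [h1, h2, one_mul, RingAut.one_apply] at h3
        exact mul_inv_eq_iff_eq_mul.1 h3
      fix := fun d hd hdv => by
        haveI : Nonempty (SwapIn (H ⊓ centralizer ({d} : Set G)) a b) :=
          ⟨⟨v, ⟨hv, hva⟩, hvH, mem_centralizer_singleton_iff.2 hdv⟩⟩
        obtain ⟨⟨u, hu, huH, hud⟩⟩ := (Nat.card_pos_iff.1 ((hfix d hd).symm ▸ Nat.card_pos :
          0 < Nat.card (InvIn (H ⊓ centralizer ({d} : Set G)) a))).1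
        obtain ⟨⟨ξ, hξ⟩, e⟩ := heJ.2 ⟨u, hu, huH⟩
        refine ⟨ξ, hξ, hel_inj ?_⟩
        rw [← hact d hd ξ, show el ξ = u from congrArg Subtype.val e]
        exact mul_inv_eq_iff_eq_mul.2 (mem_centralizer_singleton_iff.1 hud).symm
      count := hcount }
  obtain ⟨A, hAc, hAg, hAm, hAl, hAsurj⟩ := M.torus hF
  have hJcard : Nat.card {u : G // InvAt u a ∧ c * u = u * c} = 2 ^ k - 1 := by
    have e1 : Nat.card {u : G // InvAt u a ∧ c * u = u * c} = Nat.card (InvIn H a) :=
      Nat.card_congr (Equiv.subtypeEquivRight fun u =>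
        ⟨fun e => ⟨e.1, hmem e.2⟩, fun e => ⟨e.1, hmem' e.2⟩⟩)
    rw [e1, ← Nat.card_eq_of_bijective _ heJ]
    haveI := Fintype.ofFinite F
    rw [Nat.card_eq_fintype_card, Fintype.card_subtype_compl, Fintype.card_subtype_eq,
      ← Nat.card_eq_fintype_card, hF]
  refine ⟨A, k, ?_, hAc, hAg, fun x => ?_, ?_, hJcard⟩
  · by_contra hk2
    have h1 : 2 ^ k ≤ 2 ^ 1 := Nat.pow_le_pow_right two_pos (by omega)
    haveI : Nontrivial {u : G // InvAt u a ∧ c * u = u * c} :=
      ⟨⟨s, hs, hcs⟩, ⟨t, ht, hct⟩, fun e => hst (congrArg Subtype.val e)⟩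
    have h2 := Finite.one_lt_card (α := {u : G // InvAt u a ∧ c * u = u * c})
    rw [hJcard] at h2
    omega
  · rw [hAm, hvi]
    exact ⟨fun hx => ⟨hx.1.1, hx.2, hmem' hx.1.2⟩, fun hx => ⟨⟨hx.1, hmem hx.2.2⟩, hx.2.1⟩⟩
  -- the normaliser acts by Galois maps
  intro d hd hdv hdc
  have hzn : d ∈ normalizer (zpowers c : Set G) := by
    refine mem_normalizer_of_map_conj_eq (eq_of_le_of_card_ge ?_ (CfsgLib.Bender.card_map_conj d _).ge)
    rw [MonoidHom.map_zpowers]
    exact zpowers_le.2 hdc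
  have hdH : ∀ x ∈ H, d * x * d⁻¹ ∈ H := by
    intro x hx
    have hc' : d⁻¹ * c * d ∈ zpowers c := (mem_normalizer_iff''.1 hzn c).1 (mem_zpowers c)
    obtain ⟨j, hj⟩ := mem_zpowers_iff.1 hc'
    have h1 : x * (d⁻¹ * c * d) = d⁻¹ * c * d * x := by
      rw [← hj]; exact ((show Commute x c from mem_centralizer_singleton_iff.1 hx).zpow_right j).eq
    refine mem_centralizer_singleton_iff.2 ?_
    calc d * x * d⁻¹ * c = d * (x * (d⁻¹ * c * d)) * d⁻¹ := by group
      _ = d * (d⁻¹ * c * d * x) * d⁻¹ := by rw [h1]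
      _ = c * (d * x * d⁻¹) := by group
  let L : F → F := fun ξ => ε (Additive.ofMul
    (⟨d * el ξ * d⁻¹, hEconj d hd.1 hdH _ (ε.symm ξ).toMul.2⟩ : E))
  have hL : ∀ ξ, el (L ξ) = d * el ξ * d⁻¹ := fun ξ => by
    show (((ε.symm (L ξ)).toMul : E) : G) = _
    simp only [L, AddEquiv.symm_apply_apply]
    rfl
  have hLadd : ∀ x y, L (x + y) = L x + L y := fun x y => hel_inj (by
    rw [hel_add, hL, hL, hL, hel_add]; group)
  have hLinj : Function.Injective L := fun x y e => hel_inj (by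
    have := congrArg el e
    rw [hL, hL] at this
    exact mul_left_cancel (mul_right_cancel this))
  have hL0 : L 0 = 0 := hel_inj (by rw [hL, hel_zero]; group)
  have hw : L 1 ≠ 0 := fun e => one_ne_zero (hLinj (e.trans hL0.symm))
  have hdA : ∀ x ∈ A, d * x * d⁻¹ ∈ A := by
    intro x hx
    obtain ⟨⟨hxp, hxH⟩, hxv⟩ := (hAm x).1 hx
    refine (hAm _).2 ⟨⟨(pairStab G a b).mul_mem ((pairStab G a b).mul_mem hd hxp) ((pairStab G a b).inv_mem hd), hdH x hxH⟩, ?_⟩
    have h1 : v * d * v = d := by rw [← hdv, mul_assoc, hvv, mul_one]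
    rw [M.vmul, M.vmul, M.vinv', h1, hxv]; group
  have hkey : ∀ x ∈ A, ∀ η, L (sc x * η) = sc (d * x * d⁻¹) * L η := by
    intro x hx η
    have h1 := hact x ((hAm x).1 hx).1 η
    rw [hAl x hx, RingAut.one_apply] at h1
    have h2 := hact _ ((hAm _).1 (hdA x hx)).1 (L η)
    rw [hAl _ (hdA x hx), RingAut.one_apply] at h2
    refine hel_inj ?_
    rw [hL, ← h1, ← h2, hL]
    group
  have hkey1 : ∀ x ∈ A, sc (d * x * d⁻¹) = L (sc x) / L 1 := fun x hx => by
    have h1 := hkey x hx 1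
    rw [mul_one] at h1
    rw [h1, mul_div_cancel_right₀ _ hw]
  haveI := Fintype.ofFinite F
  let φ₀ : F →+* F :=
    { toFun := fun ξ => L ξ / L 1
      map_one' := div_self hw
      map_zero' := by rw [hL0, zero_div]
      map_add' := fun x y => by rw [hLadd, add_div]
      map_mul' := fun x y => by
        rcases eq_or_ne x 0 with rfl | hx0
        · rw [zero_mul, hL0, zero_div, zero_mul]
        obtain ⟨g, hg, rfl⟩ := hAsurj x hx0
        rw [hkey g hg, ← hkey1 g hg, mul_div_assoc] }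
  obtain ⟨i, hik, hi⟩ := exists_frob hF
    (RingEquiv.ofBijective φ₀ ((Finite.injective_iff_bijective).1 φ₀.injective))
  refine ⟨i, hik, fun x hx => ?_⟩
  have hxD := (hAm x).1 hx
  have hp := (hAm _).1 (pow_mem hx (2 ^ i))
  have hd' := (hAm _).1 (hdA x hx)
  refine M.inverted_inj hF hd'.1 hp.1 hd'.2 hp.2 ?_
  rw [hkey1 x hx, M.sc_pow hxD.1 (hAl x hx)]
  exact hi (sc x)

end CfsgLib.Bender.NTorus

namespace CfsgLib.Bender

open Subgroup MulAction

universe u

/-- Sub-slice G2. -/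
theorem torusStep : TorusStep.{u} := by
  intro G Ω _ _ _ _ h a b hab v c s t hv hva hc hc1 hcv hs ht hst hcs hct
  exact NTorus.torus h hab hv hva hc hc1 hcv hs ht hst hcs hct

end CfsgLib.Bender
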