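import Cfsg.Agent.Lib.Bender.Gen.NoMoveAffine

/-!
Owner: helper27. `UM`, second case: the centraliser of `B = [B, v]` fixes the centre (slice B of
`notes/bender_gen_slices.md`); the part where the normaliser of `Y` has rank one.

* `Setting0.caseB_rank_one`
-/

set_option autoImplicit false
set_option linter.style.haveILetI false
set_option linter.unusedSectionVars false

namespace CfsgLib.Bender

open Subgroup MulAction
open CfsgLib.Signalizer (involution_sq involution_inv orderOf_eq_two_of involution_ne_one)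
open scoped commutatorElement

variable {G Ω : Type*} [Group G] [Finite G] [MulAction G Ω] [Finite Ω] (hS : Setting0 G Ω)
  (hT : Template G Ω) {p : ℕ} [Fact p.Prime] (hp2 : p ≠ 2) {B Y : Subgroup G} {w : Ω} {v : G}
  (hv : InvAt v w) (hY : IsPGroup p Y) (hYw : Y ≤ stabilizer G w)
  (hvY : v ∈ normalizer (Y : Set G)) (hvB : v ∈ normalizer (B : Set G)) (hBY : B ≤ Y)
  (hBB : ⁅B, zpowers v⁆ = B) (hBne : B ≠ ⊥) (hmove : ¬ normalizer (Y : Set G) ≤ stabilizer G w)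
  (hmaxY : ∀ Z : Subgroup G, IsPGroup p Z → Z ≤ stabilizer G w → v ∈ normalizer (Z : Set G) → Y ≤ Z →
    ¬ normalizer (Z : Set G) ≤ stabilizer G w → Z = Y)
  (hC : centralizer (B : Set G) ≤ stabilizer G w)

include hS hT hp2 hv hY hYw hvY hvB hBY hBB hBne hmove hmaxY hC in
/-- No involution of `N(Y)` other than `v` commutes with `v`. -/
theorem Setting0.caseB_rank_one
    (hr : ∀ e ∈ normalizer (Y : Set G), orderOf e = 2 → e * v = v * e → e = v) : False := by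
  classical
  have hB : IsPGroup p B := hY.to_le hBY
  have hBw : B ≤ stabilizer G w := hBY.trans hYw
  set K := normalizer (Y : Set G) with hKdef
  obtain ⟨O, hOK, hOodd, hKO, -, hdec⟩ := exists_core_of_rank_one hv.1 hvY hr
  have hOmove : ¬ O ≤ stabilizer G w := fun h => hmove fun k hk => by
    obtain ⟨o, ho, c, -, hcv, rfl⟩ := hdec k hk
    exact mul_mem (h ho) (hS.smul_of_commute hv hcv)
  obtain ⟨Θ, hΘO, hNΘ, hΘw, hΘd⟩ := exists_layer _ O rfl hOodd hOmove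
  have hNK : K ≤ normalizer (Θ : Set G) := hKO.trans hNΘ
  have hΘK : Θ ≤ K := hΘO.trans hOK
  have hL : Layer Θ w v := ⟨hv, odd_of_le hΘO hOodd, hNK hvY, hΘd⟩
  have hYfix : ∀ θ ∈ Θ, ∀ y ∈ Y, y • θ • w = θ • w := by
    intro θ hθ y hy
    have h : (θ⁻¹ * y * θ) • w = w := hYw ((mem_normalizer_iff''.1 (hΘK hθ) y).1 hy)
    rwa [mul_smul, mul_smul, inv_smul_eq_iff] at h
  refine hL.false_of_template hS hT Fact.out hp2 {x | x ≠ w ∧ ∃ θ ∈ Θ, θ • w = x} ?_ (fun h => h.1 rfl)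
    (fun x hx => hx.2) ?_ ?_
  · obtain ⟨θ, hθ, hθw⟩ := SetLike.not_le_iff_exists.1 hΘw
    exact ⟨θ • w, hθw, θ, hθ, rfl⟩
  · intro θ hθ hx
    refine ⟨fun h => hx.1 ?_, _, pow_mem hθ _, rfl⟩
    obtain ⟨n, hn⟩ := hL.odd
    have h2 : θ ^ ((Nat.card Θ + 1) / 2) * θ ^ ((Nat.card Θ + 1) / 2) = θ := by
      rw [← pow_add, show (Nat.card Θ + 1) / 2 + (Nat.card Θ + 1) / 2 = Nat.card Θ + 1 by omega,
        pow_succ, orderOf_dvd_iff_pow_eq_one.1 (Θ.orderOf_dvd_natCard hθ), one_mul]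
    rw [← h2, mul_smul, h, h]
  intro θ hθ hx
  have hxw : θ • w ≠ w := hx.1
  set D := pairStab G (θ • w) (v • θ • w) with hD
  have hne : θ • w ≠ v • θ • w := (hS.ne_of_inv hv hxw).symm
  have hYD : Y ≤ D := fun y hy => ⟨hYfix θ hθ y hy, by
    show y • v • θ • w = v • θ • w
    rw [hL.inv_smul_eq hS hθ]
    exact hYfix _ (inv_mem hθ) y hy⟩
  obtain ⟨T, hTD, hYT, hvT⟩ :=
    exists_inv_syl_ge hv.1 (hS.odd_pairStab hne) (hS.swapper_normalizer hv.1 rfl) hYD hY hvY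
  set Y₁ := T ⊓ K with hY₁
  have hY₁w : Y₁ ≤ stabilizer G w := fun g hg => hL.pair_fix hS (hNK hg.2) hθ (hTD.le hg.1)
  have hY₁p : IsPGroup p Y₁ := hTD.isPGroup.to_le inf_le_left
  have hvY₁ : v ∈ normalizer (Y₁ : Set G) :=
    inf_normalizer_le_normalizer_inf ⟨hvT, le_normalizer hvY⟩
  have hY₁n : Y₁ ≤ normalizer (Θ : Set G) := fun g hg => hNK hg.2
  -- the stabiliser of the centre in `Θ Y₁`
  set F := Θ ⊓ stabilizer G w with hF
  set M := F ⊔ Y₁ with hM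
  have hY₁F : Y₁ ≤ normalizer (F : Set G) := fun g hg =>
    inf_normalizer_le_normalizer_inf ⟨hY₁n hg, le_normalizer (hY₁w hg)⟩
  have hFodd : Odd (Nat.card F) := odd_of_le inf_le_left hL.odd
  have hModd : Odd (Nat.card M) := by
    have h := CfsgLib.Core.card_sup_dvd Y₁ F hY₁F
    rw [sup_comm] at h
    exact ((odd_card_of_pGroup hp2 hY₁p).mul hFodd).of_dvd_nat h
  have hvM : v ∈ normalizer (M : Set G) := by
    refine mem_normalizer_of_map_conj_eq ?_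
    rw [hM, Subgroup.map_sup, map_conj_eq_of_mem_normalizer hvY₁, map_conj_eq_of_mem_normalizer
      (inf_normalizer_le_normalizer_inf ⟨hL.normal, le_normalizer hv.2⟩)]
  obtain ⟨Y₄, hY₄, hY₁Y₄, hvY₄⟩ :=
    exists_inv_syl_ge hv.1 hModd hvM (le_sup_right : Y₁ ≤ M) hY₁p hvY₁
  have hMw : M ≤ stabilizer G w := sup_le inf_le_right hY₁w
  have hMθ : ∀ m ∈ M, m • θ • w = θ • w := by
    refine fun m hm => (sup_le (fun a ha => ?_) (fun y hy => (hTD.le hy.1).1) :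
      M ≤ stabilizer G (θ • w)) hm
    show a • θ • w = θ • w
    rw [← mul_smul, hL.comm ha.1 hθ, mul_smul, show a • w = w from ha.2]
  have hback : (Y₄.map (MulAut.conj θ⁻¹).toMonoidHom) ≤ M := by
    rintro _ ⟨m, hm, rfl⟩
    obtain ⟨y, hy, f, hf, rfl⟩ :=
      (CfsgLib.Core.mem_sup_iff_mul hY₁F).1 (by rw [sup_comm]; exact hY₄.le hm)
    have hφ : θ⁻¹ * (y * (f * θ) * y⁻¹) ∈ Θ :=
      mul_mem (inv_mem hθ) ((mem_normalizer_iff.1 (hY₁n hy) _).1 (mul_mem hf.1 hθ))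
    have e : (MulAut.conj θ⁻¹).toMonoidHom (y * f) = θ⁻¹ * (y * (f * θ) * y⁻¹) * y := by
      simp [mul_assoc]
    rw [e]
    have hw : (θ⁻¹ * (y * (f * θ) * y⁻¹)) • w = w := by
      rw [mul_smul, mul_smul, inv_smul_eq_iff.2 (show y • w = w from hY₁w hy).symm,
        ← mul_assoc y f θ, mul_smul (y * f) θ, hMθ _ (hY₄.le hm), inv_smul_smul]
    exact mul_mem (mem_sup_left ⟨hφ, hw⟩) (mem_sup_right hy)
  have hY₄' : IsSyl p (Y₄.map (MulAut.conj θ⁻¹).toMonoidHom) M := ⟨hback, by rw [card_map_conj]; exact hY₄.2⟩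
  obtain ⟨m, hm, hmY⟩ := hY₄'.exists_conj hY₄
  have hY₄Y : Y₄ = Y := by
    refine hmaxY Y₄ hY₄.isPGroup (hY₄.le.trans hMw) hvY₄
      ((le_inf hYT le_normalizer : Y ≤ Y₁).trans hY₁Y₄) fun h => hxw ?_
    have hn : m * θ⁻¹ ∈ normalizer (Y₄ : Set G) := by
      refine mem_normalizer_of_map_conj_eq ?_
      conv_rhs => rw [← hmY, Subgroup.map_map Y₄]
      exact congrArg (fun f => Y₄.map f) (MonoidHom.ext fun r => by simp [mul_assoc])
    have h1 : θ⁻¹ ∈ stabilizer G w := by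
      have := mul_mem (inv_mem (hMw hm)) (h hn)
      rwa [inv_mul_cancel_left] at this
    exact show θ • w = w from inv_mem_iff.1 h1
  have hTY : Y = T := grow_eq hTD.isPGroup hYT fun g hg hgn => hY₄Y ▸ hY₁Y₄ ⟨hg, hgn⟩
  refine ⟨T, hTD, fun h => hBne (le_bot_iff.1 (h ▸ hBY.trans hYT)), hvT, hTY ▸ hYw, ?_⟩
  exact hS.opp_le_stab hv hxw hB hBw hvB hBB (hBY.trans hYD) fun a _ ha => hC ha

end CfsgLib.Bender
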