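import Cfsg.Agent.Lib.Bender.Gen.NoMoveAffine

/-!
Owner: helper27. `UM`, first case: the centraliser of `B = [B, v]` moves the centre (slice B of
`notes/bender_gen_slices.md`).

* `Setting0.caseA`
-/

set_option autoImplicit false
set_option linter.style.haveILetI false
set_option linter.unusedSectionVars false

namespace CfsgLib.Bender

open Subgroup MulAction
open CfsgLib.Signalizer (involution_sq involution_inv orderOf_eq_two_of involution_ne_one)
open scoped commutatorElement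

section Group

variable {G : Type*} [Group G] [Finite G] {p : ℕ}

/-- Some element of a subgroup does not commute with `v`. -/
theorem exists_not_commute {Y : Subgroup G} {v : G} (h : ⁅Y, zpowers v⁆ ≠ ⊥) :
    ∃ y ∈ Y, y * v ≠ v * y := by
  by_contra hcon
  push Not at hcon
  refine h (commutator_eq_bot_iff_le_centralizer.2 fun y hy => mem_centralizer_iff.2 ?_)
  rintro _ ⟨k, rfl⟩
  exact ((show Commute y v from hcon y hy).zpow_right k).eq.symm

theorem mem_normalizer_zpowers_of_commute {v e : G} (h : e * v = v * e) :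
    e ∈ normalizer (zpowers v : Set G) := by
  refine mem_normalizer_of_conj_le ?_
  rintro _ ⟨k, rfl⟩
  refine ⟨k, ?_⟩
  show v ^ k = e * v ^ k * e⁻¹
  rw [((show Commute e v from h).zpow_right k).eq, mul_inv_cancel_right]

/-- An element acting on a Sylow subgroup of `O_{p',p}(C)` as a stabiliser of a central series lies in
`O_{p',p}(C)`. -/
theorem mem_opq_of_stable [Fact p.Prime] {C P Z : Subgroup G} (hC : Odd (Nat.card C))
    (hP : IsSyl p P (opq p C)) (hZP : Z ≤ P) (hZC : ∀ z ∈ Z, ∀ c ∈ C, z * c = c * z) {j : G}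
    (hj : j ∈ C) (hact : ∀ r ∈ P, j * r * j⁻¹ * r⁻¹ ∈ Z) : j ∈ opq p C := by
  have hPC : P ≤ C := hP.le.trans (opq_le p C)
  haveI : Group.IsSolvable C := Cfsg.Agent.S0205.result hC
  set N := Cfsg.pPrimeCore p C with hN
  set π := QuotientGroup.mk' N with hπ
  haveI : Group.IsSolvable (C ⧸ N) :=
    Group.isSolvable_of_surjective (QuotientGroup.mk'_surjective N)
  set Pb := Cfsg.pCore p (C ⧸ N) with hPb
  haveI hPbn : Pb.Normal := CfsgLib.Core.normal_pCore p _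
  have hPmap : (P.subgroupOf C).map π = Pb := by
    have h : P.subgroupOf C ⊔ N = Cfsg.pPrimePCore p C := by
      apply map_injective C.subtype_injective
      rw [Subgroup.map_sup, map_subgroupOf_eq_of_le hPC]
      exact opq_eq hP
    rw [hPb, ← CfsgLib.PLocal.map_pPrimePCore, ← h, Subgroup.map_sup, hπ, QuotientGroup.map_mk'_self,
      sup_bot_eq]
  set Zb := (Z.subgroupOf C).map π with hZb
  have hZcent : Zb ≤ center (C ⧸ N) := by
    rintro _ ⟨z, hz, rfl⟩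
    refine mem_center_iff.2 fun g => ?_
    obtain ⟨c, rfl⟩ := QuotientGroup.mk'_surjective N g
    rw [← map_mul, ← map_mul]
    exact congrArg π (Subtype.ext (hZC z hz c c.2).symm)
  haveI hZn : Zb.Normal := ⟨fun z hz g => by
    rw [mem_center_iff.1 (hZcent hz) g, mul_inv_cancel_right]; exact hz⟩
  set ρ := QuotientGroup.mk' Zb with hρ
  haveI : (Pb.map ρ).Normal := hPbn.map ρ (QuotientGroup.mk'_surjective Zb)
  set S := (centralizer (Pb.map ρ : Set ((C ⧸ N) ⧸ Zb))).comap ρ with hS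
  haveI : S.Normal := inferInstance
  have hjS : π ⟨j, hj⟩ ∈ S := by
    refine mem_centralizer_iff.2 ?_
    rintro _ ⟨q, hq, rfl⟩
    rw [← hPmap] at hq
    obtain ⟨r, hr, rfl⟩ := hq
    have h : ρ (π (⟨j, hj⟩ * r * ⟨j, hj⟩⁻¹ * r⁻¹)) = 1 :=
      (QuotientGroup.eq_one_iff _).2 ⟨_, hact r hr, rfl⟩
    rw [map_mul, map_mul, map_mul, map_mul, map_mul, map_mul, map_inv, map_inv, map_inv, map_inv,
      mul_inv_eq_one, mul_inv_eq_iff_eq_mul] at h
    exact h.symm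
  have hcent := CfsgLib.Core.centralizer_pCore_le_of_pPrimeCore_eq_bot (G := C ⧸ N) (p := p)
    (CfsgLib.Core.pPrimeCore_quotient_pPrimeCore p C)
  have hSp : IsPGroup p S := by
    rintro ⟨x, hx⟩
    obtain ⟨e, r, hpr, hxo⟩ :=
      Nat.exists_eq_pow_mul_and_not_dvd (orderOf_pos x).ne' p (Fact.out : p.Prime).ne_one
    set y := x ^ p ^ e with hy
    have hyo : (orderOf y).Coprime p := by
      have : orderOf y ∣ r := orderOf_dvd_of_pow_eq_one (by
        rw [hy, ← pow_mul, ← hxo, pow_orderOf_eq_one])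
      exact ((Nat.Prime.coprime_iff_not_dvd Fact.out).2 hpr).symm.coprime_dvd_left this
    have hnorm : zpowers y ≤ normalizer (Pb : Set (C ⧸ N)) := le_normalizer_of_normal
    have hcop : (Nat.card (zpowers y)).Coprime (Nat.card Pb) := by
      rw [Nat.card_zpowers, card_eq_pow (CfsgLib.Core.isPGroup_pCore p (C ⧸ N))]
      exact hyo.pow_right _
    have h1 : ⁅Pb, zpowers y⁆ ≤ Zb := by
      rw [commutator_le]
      intro a ha b hb
      have hbS : b ∈ S := (zpowers_le.2 (S.pow_mem hx _)) hb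
      have := mem_centralizer_iff.1 (show ρ b ∈ centralizer (Pb.map ρ : Set ((C ⧸ N) ⧸ Zb)) from hbS)
        _ ⟨a, ha, rfl⟩
      refine (QuotientGroup.eq_one_iff _).1 (show ρ ⁅a, b⁆ = 1 from ?_)
      rw [map_commutatorElement, commutatorElement_eq_one_iff_mul_comm]
      exact this
    have h2 : ⁅⁅Pb, zpowers y⁆, zpowers y⁆ = ⊥ := by
      refine eq_bot_iff.2 ((commutator_mono h1 le_rfl).trans (le_of_eq ?_))
      exact commutator_eq_bot_iff_le_centralizer.2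
        (hZcent.trans (center_le_centralizer _))
    rw [CfsgLib.Core.commutator_commutator_eq hnorm hcop (Or.inl inferInstance),
      commutator_eq_bot_iff_le_centralizer] at h2
    have hyP : y ∈ Pb := hcent (mem_centralizer_iff.2 fun q hq =>
      (mem_centralizer_iff.1 (h2 hq) y (mem_zpowers y)).symm)
    have hy1 : y = 1 := by
      refine orderOf_eq_one_iff.1 (Nat.eq_one_of_dvd_coprimes ?_ dvd_rfl
        (Pb.orderOf_dvd_natCard hyP))
      rw [card_eq_pow (CfsgLib.Core.isPGroup_pCore p (C ⧸ N))]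
      exact hyo.pow_right _
    exact ⟨e, Subtype.ext hy1⟩
  exact ⟨⟨j, hj⟩, CfsgLib.Core.le_pCore hSp hjS, rfl⟩

end Group

section CaseA

variable {G Ω : Type*} [Group G] [Finite G] [MulAction G Ω] [Finite Ω] (hS : Setting0 G Ω)
  (hT : Template G Ω) {p : ℕ} [Fact p.Prime] (hp2 : p ≠ 2) {B : Subgroup G} {w : Ω} {v : G}
  (hv : InvAt v w) (hB : IsPGroup p B) (hBw : B ≤ stabilizer G w) (hvB : v ∈ normalizer (B : Set G))
  (hBB : ⁅B, zpowers v⁆ = B) (hBne : B ≠ ⊥)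
  (hmax : ∀ Y : Subgroup G, IsPGroup p Y → Y ≤ stabilizer G w → v ∈ normalizer (Y : Set G) → B ≤ Y →
    ¬ normalizer (Y : Set G) ≤ stabilizer G w → ⁅Y, zpowers v⁆ = B)
  (hC : ¬ centralizer (B : Set G) ≤ stabilizer G w)

include hS hv hvB hBB hBne hC in
theorem Setting0.odd_centralizer : Odd (Nat.card (centralizer (B : Set G))) :=
  Nat.not_even_iff_odd.1 fun h => hC (hS.centralizer_le_stab_of_even hv hvB
    (exists_not_commute (hBB.symm ▸ hBne)) h)

include hS hT hp2 hv hB hBw hvB hBB hBne hmax hC in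
/-- Part (a). -/
theorem Setting0.caseA_opp : opp p (centralizer (B : Set G)) ≤ stabilizer G w := by
  classical
  have hCodd := hS.odd_centralizer hv hvB hBB hBne hC
  set C := centralizer (B : Set G) with hCdef
  set O := opp p C with hOdef
  by_contra hO
  obtain ⟨Θ, hΘO, hNΘ, hΘw, hΘd⟩ := exists_layer _ O rfl (odd_of_le (opp_le p C) hCodd) hO
  have hNB : normalizer (B : Set G) ≤ normalizer (Θ : Set G) :=
    (le_normalizer_centralizer B).trans ((le_normalizer_opp p C).trans hNΘ)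
  have hΘC : Θ ≤ C := hΘO.trans (opp_le p C)
  have hL : Layer Θ w v := ⟨hv, odd_of_le hΘC hCodd, hNB hvB, hΘd⟩
  have hBfix : ∀ θ ∈ Θ, ∀ b ∈ B, b • θ • w = θ • w := fun θ hθ b hb => by
    rw [← mul_smul, mem_centralizer_iff.1 (hΘC hθ) b hb, mul_smul, show b • w = w from hBw hb]
  refine hL.false_of_template hS hT Fact.out hp2 {x | x ≠ w ∧ ∃ θ ∈ Θ, θ • w = x} ?_ (fun h => h.1 rfl)
    (fun x hx => hx.2) ?_ ?_
  · obtain ⟨θ, hθ, hθw⟩ := SetLike.not_le_iff_exists.1 hΘw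
    exact ⟨θ • w, hθw, θ, hθ, rfl⟩
  · intro θ hθ hx
    refine ⟨fun h => hx.1 ?_, _, pow_mem hθ _, rfl⟩
    obtain ⟨n, hn⟩ := hL.odd
    have h2 : θ ^ ((Nat.card Θ + 1) / 2) * θ ^ ((Nat.card Θ + 1) / 2) = θ := by
      rw [← pow_add, show (Nat.card Θ + 1) / 2 + (Nat.card Θ + 1) / 2 = Nat.card Θ + 1 by omega,
        pow_succ, orderOf_dvd_iff_pow_eq_one.1 (Θ.orderOf_dvd_natCard hθ), one_mul]
    rw [← h2, mul_smul, h, h]
  intro θ hθ hx
  have hxw : θ • w ≠ w := hx.1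
  set D := pairStab G (θ • w) (v • θ • w) with hD
  have hne : θ • w ≠ v • θ • w := (hS.ne_of_inv hv hxw).symm
  have hBD : B ≤ D := fun b hb => ⟨hBfix θ hθ b hb, by
    show b • v • θ • w = v • θ • w
    rw [hL.inv_smul_eq hS hθ]
    exact hBfix _ (inv_mem hθ) b hb⟩
  have hDodd := hS.odd_pairStab hne
  obtain ⟨T, hTD, hBT, hvT⟩ :=
    exists_inv_syl_ge hv.1 hDodd (hS.swapper_normalizer hv.1 rfl) hBD hB hvB
  set Y₁ := T ⊓ normalizer (B : Set G) with hY₁
  have hY₁w : Y₁ ≤ stabilizer G w := fun g hg => hL.pair_fix hS (hNB hg.2) hθ (hTD.le hg.1)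
  have hY₁p : IsPGroup p Y₁ := hTD.isPGroup.to_le inf_le_left
  have hBY₁ : B ≤ Y₁ := le_inf hBT le_normalizer
  have hvY₁ : v ∈ normalizer (Y₁ : Set G) :=
    inf_normalizer_le_normalizer_inf ⟨hvT, le_normalizer hvB⟩
  obtain ⟨c, ⟨hcΘ, hcY⟩, hcw⟩ := CfsgLib.Core.exists_centralizing_mapsTo (A := Y₁) (K := Θ)
    (fun g hg => hNB hg.2)
    (coprime_card_of_pGroup hY₁p ((card_opp p C).coprime_dvd_left (card_dvd_of_le hΘO)))
    (Or.inr (Cfsg.Agent.S0205.result hL.odd)) (x := w) (y := θ • w)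
    (fun a ha => hY₁w ha) (fun a ha => (hTD.le ha.1).1) ⟨θ, hθ, rfl⟩
  have hY₁B : ⁅Y₁, zpowers v⁆ = B := hmax Y₁ hY₁p hY₁w hvY₁ hBY₁ fun h =>
    hxw (by rw [← hcw]; exact h (centralizer_le_normalizer _ hcY))
  set C₁ := opp p (centralizer (Y₁ : Set G)) with hC₁
  have hCY₁ : centralizer (Y₁ : Set G) ≤ C := centralizer_le hBY₁
  have hcC₁ : c ∈ C₁ := by
    refine le_opp (inf_le_right : O ⊓ centralizer (Y₁ : Set G) ≤ _) (fun g hg => ?_)
      ((card_opp p C).coprime_dvd_left (card_dvd_of_le inf_le_left)) ⟨hΘO hcΘ, hcY⟩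
    exact inf_normalizer_le_normalizer_inf ⟨le_normalizer_opp p C (le_normalizer (hCY₁ hg)), le_normalizer hg⟩
  have hC₁odd : Odd (Nat.card C₁) := odd_of_le ((opp_le p _).trans hCY₁) hCodd
  have hNC₁ : normalizer (Y₁ : Set G) ≤ normalizer (C₁ : Set G) :=
    (le_normalizer_centralizer Y₁).trans (le_normalizer_opp p _)
  set Y₂ := T ⊓ normalizer (Y₁ : Set G) with hY₂
  have hY₂p : IsPGroup p Y₂ := hTD.isPGroup.to_le inf_le_left
  have hvY₂ : v ∈ normalizer (Y₂ : Set G) :=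
    inf_normalizer_le_normalizer_inf ⟨hvT, le_normalizer hvY₁⟩
  obtain ⟨d, hd, hdx⟩ := CfsgLib.Core.exists_centralizing_mapsTo (A := Y₂) (K := C₁)
    (fun g hg => hNC₁ hg.2) (coprime_card_of_pGroup hY₂p (card_opp p _))
    (Or.inr (Cfsg.Agent.S0205.result hC₁odd)) (x := θ • w) (y := v • θ • w)
    (fun a ha => (hTD.le ha.1).1) (fun a ha => (hTD.le ha.1).2)
    ⟨(v * c * v⁻¹) * c⁻¹, mul_mem ((mem_normalizer_iff.1 (hNC₁ hvY₁) c).1 hcC₁) (inv_mem hcC₁), by
      rw [← hcw, mul_smul, inv_smul_smul, mul_smul, mul_smul, inv_smul_eq_iff.2 hv.2.symm]⟩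
  set C₂ := C₁ ⊓ centralizer (Y₂ : Set G) with hC₂
  have hC₂odd : Odd (Nat.card C₂) := odd_of_le inf_le_left hC₁odd
  have hvC₂ : v ∈ normalizer (C₂ : Set G) :=
    inf_normalizer_le_normalizer_inf ⟨hNC₁ hvY₁, le_normalizer_centralizer Y₂ hvY₂⟩
  obtain ⟨z, hzK, hz⟩ := exists_inv_fixing (K := zpowers v ⊔ C₂) (O := C₂) le_sup_right hC₂odd
    (fun k hk o ho => (mem_normalizer_iff.1 (sup_le (zpowers_le.2 hvC₂) le_normalizer hk) o).1 ho)
    (mem_sup_left (mem_zpowers v)) hv.1 hd hdx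
  obtain ⟨n, hn, a, ha, rfl⟩ :=
    (CfsgLib.Core.mem_sup_iff_mul' (zpowers_le.2 hvC₂)).1 hzK
  rcases zpowers_cases hv.1 ha with rfl | rfl
  · rw [mul_one] at hz
    exact (not_mem_of_odd hC₂odd hz.1 hn).elim
  obtain ⟨n', hn', hn'z⟩ := exists_conj_of_mul_mem hC₂odd hz.1 hv.1
    (show n * a * a ∈ C₂ by rw [mul_assoc, involution_sq hv.1, mul_one]; exact hn)
  have hn'w : n' • θ • w = w := by
    refine hS.fix_unique ?_ hv
    have := hz.conj n'
    rwa [hn'z] at this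
  have hY₂w : Y₂ ≤ stabilizer G w := fun y hy => by
    show y • w = w
    conv_lhs => rw [← hn'w, ← mul_smul, mem_centralizer_iff.1 hn'.2 y hy, mul_smul,
      show y • θ • w = θ • w from (hTD.le hy.1).1, hn'w]
  have hBY₂ : B ≤ Y₂ := le_inf hBT (hBY₁.trans le_normalizer)
  have hY₂B : ⁅Y₂, zpowers a⁆ = B := hmax Y₂ hY₂p hY₂w hvY₂ hBY₂ fun h =>
    hxw (smul_left_cancel n' (hn'w.trans (h (centralizer_le_normalizer _ hn'.2)).symm))
  have hY₁T : Y₁ = T := grow_eq hTD.isPGroup inf_le_left fun g hg hgn => by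
    refine ⟨hg, ?_⟩
    have := (hY₂B ▸ normalizer_commutator_ge_left Y₂ (zpowers a)) (show g ∈ Y₂ from ⟨hg, hgn⟩)
    exact this
  refine ⟨T, hTD, fun h => hBne (le_bot_iff.1 (h ▸ hBT)), hvT, hY₁T ▸ hY₁w, ?_⟩
  exact hS.opp_le_stab hv hxw hB hBw hvB hBB hBD fun g hg hgC =>
    hL.pair_fix hS (hNB (centralizer_le_normalizer _ hgC)) hθ hg

include hS hT hp2 hv hB hBw hvB hBB hBne hmax hC in
/-- Part (b). -/
theorem Setting0.caseA_opq : ¬ opq p (centralizer (B : Set G)) ≤ stabilizer G w := by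
  classical
  intro hLw
  have hCodd := hS.odd_centralizer hv hvB hBB hBne hC
  set C := centralizer (B : Set G) with hCdef
  have hvC : v ∈ normalizer (C : Set G) := le_normalizer_centralizer B hvB
  have hvL : v ∈ normalizer (opq p C : Set G) := le_normalizer_opq p C hvC
  obtain ⟨P, hP, -, hvP⟩ := exists_inv_syl_ge (p := p) (U := ⊥) hv.1 (odd_of_le (opq_le p C) hCodd)
    hvL bot_le IsPGroup.of_bot (mem_normalizer_of_conj_le fun x hx => by simp [mem_bot.1 hx])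
  have hPC : P ≤ C := hP.le.trans (opq_le p C)
  set K := C ⊓ normalizer (P : Set G) with hK
  have hKmove : ¬ K ≤ stabilizer G w := by
    intro hKw
    refine hC fun g hg => ?_
    have hgL : g ∈ normalizer (opq p C : Set G) := le_normalizer_opq p C (le_normalizer hg)
    have hPg : IsSyl p (P.map (MulAut.conj g).toMonoidHom) (opq p C) := by
      have := hP.map_conj g
      rwa [map_conj_eq_of_mem_normalizer hgL] at this
    obtain ⟨l, hl, hlP⟩ := hPg.exists_conj hP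
    have hlg : l * g ∈ K := by
      refine ⟨mul_mem (opq_le p C hl) hg, mem_normalizer_of_map_conj_eq ?_⟩
      conv_rhs => rw [← hlP, Subgroup.map_map P]
      exact congrArg (fun f => P.map f) (MonoidHom.ext fun r => by simp [mul_assoc])
    have := mul_mem (inv_mem (hLw hl)) (hKw hlg)
    rwa [inv_mul_cancel_left] at this
  have hBcP : B ≤ centralizer (P : Set G) := le_centralizer_iff.1 hPC
  set Y₀ := B ⊔ P with hY₀
  have hY₀p : IsPGroup p Y₀ :=
    hB.to_sup_of_normal_right' hP.isPGroup (hBcP.trans (centralizer_le_normalizer _))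
  have hY₀n : ∀ g, g ∈ normalizer (B : Set G) → g ∈ normalizer (P : Set G) → g ∈ normalizer (Y₀ : Set G) :=
    fun g h1 h2 => mem_normalizer_of_map_conj_eq (by
      rw [hY₀, Subgroup.map_sup, map_conj_eq_of_mem_normalizer h1, map_conj_eq_of_mem_normalizer h2])
  have hY₀B : ⁅Y₀, zpowers v⁆ = B := hmax Y₀ hY₀p (sup_le hBw (hP.le.trans hLw))
    (hY₀n v hvB hvP) le_sup_left fun h =>
      hKmove fun k hk => h (hY₀n k (centralizer_le_normalizer _ hk.1) hk.2)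
  have hPv : ∀ r ∈ P, v * r * v⁻¹ * r⁻¹ ∈ B ⊓ P := fun r hr => by
    refine ⟨?_, P.mul_mem ((mem_normalizer_iff.1 hvP r).1 hr) (P.inv_mem hr)⟩
    have h0 : ⁅r, v⁆ ∈ B := hY₀B ▸ commutator_mem_commutator (mem_sup_right hr) (mem_zpowers v)
    have h := inv_mem h0
    simpa [commutatorElement_def, mul_assoc] using h
  have hKodd : Odd (Nat.card K) := odd_of_le inf_le_left hCodd
  have hvK : v ∈ normalizer (K : Set G) :=
    inf_normalizer_le_normalizer_inf ⟨hvC, le_normalizer hvP⟩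
  refine hKmove ?_
  rw [← CfsgLib.Core.commutator_sup_centralizer (zpowers_le.2 hvK) (coprime_zpowers hv.1 hKodd)
    (Or.inl inferInstance)]
  refine sup_le ?_ fun k hk => hS.smul_of_commute hv ((mem_centralizer_iff.1 hk.2 v (mem_zpowers v)).symm)
  rw [commutator_le]
  intro k hk a ha
  rcases zpowers_cases hv.1 ha with rfl | rfl
  · simp
  refine hLw (mem_opq_of_stable hCodd hP (inf_le_right : B ⊓ P ≤ P)
    (fun z hz c hc => mem_centralizer_iff.1 hc z hz.1) ?_ fun r hr => ?_)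
  · rw [commutatorElement_def]
    exact mul_mem (mul_mem hk.1 ((mem_normalizer_iff.1 hvC _).1 (inv_mem hk.1) |> fun h => by
      simpa [mul_assoc] using h)) (one_mem _) |> fun h => by simpa [mul_assoc] using h
  · -- `r` goes to itself modulo `B ⊓ P`
    set r₁ := a⁻¹ * r * a with hr₁
    have hr₁P : r₁ ∈ P := (mem_normalizer_iff''.1 hvP r).1 hr
    set r₂ := k⁻¹ * r * k with hr₂
    have hr₂P : r₂ ∈ P := (mem_normalizer_iff''.1 hk.2 r).1 hr
    set z₁ := a * r₁ * a⁻¹ * r₁⁻¹ with hz₁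
    set z₂ := a * r₂ * a⁻¹ * r₂⁻¹ with hz₂
    have h1 := hPv r₁ hr₁P
    have h2 := hPv r₂ hr₂P
    have hkz : ∀ z ∈ B, k * z = z * k := fun z hz => (mem_centralizer_iff.1 hk.1 z hz).symm
    have hz₁' : a * z₁⁻¹ * a⁻¹ ∈ B ⊓ P := (mem_normalizer_iff.1
      (inf_normalizer_le_normalizer_inf ⟨hvB, hvP⟩) _).1 (inv_mem h1)
    have e1 : r₁ = z₁⁻¹ * r := by rw [hz₁, hr₁]; group
    have e : ⁅k, a⁆ * r * ⁅k, a⁆⁻¹ * r⁻¹ = (a * z₁⁻¹ * a⁻¹) * z₂ := by
      calc ⁅k, a⁆ * r * ⁅k, a⁆⁻¹ * r⁻¹ = k * a * (k⁻¹ * r₁ * k) * a⁻¹ * k⁻¹ * r⁻¹ := by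
            rw [hr₁, commutatorElement_def]; group
        _ = k * a * (k⁻¹ * z₁⁻¹ * (k * r₂)) * a⁻¹ * k⁻¹ * r⁻¹ := by rw [e1, hr₂]; group
        _ = k * a * (z₁⁻¹ * r₂) * a⁻¹ * k⁻¹ * r⁻¹ := by
            have hzk : k⁻¹ * z₁⁻¹ * k = z₁⁻¹ := by
              rw [mul_assoc, ← hkz _ (inv_mem h1.1), inv_mul_cancel_left]
            rw [← mul_assoc (k⁻¹ * z₁⁻¹) k r₂, hzk]
        _ = k * ((a * z₁⁻¹ * a⁻¹) * z₂) * (r₂ * k⁻¹ * r⁻¹) := by rw [hz₂]; group
        _ = (a * z₁⁻¹ * a⁻¹) * z₂ * (k * r₂ * k⁻¹ * r⁻¹) := by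
            rw [hkz _ (mul_mem hz₁'.1 (show z₂ ∈ B from h2.1))]; group
        _ = (a * z₁⁻¹ * a⁻¹) * z₂ := by rw [hr₂]; group
    rw [e]
    exact mul_mem hz₁' h2

include hS hT hp2 hv hB hBw hvB hBB hBne hmax hC in
/-- Case A. -/
theorem Setting0.caseA : False := by
  classical
  have hCodd := hS.odd_centralizer hv hvB hBB hBne hC
  have hne := exists_not_commute (Y := B) (v := v) (hBB.symm ▸ hBne)
  have hR := hS.caseA_opp hT hp2 hv hB hBw hvB hBB hBne hmax hC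
  have hLmove := hS.caseA_opq hT hp2 hv hB hBw hvB hBB hBne hmax hC
  set C := centralizer (B : Set G) with hCdef
  obtain ⟨Θ, hΘL, hNΘ, hΘw, hΘd⟩ := exists_layer _ (opq p C) rfl (odd_of_le (opq_le p C) hCodd) hLmove
  set K := normalizer (B : Set G) with hKdef
  have hKL : K ≤ normalizer (opq p C : Set G) :=
    (le_normalizer_centralizer B).trans (le_normalizer_opq p C)
  have hNB : K ≤ normalizer (Θ : Set G) := hKL.trans hNΘ
  have hΘC : Θ ≤ C := hΘL.trans (opq_le p C)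
  have hCK : C ≤ K := centralizer_le_normalizer _
  have hL : Layer Θ w v := ⟨hv, odd_of_le hΘC hCodd, hNB hvB, hΘd⟩
  have hrK : ∀ e ∈ K, orderOf e = 2 → e * v = v * e → e = v := fun e he he2 hev => by
    by_contra hne'
    exact hC (hS.centralizer_le_stab_of_four hv hvB hne he he2 hev hne')
  obtain ⟨O, hOK, hOodd, hKO, hmod, -⟩ := exists_core_of_rank_one hv.1 hvB hrK
  obtain ⟨Sy, hSy, hBSy, hvSy⟩ :=
    exists_inv_syl_ge_core hp2 hv.1 hOK hOodd hKO hmod hvB le_normalizer hB hvB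
  have hSymove : ¬ Sy ≤ stabilizer G w := fun h => hLmove (by
    have hL' := hSy.inf_of_le_normalizer ((opq_le p C).trans hCK) hKL
    rw [← opq_eq hL']
    exact sup_le (inf_le_left.trans h) hR)
  set Y' := Sy ⊓ stabilizer G w with hY'
  have hY'p : IsPGroup p Y' := hSy.isPGroup.to_le inf_le_left
  have hvw : v ∈ normalizer (stabilizer G w : Set G) := le_normalizer hv.2
  have hvY' : v ∈ normalizer (Y' : Set G) := inf_normalizer_le_normalizer_inf ⟨hvSy, hvw⟩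
  have hBY' : B ≤ Y' := le_inf hBSy hBw
  obtain ⟨g, hgSy, hgY', hgn⟩ := exists_mem_normalizer_notMem hSy.isPGroup (inf_le_left : Y' ≤ Sy)
    (fun h => hSymove (h ▸ inf_le_right))
  have hgw : g ∉ stabilizer G w := fun h => hgn ⟨hgSy, h⟩
  have hY'B : ⁅Y', zpowers v⁆ = B := hmax Y' hY'p inf_le_right hvY' hBY' fun h => hgw (h hgY')
  set K₁ := normalizer (Y' : Set G) with hK₁
  have hrK₁ : ∀ e ∈ K₁, orderOf e = 2 → e * v = v * e → e = v := fun e he he2 hev =>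
    hrK e (by
      have h := le_normalizer_commutator ⟨he, mem_normalizer_zpowers_of_commute hev⟩
      rwa [hY'B] at h) he2 hev
  obtain ⟨O₁, hO₁K, hO₁odd, hK₁O, hmod₁, -⟩ := exists_core_of_rank_one hv.1 hvY' hrK₁
  -- every invariant `p`-subgroup above `Y'` at `w` in its normaliser is `Y'`
  have hclaim : ∀ P₀ : Subgroup G, IsPGroup p P₀ → Y' ≤ P₀ → P₀ ≤ stabilizer G w → P₀ ≤ K₁ →
      v ∈ normalizer (P₀ : Set G) → P₀ = Y' := by
    intro P₀ hP₀p hY'P₀ hP₀w hP₀K hvP₀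
    obtain ⟨Q, hQ, hP₀Q, hvQ⟩ :=
      exists_inv_syl_ge_core hp2 hv.1 hO₁K hO₁odd hK₁O hmod₁ hvY' hP₀K hP₀p hvP₀
    obtain ⟨Q', hQ', hSyQ', hvQ'⟩ := exists_inv_syl_ge_core hp2 hv.1 hO₁K hO₁odd hK₁O hmod₁ hvY'
      (inf_le_right : Sy ⊓ K₁ ≤ K₁) (hSy.isPGroup.to_le inf_le_left)
      (inf_normalizer_le_normalizer_inf ⟨hvSy, le_normalizer hvY'⟩)
    have hQmove : ¬ Q ≤ stabilizer G w := by
      intro h
      obtain ⟨c, -, hcv, hcQ⟩ := inv_syl_conj hv.1 hO₁odd hK₁O hmod₁ hO₁K hQ hQ' hvQ hvQ'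
      refine hgw ?_
      have h2 : g ∈ Q.map (MulAut.conj c).toMonoidHom := hcQ.symm ▸ hSyQ' ⟨hgSy, hgY'⟩
      rw [mem_map_conj] at h2
      have hcw : c ∈ stabilizer G w := hS.smul_of_commute hv hcv
      have := mul_mem (mul_mem hcw (h h2)) (inv_mem hcw)
      rwa [show c * (c⁻¹ * g * c) * c⁻¹ = g by group] at this
    set Y'' := Q ⊓ stabilizer G w with hY''
    have hY''p : IsPGroup p Y'' := hQ.isPGroup.to_le inf_le_left
    have hP₀Y'' : P₀ ≤ Y'' := le_inf hP₀Q hP₀w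
    have hvY'' : v ∈ normalizer (Y'' : Set G) := inf_normalizer_le_normalizer_inf ⟨hvQ, hvw⟩
    obtain ⟨g', hg'Q, hg'Y, hg'n⟩ := exists_mem_normalizer_notMem hQ.isPGroup (inf_le_left : Y'' ≤ Q)
      (fun h => hQmove (h ▸ inf_le_right))
    have hY''B : ⁅Y'', zpowers v⁆ = B := hmax Y'' hY''p inf_le_right hvY''
      (hBY'.trans (hY'P₀.trans hP₀Y'')) fun h => hg'n ⟨hg'Q, h hg'Y⟩
    have hY''K : Y'' ≤ K := by
      have h := normalizer_commutator_ge_left Y'' (zpowers v)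
      rwa [hY''B] at h
    obtain ⟨Sy₂, hSy₂, hY''Sy₂, hvSy₂⟩ :=
      exists_inv_syl_ge_core hp2 hv.1 hOK hOodd hKO hmod hvB hY''K hY''p hvY''
    obtain ⟨c, -, hcv, hcSy⟩ := inv_syl_conj hv.1 hOodd hKO hmod hOK hSy₂ hSy hvSy₂ hvSy
    have hcw : c ∈ stabilizer G w := hS.smul_of_commute hv hcv
    have hle : Y''.map (MulAut.conj c).toMonoidHom ≤ Y' := by
      refine le_inf (hcSy ▸ map_mono hY''Sy₂) ?_
      rintro _ ⟨y, hy, rfl⟩
      exact mul_mem (mul_mem hcw hy.2) (inv_mem hcw)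
    have hcard := card_le_of_le hle
    rw [card_map_conj] at hcard
    exact (eq_of_le_of_card_ge hY'P₀ ((card_le_of_le hP₀Y'').trans hcard)).symm
  have hY'syl : IsSyl p Y' (stabilizer G w) := by
    obtain ⟨P, hP, hY'P⟩ := exists_isSyl_ge hY'p (inf_le_right : Y' ≤ stabilizer G w)
    suffices Y' = P by rw [this]; exact hP
    refine grow_eq hP.isPGroup hY'P fun x hx hxn => ?_
    set U := K₁ ⊓ stabilizer G w with hU
    obtain ⟨Q, hQ, hY'Q, hvQ⟩ := exists_inv_syl_ge_core (K := U) (O := O₁ ⊓ stabilizer G w) hp2 hv.1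
      (inf_le_inf_right _ hO₁K) (odd_of_le inf_le_left hO₁odd)
      (fun k hk => inf_normalizer_le_normalizer_inf ⟨hK₁O hk.1, le_normalizer hk.2⟩)
      (fun k hk => ⟨hmod₁ k hk.1,
        (stabilizer G w).mul_mem (mul_mem (mul_mem (show v ∈ stabilizer G w from hv.2) hk.2)
          (inv_mem (show v ∈ stabilizer G w from hv.2))) (inv_mem hk.2)⟩)
      ⟨hvY', hv.2⟩ (le_inf le_normalizer inf_le_right) hY'p hvY'
    have hQY := hclaim Q hQ.isPGroup hY'Q (hQ.le.trans inf_le_right) (hQ.le.trans inf_le_left) hvQ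
    rw [hQY] at hQ
    have h := hQ.eq_of_le (hP.isPGroup.to_le (sup_le hY'P (zpowers_le.2 hx))) le_sup_left
      (sup_le (le_inf le_normalizer inf_le_right) (zpowers_le.2 ⟨hxn, hP.le hx⟩))
    rw [h]
    exact mem_sup_right (mem_zpowers x)
  -- a point of the layer fixed by `Y'`
  have hΘK : Θ ≤ K := hΘC.trans hCK
  have hSyΘ : IsSyl p (Sy ⊓ Θ) Θ := hSy.inf_of_le_normalizer hΘK hNB
  have hPmove : ¬ Sy ⊓ Θ ≤ stabilizer G w := by
    intro h
    refine hΘw fun θ hθ => ?_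
    obtain ⟨e, r, hpr, hθo⟩ :=
      Nat.exists_eq_pow_mul_and_not_dvd (orderOf_pos θ).ne' p (Fact.out : p.Prime).ne_one
    have hp1 : IsPGroup p (zpowers (θ ^ r)) := by
      obtain ⟨i, -, hi⟩ := (Nat.dvd_prime_pow (Fact.out : p.Prime)).1
        (orderOf_dvd_of_pow_eq_one (x := θ ^ r) (n := p ^ e)
          (by rw [← pow_mul, mul_comm, ← hθo, pow_orderOf_eq_one]))
      exact IsPGroup.of_card (n := i) (by rw [Nat.card_zpowers, hi])
    obtain ⟨P₁, hP₁, hle⟩ := exists_isSyl_ge hp1 (zpowers_le.2 (pow_mem hθ r))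
    obtain ⟨d, hd, hdP⟩ := hP₁.exists_conj hSyΘ
    have h1 : (d * θ ^ r * d⁻¹) • w = w := h (hdP ▸ conj_mem_map_conj (hle (mem_zpowers _)))
    rw [hL.comm (mul_mem hd (pow_mem hθ r)) (inv_mem hd), inv_mul_cancel_left] at h1
    obtain ⟨a, ha⟩ : ∃ a : ℕ, θ ^ p ^ a ∈ stabilizer G w := by
      obtain ⟨y, hy, rfl⟩ := hΘL hθ
      obtain ⟨a, ha⟩ := CfsgLib.Core.isPGroup_pCore p (C ⧸ Cfsg.pPrimeCore p C)
        ⟨QuotientGroup.mk' _ y, hy⟩
      refine ⟨a, hR ⟨y ^ p ^ a, ?_, rfl⟩⟩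
      rw [SetLike.mem_coe, ← QuotientGroup.eq_one_iff]
      exact congrArg Subtype.val ha
    have hcop : Nat.gcd r (p ^ a) = 1 :=
      ((((Fact.out : p.Prime).coprime_iff_not_dvd).2 hpr).symm.pow_right a)
    show θ • w = w
    have h3 : θ ^ ((r : ℤ) * Nat.gcdA r (p ^ a) + ((p ^ a : ℕ) : ℤ) * Nat.gcdB r (p ^ a)) ∈
        stabilizer G w := by
      rw [zpow_add, zpow_mul, zpow_mul, zpow_natCast, zpow_natCast]
      exact mul_mem (zpow_mem h1 _) (zpow_mem ha _)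
    rwa [← Nat.gcd_eq_gcd_ab, hcop, Nat.cast_one, zpow_one] at h3
  set P₁ := Y' ⊔ (Sy ⊓ Θ) with hP₁
  have hY'K : Y' ≤ K := inf_le_left.trans hSy.le
  have hY'n : Y' ≤ normalizer ((Sy ⊓ Θ : Subgroup G) : Set G) := fun y hy =>
    inf_normalizer_le_normalizer_inf ⟨le_normalizer hy.1, hNB (hY'K hy)⟩
  obtain ⟨g₁, hg₁P, hg₁n, hg₁Y⟩ := exists_mem_normalizer_notMem
    (hSy.isPGroup.to_le (sup_le inf_le_left inf_le_left : P₁ ≤ Sy)) (le_sup_left : Y' ≤ P₁)
    (fun h => hPmove ((le_sup_right : Sy ⊓ Θ ≤ P₁).trans (h ▸ inf_le_right)))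
  obtain ⟨y, hy, θ₀, hθ₀, rfl⟩ := (CfsgLib.Core.mem_sup_iff_mul hY'n).1 hg₁P
  have hθ₀n : θ₀ ∈ K₁ := by
    have := mul_mem (inv_mem (le_normalizer hy : y ∈ K₁)) hg₁n
    rwa [inv_mul_cancel_left] at this
  have hθ₀w : θ₀ • w ≠ w := fun h => hg₁Y (mul_mem hy ⟨hθ₀.1, h⟩)
  refine hL.false_of_template hS hT Fact.out hp2
    {x | x ≠ w ∧ Y' ≤ stabilizer G x ∧ ∃ θ ∈ Θ, θ • w = x}
    ⟨θ₀ • w, hθ₀w, fun y' hy' => ?_, θ₀, hθ₀.2, rfl⟩ (fun h => h.1 rfl) (fun x hx => hx.2.2) ?_ ?_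
  · show y' • θ₀ • w = θ₀ • w
    have hw : (θ₀⁻¹ * y' * θ₀) • w = w := ((mem_normalizer_iff''.1 hθ₀n y').1 hy').2
    rw [mul_smul, mul_smul, inv_smul_eq_iff] at hw
    exact hw
  · intro θ hθ hx
    refine ⟨fun h => hx.1 ?_, fun y' hy' => ?_, _, pow_mem hθ _, rfl⟩
    · obtain ⟨n, hn⟩ := hL.odd
      have h2 : θ ^ ((Nat.card Θ + 1) / 2) * θ ^ ((Nat.card Θ + 1) / 2) = θ := by
        rw [← pow_add, show (Nat.card Θ + 1) / 2 + (Nat.card Θ + 1) / 2 = Nat.card Θ + 1 by omega,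
          pow_succ, orderOf_dvd_iff_pow_eq_one.1 (Θ.orderOf_dvd_natCard hθ), one_mul]
      rw [← h2, mul_smul, h, h]
    · have hy'w : y'⁻¹ • w = w := inv_smul_eq_iff.2 (show y' • w = w from hy'.2).symm
      have hφ : y' * θ * y'⁻¹ ∈ Θ := (mem_normalizer_iff.1 (hNB (hY'K hy')) θ).1 hθ
      have h1 : (y' * θ * y'⁻¹) • w = θ • w := by
        rw [mul_smul, mul_smul, hy'w]; exact hx.2.1 hy'
      show y' • θ ^ _ • w = θ ^ _ • w
      have h2 := hL.pow_congr hφ hθ h1 ((Nat.card Θ + 1) / 2)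
      rw [conj_pow, mul_smul, mul_smul, hy'w] at h2
      exact h2
  intro θ hθ hx
  have hxw : θ • w ≠ w := hx.1
  set D := pairStab G (θ • w) (v • θ • w) with hD
  have hne' : θ • w ≠ v • θ • w := (hS.ne_of_inv hv hxw).symm
  have hY'D : Y' ≤ D := fun y' hy' => ⟨hx.2.1 hy', by
    show y' • v • θ • w = v • θ • w
    rw [hL.inv_smul_eq hS hθ]
    exact hL.fix_inv hS (hNB (hY'K hy')) hy'.2 hθ (hx.2.1 hy')⟩
  obtain ⟨T, hTD, hY'T, hvT⟩ :=
    exists_inv_syl_ge hv.1 (hS.odd_pairStab hne') (hS.swapper_normalizer hv.1 rfl) hY'D hY'p hvY'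
  obtain ⟨γ, hγ⟩ := hS.trans (θ • w) w
  have hTY : T = Y' := by
    have hle : T.map (MulAut.conj γ).toMonoidHom ≤ stabilizer G w := by
      rw [← hγ, stabilizer_smul_eq]
      exact map_mono (hTD.le.trans inf_le_left)
    have h := vp_card_mono (p := p) hle
    rw [card_map_conj] at h
    refine (eq_of_le_of_card_ge hY'T ?_).symm
    rw [card_eq_pow hTD.isPGroup, hY'syl.2]
    exact Nat.pow_le_pow_right (Fact.out : p.Prime).pos h
  refine ⟨T, hTD, fun h => hBne (le_bot_iff.1 (h ▸ hBY'.trans hY'T)), hvT, hTY ▸ inf_le_right, ?_⟩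
  exact hS.opp_le_stab hv hxw hB hBw hvB hBB (hBY'.trans hY'D) fun x hx hxC =>
    hL.pair_fix hS (hNB (hCK hxC)) hθ hx

end CaseA

end CfsgLib.Bender
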