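import Cfsg.Agent.Lib.Bender.Gen.NoMoveZJ
import Cfsg.Agent.Lib.Bender.Gen.NoMoveA

/-!
Owner: helper27. `UM`, second case: the centraliser of `B = [B, v]` fixes the centre (slice B of
`notes/bender_gen_slices.md`); the part where the normaliser of `Y` has a four group.

* `Setting0.vp_card_stab`, `Setting0.odd_opp`, `Setting0.bot_of_conj`
* `Setting0.caseB_rank_two`
-/

set_option autoImplicit false
set_option linter.style.haveILetI false
set_option linter.unusedSectionVars false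

namespace CfsgLib.Bender

open Subgroup MulAction
open CfsgLib.Signalizer (involution_sq involution_inv orderOf_eq_two_of involution_ne_one)
open scoped commutatorElement

variable {G Ω : Type*} [Group G] [Finite G] [MulAction G Ω] [Finite Ω] (hS : Setting0 G Ω)
  {p : ℕ} [Fact p.Prime] (hp2 : p ≠ 2)
include hS

/-- A normal subgroup fixing a point is trivial. -/
theorem Setting0.bot_of_normalizer_eq_top (hF : Faithful G Ω) {X : Subgroup G} {x : Ω}
    (hn : normalizer (X : Set G) = ⊤) (hXx : X ≤ stabilizer G x) : X = ⊥ := by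
  refine (eq_bot_iff_forall _).2 fun g hg => hF g fun z => ?_
  obtain ⟨h, rfl⟩ := hS.trans x z
  have := hXx ((mem_normalizer_iff''.1 (hn ▸ mem_top h) g).1 hg)
  rwa [mem_stabilizer_iff, mul_smul, mul_smul, inv_smul_eq_iff] at this

/-- A subgroup normalised by a stabiliser of a pair, by `v` and by a carrier of the swapped pair is
trivial. -/
theorem Setting0.bot_of_conj (hF : Faithful G Ω) (hN2 : NoTwo G Ω) {v k : G} {w x : Ω} (hv : InvAt v w)
    (hxw : x ≠ w) (hkw : k • v • x = w) {X : Subgroup G} (hXx : X ≤ stabilizer G x)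
    (hD : pairStab G x w ≤ normalizer (X : Set G)) (hvn : v ∈ normalizer (X : Set G))
    (hkn : k ∈ normalizer (X : Set G)) : X = ⊥ := by
  by_contra hne
  have h := hN2 (normalizer (X : Set G)) w (fun htop => hne (hS.bot_of_normalizer_eq_top hF htop hXx))
    (fun t ht => by
      obtain ⟨d, hd, rfl⟩ := hS.conj_fixing hxw.symm hv ht
      have hdn : d ∈ normalizer (X : Set G) := hD ⟨hd.2, hd.1⟩
      exact mul_mem (mul_mem hdn hvn) (inv_mem hdn))
    (k * v * k⁻¹) (mul_mem (mul_mem hkn hvn) (inv_mem hkn))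
    (by rw [CfsgLib.Signalizer.orderOf_conj]; exact hv.1)
  have hkw' : w = k • w := hS.fix_unique
    (t := k * v * k⁻¹) ⟨by rw [CfsgLib.Signalizer.orderOf_conj]; exact hv.1, h⟩ (hv.conj k)
  refine hxw ?_
  have h1 : v • x = w := smul_left_cancel k (hkw.trans hkw')
  rw [← hS.swap_back hv.1 h1, hv.2]

include hp2 in
/-- The stabiliser of a point in a subgroup with two centres and that of a pair have the same `p`-part. -/
theorem Setting0.vp_card_stab {N : Subgroup G} {x : Ω} {v : G} {w : Ω} (hLC : LocalConcl G N x)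
    (hvN : v ∈ N) (hv : InvAt v w) (hxw : x ≠ w) :
    vp p (Nat.card (N ⊓ stabilizer G x : Subgroup G)) =
      vp p (Nat.card (N ⊓ pairStab G x (v • x) : Subgroup G)) := by
  classical
  set U := N ⊓ stabilizer G x with hU
  have hvx : v • x ≠ x := hS.ne_of_inv hv hxw
  have hmem : v • x ∈ orb N x := ⟨v, hvN, rfl⟩
  obtain ⟨k, -, hk⟩ := hLC.card
  have horb : (orbit U (v • x)).ncard = 2 ^ k := by
    have e : orbit U (v • x) = {c | c ≠ x ∧ c ∈ orb N x} := by
      ext c
      constructor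
      · rintro ⟨⟨g, hg⟩, rfl⟩
        refine ⟨fun h => hvx (smul_left_cancel g (h.trans (show g • x = x from hg.2).symm)), ?_⟩
        exact ⟨g * v, mul_mem hg.1 hvN, mul_smul g v x⟩
      · rintro ⟨hc, hco⟩
        obtain ⟨g, hgN, hgx, hgc⟩ := hLC.two (v • x) c hmem hco hvx hc
        exact ⟨⟨g, hgN, hgx⟩, hgc⟩
    rw [← hk, e, ← Nat.card_coe_set_eq]
    rfl
  have hst : Nat.card (stabilizer U (v • x)) = Nat.card (N ⊓ pairStab G x (v • x) : Subgroup G) := by
    have e : stabilizer U (v • x) = (stabilizer G (v • x)).subgroupOf U := Subgroup.ext fun g => Iff.rfl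
    rw [e, Nat.card_congr (((stabilizer G (v • x)).subgroupOf U).equivMapOfInjective _
      U.subtype_injective).toEquiv, subgroupOf_map_subtype]
    congr 2
    rw [hU, inf_comm (stabilizer G (v • x)), inf_assoc]
  have h := (stabilizer U (v • x)).card_mul_index
  rw [index_stabilizer, horb, hst] at h
  rw [← h, vp, Nat.factorization_mul Nat.card_pos.ne' (pow_ne_zero _ two_ne_zero), Finsupp.add_apply,
    Nat.factorization_eq_zero_of_not_dvd (fun hd => hp2 ((Nat.prime_dvd_prime_iff_eq Fact.out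
      Nat.prime_two).1 ((Fact.out : p.Prime).dvd_of_dvd_pow hd))), add_zero]

/-- `O_{p'}` of a group at `x` is odd when `B` is centralised by no involution at `x`. -/
theorem Setting0.odd_opp {H Kr B : Subgroup G} {x w : Ω} (hxw : x ≠ w) (hHx : H ≤ stabilizer G x)
    (hBH : B ≤ H) (hBK : B ≤ Kr) (hHK : H ≤ normalizer (Kr : Set G)) (hKodd : Odd (Nat.card Kr))
    (hB : IsPGroup p B) (hC : centralizer (B : Set G) ≤ stabilizer G w) :
    Odd (Nat.card (opp p H)) := by
  rw [← Nat.not_even_iff_odd]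
  intro he
  obtain ⟨⟨t, htO⟩, ht⟩ := exists_prime_orderOf_dvd_card' 2 (hp := ⟨Nat.prime_two⟩) he.two_dvd
  rw [Subgroup.orderOf_mk] at ht
  set A := opp p H with hA
  have hHA : H ≤ normalizer (A : Set G) := le_normalizer.trans (le_normalizer_opp p H)
  set R := A ⊓ Kr with hR
  have hRodd : Odd (Nat.card R) := odd_of_le inf_le_right hKodd
  have hAR : A ≤ normalizer (R : Set G) := fun g hg =>
    inf_normalizer_le_normalizer_inf ⟨le_normalizer hg, hHK (opp_le p H hg)⟩
  have hBR : B ≤ normalizer (R : Set G) := fun g hg =>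
    inf_normalizer_le_normalizer_inf ⟨hHA (hBH hg), le_normalizer (hBK hg)⟩
  have hcop : (Nat.card R).Coprime p := (card_opp p H).coprime_dvd_left (card_dvd_of_le inf_le_left)
  set W := B ⊔ R with hW
  have hBW : IsSyl p B W := by
    refine ⟨le_sup_left, ?_⟩
    rw [hW, CfsgLib.Core.card_sup_of_coprime B R hBR (coprime_card_of_pGroup hB hcop), vp,
      Nat.factorization_mul Nat.card_pos.ne' Nat.card_pos.ne', Finsupp.add_apply,
      Nat.factorization_eq_zero_of_not_dvd
        ((Fact.out : p.Prime).coprime_iff_not_dvd.1 hcop.symm), add_zero]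
    exact card_eq_pow hB
  have hle : B.map (MulAut.conj t).toMonoidHom ≤ W := by
    rintro _ ⟨b, hb, rfl⟩
    show t * b * t⁻¹ ∈ W
    have h1 : t * (b * t⁻¹ * b⁻¹) ∈ A :=
      mul_mem htO ((mem_normalizer_iff.1 (hHA (hBH hb)) _).1 (inv_mem htO))
    have h2 : t * b * t⁻¹ * b⁻¹ ∈ Kr :=
      mul_mem ((mem_normalizer_iff.1 (hHK (opp_le p H htO)) b).1 (hBK hb)) (inv_mem (hBK hb))
    have h3 : t * b * t⁻¹ * b⁻¹ ∈ R := ⟨by simpa [mul_assoc] using h1, h2⟩
    have := mul_mem (mem_sup_right h3 : _ ∈ B ⊔ R) (mem_sup_left hb : b ∈ B ⊔ R)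
    rwa [inv_mul_cancel_right] at this
  obtain ⟨r, hr, hrB⟩ := IsSyl.exists_conj (⟨hle, by rw [card_map_conj]; exact hBW.2⟩ :
    IsSyl p (B.map (MulAut.conj t).toMonoidHom) W) hBW
  obtain ⟨b, hb, r', hr', rfl⟩ := (CfsgLib.Core.mem_sup_iff_mul hBR).1 hr
  set u := r' * t with hu
  have huB : u ∈ normalizer (B : Set G) := by
    have h : b * u ∈ normalizer (B : Set G) := by
      refine mem_normalizer_of_map_conj_eq ?_
      conv_rhs => rw [← hrB, Subgroup.map_map B]
      exact congrArg (fun f => B.map f) (MonoidHom.ext fun r => by simp [hu, mul_assoc])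
    have := mul_mem (inv_mem (le_normalizer hb : b ∈ normalizer (B : Set G))) h
    rwa [inv_mul_cancel_left] at this
  have huA : u ∈ A := mul_mem hr'.1 htO
  have hev : Even (orderOf u) := by
    rw [← Nat.not_odd_iff_even]
    rintro ⟨n, hn⟩
    refine not_mem_of_odd hRodd ht ?_
    have h2 : u * u ∈ R := by
      have h := mul_mem hr' ((mem_normalizer_iff.1 (hAR htO) r').1 hr')
      rw [involution_inv ht] at h
      simpa [hu, mul_assoc] using h
    have h3 : u ∈ R := by
      have h := R.pow_mem h2 (n + 1)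
      rwa [← pow_two, ← pow_mul, show 2 * (n + 1) = 2 * n + 1 + 1 by ring, pow_succ, ← hn,
        pow_orderOf_eq_one, one_mul] at h
    have := mul_mem (inv_mem hr') h3
    rwa [hu, inv_mul_cancel_left] at this
  set t' := u ^ (orderOf u / 2) with ht'
  have ht'2 : orderOf t' = 2 := orderOf_pow_orderOf_div (orderOf_pos u).ne' hev.two_dvd
  have ht'A : t' ∈ A := pow_mem huA _
  have ht'C : t' ∈ centralizer (B : Set G) := by
    refine mem_centralizer_iff.2 fun b hb => ?_
    have h1 : t' * b * t'⁻¹ * b⁻¹ ∈ B :=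
      mul_mem ((mem_normalizer_iff.1 (pow_mem huB _) b).1 hb) (inv_mem hb)
    have h2 : t' * (b * t'⁻¹ * b⁻¹) ∈ A :=
      mul_mem ht'A ((mem_normalizer_iff.1 (hHA (hBH hb)) _).1 (inv_mem ht'A))
    have h3 := mem_bot.1 ((Subgroup.inf_eq_bot_of_coprime (coprime_card_of_pGroup hB (card_opp p H))).le
      (⟨h1, by simpa [mul_assoc] using h2⟩ : t' * b * t'⁻¹ * b⁻¹ ∈ B ⊓ A))
    rw [mul_inv_eq_one, mul_inv_eq_iff_eq_mul] at h3
    exact h3.symm
  exact hxw (hS.fix_unique ⟨ht'2, hHx (opp_le p H ht'A)⟩ ⟨ht'2, hC ht'C⟩)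

variable (hF : Faithful G Ω) (hloc : LocalOK G Ω) (hN2 : NoTwo G Ω) {B Y : Subgroup G} {w : Ω} {v : G}
  (hv : InvAt v w) (hY : IsPGroup p Y) (hYw : Y ≤ stabilizer G w)
  (hvY : v ∈ normalizer (Y : Set G)) (hvB : v ∈ normalizer (B : Set G)) (hBY : B ≤ Y)
  (hBB : ⁅B, zpowers v⁆ = B) (hBne : B ≠ ⊥) (hmove : ¬ normalizer (Y : Set G) ≤ stabilizer G w)
  (hC : centralizer (B : Set G) ≤ stabilizer G w)

/-- A proper subgroup through `v` with a four group at another point and a Sylow subgroup of the pair. -/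
private def Good (p : ℕ) (v : G) (w : Ω) (B : Subgroup G) (a : Subgroup G × Ω × Subgroup G) : Prop :=
  a.1 ≠ ⊤ ∧ v ∈ a.1 ∧ a.2.1 ≠ w ∧
    (∃ e f : G, e ∈ a.1 ∧ f ∈ a.1 ∧ InvAt e a.2.1 ∧ InvAt f a.2.1 ∧ e ≠ f ∧ e * f = f * e) ∧
    B ≤ a.2.2 ∧ IsSyl p a.2.2 (a.1 ⊓ pairStab G a.2.1 (v • a.2.1)) ∧
    v ∈ normalizer (a.2.2 : Set G)

include hp2 hF hloc hN2 hv hY hYw hvY hvB hBY hBB hBne hmove hC in
/-- `N(Y)` has no four group through `v`. -/
theorem Setting0.caseB_rank_two
    (hr : ∃ e ∈ normalizer (Y : Set G), orderOf e = 2 ∧ e * v = v * e ∧ e ≠ v) : False := by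
  classical
  have hB : IsPGroup p B := hY.to_le hBY
  have hBw : B ≤ stabilizer G w := hBY.trans hYw
  haveI : Fact (Nat.Prime 2) := ⟨Nat.prime_two⟩
  -- the family is not empty
  have hne : ∃ a, Good p v w B a := by
    obtain ⟨e, heY, he2, hev, hev'⟩ := hr
    obtain ⟨g, hg, hgw⟩ := SetLike.not_le_iff_exists.1 hmove
    set N := normalizer (Y : Set G) with hN
    set x := g • w with hx
    have hYx : Y ≤ stabilizer G x := fun y hy => by
      have h : (g⁻¹ * y * g) • w = w := hYw ((mem_normalizer_iff''.1 hg y).1 hy)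
      rw [mul_smul, mul_smul, inv_smul_eq_iff] at h
      exact h
    have hBD : B ≤ N ⊓ pairStab G x (v • x) := fun b hb => ⟨le_normalizer (hBY hb), hYx (hBY hb), by
      show b • v • x = v • x
      have h : (v⁻¹ * b * v) • x = x := hYx ((mem_normalizer_iff''.1 hvY b).1 (hBY hb))
      rwa [mul_smul, mul_smul, inv_smul_eq_iff] at h⟩
    have hxw : x ≠ w := fun h => hgw h
    obtain ⟨T, hTD, hBT, hvT⟩ := exists_inv_syl_ge hv.1
      (odd_of_le inf_le_right (hS.odd_pairStab (hS.ne_of_inv hv hxw).symm))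
      (inf_normalizer_le_normalizer_inf ⟨le_normalizer hvY, hS.swapper_normalizer hv.1 rfl⟩) hBD hB hvB
    refine ⟨(N, x, T), fun htop => hBne (le_bot_iff.1 ?_), hvY, hxw,
      ⟨g * v * g⁻¹, g * e * g⁻¹, mul_mem (mul_mem hg hvY) (inv_mem hg),
        mul_mem (mul_mem hg heY) (inv_mem hg), hv.conj g,
        InvAt.conj (show InvAt e w from ⟨he2, hS.smul_of_commute hv hev⟩) g, fun h => hev' (by simpa using h.symm),
        by simp only [conj_mul, hev]⟩, hBT, hTD, hvT⟩
    exact (hS.bot_of_normalizer_eq_top hF htop hYw) ▸ hBY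
  haveI : Fintype (Subgroup G × Ω × Subgroup G) := Fintype.ofFinite _
  obtain ⟨⟨N, x, T⟩, hgood, hmax⟩ := Finset.exists_max_image (Finset.univ.filter (Good p v w B))
    (fun a => Nat.card a.2.2) (let ⟨a, ha⟩ := hne; ⟨a, by simp [ha]⟩)
  obtain ⟨hNtop, hvN, hxw, ⟨e, f, heN, hfN, he, hf, hef, hefc⟩, hBT, hTsyl, hvT⟩ :
      Good p v w B (N, x, T) := (Finset.mem_filter.1 hgood).2
  replace hNtop : N ≠ ⊤ := hNtop
  replace hvN : v ∈ N := hvN
  replace hxw : x ≠ w := hxw
  replace heN : e ∈ N := heN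
  replace hfN : f ∈ N := hfN
  replace he : InvAt e x := he
  replace hf : InvAt f x := hf
  replace hBT : B ≤ T := hBT
  replace hTsyl : IsSyl p T (N ⊓ pairStab G x (v • x)) := hTsyl
  replace hvT : v ∈ normalizer (T : Set G) := hvT
  have hvx : v • x ≠ x := hS.ne_of_inv hv hxw
  set D := pairStab G x (v • x) with hD
  have hDodd : Odd (Nat.card D) := hS.odd_pairStab hvx.symm
  have hTD : T ≤ D := hTsyl.le.trans inf_le_right
  have hBN : B ≤ N := hBT.trans (hTsyl.le.trans inf_le_left)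
  have hBD : B ≤ D := hBT.trans hTD
  -- both centres
  have hLx : LocalConcl G N x :=
    hloc N x ⟨hNtop, ⟨e, f, heN, hfN, he, hf, hef, hefc⟩, v, hvN, hv.1, hvx⟩
  obtain ⟨d, hd, hde⟩ := hS.exists_conj_of_ne_centre he hv hxw
  have hdN : d ∈ N := by
    refine ((closure_le (K := N)).2 ?_) hd
    intro z hz
    rcases hz with rfl | rfl
    · exact heN
    · exact hvN
  have hdx : d • x = w := hS.fix_unique (hde ▸ he.conj d) hv
  have hLw : LocalConcl G N w := by
    refine hloc N w ⟨hNtop, ⟨v, d * f * d⁻¹, hvN, mul_mem (mul_mem hdN hfN) (inv_mem hdN), hv,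
      hdx ▸ hf.conj d, fun h => hef ?_, ?_⟩, e, heN, he.1, hS.ne_of_inv he hxw.symm⟩
    · exact mul_left_cancel (mul_right_cancel (hde.trans h))
    · rw [← hde]; simp only [conj_mul, hefc]
  have hxorb : x ∈ orb N w := ⟨d⁻¹, inv_mem hdN, inv_smul_eq_iff.2 hdx.symm⟩
  have hBcore : B ≤ coreIn N w := by
    refine hBB.symm.le.trans ((commutator_le).2 fun b hb z hz => ?_)
    rcases zpowers_cases hv.1 hz with rfl | rfl
    · simp
    have hs : InvAt (b * z * b⁻¹) w := hv.conj' (hBw hb)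
    have hc := hLw.comm (b * z * b⁻¹) z (mul_mem (mul_mem (hBN hb) hvN) (inv_mem (hBN hb))) hvN hs hv
    have e1 : b * z * b⁻¹ * z = ⁅b, z⁆ := by rw [commutatorElement_def, involution_inv hv.1]
    rw [mul_assoc (b * z * b⁻¹ * z), e1, ← pow_two] at hc
    have hmem : ⁅b, z⁆ ∈ B := hBB.le (commutator_mem_commutator hb (mem_zpowers z))
    have hcop : (2 : ℕ).Coprime (orderOf ⁅b, z⁆) := Nat.coprime_two_left.2
      ((odd_card_of_pGroup hp2 hB).of_dvd_nat (B.orderOf_dvd_natCard hmem))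
    obtain ⟨m, hm⟩ := exists_pow_eq_self_of_coprime hcop
    exact hm ▸ pow_mem hc m
  have hBfix : ∀ b ∈ B, ∀ z ∈ orb N w, b • z = z := fun b hb z hz =>
    hLw.kernel b (hBcore hb) x hxorb hxw (hBD hb).1 z hz
  -- the group generated by the involutions at `x` and `T`
  set Kr := N ⊓ fixingSubgroup G (orb N w) with hKr
  have hNKr : N ≤ normalizer (Kr : Set G) := by
    intro g hg
    refine mem_normalizer_of_conj_le fun a ha => ⟨N.mul_mem (N.mul_mem hg ha.1) (N.inv_mem hg), ?_⟩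
    refine (mem_fixingSubgroup_iff G).2 fun z ⟨h, hh, hz⟩ => ?_
    have hmem : g⁻¹ • z ∈ orb N w := ⟨g⁻¹ * h, mul_mem (inv_mem hg) hh, by rw [mul_smul, hz]⟩
    rw [mul_smul, mul_smul, (mem_fixingSubgroup_iff G).1 ha.2 _ hmem, smul_inv_smul]
  have hBKr : B ≤ Kr := fun b hb => ⟨hBN hb, (mem_fixingSubgroup_iff G).2 (hBfix b hb)⟩
  have hKrodd : Odd (Nat.card Kr) := by
    refine odd_of_le (B := pairStab G x w) (fun a ha => ⟨(mem_fixingSubgroup_iff G).1 ha.2 x hxorb,
      (mem_fixingSubgroup_iff G).1 ha.2 w ⟨1, one_mem _, one_smul G w⟩⟩) (hS.odd_pairStab hxw)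
  set U := N ⊓ stabilizer G x with hU
  set K := coreIn N x with hK
  set S : Set G := {t | t ∈ N ∧ InvAt t x} with hSdef
  set H₀ := closure S ⊔ K with hH₀
  set H := H₀ ⊔ T with hH
  have hTU : T ≤ U := le_inf (hTsyl.le.trans inf_le_left) (hTD.trans inf_le_left)
  have hUK : U ≤ normalizer (K : Set G) := by
    haveI : (Cfsg.oddCore ↥U).Normal := inferInstance
    intro g hg
    refine mem_normalizer_of_conj_le ?_
    rintro _ ⟨o, ho, rfl⟩
    exact ⟨⟨g, hg⟩ * o * ⟨g, hg⟩⁻¹, (inferInstance : (Cfsg.oddCore ↥U).Normal).conj_mem o ho _, rfl⟩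
  have hKodd : Odd (Nat.card K) := by
    rw [hK, coreIn, ← Nat.card_congr ((Cfsg.oddCore _).equivMapOfInjective _ U.subtype_injective).toEquiv]
    exact CfsgLib.ZStar.odd_card_oddCore _
  have hSU : S ⊆ U := fun t ht => ⟨ht.1, ht.2.2⟩
  have hH₀U : H₀ ≤ U := sup_le ((closure_le U).2 hSU) (map_subtype_le _)
  have hHU : H ≤ U := sup_le hH₀U hTU
  have hH₀comm : ⁅H₀, H₀⁆ ≤ K := by
    refine commutator_closure_sup_le (fun t ht => hUK (hSU ht)) fun s hs t ht => ?_
    rw [commutatorElement_def, involution_inv hs.2.1, involution_inv ht.2.1]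
    exact hLx.comm s t hs.1 ht.1 hs.2 ht.2
  have hTH₀ : T ≤ normalizer (H₀ : Set G) := by
    intro g hg
    refine mem_normalizer_of_conj_le fun z hz => ?_
    have h : H₀.map (MulAut.conj g).toMonoidHom ≤ H₀ := by
      rw [hH₀, Subgroup.map_sup, MonoidHom.map_closure, map_conj_eq_of_mem_normalizer (hUK (hTU hg))]
      refine sup_le (le_sup_of_le_left (closure_mono ?_)) le_sup_right
      rintro _ ⟨t, ht, rfl⟩
      exact ⟨mul_mem (mul_mem (hTU hg).1 ht.1) (inv_mem (hTU hg).1), ht.2.conj' (hTU hg).2⟩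
    exact h (conj_mem_map_conj hz)
  haveI hHsol : Group.IsSolvable H := by
    exact CfsgLib.Components.isSolvable_sup hTH₀
      (isSolvable_of_commutator_le (Cfsg.Agent.S0205.result hKodd) hH₀comm)
      (Cfsg.Agent.S0205.result (odd_card_of_pGroup hp2 hTsyl.isPGroup))
  have hTH : IsSyl p T H := by
    refine ⟨le_sup_right, ?_⟩
    have h1 := vp_card_mono (p := p) hHU
    have h2 : vp p (Nat.card U) = vp p (Nat.card T) := by
      rw [hS.vp_card_stab hp2 hLx hvN hv hxw, hTsyl.vp_eq]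
    have h3 := vp_card_mono (p := p) (le_sup_right : T ≤ H)
    rw [card_eq_pow hTsyl.isPGroup]
    congr 1
    rw [← h2]
    exact le_antisymm (h2.le.trans h3) h1
  have htwo : ∀ R : Subgroup G, R ≤ H → IsPGroup 2 R → ∀ a ∈ R, ∀ b ∈ R, a * b = b * a := by
    intro R hRH hR
    have hR₀ : R ≤ H₀ := fun a ha => by
      refine mem_left_of_coprime hTH₀ (hRH ha) ?_
      obtain ⟨i, hi⟩ := hR ⟨a, ha⟩
      refine Nat.Coprime.coprime_dvd_left (orderOf_dvd_of_pow_eq_one (congrArg Subtype.val hi :)) ?_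
      rw [card_eq_pow hTsyl.isPGroup]
      exact Nat.Coprime.pow _ _ (Nat.coprime_two_left.2 ((Fact.out : p.Prime).odd_of_ne_two hp2))
    intro a ha b hb
    rw [← commutatorElement_eq_one_iff_mul_comm, ← orderOf_eq_one_iff]
    have hRR : ⁅a, b⁆ ∈ R :=
      mul_mem (mul_mem (mul_mem ha hb) (inv_mem ha)) (inv_mem hb)
    have hKK : ⁅a, b⁆ ∈ K := hH₀comm (commutator_mem_commutator (hR₀ ha) (hR₀ hb))
    obtain ⟨i, hi⟩ := IsPGroup.iff_card.1 hR
    exact Nat.eq_one_of_dvd_coprimes ((Nat.coprime_two_left.2 hKodd).pow_left i)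
      (hi ▸ R.orderOf_dvd_natCard hRR) (K.orderOf_dvd_natCard hKK)
  have hopp : Odd (Nat.card (opp p H)) := hS.odd_opp hxw (hHU.trans inf_le_right)
    (hBT.trans le_sup_right) hBKr (hHU.trans (inf_le_left.trans hNKr)) hKrodd hB hC
  set Q := Cfsg.centerThompsonAOf T with hQ
  have hQT : Q ≤ T := CfsgLib.PLocal.centerThompsonA_le T
  have hQp : IsPGroup p Q := hTsyl.isPGroup.to_le hQT
  have hTQ : normalizer (T : Set G) ≤ normalizer (Q : Set G) :=
    CfsgLib.PLocal.normalizer_le_normalizer_centerThompsonA T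
  have hfac := zj_le hp2 hTH hHsol htwo
  -- the four group moves into `N(Q)`
  have hfour : ∃ e' f' : G, e' ∈ normalizer (Q : Set G) ∧ f' ∈ normalizer (Q : Set G) ∧ InvAt e' x ∧
      InvAt f' x ∧ e' ≠ f' ∧ e' * f' = f' * e' := by
    set HQ := H ⊓ normalizer (Q : Set G) with hHQ
    obtain ⟨P, hP⟩ := exists_isSyl 2 HQ
    have hPH : IsSyl 2 P H := by
      refine ⟨hP.le.trans inf_le_left, ?_⟩
      rw [hP.2]
      congr 1
      refine le_antisymm (vp_card_mono inf_le_left) ?_
      have hn : HQ ≤ normalizer (opp p H : Set G) :=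
        inf_le_left.trans (le_normalizer.trans (le_normalizer_opp p H))
      have hd := (card_dvd_of_le (hfac.trans (le_of_eq (sup_comm _ _)))).trans
        (CfsgLib.Core.card_sup_dvd HQ (opp p H) hn)
      have h := (Nat.factorization_le_iff_dvd Nat.card_pos.ne'
        (mul_ne_zero Nat.card_pos.ne' Nat.card_pos.ne')).2 hd 2
      rwa [Nat.factorization_mul Nat.card_pos.ne' Nat.card_pos.ne', Finsupp.add_apply,
        Nat.factorization_eq_zero_of_not_dvd (Nat.Prime.coprime_iff_not_dvd Nat.prime_two |>.1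
          (Nat.coprime_two_left.2 hopp)), add_zero] at h
    have hV : IsPGroup 2 (zpowers e ⊔ zpowers f : Subgroup G) := by
      have h2 : ∀ z : G, orderOf z = 2 → IsPGroup 2 (zpowers z) := fun z hz =>
        IsPGroup.of_card (n := 1) (by rw [Nat.card_zpowers, hz, pow_one])
      refine (h2 e he.1).to_sup_of_normal_right' (h2 f hf.1) (zpowers_le.2 ?_)
      exact mem_normalizer_zpowers_of_commute hefc
    have hS' : ∀ t ∈ S, t ∈ H := fun t ht => mem_sup_left (mem_sup_left (subset_closure ht))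
    obtain ⟨P', hP', hVP⟩ := exists_isSyl_ge hV
      (sup_le (zpowers_le.2 (hS' e ⟨heN, he⟩)) (zpowers_le.2 (hS' f ⟨hfN, hf⟩)))
    obtain ⟨h, hh, hPh⟩ := hP'.exists_conj hPH
    have hmem : ∀ z ∈ P', h * z * h⁻¹ ∈ normalizer (Q : Set G) := fun z hz =>
      (hP.le (hPh ▸ conj_mem_map_conj hz)).2
    exact ⟨h * e * h⁻¹, h * f * h⁻¹, hmem e (hVP (mem_sup_left (mem_zpowers e))),
      hmem f (hVP (mem_sup_right (mem_zpowers f))), he.conj' (hHU hh).2, hf.conj' (hHU hh).2,
      fun h' => hef (by simpa using h'), by simp only [conj_mul, hefc]⟩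
  have hQne : Q ≠ ⊥ := CfsgLib.PLocal.centerThompsonA_ne_bot hTsyl.isPGroup
    fun h => hBne (le_bot_iff.1 (h ▸ hBT))
  have hQx : Q ≤ stabilizer G x := hQT.trans (hTD.trans inf_le_left)
  have hQtop : normalizer (Q : Set G) ≠ ⊤ := fun h => hQne (hS.bot_of_normalizer_eq_top hF h hQx)
  have hvD : v ∈ normalizer (D : Set G) := hS.swapper_normalizer hv.1 rfl
  have hvQ : v ∈ normalizer (Q : Set G) := hTQ hvT
  have hTQD : T ≤ normalizer (Q : Set G) ⊓ D := le_inf (le_normalizer.trans hTQ) hTD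
  -- `T` is a Sylow subgroup of the pair
  have hTsylQ : IsSyl p T (normalizer (Q : Set G) ⊓ D) := by
    obtain ⟨T', hT', hTT', hvT'⟩ := exists_inv_syl_ge hv.1 (odd_of_le inf_le_right hDodd)
      (inf_normalizer_le_normalizer_inf ⟨le_normalizer hvQ, hvD⟩) hTQD hTsyl.isPGroup hvT
    have h : Nat.card T' ≤ Nat.card T := hmax (normalizer (Q : Set G), x, T')
      (Finset.mem_filter.2 ⟨Finset.mem_univ _, hQtop, hvQ, hxw, hfour, hBT.trans hTT', hT', hvT'⟩)
    rwa [eq_of_le_of_card_ge hTT' h]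
  have hTDsyl : IsSyl p T D := by
    obtain ⟨P, hP, hTP⟩ := exists_isSyl_ge hTsyl.isPGroup hTD
    suffices T = P by rwa [this]
    refine grow_eq hP.isPGroup hTP fun g hg hgn => ?_
    have h := hTsylQ.eq_of_le (hP.isPGroup.to_le (sup_le hTP (zpowers_le.2 hg))) le_sup_left
      (sup_le hTQD (zpowers_le.2 ⟨hTQ hgn, hP.le hg⟩))
    rw [h]
    exact mem_sup_right (mem_zpowers g)
  set A := opp p D with hA
  have hAD : A ≤ D := opp_le p D
  have hAw : A ≤ stabilizer G w :=
    hS.opp_le_stab hv hxw hB hBw hvB hBB hBD fun a _ ha => hC ha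
  have hfacD : D ≤ A ⊔ (D ⊓ normalizer (Q : Set G)) :=
    zj_le hp2 hTDsyl (Cfsg.Agent.S0205.result hDodd) fun R hR hR2 a ha b _ => by
      obtain ⟨i, hi⟩ := IsPGroup.iff_card.1 hR2
      rw [orderOf_eq_one_iff.1 (Nat.eq_one_of_dvd_coprimes
        ((Nat.coprime_two_left.2 hDodd).pow_left i) (hi ▸ R.orderOf_dvd_natCard ha)
        (D.orderOf_dvd_natCard (hR ha))), one_mul, mul_one]
  -- the element carrying the pair to `(x, w)`
  obtain ⟨e', f', he'Q, hf'Q, he', hf', hef', hefc'⟩ := hfour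
  have hLQ : LocalConcl G (normalizer (Q : Set G)) x :=
    hloc _ x ⟨hQtop, ⟨e', f', he'Q, hf'Q, he', hf', hef', hefc'⟩, v, hvQ, hv.1, hvx⟩
  obtain ⟨k, hkQ, hkx, hkw⟩ := hLQ.two (v • x) w ⟨v, hvQ, rfl⟩ (hLQ.centres v hvQ w hv) hvx hxw.symm
  have hkD : D.map (MulAut.conj k).toMonoidHom = pairStab G x w := by
    rw [hD, Subgroup.map_inf _ _ _ (MulAut.conj k).injective, ← stabilizer_smul_eq,
      ← stabilizer_smul_eq, hkx, hkw]
  set A' := A.map (MulAut.conj k).toMonoidHom with hA'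
  have hkQ' : Q.map (MulAut.conj k).toMonoidHom = Q := map_conj_eq_of_mem_normalizer hkQ
  have hQD' : Q ≤ pairStab G x w := by
    rw [← hkD, ← hkQ']; exact map_mono (hQT.trans hTD)
  have hAD' : A ≤ pairStab G x w := le_inf (hAD.trans inf_le_left) hAw
  have hD'A' : pairStab G x w ≤ normalizer (A' : Set G) := by
    rw [← hkD]
    exact (map_mono (le_normalizer.trans (le_normalizer_opp p D))).trans (le_normalizer_map _)
  have hfacD' : pairStab G x w ≤ A' ⊔ (pairStab G x w ⊓ normalizer (Q : Set G)) := by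
    conv_lhs => rw [← hkD]
    refine (map_mono hfacD).trans ?_
    rw [Subgroup.map_sup, Subgroup.map_inf _ _ _ (MulAut.conj k).injective, hkD,
      map_conj_eq_of_mem_normalizer (le_normalizer hkQ : k ∈ normalizer (normalizer (Q : Set G) : Set G))]
  have hQA : Q ≤ normalizer (A : Set G) := (hQT.trans hTD).trans (le_normalizer.trans (le_normalizer_opp p D))
  have hcop : (Nat.card Q).Coprime (Nat.card A) := coprime_card_of_pGroup hQp (card_opp p D)
  have hQA' : Q ≤ normalizer (A' : Set G) := hQD'.trans hD'A'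
  set X := ⁅A, Q⁆ with hX
  have hXA : X ≤ A := le_normalizer_iff_commutator_le_left.1 hQA
  have hXA' : X ≤ A' := by
    rw [hX, commutator_le]
    intro a ha q hq
    have haA : ⁅a, q⁆ ∈ A := hXA (commutator_mem_commutator ha hq)
    obtain ⟨n, hn, a', ha', rfl⟩ := (CfsgLib.Core.mem_sup_iff_mul
      (inf_le_left.trans hD'A')).1 (by rw [sup_comm]; exact hfacD' (hAD' ha))
    refine mem_left_of_coprime hQA' ?_ ((hcop.symm).coprime_dvd_left (A.orderOf_dvd_natCard haA))
    have e1 : ⁅n * a', q⁆ = (n * (a' * (q * a'⁻¹ * q⁻¹)) * n⁻¹) * (n * q * n⁻¹ * q⁻¹) := by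
      rw [commutatorElement_def]; group
    rw [e1]
    refine mul_mem (mem_sup_left ?_) (mem_sup_right ?_)
    · exact (mem_normalizer_iff.1 (hD'A' hn.1) _).1
        (mul_mem ha' ((mem_normalizer_iff.1 (hQA' hq) _).1 (inv_mem ha')))
    · exact mul_mem ((mem_normalizer_iff.1 hn.2 q).1 hq) (inv_mem hq)
  have hXk : k ∈ normalizer (X : Set G) := by
    have hXle : X ≤ X.map (MulAut.conj k).toMonoidHom := by
      calc X = ⁅X, Q⁆ := (CfsgLib.Core.commutator_commutator_eq hQA hcop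
            (Or.inr (Cfsg.Agent.S0205.result (odd_of_le hAD hDodd)))).symm
        _ ≤ ⁅A', Q⁆ := commutator_mono hXA' le_rfl
        _ = X.map (MulAut.conj k).toMonoidHom := by rw [hX, map_commutator, hkQ']
    exact mem_normalizer_of_map_conj_eq
      (eq_of_le_of_card_ge hXle (card_map_conj k X).le).symm
  have hDX : D ≤ normalizer (X : Set G) := hfacD.trans (sup_le
    (le_sup_left.trans (CfsgLib.Core.le_normalizer_commutator_self Q A))
    fun g hg => le_normalizer_commutator ⟨le_normalizer_opp p D (le_normalizer hg.1), hg.2⟩)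
  have hD'X : pairStab G x w ≤ normalizer (X : Set G) := by
    rw [← hkD, ← map_conj_eq_of_mem_normalizer (le_normalizer hXk :
      k ∈ normalizer (normalizer (X : Set G) : Set G))]
    exact map_mono hDX
  have hXbot : X = ⊥ := hS.bot_of_conj hF hN2 hv hxw hkw
    (hXA.trans (hAD.trans inf_le_left)) hD'X
    (le_normalizer_commutator ⟨le_normalizer_opp p D hvD, hvQ⟩) hXk
  -- `Q` is normal in the pair
  have hDQ : D ≤ normalizer (Q : Set G) := hfacD.trans (sup_le
    ((commutator_eq_bot_iff_le_centralizer.1 (hX ▸ hXbot)).trans (centralizer_le_normalizer _)) inf_le_right)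
  refine hQne (hS.bot_of_conj hF hN2 hv hxw hkw hQx ?_ hvQ hkQ)
  rw [← hkD, ← map_conj_eq_of_mem_normalizer (le_normalizer hkQ :
    k ∈ normalizer (normalizer (Q : Set G) : Set G))]
  exact map_mono hDQ

end CfsgLib.Bender
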