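import Cfsg.Agent.Lib.Bender.Gen.NoMoveA
import Cfsg.Agent.Lib.Bender.Gen.NoMoveB
import Cfsg.Agent.Lib.Bender.Gen.NoMoveC

/-!
Owner: helper27. Slice B of the general Bender theorem (`notes/bender_gen_slices.md`).

* `umStep : UMStep`
-/

set_option autoImplicit false
set_option linter.style.haveILetI false
set_option linter.unusedSectionVars false

namespace CfsgLib.Bender

open Subgroup MulAction
open scoped commutatorElement

universe u

/-- A moved `p`-subgroup with largest commutator, and then largest, gives a contradiction. -/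
theorem umStep : UMStep.{u} := by
  intro G Ω _ _ _ _ hS hF hloc hN2 hT p hp hp2 Y₀ w v hY₀ hY₀w hv hvY₀ hne₀
  classical
  haveI : Fact p.Prime := ⟨hp⟩
  by_contra hmove₀
  haveI : Fintype (Subgroup G) := Fintype.ofFinite _
  set P : Subgroup G → Prop := fun Z => IsPGroup p Z ∧ Z ≤ stabilizer G w ∧
    v ∈ normalizer (Z : Set G) ∧ (∃ z ∈ Z, z * v ≠ v * z) ∧ ¬ normalizer (Z : Set G) ≤ stabilizer G w
    with hP
  set key : Subgroup G → ℕ := fun Z =>
    Nat.card (⁅Z, zpowers v⁆ : Subgroup G) * (Nat.card G + 1) + Nat.card Z with hkey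
  obtain ⟨Y, hmem, hmaxkey⟩ := Finset.exists_max_image (Finset.univ.filter P) key
    ⟨Y₀, Finset.mem_filter.2 ⟨Finset.mem_univ _, hY₀, hY₀w, hvY₀, hne₀, hmove₀⟩⟩
  obtain ⟨hY, hYw, hvY, hne, hmove⟩ := (Finset.mem_filter.1 hmem).2
  set B := ⁅Y, zpowers v⁆ with hBdef
  have hBY : B ≤ Y := le_normalizer_iff_commutator_le_left.1 (zpowers_le.2 hvY)
  have hBw : B ≤ stabilizer G w := hBY.trans hYw
  have hvB : v ∈ normalizer (B : Set G) := normalizer_commutator_ge_right Y (zpowers v) (mem_zpowers v)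
  have hBB : ⁅B, zpowers v⁆ = B :=
    CfsgLib.Core.commutator_commutator_eq (zpowers_le.2 hvY)
      (coprime_zpowers hv.1 (odd_card_of_pGroup hp2 hY)) (Or.inl inferInstance)
  have hBne : B ≠ ⊥ := fun h => by
    obtain ⟨y, hy, hyv⟩ := hne
    exact hyv (mem_centralizer_iff.1 (commutator_eq_bot_iff_le_centralizer.1 h hy) v (mem_zpowers v)).symm
  have hbound : ∀ Z : Subgroup G, IsPGroup p Z → Z ≤ stabilizer G w → v ∈ normalizer (Z : Set G) →
      B ≤ Z → ¬ normalizer (Z : Set G) ≤ stabilizer G w →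
      ⁅Z, zpowers v⁆ = B ∧ key Z ≤ key Y := by
    intro Z hZ hZw hvZ hBZ hZmove
    have hBC : B ≤ ⁅Z, zpowers v⁆ := hBB.symm.le.trans (commutator_mono hBZ le_rfl)
    have hk : key Z ≤ key Y := hmaxkey Z (Finset.mem_filter.2 ⟨Finset.mem_univ _, hZ, hZw, hvZ,
      exists_not_commute (fun h => hBne (le_bot_iff.1 (h ▸ hBC))), hZmove⟩)
    refine ⟨(eq_of_le_of_card_ge hBC ?_).symm, hk⟩
    by_contra hlt
    have h1 : Nat.card B + 1 ≤ Nat.card (⁅Z, zpowers v⁆ : Subgroup G) := not_le.1 hlt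
    have h2 := Nat.mul_le_mul_right (Nat.card G + 1) h1
    have h3 := card_le_card_group Y
    simp only [hkey] at hk
    rw [← hBdef] at hk
    rw [add_mul, one_mul] at h2
    omega
  by_cases hC : centralizer (B : Set G) ≤ stabilizer G w
  · have hmaxY : ∀ Z : Subgroup G, IsPGroup p Z → Z ≤ stabilizer G w → v ∈ normalizer (Z : Set G) →
        Y ≤ Z → ¬ normalizer (Z : Set G) ≤ stabilizer G w → Z = Y := by
      intro Z hZ hZw hvZ hYZ hZmove
      obtain ⟨h1, hk⟩ := hbound Z hZ hZw hvZ (hBY.trans hYZ) hZmove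
      refine (eq_of_le_of_card_ge hYZ ?_).symm
      simp only [hkey] at hk
      rw [h1] at hk
      exact Nat.le_of_add_le_add_left hk
    by_cases hr : ∀ e ∈ normalizer (Y : Set G), orderOf e = 2 → e * v = v * e → e = v
    · exact hS.caseB_rank_one hT hp2 hv hY hYw hvY hvB hBY hBB hBne hmove hmaxY hC hr
    · push Not at hr
      exact hS.caseB_rank_two hp2 hF hloc hN2 hv hY hYw hvY hvB hBY hBB hBne hmove hC hr
  · exact hS.caseA hT hp2 hv (hY.to_le hBY) hBw hvB hBB hBne
      (fun Z hZ hZw hvZ hBZ hZmove => (hbound Z hZ hZw hvZ hBZ hZmove).1) hC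

end CfsgLib.Bender
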