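import Cfsg.Agent.Lib.Bender.Gen.Tools

/-!
Owner: helper15. Slice C of the general Bender theorem: an involution inverts nothing fixing its centre
and another point.
-/

set_option autoImplicit false
set_option linter.style.haveILetI false
set_option linter.unusedSectionVars false

namespace CfsgLib.Bender

open Subgroup MulAction
open scoped commutatorElement
open CfsgLib.Signalizer (involution_sq involution_inv orderOf_eq_two_of involution_ne_one)

universe u

section Group

variable {G : Type*} [Group G] [Finite G] {p : ℕ}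

/-- The preimage in `D` of the `p`-core of `D` modulo its `p'`-core. -/
def oppP (p : ℕ) (D : Subgroup G) : Subgroup G :=
  ((Cfsg.pCore p (D ⧸ Cfsg.pPrimeCore p D)).comap
    (QuotientGroup.mk' (Cfsg.pPrimeCore p D))).map D.subtype

theorem oppP_le (D : Subgroup G) : oppP p D ≤ D := map_subtype_le _

theorem opp_le_oppP (D : Subgroup G) : opp p D ≤ oppP p D :=
  map_mono fun x hx => by
    rw [mem_comap, QuotientGroup.mk'_apply, (QuotientGroup.eq_one_iff x).2 hx]
    exact one_mem _

theorem normalizer_le_normalizer_oppP (D : Subgroup G) :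
    normalizer (D : Set G) ≤ normalizer (oppP p D : Set G) := fun g hg => by
  refine mem_normalizer_of_conj_le ?_
  rintro _ ⟨x, hx, rfl⟩
  set φ : D ≃* D := D.normalizerMonoidHom ⟨g, hg⟩ with hφ
  let ψ := QuotientGroup.congr (Cfsg.pPrimeCore p D) (Cfsg.pPrimeCore p D) φ
    (CfsgLib.Core.map_equiv_pPrimeCore φ)
  refine ⟨φ x, ?_, rfl⟩
  rw [SetLike.mem_coe, mem_comap, ← CfsgLib.Core.map_equiv_pCore ψ]
  exact ⟨QuotientGroup.mk' _ x, hx, rfl⟩

variable [Fact p.Prime] {D W : Subgroup G}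

theorem oppP_le_sup (hW : IsSyl p W (oppP p D)) : oppP p D ≤ opp p D ⊔ W := by
  have hWn : W ≤ normalizer (opp p D : Set G) :=
    (hW.le.trans (oppP_le D)).trans (le_normalizer.trans (le_normalizer_opp p D))
  have hcM : Nat.card (oppP p D) =
      Nat.card (opp p D) * Nat.card (Cfsg.pCore p (D ⧸ Cfsg.pPrimeCore p D)) := by
    rw [oppP, opp, card_map_of_injective D.subtype_injective,
      card_map_of_injective D.subtype_injective, CfsgLib.Core.card_comap_mk']
  have hQ : IsPGroup p (Cfsg.pCore p (D ⧸ Cfsg.pPrimeCore p D)) := CfsgLib.Core.isPGroup_pCore p _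
  obtain ⟨k, hk⟩ := IsPGroup.iff_card.1 hQ
  have hcW : Nat.card W = p ^ k := by
    rw [hW.2, hcM, hk, vp, Nat.factorization_mul Nat.card_pos.ne' (pow_ne_zero _ (Fact.out : p.Prime).ne_zero),
      Finsupp.add_apply, Nat.Prime.factorization_pow (Fact.out : p.Prime), Finsupp.single_eq_same,
      Nat.factorization_eq_zero_of_not_dvd
        ((Fact.out : p.Prime).coprime_iff_not_dvd.1 (card_opp p D).symm), zero_add]
  have hinf : W ⊓ opp p D = ⊥ :=
    disjoint_iff.1 (Subgroup.disjoint_of_coprime_natCard (hcW ▸ ((card_opp p D).pow_right k).symm))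
  have h := CfsgLib.Core.card_sup_mul_card_inf W (opp p D) hWn
  rw [hinf, card_bot, mul_one, hcW] at h
  rw [sup_comm]
  refine (eq_of_le_of_card_ge (sup_le hW.le (opp_le_oppP D)) ?_).ge
  rw [h, hcM, hk, mul_comm]

theorem mem_oppP_of_centralizes [Group.IsSolvable D] (hW : IsSyl p W (oppP p D)) {x : G}
    (hx : x ∈ D) (hc : ∀ y ∈ W, x * y = y * x) : x ∈ oppP p D := by
  refine ⟨⟨x, hx⟩, ?_, rfl⟩
  refine CfsgLib.Core.centralizer_pCore_le_of_pPrimeCore_eq_bot
    (CfsgLib.Core.pPrimeCore_quotient_pPrimeCore p D) (mem_centralizer_iff.2 fun q hq => ?_)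
  obtain ⟨m, rfl⟩ := QuotientGroup.mk'_surjective _ q
  have hWn : W ≤ normalizer (opp p D : Set G) :=
    (hW.le.trans (oppP_le D)).trans (le_normalizer.trans (le_normalizer_opp p D))
  have hm : (m : G) ∈ W ⊔ opp p D := sup_comm (opp p D) W ▸ oppP_le_sup hW ⟨m, hq, rfl⟩
  obtain ⟨y, hy, a, ⟨a', ha', rfl⟩, e⟩ := (CfsgLib.Core.mem_sup_iff_mul hWn).1 hm
  have hm' : m = ⟨y, (hW.le.trans (oppP_le D)) hy⟩ * a' := Subtype.ext e
  have ha1 : QuotientGroup.mk' (Cfsg.pPrimeCore p D) a' = 1 := (QuotientGroup.eq_one_iff a').2 ha'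
  rw [hm', map_mul, ha1, mul_one, ← map_mul, ← map_mul]
  exact congrArg _ (Subtype.ext (hc y hy).symm)

/-- An element of odd order inverted by `v` commutes with it only if it is trivial. -/
theorem eq_one_of_inverted_commute {v y : G} (hy : Odd (orderOf y)) (hinv : v * y * v⁻¹ = y⁻¹)
    (hc : y * v = v * y) : y = 1 := by
  rw [← hc, mul_inv_cancel_right] at hinv
  have h2 : orderOf y ∣ 2 := orderOf_dvd_of_pow_eq_one (by
    rw [pow_two]; nth_rewrite 2 [hinv]; exact mul_inv_cancel y)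
  rcases (Nat.dvd_prime Nat.prime_two).1 h2 with h | h
  · exact orderOf_eq_one_iff.1 h
  · rw [h] at hy; exact absurd hy (by decide)

end Group

variable {G Ω : Type*} [Group G] [Finite G] [MulAction G Ω] [Finite Ω]

theorem sr_of (hS : Setting0 G Ω) (hU : UM G Ω) : SR G Ω := by
  intro w x g₀ v hxw hv hgw₀ hgx₀ hinv₀
  by_contra hg₀
  -- an element of prime order
  obtain ⟨p, hp, hpd⟩ := Nat.exists_prime_and_dvd (mt orderOf_eq_one_iff.1 hg₀)
  haveI : Fact p.Prime := ⟨hp⟩
  set g := g₀ ^ (orderOf g₀ / p) with hgdef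
  have hog : orderOf g = p := orderOf_pow_orderOf_div (orderOf_pos g₀).ne' hpd
  have hgw : g • w = w := (stabilizer G w).pow_mem (show g₀ ∈ stabilizer G w from hgw₀) _
  have hgx : g • x = x := (stabilizer G x).pow_mem (show g₀ ∈ stabilizer G x from hgx₀) _
  have hinv : v * g * v⁻¹ = g⁻¹ := by rw [hgdef, ← conj_pow, hinv₀, inv_pow]
  have hp2 : p ≠ 2 := by
    rintro rfl
    exact hxw (hS.fix_unique ⟨hog, hgx⟩ ⟨hog, hgw⟩)
  have hgodd : Odd (orderOf g) := hog ▸ hp.odd_of_ne_two hp2
  have hg1 : g ≠ 1 := fun h => by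
    rw [h, orderOf_one] at hog; exact hp.ne_one hog.symm
  have hgvx : g • (v • x) = v • x := by
    have e : g * v = v * g⁻¹ := by
      rw [← hinv, involution_inv hv.1]; simp [← mul_assoc, involution_sq hv.1]
    rw [← mul_smul, e, mul_smul]
    exact congrArg (v • ·) (inv_smul_eq_iff.2 hgx.symm)
  -- the stabiliser of the pair
  set D := pairStab G x (v • x) with hDdef
  have hne : x ≠ v • x := (hS.ne_of_inv hv hxw).symm
  have hD : Odd (Nat.card D) := hS.odd_pairStab hne
  have hvD : v ∈ normalizer (D : Set G) := hS.swapper_normalizer hv.1 rfl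
  haveI : Group.IsSolvable D := Cfsg.Agent.S0205.result hD
  set B := zpowers g with hB
  have hBp : IsPGroup p B := IsPGroup.of_card (n := 1) (by rw [Nat.card_zpowers, hog, pow_one])
  have hBD : B ≤ D := zpowers_le.2 ⟨hgx, hgvx⟩
  have hBw : B ≤ stabilizer G w := zpowers_le.2 hgw
  have hvB : v ∈ normalizer (B : Set G) := mem_normalizer_of_conj_le fun y hy => by
    obtain ⟨k, rfl⟩ := mem_zpowers_iff.1 hy
    rw [← conj_zpow, hinv]
    exact zpow_mem (inv_mem (mem_zpowers g)) k
  have hgv : g * v ≠ v * g := fun h => hg1 (eq_one_of_inverted_commute hgodd hinv h)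
  -- the Sylow subgroup fixes `w`
  obtain ⟨T, hT, hBT, hvT⟩ := exists_inv_syl_ge hv.1 hD hvD hBD hBp hvB
  have hTw : T ≤ stabilizer G w := by
    by_contra hnle
    have hvR : v ∈ normalizer ((T ⊓ stabilizer G w : Subgroup G) : Set G) :=
      mem_normalizer_of_conj_le fun y hy => ⟨(mem_normalizer_iff.1 hvT y).1 hy.1,
        (stabilizer G w).mul_mem ((stabilizer G w).mul_mem (show v ∈ stabilizer G w from hv.2) hy.2) ((stabilizer G w).inv_mem (show v ∈ stabilizer G w from hv.2))⟩
    have hN := hU p hp hp2 _ w v (hT.isPGroup.to_le inf_le_left) inf_le_right hv hvR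
      ⟨g, ⟨hBT (mem_zpowers g), hgw⟩, hgv⟩
    obtain ⟨y, hyT, hyN, hy⟩ := exists_mem_normalizer_notMem hT.isPGroup
      (inf_le_left : T ⊓ stabilizer G w ≤ T) (fun e => hnle (inf_eq_left.1 e))
    exact hy ⟨hyT, hN hyN⟩
  -- the odd core fixes `w`
  have hAw : opp p D ≤ stabilizer G w := by
    refine hS.le_stab_of_blemma hv hBp hBw hvB (odd_of_le (opp_le p D) hD) (card_opp p D)
      (hBD.trans (le_normalizer.trans (le_normalizer_opp p D))) (le_normalizer_opp p D hvD) ?_
    have hC : ⁅B, zpowers v⁆ ≤ B := le_normalizer_iff_commutator_le_left.1 (zpowers_le.2 hvB)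
    have hg2 : ⁅g, v⁆ = g * g := by
      rw [commutatorElement_def, mul_assoc g v, mul_assoc g, show v * g⁻¹ * v⁻¹ = (v * g * v⁻¹)⁻¹ by group,
        hinv, inv_inv]
    refine inf_le_right.trans ((centralizer_le_normalizer _).trans
      (hU p hp hp2 _ w v (hBp.to_le hC) (hC.trans hBw) hv
        (normalizer_commutator_ge_right _ _ (mem_zpowers v))
        ⟨⁅g, v⁆, commutator_mem_commutator (mem_zpowers g) (mem_zpowers v), fun h => ?_⟩))
    rw [hg2] at h
    have hsq : g * g = 1 := eq_one_of_inverted_commute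
      (hgodd.of_dvd_nat (pow_two g ▸ orderOf_pow_dvd 2))
      (by rw [← conj_mul, hinv, mul_inv_rev]) h
    have h2 : orderOf g ∣ 2 := orderOf_dvd_of_pow_eq_one (by rw [pow_two]; exact hsq)
    rcases (Nat.dvd_prime Nat.prime_two).1 h2 with h' | h'
    · exact hp.ne_one (hog ▸ h')
    · exact hp2 (hog ▸ h')
  -- `O_{p',p}`
  set W := T ⊓ oppP p D with hWdef
  have hDn : D ≤ normalizer (oppP p D : Set G) := le_normalizer.trans (normalizer_le_normalizer_oppP D)
  have hW : IsSyl p W (oppP p D) := hT.inf_of_le_normalizer (oppP_le D) hDn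
  have hvW : v ∈ normalizer (W : Set G) := mem_normalizer_of_conj_le fun y hy =>
    ⟨(mem_normalizer_iff.1 hvT y).1 hy.1,
      (mem_normalizer_iff.1 (normalizer_le_normalizer_oppP D hvD) y).1 hy.2⟩
  have hWv : ∃ y ∈ W, y * v ≠ v * y := by
    by_contra hcon
    push Not at hcon
    have hgW : ∀ y ∈ W, g * g * y = y * (g * g) := by
      intro y hy
      have hyn : g * y * g⁻¹ ∈ W := ⟨T.mul_mem (T.mul_mem (hBT (mem_zpowers g)) hy.1) (T.inv_mem (hBT (mem_zpowers g))),
        (mem_normalizer_iff.1 (hDn (hBD (mem_zpowers g))) y).1 hy.2⟩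
      have h1 : v * (g * y * g⁻¹) * v⁻¹ = g * y * g⁻¹ := by
        rw [← hcon _ hyn, mul_inv_cancel_right]
      have h2 : v * y * v⁻¹ = y := by rw [← hcon _ hy, mul_inv_cancel_right]
      have h3 : v * (g * y * g⁻¹) * v⁻¹ = g⁻¹ * y * g := by
        rw [show v * (g * y * g⁻¹) * v⁻¹ = v * g * v⁻¹ * (v * y * v⁻¹) * (v * g * v⁻¹)⁻¹ by group,
          hinv, h2, inv_inv]
      calc g * g * y = g * (g * y * g⁻¹) * g := by group
        _ = g * (g⁻¹ * y * g) * g := by rw [← h3, h1]
        _ = y * (g * g) := by group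
    have hgT : g * g ∈ T := mul_mem (hBT (mem_zpowers g)) (hBT (mem_zpowers g))
    have hgM := mem_oppP_of_centralizes hW (hT.le hgT) hgW
    have hsq : g * g = 1 := eq_one_of_inverted_commute
      (hgodd.of_dvd_nat (pow_two g ▸ orderOf_pow_dvd 2))
      (by rw [← conj_mul, hinv, mul_inv_rev]) (hcon _ ⟨hgT, hgM⟩)
    have h2 : orderOf g ∣ 2 := orderOf_dvd_of_pow_eq_one (by rw [pow_two]; exact hsq)
    rcases (Nat.dvd_prime Nat.prime_two).1 h2 with h' | h'
    · exact hp.ne_one (hog ▸ h')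
    · exact hp2 (hog ▸ h')
  have hNW := hU p hp hp2 W w v hW.isPGroup (inf_le_left.trans hTw) hv hvW hWv
  have hMw : oppP p D ≤ stabilizer G w :=
    (oppP_le_sup hW).trans (sup_le hAw (inf_le_left.trans hTw))
  refine hS.not_pairStab_le hv hxw fun d hd => ?_
  have hWd : IsSyl p (W.map (MulAut.conj d).toMonoidHom) (oppP p D) := by
    have h := hW.map_conj d
    rwa [map_conj_eq_of_mem_normalizer (hDn hd)] at h
  obtain ⟨m, hm, hmW⟩ := hW.exists_conj hWd
  have hn : m⁻¹ * d ∈ normalizer (W : Set G) := by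
    refine mem_normalizer_of_conj_le fun y hy => ?_
    have h1 : d * y * d⁻¹ ∈ W.map (MulAut.conj m).toMonoidHom := hmW ▸ conj_mem_map_conj hy
    rw [mem_map_conj] at h1
    simpa [mul_assoc] using h1
  have h := mul_mem (hMw hm) (hNW hn)
  rwa [mul_inv_cancel_left] at h

theorem srStep : SRStep.{u} := fun _ _ _ _ _ _ => sr_of

end CfsgLib.Bender
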