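import Cfsg.Agent.Lib.Bender.Gen.Wiring
import Cfsg.Agent.Lib.Recog.PrimeGraph
import Cfsg.Agent.Lib.Core.Cores

/-!
Owner: helper24. General Bender theorem, slice E: the structural form (S2798) from `BenderGen`.
-/

set_option autoImplicit false
set_option linter.style.haveILetI false
set_option linter.unusedSectionVars false

namespace CfsgLib.Bender

open Subgroup MulAction
open CfsgLib.Signalizer (involution_sq involution_inv orderOf_eq_two_of involution_ne_one)

universe u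

variable {G : Type u} [Group G] [Finite G] {M : Subgroup G}

theorem oddCore_le_normalCore (hM : Cfsg.IsStronglyEmbedded M)
    (hfour : ∃ s ∈ M, ∃ t ∈ M, orderOf s = 2 ∧ orderOf t = 2 ∧ s ≠ t ∧ s * t = t * s) :
    Cfsg.oddCore G ≤ M.normalCore := by
  obtain ⟨s, hs, t, ht, hs2, ht2, hne, hc⟩ := hfour
  have hn : ∀ g : G, g ∈ normalizer (Cfsg.oddCore G : Set G) := fun g =>
    normalizer_eq_top (H := Cfsg.oddCore G) ▸ mem_top g
  refine normal_le_normalCore.2 (le_of_four_centralizers (CfsgLib.ZStar.odd_card_oddCore G) hs2 ht2 hc hne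
    (hn s) (hn t) fun x _ a ha hxa => ?_)
  rcases ha with rfl | rfl | rfl
  · exact mem_of_commute_involution hM hs2 hs hxa
  · exact mem_of_commute_involution hM ht2 ht hxa
  · refine mem_of_commute_involution hM (orderOf_eq_two_of (fun h => hne ?_) ?_) (mul_mem hs ht) hxa
    · rw [← involution_inv hs2]; exact (eq_inv_of_mul_eq_one_right h).symm
    · rw [mul_assoc, ← mul_assoc t s, ← hc, mul_assoc, involution_sq ht2, mul_one, involution_sq hs2]

/-- The transitivity of a core free strongly embedded subgroup, in index form. -/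
theorem card_index (hB : BenderGen.{u}) (hM : Cfsg.IsStronglyEmbedded M)
    (hfour : ∃ s ∈ M, ∃ t ∈ M, orderOf s = 2 ∧ orderOf t = 2 ∧ s ≠ t ∧ s * t = t * s) (hK : M.normalCore = ⊥) :
    M.index = 2 ^ vp 2 (Nat.card G) + 1 := by
  obtain ⟨hS, hsol⟩ := hB G M hM hfour
  obtain ⟨U, -, -, -, -, -, h⟩ := hS.exists_regular (smallerOK _) (faithful_of_core hK) _ hsol
  rw [Subgroup.index_eq_card]
  exact h

/-- The three families. -/
def RankOneFamily (L : Type u) [Group L] : Prop :=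
  (∃ (F : Type) (_ : Field F) (_ : Fintype F), CharP F 2 ∧ 4 ≤ Fintype.card F ∧
      Nonempty (L ≃* Matrix.SpecialLinearGroup (Fin 2) F)) ∨
    (∃ (F : Type) (_ : Field F) (_ : Fintype F) (q : ℕ), Even q ∧ 4 ≤ q ∧ Fintype.card F = q ^ 2 ∧
      Nonempty (L ≃* Cfsg.PSU 3 F q)) ∨
    Cfsg.Lie.IsoSuzuki L

/-- The simple groups, with the Suzuki groups up to isomorphism. -/
theorem family_of_simple (hB : BenderGen.{u}) [IsSimpleGroup G] (hM : Cfsg.IsStronglyEmbedded M)
    (hfour : ∃ s ∈ M, ∃ t ∈ M, orderOf s = 2 ∧ orderOf t = 2 ∧ s ≠ t ∧ s * t = t * s) : RankOneFamily G := by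
  haveI : Fact (Nat.Prime 2) := ⟨Nat.prime_two⟩
  have hcore : M.normalCore = ⊥ :=
    (IsSimpleGroup.eq_bot_or_eq_top_of_normal _ inferInstance).resolve_right
      fun h => hM.1 (top_le_iff.1 (h ▸ M.normalCore_le))
  obtain ⟨hS, hsol⟩ := hB G M hM hfour
  obtain ⟨U, hUa, hUn, htr, hfree, -, -⟩ := hS.exists_regular (smallerOK _) (faithful_of_core hcore) _ hsol
  rw [stab_base] at hUa hUn
  have hne : ∀ g : G, g ∉ M → (g : G ⧸ M) ≠ ((1 : G) : G ⧸ M) := fun g hg h =>
    hg (by simpa using QuotientGroup.eq.1 h)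
  obtain ⟨t, hR, hF, hGeven, h2⟩ := CfsgLib.Lie.RankOneClass.exists_setup M hM U hUa
    (normal_subgroupOf_of_le_normalizer hUn) (by
      intro g₁ g₂ h₁ h₂
      obtain ⟨u, hu, he⟩ := htr _ _ (hne g₁ h₁) (hne g₂ h₂)
      rw [MulAction.Quotient.smul_coe, smul_eq_mul] at he
      exact ⟨u, hu, QuotientGroup.eq.1 he.symm⟩) (by
      intro g hg u hu h
      refine hfree _ (hne g hg) u hu ?_
      rw [MulAction.Quotient.smul_coe, smul_eq_mul]
      exact (QuotientGroup.eq.2 h).symm)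
  obtain ⟨L, hLn, hLodd, hcases⟩ := Cfsg.Agent.S1136.result hR h2
  have hLtop : L = ⊤ := by
    refine hLn.eq_bot_or_eq_top.resolve_left fun h => ?_
    rw [h, Subgroup.index_bot] at hLodd
    exact Nat.not_even_iff_odd.2 hLodd hGeven
  subst hLtop
  rcases hcases with ⟨F, iF, iFt, ⟨n, hn, hF⟩, ⟨e⟩⟩ | h | ⟨F, iF, iFt, n, hn, hF, ⟨e⟩⟩
  · haveI : CharP F 2 := charP_of_card_eq_prime_pow (f := n) hF
    obtain ⟨e'⟩ := CfsgLib.Recog.AffineTwo.psl_equiv_sl F
    exact Or.inl ⟨F, iF, iFt, inferInstance, hF ▸ le_trans (by norm_num) (Nat.pow_le_pow_right (by norm_num) hn),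
      ⟨(Subgroup.topEquiv.symm.trans e).trans e'⟩⟩
  · obtain ⟨F, iF, iFt, m, hm, hF, ⟨e⟩⟩ := h
    exact Or.inr (Or.inr ⟨F, iF, iFt, m, hm, hF, ⟨Subgroup.topEquiv.symm.trans e⟩⟩)
  · exact Or.inr (Or.inl ⟨F, iF, iFt, 2 ^ n, Nat.even_pow.2 ⟨even_two, by omega⟩,
      le_trans (by norm_num) (Nat.pow_le_pow_right (by norm_num) hn), hF, ⟨Subgroup.topEquiv.symm.trans e⟩⟩)

/-- A core free group with a four group in a strongly embedded subgroup: its 2-elements generate a simple group. -/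
theorem closure_family (hB : BenderGen.{u}) (hM : Cfsg.IsStronglyEmbedded M)
    (hfour : ∃ s ∈ M, ∃ t ∈ M, orderOf s = 2 ∧ orderOf t = 2 ∧ s ≠ t ∧ s * t = t * s) (hK : M.normalCore = ⊥) :
    RankOneFamily ↥(Cfsg.pElementClosure 2 (⊤ : Subgroup G)) := by
  haveI : Fact (Nat.Prime 2) := ⟨Nat.prime_two⟩
  set J := Subgroup.closure {x : G | orderOf x = 2} with hJ
  have hJmem : ∀ {x : G}, orderOf x = 2 → x ∈ J := fun hx => subset_closure hx
  haveI hJn : J.Normal := by
    refine ⟨fun n hn g => ?_⟩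
    have h : J.map (MulAut.conj g).toMonoidHom ≤ J := by
      rw [hJ, MonoidHom.map_closure, closure_le]
      rintro _ ⟨x, hx, rfl⟩
      exact subset_closure ((CfsgLib.Signalizer.orderOf_conj g x).trans hx)
    exact h ⟨n, hn, rfl⟩
  obtain ⟨s, hs, t, ht, hs2, ht2, hne, hc⟩ := hfour
  have hJM : ¬ J ≤ M := fun h => involution_ne_one hs2
    (mem_bot.1 (hK ▸ normal_le_normalCore.2 h (hJmem hs2)))
  set MJ := M.subgroupOf J with hMJ
  have hSE : Cfsg.IsStronglyEmbedded MJ := by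
    refine ⟨fun h => hJM (subgroupOf_eq_top.1 h), ?_, fun g hg => ?_⟩
    · refine even_iff_two_dvd.2 ?_
      have h1 : orderOf (⟨s, hJmem hs2⟩ : J) = 2 := by rw [← Subgroup.orderOf_coe]; exact hs2
      exact h1 ▸ MJ.orderOf_dvd_natCard (mem_subgroupOf.2 hs)
    · refine (hM.2.2 (g : G) (fun h => hg (mem_subgroupOf.2 h))).of_dvd_nat ?_
      rw [← Subgroup.card_map_of_injective (f := J.subtype) J.subtype_injective]
      refine card_dvd_of_le ?_
      rintro _ ⟨x, ⟨hx, hx'⟩, rfl⟩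
      obtain ⟨y, hy, rfl⟩ := hx'
      exact ⟨mem_subgroupOf.1 hx, (y : G), mem_subgroupOf.1 hy, rfl⟩
  have hfourJ : ∃ s ∈ MJ, ∃ t ∈ MJ, orderOf s = 2 ∧ orderOf t = 2 ∧ s ≠ t ∧ s * t = t * s :=
    ⟨⟨s, hJmem hs2⟩, mem_subgroupOf.2 hs, ⟨t, hJmem ht2⟩, mem_subgroupOf.2 ht,
      by rw [← Subgroup.orderOf_coe]; exact hs2, by rw [← Subgroup.orderOf_coe]; exact ht2,
      fun h => hne (congrArg Subtype.val h), Subtype.ext hc⟩
  -- no odd normal subgroup
  have hOJ : Cfsg.oddCore J = ⊥ := by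
    haveI : (Cfsg.oddCore J).Characteristic := CfsgLib.Core.characteristic_pPrimeCore 2 J
    have h1 : (Cfsg.oddCore J).map J.subtype ≤ Cfsg.oddCore G := CfsgLib.ZStar.le_oddCore inferInstance
      ((CfsgLib.ZStar.odd_card_oddCore J).of_dvd_nat (Subgroup.card_map_dvd _ _))
    refine (Subgroup.eq_bot_iff_forall _).2 fun x hx => Subtype.ext ?_
    have h2 := oddCore_le_normalCore hM ⟨s, hs, t, ht, hs2, ht2, hne, hc⟩ (h1 ⟨x, hx, rfl⟩)
    rw [hK, mem_bot] at h2
    exact h2
  -- the subgroup is simple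
  haveI : Nontrivial J := ⟨⟨⟨s, hJmem hs2⟩, 1, fun h => involution_ne_one hs2 (congrArg Subtype.val h)⟩⟩
  haveI : IsSimpleGroup J := by
    refine ⟨fun N hN => or_iff_not_imp_left.2 fun hN1 => ?_⟩
    have heven : Even (Nat.card N) := by
      rw [← Nat.not_odd_iff_even]
      exact fun h => hN1 (le_bot_iff.1 (hOJ ▸ CfsgLib.ZStar.le_oddCore hN h))
    obtain ⟨r, hr, hr2⟩ := CfsgLib.Signalizer.exists_involution_of_even heven
    have hle : J ≤ N.map J.subtype := by
      refine (Subgroup.closure_le _).2 fun x hx => ?_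
      obtain ⟨g, hg⟩ := isConj_iff.1 (CfsgLib.TwoGroups.SE.isConj_involutions hSE hr2
        (b := (⟨x, hJmem hx⟩ : J)) (by rw [← Subgroup.orderOf_coe]; exact hx))
      exact ⟨_, hN.conj_mem r hr g, congrArg Subtype.val hg⟩
    refine eq_top_iff.2 fun x _ => ?_
    obtain ⟨y, hy, he⟩ := hle x.2
    rwa [show x = y from Subtype.ext he.symm]
  have hKJ : MJ.normalCore = ⊥ :=
    (IsSimpleGroup.eq_bot_or_eq_top_of_normal _ inferInstance).resolve_right
      fun h => hSE.1 (top_le_iff.1 (h ▸ MJ.normalCore_le))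
  -- the index is odd
  obtain ⟨g₀, hg₀J, hg₀⟩ := SetLike.not_le_iff_exists.1 hJM
  have hsup : M ⊔ J = ⊤ := by
    refine eq_top_iff.2 fun g _ => ?_
    by_cases hg : g ∈ M
    · exact mem_sup_left hg
    have hne' : ∀ g : G, g ∉ M → (g : G ⧸ M) ≠ ((1 : G) : G ⧸ M) := fun g hg h =>
      hg (by simpa using QuotientGroup.eq.1 h)
    obtain ⟨k, hk, he⟩ := (hB G M hM ⟨s, hs, t, ht, hs2, ht2, hne, hc⟩).1.exists_stab_smul (hne' g₀ hg₀) (hne' g hg)
    rw [MulAction.Quotient.smul_coe, smul_eq_mul] at he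
    have h1 : (k * g₀)⁻¹ * g ∈ M := QuotientGroup.eq.1 he
    have := mul_mem (mul_mem (mem_sup_left (T := J) ((stab_base M).le hk)) (mem_sup_right (S := M) hg₀J))
      (mem_sup_left (T := J) h1)
    rwa [mul_inv_cancel_left] at this
  have hidx : MJ.index = M.index := by
    have h1 := CfsgLib.Core.card_sup_mul_card_inf M J (normalizer_eq_top (H := J) ▸ le_top)
    have h2 := MJ.card_mul_index
    have h3 := M.card_mul_index
    have h4 : Nat.card MJ = Nat.card (M ⊓ J : Subgroup G) := by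
      rw [hMJ, ← Subgroup.card_map_of_injective (f := J.subtype) J.subtype_injective,
        Subgroup.subgroupOf_map_subtype]
    rw [hsup, Subgroup.card_top] at h1
    rw [h4] at h2
    have h5 : Nat.card (M ⊓ J : Subgroup G) * Nat.card M * MJ.index =
        Nat.card (M ⊓ J : Subgroup G) * Nat.card M * M.index := by
      rw [mul_assoc _ _ M.index, h3, mul_comm (Nat.card (M ⊓ J : Subgroup G)) (Nat.card G), h1,
        mul_comm (Nat.card (M ⊓ J : Subgroup G)) (Nat.card M), mul_assoc, h2]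
    exact Nat.eq_of_mul_eq_mul_left (mul_pos Nat.card_pos Nat.card_pos) h5
  have hJodd : Odd J.index := by
    have h1 := card_index hB hM ⟨s, hs, t, ht, hs2, ht2, hne, hc⟩ hK
    rw [← hidx, card_index hB hSE hfourJ hKJ] at h1
    have h2 := congrArg (vp 2) J.card_mul_index
    simp only [vp, Nat.factorization_mul Nat.card_pos.ne' J.index_ne_zero_of_finite, Finsupp.add_apply] at h2 h1
    have h3 := Nat.pow_right_injective le_rfl (Nat.add_right_cancel h1)
    rw [← Nat.not_even_iff_odd]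
    intro he
    have := Nat.prime_two.factorization_pos_of_dvd J.index_ne_zero_of_finite he.two_dvd
    omega
  have hle : Cfsg.pElementClosure 2 (⊤ : Subgroup G) = J := by
    refine le_antisymm ((closure_le _).2 ?_) ((closure_le _).2 fun x hx => subset_closure ⟨mem_top x, 1, by simpa using hx⟩)
    rintro x ⟨-, k, hk⟩
    have h1 : orderOf (QuotientGroup.mk' J x) ∣ 2 ^ k := hk ▸ orderOf_map_dvd _ x
    have h2 : orderOf (QuotientGroup.mk' J x) ∣ J.index := by
      rw [Subgroup.index_eq_card]; exact orderOf_dvd_natCard _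
    exact (QuotientGroup.eq_one_iff x).1 (orderOf_eq_one_iff.1 (Nat.eq_one_of_dvd_coprimes
      (Nat.Coprime.pow_left k hJodd.coprime_two_left) h1 h2))
  rw [hle]
  exact family_of_simple hB hSE hfourJ

theorem closure_family_quot (hB : BenderGen.{u}) (hM : Cfsg.IsStronglyEmbedded M)
    (hfour : ∃ s ∈ M, ∃ t ∈ M, orderOf s = 2 ∧ orderOf t = 2 ∧ s ≠ t ∧ s * t = t * s)
    (K : Subgroup G) [K.Normal] (e : K = M.normalCore) :
    RankOneFamily ↥(Cfsg.pElementClosure 2 (⊤ : Subgroup (G ⧸ K))) := by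
  subst e
  refine closure_family hB (quot_stronglyEmbedded hM) (quot_four hM hfour) ((Subgroup.eq_bot_iff_forall _).2 fun z hz => ?_)
  obtain ⟨z, rfl⟩ := QuotientGroup.mk'_surjective _ z
  refine (QuotientGroup.eq_one_iff z).2 fun b => ?_
  have h1 := hz (QuotientGroup.mk' M.normalCore b)
  rw [← map_inv, ← map_mul, ← map_mul, mk_mem_map_iff] at h1
  exact h1

/-- S2798. -/
theorem structure_of_benderGen (hB : BenderGen.{u}) (hM : Cfsg.IsStronglyPEmbedded 2 M) :
    (∀ t : G, orderOf t = 2 → Cfsg.pPrimeCore 2 G ⊔ centralizer ({t} : Set G) = ⊤ ∧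
        ∀ u ∈ centralizer ({t} : Set G), orderOf u = 2 → u = t) ∨
      RankOneFamily ↥(Cfsg.pElementClosure 2 (⊤ : Subgroup (G ⧸ Cfsg.pPrimeCore 2 G))) := by
  haveI : Fact (Nat.Prime 2) := ⟨Nat.prime_two⟩
  have hSE := se_of_spe hM
  by_cases hr : RankOne G
  · refine Or.inl fun t ht => ⟨eq_top_iff.2 fun g _ => ?_, fun u hu hu2 => hr u t hu2 ht (mem_centralizer_singleton_iff.1 hu)⟩
    have hzp : IsPGroup 2 (zpowers t) := IsPGroup.of_card (n := 1) (by rw [Nat.card_zpowers, ht, pow_one])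
    obtain ⟨P, hP⟩ := hzp.exists_le_sylow
    have htP : t ∈ (P : Subgroup G) := hP (mem_zpowers t)
    have h := CfsgLib.ZStar.mem_oddCore_of_unique P ht htP (fun x hx hx2 => hr.unique P.isPGroup' hx htP hx2 ht) g
    rw [involution_inv ht, mul_assoc (t * g), mul_assoc t, ← mul_assoc g] at h
    obtain ⟨w, hw, he⟩ := exists_conj_of_mul_mem (CfsgLib.ZStar.odd_card_oddCore G) ht
      (show orderOf (g * t * g⁻¹) = 2 by rw [CfsgLib.Signalizer.orderOf_conj]; exact ht) h
    have h1 : w⁻¹ * g ∈ centralizer ({t} : Set G) := mem_centralizer_singleton_iff.2 (by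
      have : g * t = w * t * w⁻¹ * g := by rw [he]; group
      rw [mul_assoc, this]; group)
    have := mul_mem (mem_sup_left (T := centralizer ({t} : Set G)) hw) (mem_sup_right (S := Cfsg.oddCore G) h1)
    rwa [mul_inv_cancel_left] at this
  · have hfour := four_of_not_rankOne hSE hr
    exact Or.inr (closure_family_quot hB hSE hfour _
      (le_antisymm (oddCore_le_normalCore hSE hfour) (normalCore_le_oddCore hSE)))

end CfsgLib.Bender
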