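import Cfsg.Agent.Lib.Bender.Gen.Tools

/-!
Owner: helper15. Slice A of the general Bender theorem: the template.
-/

set_option autoImplicit false
set_option linter.style.haveILetI false
set_option linter.unusedSectionVars false

namespace CfsgLib.Bender

open Subgroup MulAction

universe u

variable {G Ω : Type*} [Group G] [Finite G] [MulAction G Ω] [Finite Ω]

theorem map_conj_pairStab (g : G) (a b : Ω) :
    (pairStab G a b).map (MulAut.conj g).toMonoidHom = pairStab G (g • a) (g • b) := by
  rw [pairStab, pairStab, Subgroup.map_inf _ _ _ (MulAut.conj g).injective, ← stabilizer_smul_eq,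
    ← stabilizer_smul_eq]

omit [Group G] [Finite G] [MulAction G Ω] in
/-- A function which grows along a permutation of a finite set is constant on its orbits. -/
theorem eq_comp_of_le {X : Set Ω} {h : Ω → Ω} (hb : Set.BijOn h X X) {f : Ω → ℕ}
    (hle : ∀ x ∈ X, f x ≤ f (h x)) : ∀ x ∈ X, f x = f (h x) := by
  classical
  set s := X.toFinite.toFinset with hs
  have hmem : ∀ x, x ∈ s ↔ x ∈ X := fun x => X.toFinite.mem_toFinset
  have hsum : ∑ x ∈ s, f x = ∑ x ∈ s, f (h x) :=
    (Finset.sum_nbij h (fun a ha => (hmem _).2 (hb.1 ((hmem a).1 ha)))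
      (fun a ha b hb' e => hb.2.1 ((hmem a).1 ha) ((hmem b).1 hb') e)
      (fun b hb' => by
        obtain ⟨a, ha, e⟩ := hb.2.2 ((hmem b).1 hb')
        exact ⟨a, (hmem a).2 ha, e⟩)
      (fun a _ => rfl)).symm
  exact fun x hx => (Finset.sum_eq_sum_iff_of_le fun y hy => hle y ((hmem y).1 hy)).1 hsum x
    ((hmem x).2 hx)

/-- No non-trivial subgroup at `x` is normalised by an involution at `w`, the pair stabiliser and a
swapper. -/
theorem false_of_normalized (hS : Setting0 G Ω) (hF : Faithful G Ω) (hK : NoTwo G Ω) {Q : Subgroup G}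
    {v s : G} {x w : Ω} (hxw : x ≠ w) (hv : InvAt v w) (hQ : Q ≠ ⊥) (hQx : Q ≤ stabilizer G x)
    (hvQ : v ∈ normalizer (Q : Set G)) (hE : pairStab G x w ≤ normalizer (Q : Set G))
    (hs : orderOf s = 2) (hsx : s • x = w) (hsQ : s ∈ normalizer (Q : Set G)) : False := by
  refine hxw ?_
  have hN : normalizer (Q : Set G) ≠ ⊤ := by
    intro htop
    haveI := normalizer_eq_top_iff.1 htop
    refine hQ ((eq_bot_iff_forall _).2 fun q hq => hF q fun y => ?_)
    obtain ⟨g, rfl⟩ := hS.trans x y
    have h1 : (g⁻¹ * q * g) • x = x := by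
      have h := hQx ((inferInstance : Q.Normal).conj_mem q hq g⁻¹)
      rw [inv_inv] at h
      exact h
    calc q • g • x = g • ((g⁻¹ * q * g) • x) := by simp [← mul_smul, mul_assoc]
      _ = g • x := by rw [h1]
  have h := hK _ w hN (fun t ht => ?_) s hsQ hs
  · exact ((hS.swap_back hs hsx).symm.trans h)
  · obtain ⟨d, hd, rfl⟩ := hS.conj_fixing hxw.symm hv ht
    have hdQ := hE ⟨hd.2, hd.1⟩
    exact mul_mem (mul_mem hdQ hvQ) (inv_mem hdQ)

theorem template_of (hS : Setting0 G Ω) (hF : Faithful G Ω) (hK : NoTwo G Ω) : Template G Ω := by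
  intro p hp hp2 v w X half hv hX hwX hbij hg hT
  haveI : Fact p.Prime := ⟨hp⟩
  choose! g hg1 hg2 using hg
  choose! T hT1 hT2 hT3 hT4 hT5 using hT
  have hne : ∀ x ∈ X, x ≠ w := fun x hx e => hwX (e ▸ hx)
  have hconj : ∀ x ∈ X, (pairStab G (half x) (v • half x)).map (MulAut.conj (g x)).toMonoidHom =
      pairStab G x w := fun x hx => by rw [map_conj_pairStab, hg1 x hx, hg2 x hx]
  have hle : ∀ x ∈ X, T x ≤ pairStab G x w := fun x hx =>
    le_inf ((hT1 x hx).le.trans inf_le_left) (hT4 x hx)
  have hcard : ∀ x ∈ X, Nat.card (pairStab G x w) = Nat.card (pairStab G (half x) (v • half x)) :=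
    fun x hx => by rw [← hconj x hx, card_map_conj]
  have hvp : ∀ x ∈ X, vp p (Nat.card (pairStab G x (v • x))) =
      vp p (Nat.card (pairStab G (half x) (v • half x))) :=
    eq_comp_of_le (f := fun x => vp p (Nat.card (pairStab G x (v • x)))) hbij fun x hx => by
      show vp p (Nat.card (pairStab G x (v • x))) ≤ vp p (Nat.card (pairStab G (half x) (v • half x)))
      rw [← (hT1 x hx).vp_eq, ← hcard x hx]
      exact vp_card_mono (hle x hx)
  have hTE : ∀ x ∈ X, IsSyl p (T x) (pairStab G x w) := fun x hx =>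
    ⟨hle x hx, by rw [(hT1 x hx).2, hvp x hx, hcard x hx]⟩
  have hoppE : ∀ x ∈ X, opp p (pairStab G x (v • x)) ≤ opp p (pairStab G x w) := fun x hx =>
    le_opp_of_normalized (hS.odd_pairStab (hne x hx)) (hTE x hx)
      (le_inf ((opp_le p _).trans inf_le_left) (hT5 x hx)) (card_opp p _)
      ((hT1 x hx).le.trans (le_normalizer.trans (le_normalizer_opp p _)))
  have hcopp : ∀ x ∈ X, Nat.card (opp p (pairStab G x w)) =
      Nat.card (opp p (pairStab G (half x) (v • half x))) :=
    fun x hx => by rw [← hconj x hx, opp_map_conj, card_map_conj]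
  have hopp : ∀ x ∈ X, Nat.card (opp p (pairStab G x (v • x))) =
      Nat.card (opp p (pairStab G (half x) (v • half x))) :=
    eq_comp_of_le (f := fun x => Nat.card (opp p (pairStab G x (v • x)))) hbij fun x hx => by
      show Nat.card (opp p (pairStab G x (v • x))) ≤
        Nat.card (opp p (pairStab G (half x) (v • half x)))
      rw [← hcopp x hx]
      exact card_le_of_le (hoppE x hx)
  obtain ⟨x, hx⟩ := hX
  have hxw : x ≠ w := hne x hx
  obtain ⟨s, hs, hsx⟩ := hS.exists_swapper hxw
  have hsE := hS.swapper_normalizer hs hsx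
  have hA : opp p (pairStab G x (v • x)) = opp p (pairStab G x w) :=
    eq_of_le_of_card_ge (hoppE x hx) (by rw [hopp x hx, hcopp x hx])
  by_cases hbot : opp p (pairStab G x w) = ⊥
  · refine false_of_normalized hS hF hK hxw hv
      (CfsgLib.Transfer.centerThompsonOf_ne_bot (p := p) (hT1 x hx).isPGroup (hT2 x hx))
      ((CfsgLib.OddLocal.centerThompson_le _).trans ((hle x hx).trans inf_le_left))
      (CfsgLib.OddLocal.normalizer_le_normalizer_centerThompson _ (hT3 x hx))
      (zj_le_normalizer hp2 (hS.odd_pairStab hxw) (hTE x hx) hbot) hs hsx ?_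
    have hQn := zj_le_normalizer hp2 (hS.odd_pairStab hxw) (hTE x hx) hbot
    have hTs : IsSyl p ((T x).map (MulAut.conj s).toMonoidHom) (pairStab G x w) := by
      have := (hTE x hx).map_conj s
      rwa [map_conj_eq_of_mem_normalizer hsE] at this
    obtain ⟨e, he, heT⟩ := (hTE x hx).exists_conj hTs
    have hker : ∀ a : G, Disjoint (T x) (MulAut.conj a).toMonoidHom.ker := fun a => by
      rw [(MonoidHom.ker_eq_bot_iff _).2 (MulAut.conj a).injective]
      exact disjoint_bot_right
    refine mem_normalizer_of_map_conj_eq ?_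
    rw [CfsgLib.OddLocal.centerThompson_map _ _ (hker s), ← heT,
      ← CfsgLib.OddLocal.centerThompson_map _ _ (hker e), map_conj_eq_of_mem_normalizer (hQn he)]
  · exact false_of_normalized hS hF hK hxw hv hbot ((opp_le p _).trans inf_le_left)
      (hA ▸ le_normalizer_opp p _ (hS.swapper_normalizer hv.1 rfl))
      (le_normalizer.trans (le_normalizer_opp p _)) hs hsx (le_normalizer_opp p _ hsE)

theorem templateStep : TemplateStep.{u} := fun _ _ _ _ _ _ => template_of

end CfsgLib.Bender
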