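import Cfsg.Agent.Lib.Bender.Gen.Cons
import Cfsg.Agent.Lib.Bender.Gen.SR
import Cfsg.Agent.Lib.Bender.Gen.Template
import Cfsg.Agent.Lib.Bender.Gen.NoMove
import Cfsg.Agent.Lib.Bender.Gen.CommStep
import Cfsg.Agent.Lib.Bender.Gen.CommChar
import Cfsg.Agent.Lib.Bender.Gen.NDescent
import Cfsg.Agent.Lib.Bender.Gen.NPerm
import Cfsg.Agent.Lib.Bender.Gen.NTorus
import Cfsg.Agent.Lib.Bender.Gen.Wiring
import Cfsg.Agent.Lib.Bender.Gen.Structure
import Cfsg.Agent.Lib.Bender.Gen.Maximal

/-!
Owner: helper24. General Bender theorem, slice E: the assembly from the finished slices. What is still taken as a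
hypothesis are the three sub-slices `RegKStep`, `SubBStep`, `FourierStep` of the noncommuting case.
-/

set_option autoImplicit false

namespace CfsgLib.Bender

universe u

/-- The general Bender theorem from the last three sub-slices of the noncommuting case. -/
theorem benderGen_of_noncomm (hK : RegKStep.{u}) (hB : SubBStep.{u}) (hF : FourierStep.{u}) : BenderGen.{u} :=
  benderGen_of_steps templateStep umStep srStep consStep (commStep commCharStep)
    (noncommStep_of NDescent.evilStep NDescent.descentStep hK hB hF)

end CfsgLib.Bender
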