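import Cfsg.Agent.Lib.Char.CATI
import Cfsg.Agent.Lib.Char.Complete

/-!
Owner: helper2 (slice F2). A self-centralising subgroup `A` with `k` orbits on its non-principal
characters: at most `k` irreducible characters are non-constant on `A - 1`, and a character
restricting to `A` as the regular character less one has norm `1` or `k`.
-/

set_option autoImplicit false
set_option linter.style.haveILetI false
set_option linter.unusedSectionVars false

namespace CfsgLib.Bender.CC

open CfsgLib.Char CfsgLib.CA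
open scoped ComplexConjugate Classical

variable {G : Type*} [Group G] [Fintype G] (A : Subgroup G) [Fintype A]

/-- The multiplicity of a character of `A` in a restriction. -/
noncomputable def res (χ : Cfsg.IrrCharacter G) (lam : Cfsg.IrrCharacter A) : ℕ :=
  (IsChar.classInner_eq_natCast (IsChar.restrict A (IsIrr.isCharacter χ.2))
    (IsIrr.isCharacter lam.2)).choose

theorem res_spec (χ : Cfsg.IrrCharacter G) (lam : Cfsg.IrrCharacter A) :
    Cfsg.classInner (fun a : A => (χ : G → ℂ) a) (lam : A → ℂ) = (res A χ lam : ℂ) :=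
  (IsChar.classInner_eq_natCast (IsChar.restrict A (IsIrr.isCharacter χ.2))
    (IsIrr.isCharacter lam.2)).choose_spec

theorem res_eq_of_conj (χ : Cfsg.IrrCharacter G) (lam mu : Cfsg.IrrCharacter A)
    (g : Subgroup.normalizer (A : Set G)) (e : (lam : A → ℂ) ∘ cj A g = (mu : A → ℂ)) :
    res A χ mu = res A χ lam := by
  have h : Cfsg.classInner (fun a : A => (χ : G → ℂ) a) (mu : A → ℂ) =
      Cfsg.classInner (fun a : A => (χ : G → ℂ) a) (lam : A → ℂ) := by
    rw [← e, Cfsg.classInner, Cfsg.classInner]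
    congr 1
    refine Fintype.sum_equiv (cj A g).toEquiv _ _ fun a => ?_
    simp only [Function.comp_apply, MulEquiv.toEquiv_eq_coe, MulEquiv.coe_toEquiv, coe_cj]
    rw [IsIrr.isClassFunction χ.2]
  rw [res_spec, res_spec] at h
  exact_mod_cast h

variable {A} (hA : SelfCent A)
include hA

theorem card_irr : Nat.card (Cfsg.IrrCharacter A) = Nat.card A := by
  haveI := Fintype.ofFinite (Cfsg.IrrCharacter A)
  have h := sum_sq_degree (G := A)
  simp only [degree_one hA, one_pow, Finset.sum_const, Finset.card_univ, nsmul_eq_mul, mul_one] at h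
  rw [Nat.card_eq_fintype_card]
  exact_mod_cast h

theorem res_value (χ : Cfsg.IrrCharacter G) (c : ℕ)
    (hc : ∀ lam : Cfsg.IrrCharacter A, lam ≠ trivChar A → res A χ lam = c) :
    (∀ a : A, a ≠ 1 → (χ : G → ℂ) a = (res A χ (trivChar A) : ℂ) - c) ∧
      (χ : G → ℂ) 1 = (res A χ (trivChar A) : ℂ) - c + (Nat.card A : ℂ) * c := by
  haveI := Fintype.ofFinite (Cfsg.IrrCharacter A)
  have hcl := IsChar.isClassFunction (IsChar.restrict A (IsIrr.isCharacter χ.2))
  have hval : ∀ a : A, (χ : G → ℂ) a = (res A χ (trivChar A) : ℂ) - c +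
      (c : ℂ) * ∑ lam : Cfsg.IrrCharacter A, (lam : A → ℂ) a := by
    intro a
    rw [classFunction_apply_eq_sum hcl a]
    simp only [res_spec]
    rw [Finset.mul_sum, ← Finset.add_sum_erase _ _ (Finset.mem_univ (trivChar A)),
      ← Finset.add_sum_erase _ (fun lam : Cfsg.IrrCharacter A => (c : ℂ) * (lam : A → ℂ) a)
        (Finset.mem_univ (trivChar A)), trivChar_apply]
    rw [Finset.sum_congr rfl (g := fun lam : Cfsg.IrrCharacter A => (c : ℂ) * (lam : A → ℂ) a)
      fun lam hl => by rw [hc lam (Finset.ne_of_mem_erase hl)]]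
    ring
  refine ⟨fun a ha => ?_, ?_⟩
  · have h0 := sum_degree_mul_apply_of_ne_one (G := A) ha
    simp only [degree_one hA, one_mul] at h0
    rw [hval a, h0, mul_zero, add_zero]
  · have h1 := hval 1
    simp only [degree_one hA, Finset.sum_const, Finset.card_univ, nsmul_eq_mul, mul_one,
      Subgroup.coe_one] at h1
    rw [h1, ← Nat.card_eq_fintype_card, card_irr hA]
    ring

variable {k : ℕ} (r : Fin k → Cfsg.IrrCharacter A) (hr1 : ∀ j, r j ≠ trivChar A)
  (hr2 : ∀ j l, j ≠ l → ∀ g : Subgroup.normalizer (A : Set G),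
    (r j : A → ℂ) ∘ cj A g ≠ (r l : A → ℂ))
  (hr3 : ∀ lam : Cfsg.IrrCharacter A, lam ≠ trivChar A →
    ∃ j, ∃ g : Subgroup.normalizer (A : Set G), (r j : A → ℂ) ∘ cj A g = (lam : A → ℂ))

/-- The difference vector. -/
noncomputable def diff (j l : Fin k) (χ : Cfsg.IrrCharacter G) : ℤ :=
  (res A χ (r j) : ℤ) - res A χ (r l)

theorem inner_ind (j l : Fin k) (χ : Cfsg.IrrCharacter G) :
    Cfsg.classInner (Cfsg.indFun A ((r j : A → ℂ) - (r l : A → ℂ))) (χ : G → ℂ) =
      (diff r j l χ : ℂ) := by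
  rw [frobenius_reciprocity A _ (IsIrr.isClassFunction χ.2), ← classInner_conj_symm,
    classInner_sub_right, res_spec, res_spec, diff]
  push_cast
  simp

include hr1 hr2 in
theorem sum_sq_diff [Fintype (Cfsg.IrrCharacter G)] {j l : Fin k} (hjl : j ≠ l) :
    ∑ χ : Cfsg.IrrCharacter G, diff r j l χ * diff r j l χ = 2 := by
  haveI := Fintype.ofFinite (Subgroup.normalizer (A : Set G))
  set f : A → ℂ := (r j : A → ℂ) - (r l : A → ℂ) with hf
  have hf1 : f 1 = 0 := by simp [hf, degree_one hA]
  have h := classInner_indFun hA f hf1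
  have hterm : ∀ g : Subgroup.normalizer (A : Set G),
      Cfsg.classInner f (f ∘ cj A g) = if (g : G) ∈ A then 2 else 0 := by
    intro g
    have hcomp : f ∘ cj A g = (⟨_, isIrr_comp_cj g (r j)⟩ : Cfsg.IrrCharacter A).1 -
        (⟨_, isIrr_comp_cj g (r l)⟩ : Cfsg.IrrCharacter A).1 := rfl
    rw [hcomp, hf, classInner_sub_left, classInner_sub_right, classInner_sub_right,
      classInner_irr, classInner_irr, classInner_irr, classInner_irr]
    have e1 : (r j = (⟨_, isIrr_comp_cj g (r j)⟩ : Cfsg.IrrCharacter A)) ↔ (g : G) ∈ A :=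
      ⟨fun e => (fix_iff hA (hr1 j) g).1 (congrArg Subtype.val e).symm,
        fun e => Subtype.ext ((fix_iff hA (hr1 j) g).2 e).symm⟩
    have e2 : (r l = (⟨_, isIrr_comp_cj g (r l)⟩ : Cfsg.IrrCharacter A)) ↔ (g : G) ∈ A :=
      ⟨fun e => (fix_iff hA (hr1 l) g).1 (congrArg Subtype.val e).symm,
        fun e => Subtype.ext ((fix_iff hA (hr1 l) g).2 e).symm⟩
    rw [if_neg (fun e : r j = ⟨_, isIrr_comp_cj g (r l)⟩ =>
        hr2 l j hjl.symm g (congrArg Subtype.val e).symm),
      if_neg (fun e : r l = ⟨_, isIrr_comp_cj g (r j)⟩ =>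
        hr2 j l hjl g (congrArg Subtype.val e).symm)]
    by_cases hg : (g : G) ∈ A
    · rw [if_pos (e1.2 hg), if_pos (e2.2 hg), if_pos hg]; norm_num
    · rw [if_neg (mt e1.1 hg), if_neg (mt e2.1 hg), if_neg hg]; norm_num
  rw [Finset.sum_congr rfl fun g _ => hterm g, Finset.sum_ite, Finset.sum_const_zero, add_zero,
    Finset.sum_const, nsmul_eq_mul] at h
  have hc : (Finset.univ.filter fun g : Subgroup.normalizer (A : Set G) => (g : G) ∈ A).card =
      Nat.card A := by
    rw [← Fintype.card_subtype, ← Nat.card_eq_fintype_card]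
    exact Nat.card_congr ⟨fun g => ⟨_, g.2⟩, fun a => ⟨⟨a, Subgroup.le_normalizer a.2⟩, a.2⟩,
      fun _ => rfl, fun _ => rfl⟩
  rw [hc] at h
  have h2 := mul_left_cancel₀ (Nat.cast_ne_zero.2 Nat.card_pos.ne') h
  rw [classInner_eq_sum (isClassFunction_indFun A f)] at h2
  simp only [hf, inner_ind hA r, map_intCast, ← Int.cast_mul] at h2
  exact_mod_cast h2

include hr1 hr2 in
theorem sum_diff_mul [Fintype (Cfsg.IrrCharacter G)] {i j l : Fin k} (hij : i ≠ j) (hil : i ≠ l)
    (hjl : j ≠ l) : ∑ χ : Cfsg.IrrCharacter G, diff r i j χ * diff r i l χ = 1 := by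
  have h1 := sum_sq_diff hA r hr1 hr2 hij
  have h2 := sum_sq_diff hA r hr1 hr2 hil
  have h3 := sum_sq_diff hA r hr1 hr2 hjl
  have e : ∀ χ : Cfsg.IrrCharacter G, diff r j l χ * diff r j l χ =
      diff r i l χ * diff r i l χ + diff r i j χ * diff r i j χ - 2 * (diff r i j χ * diff r i l χ) :=
    fun χ => by simp only [diff]; ring
  simp only [e, Finset.sum_sub_distrib, Finset.sum_add_distrib, ← Finset.mul_sum, h1, h2] at h3
  omega

/-- The characters non-constant on the non-identity elements. -/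
noncomputable def nonconst [Fintype (Cfsg.IrrCharacter G)] : Finset (Cfsg.IrrCharacter G) :=
  Finset.univ.filter fun χ => ∃ j l, diff r j l χ ≠ 0

omit hA in
theorem card_supp_le_two {ι : Type*} [Fintype ι] (f : ι → ℤ) (h : ∑ i, f i * f i = 2) :
    (Finset.univ.filter fun i => f i ≠ 0).card ≤ 2 := by
  have h1 : ∑ i ∈ Finset.univ.filter (fun i => f i ≠ 0), (1 : ℤ) ≤ ∑ i, f i * f i := by
    refine le_trans (Finset.sum_le_sum fun i hi => ?_)
      (Finset.sum_le_univ_sum_of_nonneg fun i => mul_self_nonneg _)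
    have := (Finset.mem_filter.1 hi).2
    have := mul_self_pos.2 this
    omega
  rw [h, Finset.sum_const, nsmul_one] at h1
  exact_mod_cast h1

include hr1 hr2 in
theorem card_nonconst [Fintype (Cfsg.IrrCharacter G)] :
    (nonconst r).card ≤ k ∧ (k ≤ 1 → nonconst r = ∅) := by
  have hempty : k ≤ 1 → nonconst r = ∅ := fun hk => by
    refine Finset.filter_eq_empty_iff.2 fun χ _ => ?_
    rintro ⟨j, l, hd⟩
    rw [show j = l from Fin.ext (by omega)] at hd
    exact hd (sub_self _)
  refine ⟨?_, hempty⟩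
  by_cases hk : k ≤ 1
  · rw [hempty hk]; exact Nat.zero_le _
  set i : Fin k := ⟨0, by omega⟩
  set j₀ : Fin k := ⟨1, by omega⟩
  let supp : Fin k → Finset (Cfsg.IrrCharacter G) := fun l =>
    Finset.univ.filter fun χ => diff r i l χ ≠ 0
  have hsupp : ∀ l, l ≠ i → (supp l).card ≤ 2 := fun l hl =>
    card_supp_le_two _ (sum_sq_diff hA r hr1 hr2 hl.symm)
  have hij : i ≠ j₀ := fun e => by simpa [i, j₀] using congrArg Fin.val e
  have hstep : ∀ l, l ≠ i → l ≠ j₀ → (supp l \ supp j₀).card ≤ 1 := by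
    intro l hl hl'
    have hmeet : (supp l ∩ supp j₀).Nonempty := by
      by_contra hne
      rw [Finset.not_nonempty_iff_eq_empty] at hne
      have h := sum_diff_mul hA r hr1 hr2 hij hl.symm hl'.symm
      rw [Finset.sum_eq_zero fun χ _ => ?_] at h
      · exact zero_ne_one h
      · by_contra hχ
        obtain ⟨h1, h2⟩ := mul_ne_zero_iff.1 hχ
        have : χ ∈ supp l ∩ supp j₀ := Finset.mem_inter.2
          ⟨Finset.mem_filter.2 ⟨Finset.mem_univ _, h2⟩, Finset.mem_filter.2 ⟨Finset.mem_univ _, h1⟩⟩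
        rw [hne] at this
        exact Finset.notMem_empty _ this
    have := Finset.card_sdiff_add_card_inter (supp l) (supp j₀)
    have := hsupp l hl
    have := hmeet.card_pos
    omega
  have hsub : nonconst r ⊆ supp j₀ ∪ ((Finset.univ.erase i).erase j₀).biUnion
      (fun l => supp l \ supp j₀) := by
    intro χ hχ
    obtain ⟨j, l, hd⟩ := (Finset.mem_filter.1 hχ).2
    by_contra hno
    rw [Finset.mem_union, Finset.mem_biUnion] at hno
    push Not at hno
    have hall : ∀ p, diff r i p χ = 0 := by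
      intro p
      by_contra hp
      have hpm : χ ∈ supp p := Finset.mem_filter.2 ⟨Finset.mem_univ _, hp⟩
      by_cases hpj : p = j₀
      · exact hno.1 (hpj ▸ hpm)
      · refine hno.2 p (Finset.mem_erase.2 ⟨hpj, Finset.mem_erase.2 ⟨fun e => hp ?_, Finset.mem_univ _⟩⟩)
          (Finset.mem_sdiff.2 ⟨hpm, hno.1⟩)
        rw [e]; exact sub_self _
    refine hd ?_
    have e : diff r j l χ = diff r i l χ - diff r i j χ := by simp only [diff]; ring
    rw [e, hall, hall, sub_zero]
  refine (Finset.card_le_card hsub).trans ((Finset.card_union_le _ _).trans ?_)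
  have h3 : (((Finset.univ.erase i).erase j₀).biUnion fun l => supp l \ supp j₀).card ≤
      ((Finset.univ.erase i).erase j₀).card * 1 :=
    Finset.card_biUnion_le_card_mul _ _ _ fun l hl =>
      hstep l (Finset.ne_of_mem_erase (Finset.mem_of_mem_erase hl)) (Finset.ne_of_mem_erase hl)
  rw [Finset.card_erase_of_mem (Finset.mem_erase.2 ⟨hij.symm, Finset.mem_univ _⟩),
    Finset.card_erase_of_mem (Finset.mem_univ _), Finset.card_univ, Fintype.card_fin] at h3
  have := hsupp j₀ hij.symm
  omega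

include hr3 in
theorem res_const [Fintype (Cfsg.IrrCharacter G)] {χ : Cfsg.IrrCharacter G}
    (hχ : χ ∉ nonconst r) (j : Fin k) :
    ∀ lam : Cfsg.IrrCharacter A, lam ≠ trivChar A → res A χ lam = res A χ (r j) := by
  intro lam hlam
  obtain ⟨l, g, hg⟩ := hr3 lam hlam
  rw [res_eq_of_conj A χ (r l) lam g hg]
  by_contra hne
  refine hχ (Finset.mem_filter.2 ⟨Finset.mem_univ _, l, j, fun e => hne ?_⟩)
  simp only [diff, sub_eq_zero] at e
  exact_mod_cast e

include hr1 hr2 hr3 in
/-- A character restricting to `A` as the regular character less one has norm `1` or `k`. -/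
theorem norm_dichotomy [Fintype (Cfsg.IrrCharacter G)] {ψ : G → ℂ}
    (hψ : Cfsg.IsCharacter G ψ)
    (h0 : Cfsg.classInner (fun a : A => ψ a) (trivChar A : A → ℂ) = 0)
    (h1 : ∀ lam : Cfsg.IrrCharacter A, lam ≠ trivChar A →
      Cfsg.classInner (fun a : A => ψ a) (lam : A → ℂ) = 1) :
    Cfsg.classInner ψ ψ = 1 ∨ Cfsg.classInner ψ ψ = (k : ℂ) := by
  obtain ⟨M, hM⟩ := IsChar.exists_sum hψ
  have hres : ∀ lam : Cfsg.IrrCharacter A, Cfsg.classInner (fun a : A => ψ a) (lam : A → ℂ) =
      ((∑ χ : Cfsg.IrrCharacter G, M χ * res A χ lam : ℕ) : ℂ) := by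
    intro lam
    rw [hM, show (fun a : A => (∑ χ : Cfsg.IrrCharacter G, (M χ : ℂ) • (χ : G → ℂ)) a) =
      ∑ χ : Cfsg.IrrCharacter G, (M χ : ℂ) • (fun a : A => (χ : G → ℂ) a) by funext a; simp,
      classInner_sum_left, Nat.cast_sum]
    refine Finset.sum_congr rfl fun χ _ => ?_
    rw [classInner_smul_left, res_spec, Nat.cast_mul]
  have hz : ∀ χ, M χ ≠ 0 → res A χ (trivChar A) = 0 := by
    intro χ hχ
    have h : (∑ χ : Cfsg.IrrCharacter G, M χ * res A χ (trivChar A)) = 0 := by
      have := (hres (trivChar A)).symm.trans h0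
      exact_mod_cast this
    exact (mul_eq_zero.1 (Finset.sum_eq_zero_iff.1 h χ (Finset.mem_univ _))).resolve_left hχ
  have hj : ∀ j : Fin k, ∑ χ : Cfsg.IrrCharacter G, M χ * res A χ (r j) = 1 := by
    intro j
    have := (hres (r j)).symm.trans (h1 _ (hr1 j))
    exact_mod_cast this
  have huniq : ∀ j : Fin k, ∃ χ, M χ = 1 ∧ res A χ (r j) = 1 ∧
      ∀ χ', χ' ≠ χ → M χ' * res A χ' (r j) = 0 := by
    intro j
    obtain ⟨χ, hχ⟩ : ∃ χ, M χ * res A χ (r j) ≠ 0 := by
      by_contra hall
      push Not at hall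
      have := hj j
      rw [Finset.sum_eq_zero fun χ _ => hall χ] at this
      exact zero_ne_one this
    have h := hj j
    rw [← Finset.add_sum_erase _ _ (Finset.mem_univ χ)] at h
    have h' : M χ * res A χ (r j) = 1 := by omega
    have h'' : ∑ x ∈ Finset.univ.erase χ, M x * res A x (r j) = 0 := by omega
    exact ⟨χ, Nat.eq_one_of_mul_eq_one_right h', Nat.eq_one_of_mul_eq_one_left h',
      fun χ' hne => Finset.sum_eq_zero_iff.1 h'' χ' (Finset.mem_erase.2 ⟨hne, Finset.mem_univ _⟩)⟩
  choose f hf1 hf2 hf3 using huniq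
  have hsupp : ∀ χ, M χ ≠ 0 → ∃ j, f j = χ := by
    intro χ hχ
    by_contra hno
    push Not at hno
    have hzero : ∀ lam : Cfsg.IrrCharacter A, lam ≠ trivChar A → res A χ lam = 0 := by
      intro lam hlam
      obtain ⟨j, g, hg⟩ := hr3 lam hlam
      rw [res_eq_of_conj A χ (r j) lam g hg]
      exact (mul_eq_zero.1 (hf3 j χ (Ne.symm (hno j)))).resolve_left hχ
    obtain ⟨-, h1'⟩ := res_value hA χ 0 hzero
    rw [hz χ hχ] at h1'
    exact IsIrr.apply_one_ne_zero χ.2 (by simpa using h1')
  have hnorm : Cfsg.classInner ψ ψ = ((∑ χ, M χ * M χ : ℕ) : ℂ) := by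
    rw [hM, IsChar.classInner_self]
    simp
  by_cases hinj : Function.Injective f
  · right
    rw [hnorm]
    have e : ∑ χ, M χ * M χ = ∑ χ ∈ Finset.univ.image f, M χ * M χ := by
      symm
      refine Finset.sum_subset (Finset.subset_univ _) fun χ _ hχ => ?_
      by_contra hne
      obtain ⟨j, hj'⟩ := hsupp χ (mul_ne_zero_iff.1 hne).1
      exact hχ (Finset.mem_image.2 ⟨j, Finset.mem_univ _, hj'⟩)
    rw [e, Finset.sum_image fun x _ y _ he => hinj he]
    simp [hf1]
  · left
    obtain ⟨j, l, hfjl, hjl⟩ := Function.not_injective_iff.1 hinj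
    have hall : ∀ i, f i = f j := by
      intro i
      by_contra hi
      have hij : i ≠ j := fun e => hi (e ▸ rfl)
      set χ₁ := f j
      set χ₂ := f i
      have hd1 : diff r j i χ₁ = 1 := by
        simp [diff, χ₁, hf2 j,
          (mul_eq_zero.1 (hf3 i (f j) (Ne.symm hi))).resolve_left (by rw [hf1]; exact one_ne_zero)]
      have hd2 : diff r j i χ₂ = -1 := by
        simp [diff, χ₂, hf2 i,
          (mul_eq_zero.1 (hf3 j (f i) hi)).resolve_left (by rw [hf1]; exact one_ne_zero)]
      have hd3 : diff r j l χ₁ = 0 := by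
        simp only [diff, χ₁, hf2 j]
        rw [show res A (f j) (r l) = 1 from by rw [show f j = f l from hfjl]; exact hf2 l]
        norm_num
      have hd4 : diff r j l χ₂ = 0 := by
        simp only [diff, χ₂]
        rw [(mul_eq_zero.1 (hf3 j (f i) hi)).resolve_left (by rw [hf1]; exact one_ne_zero),
          (mul_eq_zero.1 (hf3 l (f i) (by rw [← hfjl]; exact hi))).resolve_left
            (by rw [hf1]; exact one_ne_zero)]
        norm_num
      -- nothing is left for the support of `diff j i`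
      have hother : ∀ χ, χ ≠ χ₁ → χ ≠ χ₂ → diff r j i χ = 0 := by
        intro χ h1' h2'
        have h := sum_sq_diff hA r hr1 hr2 hij.symm
        rw [← Finset.add_sum_erase _ _ (Finset.mem_univ χ₁),
          ← Finset.add_sum_erase _ _ (Finset.mem_erase.2 ⟨hi, Finset.mem_univ χ₂⟩), hd1, hd2] at h
        have h0 : ∑ x ∈ (Finset.univ.erase χ₁).erase χ₂, diff r j i x * diff r j i x = 0 := by
          linarith
        exact mul_self_eq_zero.1 ((Finset.sum_eq_zero_iff_of_nonneg fun x _ => mul_self_nonneg _).1 h0 χ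
          (Finset.mem_erase.2 ⟨h2', Finset.mem_erase.2 ⟨h1', Finset.mem_univ _⟩⟩))
      have hil : i ≠ l := fun e => hi (show f i = f j by rw [e]; exact hfjl.symm)
      have h := sum_diff_mul hA r hr1 hr2 hij.symm hjl hil
      rw [Finset.sum_eq_zero fun χ _ => ?_] at h
      · exact zero_ne_one h
      · by_cases e1 : χ = χ₁
        · rw [e1, hd3, mul_zero]
        by_cases e2 : χ = χ₂
        · rw [e2, hd4, mul_zero]
        rw [hother χ e1 e2, zero_mul]
    rw [hnorm, Finset.sum_eq_single (f j) (fun χ _ hne => ?_) (fun hn => absurd (Finset.mem_univ _) hn),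
      hf1, mul_one, Nat.cast_one]
    by_contra h'
    obtain ⟨i, hi⟩ := hsupp χ (mul_ne_zero_iff.1 h').1
    exact hne (hi ▸ hall i)

end CfsgLib.Bender.CC
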