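import Cfsg.Agent.Lib.Bender.Gen.CommSig
import Mathlib.FieldTheory.Finite.Basic
import Mathlib.FieldTheory.Perfect

/-!
Owner: helper2 (slice F2). The two-point stabiliser as the semilinear group: scalars and their
fixed points.
-/

set_option autoImplicit false
set_option linter.style.haveILetI false
set_option linter.unusedSectionVars false

namespace CfsgLib.Bender

open Subgroup MulAction
open CfsgLib.Signalizer (involution_sq involution_inv orderOf_eq_two_of involution_ne_one)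

variable {G Ω : Type*} [Group G] [Finite G] [MulAction G Ω] [Finite Ω] {a b : Ω} {q : ℕ}
  {F : Type*} [Field F] {coord : Multiplicative F →* G}

/-- The element attached to a field element. -/
abbrev el (coord : Multiplicative F →* G) (x : F) : G := coord (Multiplicative.ofAdd x)

/-- The involutions at a point. -/
abbrev IAt (G : Type*) {Ω : Type*} [Group G] [MulAction G Ω] (a : Ω) : Type _ := {t : G // InvAt t a}

theorem el_add (x y : F) : el coord (x + y) = el coord x * el coord y := by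
  rw [el, el, el, ofAdd_add, map_mul]

theorem el_zero : el coord (0 : F) = 1 := by rw [el, ofAdd_zero, map_one]

theorem el_comm (x y : F) : el coord x * el coord y = el coord y * el coord x := by
  rw [← el_add, ← el_add, add_comm]

namespace CommData

variable (h : CommData G a b q F coord)
include h

theorem el_inj {x y : F} (e : el coord x = el coord y) : x = y :=
  Multiplicative.ofAdd.injective (h.injective e)

theorem inv_el {x : F} (hx : x ≠ 0) : InvAt (el coord x) a := (h.inv_iff _).2 ⟨x, hx, rfl⟩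

theorem exists_el {t : G} (ht : InvAt t a) : ∃ x : F, x ≠ 0 ∧ el coord x = t := (h.inv_iff t).1 ht

theorem finite_field : Finite F :=
  Finite.of_injective (fun x : F => el coord x) fun _ _ e => h.el_inj e

theorem add_self (x : F) : x + x = 0 := by
  by_cases hx : x = 0
  · rw [hx, add_zero]
  · refine h.el_inj ?_
    rw [el_add, el_zero, involution_sq (h.inv_el hx).1]

theorem charP : CharP F 2 := by
  haveI : NeZero (1 : F) := ⟨one_ne_zero⟩
  exact CharTwo.of_one_ne_zero_of_two_eq_zero one_ne_zero (by rw [← one_add_one_eq_two, h.add_self])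

/-- The bijection with the non-zero field elements. -/
noncomputable def invEquiv : {x : F // x ≠ 0} ≃ IAt G a :=
  Equiv.ofBijective (fun x => ⟨el coord x.1, h.inv_el x.2⟩)
    ⟨fun x y e => Subtype.ext (h.el_inj (congrArg Subtype.val e)), fun t => by
      obtain ⟨x, hx, e⟩ := h.exists_el t.2
      exact ⟨⟨x, hx⟩, Subtype.ext e⟩⟩

theorem card_ne_zero : Nat.card {x : F // x ≠ 0} = 2 ^ q - 1 := by
  haveI := h.finite_field
  classical
  haveI := Fintype.ofFinite F
  rw [Nat.card_eq_fintype_card, Fintype.card_subtype_compl, Fintype.card_subtype_eq,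
    ← Nat.card_eq_fintype_card, h.card_field]

theorem card_inv : Nat.card (IAt G a) = 2 ^ q - 1 := by
  rw [← Nat.card_congr h.invEquiv, h.card_ne_zero]

theorem exists_conj_el {g : G} (hg : g • a = a) (x : F) :
    ∃ y : F, g * el coord x * g⁻¹ = el coord y := by
  by_cases hx : x = 0
  · exact ⟨0, by rw [hx, el_zero, mul_one, mul_inv_cancel]⟩
  · obtain ⟨y, -, hy⟩ := h.exists_el ((h.inv_el hx).conj' hg)
    exact ⟨y, hy.symm⟩

/-- Congruent involutions are equal. -/
theorem eq_of_congr {s t : G} (hs : InvAt s a) (ht : InvAt t a) (hst : s * t ∈ core G a) : s = t := by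
  obtain ⟨x, -, rfl⟩ := h.exists_el hs
  obtain ⟨y, -, rfl⟩ := h.exists_el ht
  rw [← el_add] at hst
  by_cases hxy : x + y = 0
  · congr 2
    rw [← add_right_cancel_iff (a := y), hxy, h.add_self]
  · exact absurd hst (not_mem_of_odd (core_odd a) (h.inv_el hxy).1)

theorem semilinear' (d : G) (hd : d ∈ pairStab G a b) : ∃ (c : F) (σ : F ≃+* F), ∀ x : F,
    d * el coord x * d⁻¹ = el coord (c * σ x) := h.semilinear d hd

theorem coeff_ne_zero {d : G} {c : F} {σ : F ≃+* F}
    (he : ∀ x : F, d * el coord x * d⁻¹ = el coord (c * σ x)) : c ≠ 0 := by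
  intro hc
  have h1 := he 1
  rw [hc, zero_mul, el_zero, conj_eq_one_iff, ← el_zero (coord := coord)] at h1
  exact one_ne_zero (h.el_inj h1)

theorem semilinear_unique {d : G} {c c' : F} {σ σ' : F ≃+* F}
    (he : ∀ x : F, d * el coord x * d⁻¹ = el coord (c * σ x))
    (he' : ∀ x : F, d * el coord x * d⁻¹ = el coord (c' * σ' x)) : c = c' ∧ σ = σ' := by
  have h1 := h.el_inj ((he 1).symm.trans (he' 1))
  rw [map_one, map_one, mul_one, mul_one] at h1
  refine ⟨h1, RingEquiv.ext fun x => ?_⟩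
  have h2 := h.el_inj ((he x).symm.trans (he' x))
  rw [← h1] at h2
  exact mul_left_cancel₀ (h.coeff_ne_zero he) h2

theorem card_aut : Nat.card (F ≃+* F) = q := by
  haveI := h.finite_field
  haveI := h.charP
  haveI : Fact (Nat.Prime 2) := ⟨Nat.prime_two⟩
  letI : Algebra (ZMod 2) F := ZMod.algebra F 2
  let e : (F ≃+* F) ≃ (F ≃ₐ[ZMod 2] F) :=
    { toFun := fun σ => AlgEquiv.ofRingEquiv (f := σ) fun x =>
        RingHom.congr_fun (Subsingleton.elim ((σ : F →+* F).comp (algebraMap (ZMod 2) F))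
          (algebraMap (ZMod 2) F)) x
      invFun := fun τ => τ.toRingEquiv
      left_inv := fun σ => RingEquiv.ext fun _ => rfl
      right_inv := fun τ => AlgEquiv.ext fun _ => rfl }
  rw [Nat.card_congr e, IsGalois.card_aut_eq_finrank]
  have h1 := Module.natCard_eq_pow_finrank (K := ZMod 2) (V := F)
  rw [h.card_field, Nat.card_zmod] at h1
  exact (Nat.pow_right_injective (le_refl 2) h1).symm

/-- A non-trivial automorphism fixes only `0` and `1`. -/
theorem fixed_aut {σ : F ≃+* F} (hσ : σ ≠ 1) {x : F} (hx : σ x = x) : x = 0 ∨ x = 1 := by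
  haveI := h.finite_field
  haveI := h.charP
  haveI : Fact (Nat.Prime 2) := ⟨Nat.prime_two⟩
  haveI : Fact q.Prime := ⟨h.prime⟩
  have htop : zpowers σ = ⊤ := zpowers_eq_top_of_prime_card h.card_aut hσ
  let S : Subgroup (F ≃+* F) := stabilizer (F ≃+* F) x
  have hS : σ ∈ S := hx
  have hfr : (frobeniusEquiv F 2 : F ≃+* F) ∈ S := by
    have : (frobeniusEquiv F 2 : F ≃+* F) ∈ zpowers σ := htop ▸ mem_top _
    exact zpowers_le.2 hS this
  have h2 : x ^ 2 = x := by
    rw [← frobeniusEquiv_def (R := F) (p := 2)]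
    exact hfr
  rcases eq_or_ne x 0 with h0 | h0
  · exact Or.inl h0
  · exact Or.inr (mul_left_cancel₀ h0 (by rw [mul_one, ← pow_two, h2]))

/-- Every semilinear map is realised. -/
theorem realize {c : F} (hc : c ≠ 0) (σ : F ≃+* F) :
    ∃ d ∈ pairStab G a b, ∀ x : F, d * el coord x * d⁻¹ = el coord (c * σ x) := by
  haveI := h.finite_field
  choose cf σf hf using fun d : pairStab G a b => h.semilinear' d d.2
  let f : pairStab G a b → {x : F // x ≠ 0} × (F ≃+* F) :=
    fun d => (⟨cf d, h.coeff_ne_zero (hf d)⟩, σf d)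
  have hinj : Function.Injective f := by
    intro d d' e
    have e1 : cf d = cf d' := congrArg (fun p => (p.1 : F)) e
    have e2 : σf d = σf d' := congrArg Prod.snd e
    refine (inv_mul_eq_one.1 (Subtype.ext (h.faithful _ (d'⁻¹ * d).2 fun t ht => ?_) :
      d'⁻¹ * d = 1)).symm
    obtain ⟨x, -, rfl⟩ := h.exists_el ht
    have h1 : (d : G) * el coord x * (d : G)⁻¹ = (d' : G) * el coord x * (d' : G)⁻¹ :=
      (hf d x).trans (by rw [e1, e2]; exact (hf d' x).symm)
    push_cast
    calc (d' : G)⁻¹ * d * el coord x = (d' : G)⁻¹ * (d * el coord x * (d : G)⁻¹) * d := by group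
      _ = el coord x * ((d' : G)⁻¹ * d) := by rw [h1]; group
  have hbij : Function.Bijective f := by
    haveI : Finite (F ≃+* F) :=
      Nat.finite_of_card_ne_zero (by rw [h.card_aut]; exact h.prime.ne_zero)
    refine hinj.bijective_of_nat_card_le (le_of_eq ?_)
    rw [Nat.card_prod, h.card_ne_zero, h.card_aut, h.card_pair]
  obtain ⟨d, hd⟩ := hbij.2 (⟨c, hc⟩, σ)
  refine ⟨d, d.2, fun x => ?_⟩
  have e1 : cf d = c := congrArg (fun p => (p.1 : F)) hd
  have e2 : σf d = σ := congrArg Prod.snd hd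
  rw [← e1, ← e2]
  exact hf d x

/-- The scalars of the two-point stabiliser. -/
def scal : Subgroup G where
  carrier := {d | d ∈ pairStab G a b ∧ ∃ c : F, ∀ x : F, d * el coord x * d⁻¹ = el coord (c * x)}
  one_mem' := ⟨one_mem _, 1, fun x => by rw [one_mul, one_mul, inv_one, mul_one]⟩
  mul_mem' := by
    rintro s t ⟨hs, c, hc⟩ ⟨ht, c', hc'⟩
    refine ⟨mul_mem hs ht, c * c', fun x => ?_⟩
    rw [show s * t * el coord x * (s * t)⁻¹ = s * (t * el coord x * t⁻¹) * s⁻¹ by group, hc', hc,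
      mul_assoc]
  inv_mem' := by
    rintro s ⟨hs, c, hc⟩
    refine ⟨inv_mem hs, c⁻¹, fun x => ?_⟩
    have hc0 : c ≠ 0 := h.coeff_ne_zero (σ := RingEquiv.refl F) hc
    have := hc (c⁻¹ * x)
    rw [mul_inv_cancel_left₀ hc0] at this
    rw [← this]
    group

theorem mem_scal {d : G} : d ∈ h.scal ↔
    d ∈ pairStab G a b ∧ ∃ c : F, ∀ x : F, d * el coord x * d⁻¹ = el coord (c * x) := Iff.rfl

theorem scal_le : h.scal ≤ pairStab G a b := fun _ hd => hd.1

theorem eq_of_scalar {d d' : G} (hd : d ∈ pairStab G a b) (hd' : d' ∈ pairStab G a b)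
    (he : ∀ x : F, d * el coord x * d⁻¹ = d' * el coord x * d'⁻¹) : d = d' := by
  refine (inv_mul_eq_one.1 (h.faithful _ (mul_mem (inv_mem hd') hd) fun t ht => ?_)).symm
  obtain ⟨x, -, rfl⟩ := h.exists_el ht
  calc d'⁻¹ * d * el coord x = d'⁻¹ * (d * el coord x * d⁻¹) * d := by group
    _ = el coord x * (d'⁻¹ * d) := by rw [he x]; group

theorem card_scal : Nat.card h.scal = 2 ^ q - 1 := by
  choose d hd hde using fun c : {x : F // x ≠ 0} => h.realize c.2 (RingEquiv.refl F)
  rw [← h.card_ne_zero]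
  refine (Nat.card_congr (Equiv.ofBijective
    (fun c : {x : F // x ≠ 0} => (⟨d c, hd c, c.1, hde c⟩ : h.scal)) ⟨fun c c' e => ?_, fun s => ?_⟩)).symm
  · have e' : d c = d c' := congrArg Subtype.val e
    have h1 := (hde c 1).symm.trans (e' ▸ hde c' 1)
    simpa using Subtype.ext_iff.2 (show (c : F) = c' by simpa using h.el_inj h1)
  · obtain ⟨c, hc⟩ := s.2.2
    have hc0 : c ≠ 0 := h.coeff_ne_zero (σ := RingEquiv.refl F) hc
    refine ⟨⟨c, hc0⟩, Subtype.ext ?_⟩
    exact h.eq_of_scalar (hd _) s.2.1 fun x => (hde ⟨c, hc0⟩ x).trans (hc x).symm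

theorem scal_conj {d : G} (hd : d ∈ pairStab G a b) {s : G} (hs : s ∈ h.scal) :
    d * s * d⁻¹ ∈ h.scal := by
  obtain ⟨hsD, ξ, hξ⟩ := hs
  obtain ⟨c, σ, hσ⟩ := h.semilinear' d hd
  have hc0 : c ≠ 0 := h.coeff_ne_zero hσ
  refine ⟨mul_mem (mul_mem hd hsD) (inv_mem hd), σ ξ, fun y => ?_⟩
  set x := σ.symm (c⁻¹ * y)
  have hy : d * el coord x * d⁻¹ = el coord y := by
    rw [hσ, RingEquiv.apply_symm_apply, mul_inv_cancel_left₀ hc0]
  calc d * s * d⁻¹ * el coord y * (d * s * d⁻¹)⁻¹ = d * (s * el coord x * s⁻¹) * d⁻¹ := by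
        rw [← hy]; group
    _ = el coord (σ ξ * y) := by
        rw [hξ, hσ, map_mul, RingEquiv.apply_symm_apply, mul_left_comm c, mul_inv_cancel_left₀ hc0]

theorem scal_comm {s t : G} (hs : s ∈ h.scal) (ht : t ∈ h.scal) : s * t = t * s := by
  obtain ⟨c, hc⟩ := hs.2
  obtain ⟨c', hc'⟩ := ht.2
  refine h.eq_of_scalar (mul_mem hs.1 ht.1) (mul_mem ht.1 hs.1) fun x => ?_
  rw [show s * t * el coord x * (s * t)⁻¹ = s * (t * el coord x * t⁻¹) * s⁻¹ by group, hc', hc,
    show t * s * el coord x * (t * s)⁻¹ = t * (s * el coord x * s⁻¹) * t⁻¹ by group, hc, hc',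
    mul_left_comm]

/-- Scalars fix no involution. -/
theorem scal_free {s t : G} (hs : s ∈ h.scal) (ht : InvAt t a) (hc : s * t * s⁻¹ = t) : s = 1 := by
  obtain ⟨c, he⟩ := hs.2
  obtain ⟨x, hx, rfl⟩ := h.exists_el ht
  have h1 : c * x = 1 * x := by rw [one_mul]; exact h.el_inj ((he x).symm.trans hc)
  have hc1 := mul_right_cancel₀ hx h1
  refine h.eq_of_scalar hs.1 (one_mem _) fun y => ?_
  rw [he, hc1, one_mul, one_mul, inv_one, mul_one]

/-- A scalar is centralised only by scalars. -/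
theorem mem_scal_of_commute {d s : G} (hd : d ∈ pairStab G a b) (hs : s ∈ h.scal) (hs1 : s ≠ 1)
    (hc : d * s = s * d) : d ∈ h.scal := by
  obtain ⟨c, σ, hσ⟩ := h.semilinear' d hd
  obtain ⟨ξ, hξ⟩ := hs.2
  have hc0 : c ≠ 0 := h.coeff_ne_zero hσ
  refine ⟨hd, c, fun y => ?_⟩
  by_cases hσ1 : σ = 1
  · rw [hσ, hσ1, RingAut.one_apply]
  exfalso
  have h1 : el coord (c * σ (ξ * 1)) = el coord (ξ * (c * σ 1)) := by
    rw [← hσ, ← hξ, ← hξ, ← hσ,
      show d * (s * el coord 1 * s⁻¹) * d⁻¹ = (d * s) * el coord 1 * (d * s)⁻¹ by group,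
      show s * (d * el coord 1 * d⁻¹) * s⁻¹ = (s * d) * el coord 1 * (s * d)⁻¹ by group, hc]
  have h2 := h.el_inj h1
  rw [mul_one, map_one, mul_one, mul_comm ξ] at h2
  rcases h.fixed_aut hσ1 (mul_left_cancel₀ hc0 h2) with h0 | h1'
  · exact h.coeff_ne_zero (σ := RingEquiv.refl F) hξ h0
  · refine hs1 (h.eq_of_scalar hs.1 (one_mem _) fun x => ?_)
    rw [hξ, h1', one_mul, one_mul, inv_one, mul_one]

/-- An element outside the scalars fixes exactly one involution. -/
theorem fix_one {d : G} (hd : d ∈ pairStab G a b) (hdS : d ∉ h.scal) :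
    ∃! t : IAt G a, d * t.1 * d⁻¹ = t.1 := by
  haveI := h.finite_field
  obtain ⟨c, σ, hσ⟩ := h.semilinear' d hd
  have hc0 : c ≠ 0 := h.coeff_ne_zero hσ
  have hσ1 : σ ≠ 1 := fun e => hdS ⟨hd, c, fun x => by rw [hσ, e, RingAut.one_apply]⟩
  let f : {x : F // x ≠ 0} → {x : F // x ≠ 0} :=
    fun x => ⟨σ x.1 * x.1⁻¹, mul_ne_zero (by simpa using x.2) (inv_ne_zero x.2)⟩
  have hinj : Function.Injective f := by
    rintro ⟨x, hx⟩ ⟨y, hy⟩ e
    have e' : σ x * x⁻¹ = σ y * y⁻¹ := congrArg Subtype.val e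
    refine Subtype.ext ?_
    change x = y
    have hxy : σ (x * y⁻¹) = x * y⁻¹ := by
      rw [map_mul, map_inv₀]
      have hσy : σ y ≠ 0 := by simpa using hy
      field_simp
      field_simp at e'
      linear_combination e'
    rcases h.fixed_aut hσ1 hxy with h0 | h1
    · exact absurd h0 (mul_ne_zero hx (inv_ne_zero hy))
    · exact (mul_inv_eq_one₀ hy).1 h1
  obtain ⟨⟨x, hx⟩, hfx⟩ := (Finite.injective_iff_surjective.1 hinj) ⟨c⁻¹, inv_ne_zero hc0⟩
  have hfix : c * σ x = x := by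
    have e : σ x * x⁻¹ = c⁻¹ := congrArg Subtype.val hfx
    rw [mul_inv_eq_iff_eq_mul₀ hx] at e
    rw [e, mul_inv_cancel_left₀ hc0]
  refine ⟨⟨el coord x, h.inv_el hx⟩, (hσ x).trans (congrArg (el coord) hfix), ?_⟩
  rintro ⟨t, ht⟩ hdt
  obtain ⟨y, hy, rfl⟩ := h.exists_el ht
  have hy' : c * σ y = y := h.el_inj ((hσ y).symm.trans hdt)
  refine Subtype.ext (congrArg (el coord) (?_ : y = x))
  refine congrArg Subtype.val (hinj (a₁ := ⟨y, hy⟩) (a₂ := ⟨x, hx⟩) (Subtype.ext ?_))
  change σ y * y⁻¹ = σ x * x⁻¹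
  have e1 : σ y = c⁻¹ * y := by rw [eq_inv_mul_iff_mul_eq₀ hc0]; exact hy'
  have e2 : σ x = c⁻¹ * x := by rw [eq_inv_mul_iff_mul_eq₀ hc0]; exact hfix
  rw [e1, e2, mul_assoc, mul_inv_cancel₀ hy, mul_assoc, mul_inv_cancel₀ hx]

end CommData

end CfsgLib.Bender
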