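import Mathlib.FieldTheory.Galois.NormalBasis
import Mathlib.FieldTheory.Finite.GaloisField
import Mathlib.Algebra.Module.ZMod

/-!
Owner: helper2 (slice F2). An additive map moving every element of a field of order `2 ^ q` inside its
Galois orbit is determined by two images, with at most `2 q` possibilities.
-/

set_option autoImplicit false
set_option linter.style.haveILetI false

namespace CfsgLib.Bender

open scoped Classical

variable {F : Type*} [Field F]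

/-- An additive map preserving the Galois orbits is one of at most `2 q` maps. -/
theorem exists_rigid_pair [Finite F] [Algebra (ZMod 2) F] {q : ℕ} (hq : q.Prime) (hodd : Odd q)
    (hcard : Nat.card (F ≃ₐ[ZMod 2] F) = q) :
    ∃ (x₀ x₁ : F) (O : Finset (F × F)), x₀ ≠ 0 ∧ x₁ ≠ 0 ∧ O.card ≤ 2 * q ∧
      ∀ f : F →+ F, Function.Injective f → (∀ x, ∃ σ : F ≃ₐ[ZMod 2] F, f x = σ x) →
        (f x₀, f x₁) ∈ O ∧ (f x₀ = x₀ → f x₁ = x₁ → ∀ x, f x = x) := by
  haveI : Fact (Nat.Prime 2) := ⟨Nat.prime_two⟩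
  haveI := Fact.mk hq
  haveI : Finite (F ≃ₐ[ZMod 2] F) := Nat.finite_of_card_ne_zero (by rw [hcard]; exact hq.ne_zero)
  haveI := Fintype.ofFinite (F ≃ₐ[ZMod 2] F)
  haveI : Nontrivial (F ≃ₐ[ZMod 2] F) :=
    Finite.one_lt_card_iff_nontrivial.1 (by rw [hcard]; exact hq.one_lt)
  obtain ⟨τ, hτ⟩ := exists_ne (1 : F ≃ₐ[ZMod 2] F)
  have hcomm : ∀ α β : F ≃ₐ[ZMod 2] F, α * β = β * α := fun α β => by
    obtain ⟨i, rfl⟩ := Subgroup.mem_zpowers_iff.1 (mem_zpowers_of_prime_card hcard hτ (g' := α))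
    obtain ⟨j, rfl⟩ := Subgroup.mem_zpowers_iff.1 (mem_zpowers_of_prime_card hcard hτ (g' := β))
    rw [← zpow_add, ← zpow_add, add_comm]
  have hτ2 : τ * τ ≠ 1 := by
    intro e
    have h2 : orderOf τ ∣ 2 := orderOf_dvd_of_pow_eq_one (by rw [pow_two, e])
    rw [orderOf_eq_prime (x := τ) (p := q) (by rw [← hcard, pow_card_eq_one']) hτ,
      Nat.prime_dvd_prime_iff_eq hq Nat.prime_two] at h2
    rw [h2] at hodd
    exact absurd hodd (by decide)
  let B := IsGalois.normalBasis (ZMod 2) F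
  set θ := B 1 with hθ
  have hB : ∀ α, B α = α θ := fun α => IsGalois.normalBasis_apply α
  have hθinj : ∀ α β : F ≃ₐ[ZMod 2] F, α θ = β θ → α = β := fun α β e =>
    B.injective ((hB α).trans (e.trans (hB β).symm))
  have hnn : ∀ α : F ≃ₐ[ZMod 2] F, α θ ≠ 0 := fun α => hB α ▸ B.ne_zero α
  have hpair : ∀ α β γ : F ≃ₐ[ZMod 2] F, α ≠ β → α θ + β θ = γ θ + (γ * τ) θ →
      α = γ ∨ α = γ * τ := by
    intro α β γ hne he
    by_contra hcon
    push Not at hcon
    have h1 := congrArg (fun x => B.repr x α) he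
    simp only [← hB, map_add, Module.Basis.repr_self, Finsupp.add_apply] at h1
    simp [hne.symm, hcon.1.symm, hcon.2.symm] at h1
  -- adjacent basis vectors go to adjacent basis vectors
  have hadj : ∀ f : F →+ F, Function.Injective f → (∀ x, ∃ σ : F ≃ₐ[ZMod 2] F, f x = σ x) →
      ∀ σ : F ≃ₐ[ZMod 2] F, ∃ γ : F ≃ₐ[ZMod 2] F,
        (f (σ θ) = γ θ ∧ f ((σ * τ) θ) = (γ * τ) θ) ∨ (f (σ θ) = (γ * τ) θ ∧ f ((σ * τ) θ) = γ θ) := by
    intro f hf horb σ
    obtain ⟨α', hα⟩ := horb (σ θ)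
    obtain ⟨β', hβ⟩ := horb ((σ * τ) θ)
    obtain ⟨ρ, hρ⟩ := horb (σ θ + (σ * τ) θ)
    rw [← AlgEquiv.mul_apply] at hα hβ
    rw [map_add, map_add, hα, hβ, ← AlgEquiv.mul_apply, ← AlgEquiv.mul_apply, ← mul_assoc ρ] at hρ
    have hne : α' * σ ≠ β' * (σ * τ) := fun e => by
      have := hθinj _ _ (hf (hα.trans ((congrArg (fun e : F ≃ₐ[ZMod 2] F => e θ) e).trans hβ.symm)))
      exact hτ (mul_eq_left.1 this.symm)
    refine ⟨ρ * σ, ?_⟩
    rcases hpair _ _ _ hne hρ with e1 | e1 <;>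
      rcases hpair _ _ _ hne.symm (by rw [add_comm]; exact hρ) with e2 | e2
    · exact absurd (e1.trans e2.symm) hne
    · exact Or.inl ⟨by rw [hα, e1], by rw [hβ, e2]⟩
    · exact Or.inr ⟨by rw [hα, e1], by rw [hβ, e2]⟩
    · exact absurd (e1.trans e2.symm) hne
  refine ⟨θ, τ θ, Finset.univ.image (fun γ : F ≃ₐ[ZMod 2] F => (γ θ, (γ * τ) θ)) ∪
    Finset.univ.image (fun γ : F ≃ₐ[ZMod 2] F => ((γ * τ) θ, γ θ)), ?_, hnn τ, ?_, ?_⟩
  · exact B.ne_zero 1
  · refine (Finset.card_union_le _ _).trans ?_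
    have hu : (Finset.univ : Finset (F ≃ₐ[ZMod 2] F)).card = q := by
      rw [Finset.card_univ, ← Nat.card_eq_fintype_card, hcard]
    have h1 := Finset.card_image_le (s := (Finset.univ : Finset (F ≃ₐ[ZMod 2] F)))
      (f := fun γ : F ≃ₐ[ZMod 2] F => (γ θ, (γ * τ) θ))
    have h2 := Finset.card_image_le (s := (Finset.univ : Finset (F ≃ₐ[ZMod 2] F)))
      (f := fun γ : F ≃ₐ[ZMod 2] F => ((γ * τ) θ, γ θ))
    omega
  intro f hf horb
  refine ⟨?_, fun e0 e1 => ?_⟩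
  · obtain ⟨γ, hγ⟩ := hadj f hf horb 1
    rw [one_mul, AlgEquiv.one_apply] at hγ
    rcases hγ with ⟨h0, h1⟩ | ⟨h0, h1⟩
    · exact Finset.mem_union_left _ (Finset.mem_image.2 ⟨γ, Finset.mem_univ _, Prod.ext h0.symm h1.symm⟩)
    · exact Finset.mem_union_right _ (Finset.mem_image.2 ⟨γ, Finset.mem_univ _, Prod.ext h0.symm h1.symm⟩)
  have hind : ∀ n : ℕ, f ((τ ^ n) θ) = (τ ^ n) θ ∧ f ((τ ^ (n + 1)) θ) = (τ ^ (n + 1)) θ := by
    intro n
    induction n with
    | zero => exact ⟨by rwa [pow_zero, AlgEquiv.one_apply], by rwa [zero_add, pow_one]⟩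
    | succ n ih =>
      refine ⟨ih.2, ?_⟩
      obtain ⟨γ, hγ⟩ := hadj f hf horb (τ ^ (n + 1))
      rw [← pow_succ] at hγ
      rcases hγ with ⟨h0, h1⟩ | ⟨h0, h1⟩
      · rw [← hθinj _ _ (ih.2.symm.trans h0)] at h1
        rwa [← pow_succ] at h1
      · exfalso
        have hγn : γ = τ ^ n := mul_right_cancel ((hθinj _ _ (h0.symm.trans ih.2)).trans (pow_succ τ n))
        have h2 := hθinj _ _ (hf ((h1.trans (by rw [hγn])).trans ih.1.symm))
        rw [show n + 1 + 1 = n + 2 from rfl, pow_add, pow_two, mul_eq_left] at h2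
        exact hτ2 h2
  have hfix : ∀ α, f (B α) = B α := by
    intro α
    obtain ⟨n, rfl⟩ := mem_powers_iff_mem_zpowers.2 (mem_zpowers_of_prime_card hcard hτ (g' := α))
    rw [hB]
    exact (hind n).1
  have hlin : f.toZModLinearMap 2 = LinearMap.id := B.ext fun α => hfix α
  exact fun x => LinearMap.congr_fun hlin x

end CfsgLib.Bender
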