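import Cfsg.Agent.Lib.Bender.Gen.Sig
import Cfsg.Agent.Lib.Bender.Gen.Quot

/-!
Owner: helper24. General Bender theorem, slice E: what the induction hypothesis gives inside a proper subgroup with two
centres.
-/

set_option autoImplicit false
set_option linter.style.haveILetI false
set_option linter.unusedSectionVars false

namespace CfsgLib.Bender

open Subgroup MulAction
open CfsgLib.Signalizer (involution_sq involution_inv orderOf_eq_two_of involution_ne_one)

universe u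

variable {G : Type u} {Ω : Type*} [Group G] [Finite G] [MulAction G Ω] [Finite Ω]

theorem coreIn_le (N : Subgroup G) (w : Ω) : coreIn N w ≤ N ⊓ stabilizer G w := map_subtype_le _

theorem coreIn_odd (N : Subgroup G) (w : Ω) : Odd (Nat.card (coreIn N w)) := by
  rw [coreIn, ← Nat.card_congr ((Cfsg.oddCore _).equivMapOfInjective _
    (N ⊓ stabilizer G w).subtype_injective).toEquiv]
  exact CfsgLib.ZStar.odd_card_oddCore _

theorem coreIn_normal (N : Subgroup G) (w : Ω) : N ⊓ stabilizer G w ≤ normalizer (coreIn N w : Set G) := by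
  have key : ∀ g ∈ N ⊓ stabilizer G w, ∀ c ∈ coreIn N w, g * c * g⁻¹ ∈ coreIn N w := by
    rintro g hg _ ⟨c, hc, rfl⟩
    exact ⟨⟨g, hg⟩ * c * ⟨g, hg⟩⁻¹, (inferInstance : (Cfsg.oddCore _).Normal).conj_mem c hc _, rfl⟩
  intro g hg
  rw [mem_normalizer_iff]
  refine fun c => ⟨key g hg c, fun h => ?_⟩
  have := key g⁻¹ (inv_mem hg) _ h
  simpa [mul_assoc] using this

theorem le_coreIn {N : Subgroup G} {w : Ω} {R : Subgroup G} (hR : R ≤ N ⊓ stabilizer G w)
    (hn : N ⊓ stabilizer G w ≤ normalizer (R : Set G)) (ho : Odd (Nat.card R)) : R ≤ coreIn N w := by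
  haveI : (R.subgroupOf (N ⊓ stabilizer G w)).Normal := normal_subgroupOf_of_le_normalizer hn
  have h : R.subgroupOf (N ⊓ stabilizer G w) ≤ Cfsg.oddCore ↥(N ⊓ stabilizer G w) :=
    CfsgLib.ZStar.le_oddCore inferInstance (by
      rwa [Nat.card_congr (subgroupOfEquivOfLe hR).toEquiv])
  intro x hx
  exact ⟨⟨x, hR hx⟩, h (mem_subgroupOf.2 hx), rfl⟩

/-- The induction hypothesis inside a proper subgroup with two centres. -/
theorem localConcl (hS : Setting0 G Ω) (hIH : IH.{u} (Nat.card G)) {N : Subgroup G} {w : Ω}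
    (hN : TwoCentres G N w) : LocalConcl G N w := by
  classical
  haveI : Fact (Nat.Prime 2) := ⟨Nat.prime_two⟩
  set M : Subgroup N := (stabilizer G w).subgroupOf N with hMdef
  have hmem : ∀ h : N, h ∈ M ↔ (h : G) • w = w := fun h => Iff.rfl
  obtain ⟨s, t, hsN, htN, hs, ht, hne, hc⟩ := hN.four
  obtain ⟨i, hiN, -, hiw⟩ := hN.other
  have hSE : Cfsg.IsStronglyEmbedded M := by
    refine ⟨fun h => hiw ((hmem ⟨i, hiN⟩).1 (h ▸ mem_top _)), ?_, fun g hg => ?_⟩
    · refine even_iff_two_dvd.2 ?_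
      have := M.orderOf_dvd_natCard (x := ⟨s, hsN⟩) ((hmem _).2 hs.2)
      rwa [Subgroup.orderOf_mk, hs.1] at this
    · have hga : w ≠ (g : G) • w := fun h => hg ((hmem g).2 h.symm)
      refine (hS.odd_pairStab hga).of_dvd_nat ?_
      rw [Nat.card_congr (Subgroup.equivMapOfInjective _ _ N.subtype_injective).toEquiv]
      refine card_dvd_of_le ?_
      rintro _ ⟨x, hx, rfl⟩
      obtain ⟨y, hy, hxy⟩ := hx.2
      refine ⟨(hmem x).1 hx.1, ?_⟩
      show (x : G) • (g : G) • w = (g : G) • w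
      rw [← hxy]
      simp [mul_smul, (hmem y).1 hy]
  have hfour : ∃ x ∈ M, ∃ y ∈ M, orderOf x = 2 ∧ orderOf y = 2 ∧ x ≠ y ∧ x * y = y * x :=
    ⟨⟨s, hsN⟩, (hmem _).2 hs.2, ⟨t, htN⟩, (hmem _).2 ht.2, by rw [Subgroup.orderOf_mk]; exact hs.1,
      by rw [Subgroup.orderOf_mk]; exact ht.1, fun h => hne (congrArg Subtype.val h), Subtype.ext hc⟩
  have hlt : Nat.card N < Nat.card G := CfsgLib.Core.card_subgroup_lt N hN.ne_top
  obtain ⟨hSN, hsolN⟩ := hIH N hlt M hSE hfour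
  obtain ⟨hSQ, hsolQ⟩ := hIH (N ⧸ M.normalCore)
    (lt_of_le_of_lt (Nat.le_of_dvd Nat.card_pos M.normalCore.card_quotient_dvd_card) hlt) _
    (quot_stronglyEmbedded hSE) (quot_four hSE hfour)
  -- the orbit map
  let ι : N ⧸ M → Ω := fun x => Quotient.liftOn' x (fun h => (h : G) • w) fun h h' hh => by
    rw [QuotientGroup.leftRel_apply] at hh
    have := (hmem _).1 hh
    rw [Subgroup.coe_mul, Subgroup.coe_inv, mul_smul] at this
    exact (inv_smul_eq_iff.1 this).symm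
  have hι : ∀ h : N, ι (h : N ⧸ M) = (h : G) • w := fun h => rfl
  have hιinj : Function.Injective ι := by
    intro x y hxy
    obtain ⟨h, rfl⟩ := QuotientGroup.mk_surjective x
    obtain ⟨h', rfl⟩ := QuotientGroup.mk_surjective y
    rw [hι, hι] at hxy
    refine QuotientGroup.eq.2 ((hmem _).2 ?_)
    rw [Subgroup.coe_mul, Subgroup.coe_inv, mul_smul, ← hxy, inv_smul_smul]
  have hιsmul : ∀ (h : N) (x : N ⧸ M), ι (h • x) = (h : G) • ι x := fun h x => by
    obtain ⟨h', rfl⟩ := QuotientGroup.mk_surjective x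
    rw [MulAction.Quotient.smul_coe, smul_eq_mul, hι, hι, Subgroup.coe_mul, mul_smul]
  set o : N ⧸ M := ((1 : N) : N ⧸ M) with ho
  have hιo : ι o = w := by rw [ho, hι, Subgroup.coe_one, one_smul]
  have hinv : ∀ (h : N) (x : N ⧸ M), InvAt h x ↔ InvAt (h : G) (ι x) := fun h x => by
    rw [InvAt, InvAt, Subgroup.orderOf_coe, ← hιsmul]
    exact and_congr_right fun _ => ⟨congrArg ι, fun e => hιinj e⟩
  have horb : ∀ z : Ω, z ∈ orb N w ↔ ∃ x, ι x = z := by
    refine fun z => ⟨fun ⟨h, hh, e⟩ => ⟨((⟨h, hh⟩ : N) : N ⧸ M), e⟩, fun ⟨x, e⟩ => ?_⟩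
    obtain ⟨h, rfl⟩ := QuotientGroup.mk_surjective x
    exact ⟨h, h.2, e⟩
  have hfix : ∀ g : N, g • o = o ↔ (g : G) • w = w := fun g => by
    refine ⟨fun e => by rw [← hιo, ← hιsmul, e], fun e => hιinj ?_⟩
    rw [hιsmul, hιo, e]
  -- the cores agree
  have hcore₁ : ∀ x : N, x ∈ core N o → (x : G) ∈ coreIn N w := by
    intro x hx
    refine (le_coreIn (R := (core N o).map N.subtype) ?_ ?_ ?_) ⟨x, hx, rfl⟩
    · rintro _ ⟨y, hy, rfl⟩
      exact ⟨y.2, (hfix y).1 (core_smul o hy)⟩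
    · intro g hg
      have := le_normalizer_core o (show (⟨g, hg.1⟩ : N) ∈ stabilizer N o from (hfix ⟨g, hg.1⟩).2 hg.2)
      exact le_normalizer_map N.subtype ⟨_, this, rfl⟩
    · exact (core_odd o).of_dvd_nat (Subgroup.card_map_dvd _ _)
  have hcore₂ : ∀ x : N, (x : G) ∈ coreIn N w → x ∈ core N o := by
    intro x hx
    refine (le_core (N := (coreIn N w).subgroupOf N) ?_ ?_ ?_) (mem_subgroupOf.2 hx)
    · intro y hy
      exact (hfix y).2 (coreIn_le N w (mem_subgroupOf.1 hy)).2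
    · intro g hg
      rw [mem_normalizer_iff]
      intro y
      simp only [mem_subgroupOf, Subgroup.coe_mul, Subgroup.coe_inv]
      exact mem_normalizer_iff.1 (coreIn_normal N w ⟨g.2, (hfix g).1 hg⟩) _
    · refine (coreIn_odd N w).of_dvd_nat ?_
      rw [Nat.card_congr (Subgroup.equivMapOfInjective _ _ N.subtype_injective).toEquiv]
      exact card_dvd_of_le (by rintro _ ⟨y, hy, rfl⟩; exact hy)
  have hne_o : ∀ {x : N ⧸ M} {z : Ω}, ι x = z → z ≠ w → x ≠ o := fun e hz h => hz (by rw [← e, h, hιo])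
  -- the Sylow subgroup regular on the other points
  obtain ⟨T, hT⟩ := exists_isSyl 2 M
  have hidx := smallerOK (Nat.card N + 1) N (Nat.lt_succ_self _) M hSE hSN hsolN
  have hcardY : Nat.card {x : N ⧸ M // x ≠ o} = 2 ^ vp 2 (Nat.card N) := by
    have := Fintype.ofFinite (N ⧸ M)
    rw [Nat.card_eq_fintype_card, Fintype.card_subtype_compl, Fintype.card_subtype_eq,
      ← Nat.card_eq_fintype_card, ← Subgroup.index_eq_card, hidx, Nat.add_sub_cancel]
  have hpos : 0 < vp 2 (Nat.card N) := Nat.prime_two.factorization_pos_of_dvd Nat.card_pos.ne'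
    (hSE.2.1.two_dvd.trans M.card_subgroup_dvd_card)
  have hTo : ∀ g ∈ T, g • o = o := fun g hg => (hfix g).2 ((hmem g).1 (hT.le hg))
  have hcardT : Nat.card T = 2 ^ vp 2 (Nat.card N) := by
    rw [hT.2]
    congr 1
    have := congrArg (vp 2) M.card_mul_index
    have hodd : vp 2 M.index = 0 := by
      refine Nat.factorization_eq_zero_of_not_dvd fun h2 => ?_
      rw [hidx] at h2
      have h3 : 2 ∣ 2 ^ vp 2 (Nat.card N) := dvd_pow_self 2 hpos.ne'
      omega
    simp only [vp, Nat.factorization_mul Nat.card_pos.ne' (Subgroup.index_ne_zero_of_finite),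
      Finsupp.add_apply] at this hodd ⊢
    omega
  refine ⟨?_, ?_, ?_, ?_, ?_, ?_⟩
  · intro j hj x hjx
    obtain ⟨q, hq⟩ := hSN.fix_exists (t := ⟨j, hj⟩) (by rw [Subgroup.orderOf_mk]; exact hjx.1)
    have := (hinv ⟨j, hj⟩ q).1 ⟨by rw [Subgroup.orderOf_mk]; exact hjx.1, hq⟩
    exact (horb x).2 ⟨q, hS.fix_unique this hjx⟩
  · intro a b ha hb haw hbw
    have h1 : InvAt (⟨a, ha⟩ : N) o := (hinv _ _).2 (by rw [hιo]; exact haw)
    have h2 : InvAt (⟨b, hb⟩ : N) o := (hinv _ _).2 (by rw [hιo]; exact hbw)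
    exact hcore₁ _ (hSN.comm_mod h1 h2)
  · intro y z hy hz hyw hzw
    obtain ⟨p, hp⟩ := (horb y).1 hy
    obtain ⟨q, hq⟩ := (horb z).1 hz
    obtain ⟨g, hgo, hgp⟩ := hSN.exists_stab_smul (hne_o hp hyw) (hne_o hq hzw)
    exact ⟨g, g.2, (hfix g).1 hgo, by rw [← hp, ← hιsmul, hgp, hq]⟩
  · intro y z hy hz hyw hzw
    obtain ⟨p, hp⟩ := (horb y).1 hy
    obtain ⟨q, hq⟩ := (horb z).1 hz
    have hpo := hne_o hp hyw
    let φ : T → {x : N ⧸ M // x ≠ o} := fun g => ⟨(g : N) • p, fun h =>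
      hpo (smul_left_cancel (g : N) (h.trans (hTo _ g.2).symm))⟩
    have hφinj : Function.Injective φ := by
      intro g g' h
      have h' : (g : N) • p = (g' : N) • p := congrArg Subtype.val h
      have hgT : (g' : N)⁻¹ * g ∈ T := mul_mem (inv_mem g'.2) g.2
      by_contra hne'
      obtain ⟨k, hk⟩ := hT.isPGroup ⟨_, hgT⟩
      have hd : ((g' : N)⁻¹ * g) ∈ pairStab N o p :=
        ⟨hTo _ hgT, show ((g' : N)⁻¹ * g) • p = p by rw [mul_smul, h', inv_smul_smul]⟩
      have hodd := (hSN.odd_pairStab hpo.symm).of_dvd_nat (orderOf_dvd_natCard _ hd)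
      have hdvd : orderOf ((g' : N)⁻¹ * g) ∣ 2 ^ k :=
        orderOf_dvd_of_pow_eq_one (by simpa [Subtype.ext_iff] using hk)
      have h1 := Nat.eq_one_of_dvd_coprimes (Nat.Coprime.pow_left k (Nat.coprime_two_left.2 hodd)) hdvd dvd_rfl
      exact hne' (Subtype.ext (inv_mul_eq_one.1 (orderOf_eq_one_iff.1 h1)).symm)
    obtain ⟨g, hg⟩ := (hφinj.bijective_of_nat_card_le (by rw [hcardT, hcardY])).2 ⟨q, hne_o hq hzw⟩
    have hgq : (g : N) • p = q := congrArg Subtype.val hg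
    obtain ⟨k, hk⟩ := hT.isPGroup g
    have hk' : (g : N) ^ 2 ^ k = 1 := by simpa [Subtype.ext_iff] using congrArg Subtype.val hk
    refine ⟨((g : N) : G), (g : N).2, ⟨k, by rw [← Subgroup.coe_pow, hk', Subgroup.coe_one]⟩,
      (hmem _).1 (hT.le g.2), by rw [← hp, ← hιsmul, hgq, hq], fun t htN' htw => ?_⟩
    have h1 : InvAt (⟨t, htN'⟩ : N) o := (hinv _ _).2 (by rw [hιo]; exact htw)
    exact hcore₁ _ ((mem_cmod.1 (hSN.mem_cmod_of_two_power hsolN (hTo _ g.2) hk')).2 _ h1)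
  · refine ⟨vp 2 (Nat.card N), hpos, ?_⟩
    rw [← hcardY]
    refine (Nat.card_congr (Equiv.ofBijective (fun x => (⟨ι x.1, fun h => x.2 (hιinj (h.trans hιo.symm)),
      (horb _).2 ⟨x.1, rfl⟩⟩ : {c : Ω // c ≠ w ∧ c ∈ orb N w})) ⟨fun x y h => ?_, fun c => ?_⟩)).symm
    · exact Subtype.ext (hιinj (congrArg Subtype.val h))
    · obtain ⟨x, hx⟩ := (horb _).1 c.2.2
      exact ⟨⟨x, hne_o hx c.2.1⟩, Subtype.ext hx⟩
  · intro g hg y hy hyw hgy z hz
    obtain ⟨p, hp⟩ := (horb y).1 hy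
    obtain ⟨q, hq⟩ := (horb z).1 hz
    have hgN : g ∈ N := (coreIn_le N w hg).1
    have h1 : (⟨g, hgN⟩ : N) • p = p := hιinj (by rw [hιsmul, hp]; exact hgy)
    have := congrArg ι (core_fixes_all hSE hfour hSQ hsolQ (hcore₂ ⟨g, hgN⟩ hg) (hne_o hp hyw) h1 q)
    rwa [hιsmul, hq] at this

theorem localStep : LocalStep.{u} := fun _ _ _ _ _ _ hS hIH _ _ hN => localConcl hS hIH hN

end CfsgLib.Bender
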