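import Cfsg.Agent.Lib.Bender.Central
import Cfsg.Agent.Lib.Bender.Gen.Local

/-!
Owner: helper13 (slice F1). The commuting case with the induction hypothesis: the involutions at a
point with the identity form an elementary abelian group centralising the core, and the stabiliser
acts solvably on it unless the two-point stabiliser is faithful on it.
-/

set_option autoImplicit false
set_option linter.style.haveILetI false
set_option linter.unusedSectionVars false

namespace CfsgLib.Bender

open Subgroup MulAction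
open CfsgLib.Signalizer (involution_sq involution_inv orderOf_eq_two_of involution_ne_one)

universe u

/-- A subgroup with two centres has a strongly embedded subgroup with a four group: the stabiliser. -/
theorem stabilizer_stronglyEmbedded {G : Type u} {Ω : Type*} [Group G] [Finite G] [MulAction G Ω]
    [Finite Ω] (hS : Setting0 G Ω) {N : Subgroup G} {w : Ω} (hN : TwoCentres G N w) :
    Cfsg.IsStronglyEmbedded ((stabilizer G w).subgroupOf N) ∧
      ∃ x ∈ (stabilizer G w).subgroupOf N, ∃ y ∈ (stabilizer G w).subgroupOf N,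
        orderOf x = 2 ∧ orderOf y = 2 ∧ x ≠ y ∧ x * y = y * x := by
  obtain ⟨s, t, hsN, htN, hs, ht, hne, hc⟩ := hN.four
  obtain ⟨i, hiN, -, hiw⟩ := hN.other
  refine ⟨⟨fun h => hiw (mem_subgroupOf.1 (h ▸ mem_top (⟨i, hiN⟩ : N)) :), ?_, fun g hg => ?_⟩,
    ⟨s, hsN⟩, mem_subgroupOf.2 hs.2, ⟨t, htN⟩, mem_subgroupOf.2 ht.2,
    by rw [Subgroup.orderOf_mk]; exact hs.1, by rw [Subgroup.orderOf_mk]; exact ht.1,
    fun h => hne (congrArg Subtype.val h), Subtype.ext hc⟩
  · refine even_iff_two_dvd.2 ?_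
    have := ((stabilizer G w).subgroupOf N).orderOf_dvd_natCard (x := ⟨s, hsN⟩) (mem_subgroupOf.2 hs.2)
    rwa [Subgroup.orderOf_mk, hs.1] at this
  · have hga : w ≠ (g : G) • w := fun h => hg (mem_subgroupOf.2 h.symm)
    refine (hS.odd_pairStab hga).of_dvd_nat ?_
    rw [Nat.card_congr (Subgroup.equivMapOfInjective _ _ N.subtype_injective).toEquiv]
    refine card_dvd_of_le ?_
    rintro _ ⟨x, hx, rfl⟩
    obtain ⟨y, hy, hxy⟩ := hx.2
    refine ⟨mem_subgroupOf.1 hx.1, ?_⟩
    show (x : G) • (g : G) • w = (g : G) • w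
    rw [← hxy]
    simp [mul_smul, show (y : G) • w = w from mem_subgroupOf.1 hy]

variable {G : Type u} {Ω : Type*} [Group G] [Finite G] [MulAction G Ω] [Finite Ω] (hS : Setting G Ω)
  (hfaith : Faithful G Ω) (hIH : IH.{u} (Nat.card G))
include hS hfaith hIH

namespace Setting

theorem orbit_card_of_IH (a : Ω) (H : Subgroup G) (b : Ω) (s t w : G) (hab : a ≠ b) (hH : H ≠ ⊤)
    (hsH : s ∈ H) (htH : t ∈ H) (hwH : w ∈ H) (hs : InvAt s a) (ht : InvAt t a) (hne : s ≠ t)
    (hc : s * t = t * s) (hw : InvAt w b) :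
    ∃ k : ℕ, Nat.card {c : Ω // c ≠ a ∧ ∃ h ∈ H, h • a = c} = 2 ^ k := by
  obtain ⟨k, -, hk⟩ := (localConcl hS.toSetting0 hIH (N := H) (w := a)
    ⟨hH, ⟨s, t, hsH, htH, hs, ht, hne, hc⟩, ⟨w, hwH, hw.1, hS.ne_of_inv hw hab⟩⟩).card
  exact ⟨k, hk⟩

theorem core_commute_invAt {a : Ω} {t w : G} (ht : InvAt t a) (hw : w ∈ core G a) : w * t = t * w :=
  hS.commute_core' (hS.orbit_card_of_IH hfaith hIH a) hfaith ht hw

/-- Congruent involutions at a point are equal. -/
theorem eq_of_congr_core {a : Ω} {s t : G} (hs : InvAt s a) (ht : InvAt t a) (h : s * t ∈ core G a) :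
    s = t := by
  obtain ⟨w, hw, he⟩ := exists_core_conj hs ht h
  rwa [hS.core_commute_invAt hfaith hIH hs hw, mul_inv_cancel_right] at he

/-- The kernel on the images centralises the involutions at the point. -/
theorem commute_of_mem_cmod {a : Ω} {c t : G} (hc : c ∈ cmod G a) (ht : InvAt t a) :
    c * t = t * c := by
  obtain ⟨hca, h⟩ := mem_cmod.1 hc
  exact mul_inv_eq_iff_eq_mul.1
    (hS.eq_of_congr_core hfaith hIH (ht.conj' hca) ht (h t ht))

theorem mem_cmod_of_commute {a : Ω} {c : G} (hca : c • a = a)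
    (h : ∀ t : G, InvAt t a → c * t = t * c) : c ∈ cmod G a :=
  mem_cmod.2 ⟨hca, fun t ht => by
    rw [h t ht, mul_inv_cancel_right, involution_sq ht.1]; exact one_mem _⟩

/-- The involutions at a point and the identity form a group. -/
theorem exists_invGroup (a : Ω) : ∃ E : Subgroup G, ∀ g : G, g ∈ E ↔ g = 1 ∨ InvAt g a := by
  obtain ⟨E, hEa, hE2, hEc⟩ := hS.exists_elementary a
  refine ⟨E, fun g => ⟨fun hg => ?_, ?_⟩⟩
  · by_cases h : g = 1
    · exact Or.inl h
    · exact Or.inr ⟨orderOf_eq_two_of h (hE2 g hg), hEa hg⟩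
  · rintro (rfl | hg)
    · exact one_mem E
    · obtain ⟨e, he, hge⟩ := hEc g hg
      have he1 : e ≠ 1 := fun h => by
        rw [h, mul_one] at hge; exact not_mem_of_odd (core_odd a) hg.1 hge
      rwa [hS.eq_of_congr_core hfaith hIH hg ⟨orderOf_eq_two_of he1 (hE2 e he), hEa he⟩ hge]

/-- The involutions at a point commute. -/
theorem commute_invAt {a : Ω} {s t : G} (hs : InvAt s a) (ht : InvAt t a) : s * t = t * s := by
  obtain ⟨E, hE⟩ := hS.exists_invGroup hfaith hIH a
  by_cases hst : s * t = 1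
  · rw [show s = t from (eq_inv_of_mul_eq_one_left hst).trans (involution_inv ht.1)]
  have h := (((hE _).1 (mul_mem ((hE s).2 (Or.inr hs)) ((hE t).2 (Or.inr ht)))).resolve_left hst)
  have h1 := involution_inv h.1
  rwa [mul_inv_rev, involution_inv hs.1, involution_inv ht.1, eq_comm] at h1

/-- A non-trivial kernel in the two-point stabiliser makes the image solvable. -/
theorem solvMod_of_kernel {a b : Ω} (hab : a ≠ b) (hX : pairStab G a b ⊓ cmod G a ≠ ⊥) :
    SolvMod G a := by
  classical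
  set D := pairStab G a b with hD
  set X := D ⊓ cmod G a
  obtain ⟨p, hp, hpX⟩ := Nat.exists_prime_and_dvd
    (show Nat.card X ≠ 1 from fun h => hX (Subgroup.card_eq_one.1 h))
  haveI := Fact.mk hp
  obtain ⟨P, hP⟩ := exists_isSyl p D
  have hPa := hS.vp_stab_eq' (hS.orbit_card_of_IH hfaith hIH a) hfaith hab hpX hP
  have hP0 : IsSyl p (P ⊓ cmod G a) (cmod G a) :=
    hPa.inf_of_le_normalizer (cmod_le a) (le_normalizer_cmod a)
  set P0 := P ⊓ cmod G a with hP0def
  have hP0X : P0 ≤ X := inf_le_inf_right _ hP.le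
  have hP0ne : P0 ≠ ⊥ := fun h => by
    have h1 := hP0.2
    rw [h, Subgroup.card_bot] at h1
    have h2 : 0 < vp p (Nat.card (cmod G a)) := hp.factorization_pos_of_dvd Nat.card_pos.ne'
      (hpX.trans (card_dvd_of_le inf_le_right))
    have := Nat.one_lt_pow h2.ne' hp.one_lt
    omega
  set H := normalizer (P0 : Set G) with hH
  have hcent : ∀ g : G, (∀ r ∈ P0, r * g = g * r) → g ∈ H := fun g hg => by
    refine mem_normalizer_iff.2 fun r => ?_
    constructor
    · intro hr; rwa [← hg r hr, mul_inv_cancel_right]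
    · intro hr
      have h := hg _ hr
      have : g * r * g⁻¹ = r := by
        rw [inv_mul_cancel_right] at h
        exact (mul_left_cancel h).symm
      rwa [this] at hr
  have hIaH : ∀ t : G, InvAt t a → t ∈ H := fun t ht =>
    hcent t fun r hr => hS.commute_of_mem_cmod hfaith hIH hr.2 ht
  have hIbH : ∀ t : G, InvAt t b → t ∈ H := fun t ht =>
    hcent t fun r hr => hS.commute_of_mem_cmod hfaith hIH
      ((hS.cmod_symm hab (hP0X hr).1).1 hr.2) ht
  have hHtop : H ≠ ⊤ := by
    intro h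
    refine hP0ne ((Subgroup.eq_bot_iff_forall _).2 fun r hr => hfaith r fun x => ?_)
    obtain ⟨k, rfl⟩ := hS.trans a x
    have h' : k⁻¹ * r * k ∈ P0 := (mem_normalizer_iff''.1 (show k ∈ H from h ▸ mem_top k) r).1 hr
    have h'' : (k⁻¹ * r * k) • a = a := ((hP0X h').1).1
    rwa [mul_smul, mul_smul, inv_smul_eq_iff] at h''
  obtain ⟨s, t, hs, ht, hne, hst⟩ := hS.four a
  obtain ⟨i, hi⟩ := hS.exists_invAt b
  have hN : TwoCentres G H a :=
    ⟨hHtop, ⟨s, t, hIaH s hs, hIaH t ht, hs, ht, hne, hst⟩, ⟨i, hIbH i hi, hi.1, hS.ne_of_inv hi hab⟩⟩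
  obtain ⟨hSE, hfour⟩ := stabilizer_stronglyEmbedded hS.toSetting0 hN
  obtain ⟨-, hsolH⟩ := hIH H (CfsgLib.Core.card_subgroup_lt H hHtop) _ hSE hfour
  set o : H ⧸ (stabilizer G a).subgroupOf H := ((1 : H) : H ⧸ (stabilizer G a).subgroupOf H)
  have hfix : ∀ g : H, g ∈ stabilizer H o ↔ (g : G) • a = a := fun g => by
    rw [stab_base]; exact mem_subgroupOf
  let f : stabilizer H o →* stabilizer G a :=
    (H.subtype.comp (stabilizer H o).subtype).codRestrict _ fun x => (hfix x).1 x.2
  set ψ := (imgHom G a).comp f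
  have hrange : ψ.range = (imgHom G a).range := by
    refine le_antisymm (fun y ⟨x, hx⟩ => ⟨f x, hx⟩) ?_
    rintro _ ⟨⟨g, hg⟩, rfl⟩
    have hgP : IsSyl p (P0.map (MulAut.conj g).toMonoidHom) (cmod G a) := by
      have := hP0.map_conj g
      rwa [map_conj_eq_of_mem_normalizer (le_normalizer_cmod a hg)] at this
    obtain ⟨c, hc, hcP⟩ := hgP.exists_conj hP0
    have hcg : c * g ∈ H := by
      refine mem_normalizer_of_map_conj_eq ?_
      conv_rhs => rw [← hcP, Subgroup.map_map P0]
      exact congrArg (fun f => P0.map f) (MonoidHom.ext fun r => by simp [mul_assoc])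
    have hcga : (c * g) • a = a := by rw [mul_smul, show g • a = a from hg]; exact (mem_cmod.1 hc).1
    refine ⟨⟨⟨c * g, hcg⟩, (hfix _).2 hcga⟩, ?_⟩
    obtain ⟨c', hc', hce⟩ := hc
    have e : f ⟨⟨c * g, hcg⟩, (hfix _).2 hcga⟩ = c' * ⟨g, hg⟩ :=
      Subtype.ext (show c * g = (c' : G) * g by rw [← hce]; rfl)
    show imgHom G a _ = _
    rw [e, map_mul, MonoidHom.mem_ker.1 hc', one_mul]
  have hker : (imgHom H o).rangeRestrict.ker ≤ ψ.rangeRestrict.ker := by
    intro x hx
    rw [MonoidHom.ker_rangeRestrict, MonoidHom.mem_ker] at hx ⊢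
    refine Equiv.ext fun q => ?_
    induction q using Quotient.inductionOn with
    | _ r =>
      have hrH : InvAt (⟨r, hIaH r r.2⟩ : H) o :=
        ⟨by rw [Subgroup.orderOf_mk]; exact r.2.1, (hfix _).2 r.2.2⟩
      have h := (Quotient.exact (Equiv.ext_iff.1 hx (img hrH)) :
        (((x : H) * ⟨r, hIaH r r.2⟩ * (x : H)⁻¹) * ⟨r, hIaH r r.2⟩) ∈ core H o)
      refine Quotient.sound ?_
      show ((x : H) : G) * r * ((x : H) : G)⁻¹ * r ∈ core G a
      have hxr : InvAt (((x : H) : G) * r * ((x : H) : G)⁻¹) a := r.2.conj' ((hfix x).1 x.2)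
      set u : H := ((x : H) * ⟨r, hIaH r r.2⟩ * (x : H)⁻¹) * ⟨r, hIaH r r.2⟩ with hu
      have hu2 : u * u = 1 := Subtype.ext (by
        show (((x : H) : G) * r * ((x : H) : G)⁻¹ * r) * (((x : H) : G) * r * ((x : H) : G)⁻¹ * r) = 1
        have hc := hS.commute_invAt hfaith hIH hxr r.2
        calc _ = (((x : H) : G) * r * ((x : H) : G)⁻¹ * r) *
              ((r : G) * (((x : H) : G) * r * ((x : H) : G)⁻¹)) := by rw [← hc]
          _ = (((x : H) : G) * r * ((x : H) : G)⁻¹) * ((r : G) * r) *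
              (((x : H) : G) * r * ((x : H) : G)⁻¹) := by group
          _ = 1 := by rw [involution_sq r.2.1, mul_one, involution_sq hxr.1])
      have hu1 : u = 1 := orderOf_eq_one_iff.1 (Nat.eq_one_of_dvd_coprimes
        (Nat.coprime_two_left.2 (core_odd o)) (orderOf_dvd_of_pow_eq_one (by rw [pow_two, hu2]))
        (orderOf_dvd_natCard _ h))
      have := congrArg (fun z : H => (z : G)) hu1
      simp only [hu, Subgroup.coe_mul, Subgroup.coe_inv, Subgroup.coe_one] at this
      rw [this]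
      exact one_mem _
  let g : (imgHom H o).range →* ψ.range :=
    (imgHom H o).rangeRestrict.liftOfSurjective (imgHom H o).rangeRestrict_surjective
      ⟨ψ.rangeRestrict, hker⟩
  unfold SolvMod
  rw [← hrange]
  haveI : Group.IsSolvable (imgHom H o).range := hsolH
  refine Group.isSolvable_of_surjective (f := g) fun y => ?_
  obtain ⟨x, rfl⟩ := ψ.rangeRestrict_surjective y
  exact ⟨(imgHom H o).rangeRestrict x, MonoidHom.liftOfRightInverse_comp_apply _ _ _ _ _⟩

end Setting

end CfsgLib.Bender
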