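import Cfsg.Agent.Lib.Bender.Gen.CommField
import Cfsg.Agent.Lib.Char.CATI

/-!
Owner: helper2 (slice F2). The scalars fix exactly two points, are self-centralising and are inverted
by the elements exchanging the two points.
-/

set_option autoImplicit false
set_option linter.style.haveILetI false
set_option linter.unusedSectionVars false

namespace CfsgLib.Bender

open Subgroup MulAction
open CfsgLib.Signalizer (involution_sq involution_inv orderOf_eq_two_of involution_ne_one)

variable {G Ω : Type*} [Group G] [Finite G] [MulAction G Ω] [Finite Ω] {a b : Ω} {q : ℕ}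
  {F : Type*} [Field F] {coord : Multiplicative F →* G}

namespace CommData

variable (h : CommData G a b q F coord) (hS : Setting G Ω)
include h hS

theorem odd_q : Odd q := by
  have h1 := hS.odd_pairStab h.ne
  rw [h.card_pair, Nat.odd_mul] at h1
  exact h1.2

theorem three_le : 3 ≤ q := by
  have := h.prime.two_le
  obtain ⟨k, hk⟩ := h.odd_q hS
  omega

omit hS in
theorem q_le_m : q ≤ 2 ^ q - 1 := by
  have := q.lt_two_pow_self
  omega

omit hS in
theorem odd_m : Odd (2 ^ q - 1) :=
  Nat.Even.sub_odd Nat.one_le_two_pow (Even.pow_of_ne_zero even_two h.prime.ne_zero) odd_one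

omit hS in
theorem q_dvd : q ∣ 2 ^ q - 1 - 1 := by
  haveI := Fact.mk h.prime
  rw [← CharP.cast_eq_zero_iff (ZMod q) q, Nat.sub_sub,
    Nat.cast_sub (show 1 + 1 ≤ 2 ^ q from le_self_pow₀ one_le_two h.prime.ne_zero)]
  push_cast
  rw [ZMod.pow_card]
  norm_num

omit hS in
theorem coprime_m : (2 ^ q - 1).Coprime q := by
  rw [Nat.coprime_comm, h.prime.coprime_iff_not_dvd]
  intro hd
  have := Nat.dvd_sub hd h.q_dvd
  have h1 := Nat.one_le_two_pow (n := q)
  have h2 : 2 ≤ 2 ^ q := le_self_pow₀ one_le_two h.prime.ne_zero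
  rw [show 2 ^ q - 1 - (2 ^ q - 1 - 1) = 1 by omega] at this
  exact h.prime.one_lt.ne' (Nat.dvd_one.1 this)

omit hS in
theorem pow_scal {x : G} (hx : x ∈ h.scal) : x ^ (2 ^ q - 1) = 1 := by
  have := pow_card_eq_one' (x := (⟨x, hx⟩ : h.scal))
  rw [h.card_scal] at this
  exact congrArg Subtype.val this

omit hS in
theorem odd_order_scal {x : G} (hx : x ∈ h.scal) : Odd (orderOf x) :=
  h.odd_m.of_dvd_nat (orderOf_dvd_of_pow_eq_one (h.pow_scal hx))

/-- An element of the pair stabiliser outside the scalars has order `q`. -/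
theorem pow_q {d : G} (hd : d ∈ pairStab G a b) (hdS : d ∉ h.scal) : d ^ q = 1 := by
  obtain ⟨⟨t, ht⟩, he, -⟩ := h.fix_one hd hdS
  have hc := hS.card_pairStab_invAt h.ne ht
  rw [h.card_pair, show Nat.card {t : G // InvAt t a} = 2 ^ q - 1 from h.card_inv] at hc
  have h2 : 0 < 2 ^ q - 1 := lt_of_lt_of_le h.prime.pos h.q_le_m
  have hq := Nat.eq_of_mul_eq_mul_left h2 hc
  have hmem : d ∈ (pairStab G a b ⊓ centralizer {t} : Subgroup G) :=
    ⟨hd, mem_centralizer_singleton_iff.2 (mul_inv_eq_iff_eq_mul.1 he)⟩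
  have := pow_card_eq_one' (x := (⟨d, hmem⟩ : (pairStab G a b ⊓ centralizer {t} : Subgroup G)))
  rw [hq] at this
  exact congrArg Subtype.val this

theorem mem_scal_iff_pow {d : G} (hd : d ∈ pairStab G a b) :
    d ∈ h.scal ↔ d ^ (2 ^ q - 1) = 1 := by
  refine ⟨h.pow_scal, fun hm => by_contra fun hdS => hdS ?_⟩
  have h1 := pow_gcd_eq_one.2 ⟨hm, h.pow_q hS hd hdS⟩
  rw [h.coprime_m, pow_one] at h1
  rw [h1]
  exact one_mem _

theorem eq_one_of_sq {d : G} (hd : d ∈ pairStab G a b) (h2 : d * d = 1) : d = 1 := by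
  by_contra hd1
  exact h.ne (hS.fix_unique ⟨orderOf_eq_two_of hd1 h2, hd.1⟩ ⟨orderOf_eq_two_of hd1 h2, hd.2⟩)

theorem mem_scal_of_sq {d : G} (hd : d ∈ pairStab G a b) (h2 : d * d ∈ h.scal) : d ∈ h.scal := by
  by_contra hdS
  have h1 : (d * d) ^ ((q + 1) / 2) = d := by
    obtain ⟨k, hk⟩ := h.odd_q hS
    rw [← pow_two, ← pow_mul, show 2 * ((q + 1) / 2) = q + 1 by omega, pow_succ, h.pow_q hS hd hdS,
      one_mul]
  exact hdS (h1 ▸ pow_mem h2 _)

/-- A scalar fixes only the two points. -/
theorem fix_scal {x : G} (hx : x ∈ h.scal) (hx1 : x ≠ 1) {c : Ω} (hc : x • c = c) :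
    c = a ∨ c = b := by
  classical
  obtain ⟨p, hp, hpd⟩ := Nat.exists_prime_and_dvd (orderOf_eq_one_iff.not.2 hx1)
  haveI := Fact.mk hp
  have hodd : Odd p := (h.odd_order_scal hx).of_dvd_nat hpd
  obtain ⟨e, he⟩ := hpd
  set y := x ^ e with hy
  have hpos := orderOf_pos x
  have he0 : 0 < e := Nat.pos_of_ne_zero fun e0 => by simp [he, e0] at hpos
  have hyo : orderOf y = p := by
    rw [hy, orderOf_pow, he, Nat.gcd_eq_right (dvd_mul_left _ _), Nat.mul_div_cancel _ he0]
  have hyS : y ∈ h.scal := pow_mem hx _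
  have hy1 : y ≠ 1 := fun e1 => hp.one_lt.ne' (by rw [← hyo, e1, orderOf_one])
  have hR : IsPGroup p (zpowers y) := IsPGroup.of_card (n := 1) (by
    rw [Nat.card_zpowers, hyo, pow_one])
  have hcl : IsClassAt a (zpowers y) := by
    refine ⟨zpowers_le.2 (h.scal_le hyS).1, ?_⟩
    rintro ⟨t, ht, hf⟩
    exact hy1 (h.scal_free hyS ht
      (h.eq_of_congr (ht.conj' (h.scal_le hyS).1) ht (hf y (mem_zpowers y))))
  have hyc : y • c = c := by
    have : y ∈ stabilizer G c := pow_mem (show x ∈ stabilizer G c from hc) _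
    exact this
  by_contra hcon
  push Not at hcon
  exact hS.fix_le_two hodd (zpowers y) hR a b c hcl h.ne (Ne.symm hcon.1) (Ne.symm hcon.2)
    (zpowers_le.2 (h.scal_le hyS).2) (zpowers_le.2 hyc)

theorem swap_conj_mem {v : G} (hv : orderOf v = 2) (hva : v • a = b) {x : G} (hx : x ∈ h.scal) :
    v * x * v⁻¹ ∈ h.scal := by
  have hd : v * x * v⁻¹ ∈ pairStab G a b :=
    (mem_normalizer_iff.1 (hS.swapper_normalizer hv hva) x).1 (h.scal_le hx)
  rw [h.mem_scal_iff_pow hS hd, conj_pow, h.pow_scal hx, mul_one, mul_inv_cancel]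

/-- An element exchanging the points inverts the scalars. -/
theorem swap_inv {v : G} (hv : orderOf v = 2) (hva : v • a = b) {x : G} (hx : x ∈ h.scal) :
    v * x * v⁻¹ = x⁻¹ := by
  set y := v * x * v⁻¹ with hy
  have hyS : y ∈ h.scal := h.swap_conj_mem hS hv hva hx
  have hfree : ∀ s ∈ h.scal, v * s = s * v → s = 1 := by
    intro s hs hc
    by_contra hs1
    obtain ⟨w, hw⟩ := hS.fix_exists hv
    have h1 : v • s • w = s • w := by rw [← mul_smul, hc, mul_smul, hw]
    rcases h.fix_scal hS hs hs1 (hS.fix_unique (t := v) ⟨hv, h1⟩ ⟨hv, hw⟩) with rfl | rfl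
    · exact h.ne (hw.symm.trans hva)
    · exact h.ne ((smul_left_cancel v (hva.trans hw.symm)))
  have hvy : v * y * v⁻¹ = x := by
    have h2 := involution_inv hv
    rw [hy, h2, show v * (v * x * v) * v = (v * v) * x * (v * v) by group, involution_sq hv, one_mul,
      mul_one]
  refine eq_inv_of_mul_eq_one_right (hfree _ (mul_mem hx hyS) (mul_inv_eq_iff_eq_mul.1 ?_))
  calc v * (x * y) * v⁻¹ = (v * x * v⁻¹) * (v * y * v⁻¹) := by group
    _ = x * y := by rw [← hy, hvy, h.scal_comm hyS hx]

/-- Only the identity is inverted by the pair stabiliser. -/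
theorem eq_one_of_inverted {d x : G} (hd : d ∈ pairStab G a b) (hx : x ∈ h.scal)
    (he : d * x * d⁻¹ = x⁻¹) : x = 1 := by
  by_contra hx1
  have h2 : d * d ∈ h.scal := by
    refine h.mem_scal_of_commute (mul_mem hd hd) hx hx1 (mul_inv_eq_iff_eq_mul.1 ?_)
    calc d * d * x * (d * d)⁻¹ = d * (d * x * d⁻¹) * d⁻¹ := by group
      _ = (d * x * d⁻¹)⁻¹ := by conv_lhs => rw [he]
                                group
      _ = x := by rw [he, inv_inv]
  have hdS := h.mem_scal_of_sq hS hd h2
  refine hx1 (h.eq_one_of_sq hS (h.scal_le hx) ?_)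
  rw [h.scal_comm hdS hx, mul_inv_cancel_right] at he
  calc x * x = x * x⁻¹ := by rw [← he]
    _ = 1 := mul_inv_cancel x

/-- The scalars are self-centralising. -/
theorem selfCent : CfsgLib.CA.SelfCent h.scal := by
  intro x hx hx1
  refine le_antisymm (fun g hg => ?_) (fun g hg => mem_centralizer_singleton_iff.2 (h.scal_comm hg hx))
  rw [mem_centralizer_singleton_iff] at hg
  have hfix : ∀ c : Ω, x • c = c → g • c = a ∨ g • c = b := fun c hc =>
    h.fix_scal hS hx hx1 (by rw [← mul_smul, ← hg, mul_smul, hc])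
  rcases hfix a (h.scal_le hx).1 with ha | ha
  · rcases hfix b (h.scal_le hx).2 with hb | hb
    · exact absurd (smul_left_cancel g (hb.trans ha.symm)) (Ne.symm h.ne)
    · exact h.mem_scal_of_commute ⟨ha, hb⟩ hx hx1 hg
  · rcases hfix b (h.scal_le hx).2 with hb | hb
    · exfalso
      obtain ⟨v, hv, hva⟩ := hS.exists_swapper h.ne
      have hvb := hS.swap_back hv hva
      have hd : v * g ∈ pairStab G a b :=
        ⟨show (v * g) • a = a by rw [mul_smul, ha, hvb],
          show (v * g) • b = b by rw [mul_smul, hb, hva]⟩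
      refine hx1 (h.eq_one_of_inverted hS hd hx ?_)
      calc v * g * x * (v * g)⁻¹ = v * (g * x * g⁻¹) * v⁻¹ := by group
        _ = x⁻¹ := by rw [hg, mul_inv_cancel_right, h.swap_inv hS hv hva hx]
    · exact absurd (smul_left_cancel g (hb.trans ha.symm)) (Ne.symm h.ne)

/-- An involution exchanging the points is a fixed one times a scalar. -/
theorem exists_swap_eq {v w : G} (hv : orderOf v = 2) (hva : v • a = b) (hw : orderOf w = 2)
    (hwa : w • a = b) : ∃ x ∈ h.scal, w = v * x := by
  have hsw : ∀ x : h.scal, orderOf (v * x) = 2 ∧ (v * x) • a = b := by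
    intro x
    have hxa : (x : G) • a = a := (h.scal_le x.2).1
    have e : (v * x) • a = b := by rw [mul_smul, hxa, hva]
    refine ⟨orderOf_eq_two_of (fun e1 => h.ne (by rw [← e, e1, one_smul])) ?_, e⟩
    calc v * x * (v * x) = (v * x * v⁻¹) * (v * v) * x := by group
      _ = 1 := by rw [h.swap_inv hS hv hva x.2, involution_sq hv, mul_one, inv_mul_cancel]
  let f : h.scal → {i : G // orderOf i = 2 ∧ i • a = b} := fun x => ⟨v * x, hsw x⟩
  have hinj : Function.Injective f := fun x y e =>
    Subtype.ext (mul_left_cancel (congrArg Subtype.val e))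
  have hle : Nat.card {i : G // orderOf i = 2 ∧ i • a = b} ≤ Nat.card h.scal := by
    rw [hS.card_swap h.ne, h.card_scal, show Nat.card {t : G // InvAt t a} = _ from h.card_inv]
  obtain ⟨x, hx⟩ := (hinj.bijective_of_nat_card_le hle).2 ⟨w, hw, hwa⟩
  exact ⟨x, x.2, (congrArg Subtype.val hx).symm⟩

theorem sq_swap {v : G} (hv : orderOf v = 2) (hva : v • a = b) {d : G}
    (hdS : d ∈ h.scal) : v * d * (v * d) = 1 := by
  calc v * d * (v * d) = (v * d * v⁻¹) * (v * v) * d := by group
    _ = 1 := by rw [h.swap_inv hS hv hva hdS, involution_sq hv, mul_one, inv_mul_cancel]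

/-- An element exchanging the points has scalar square only if it is an involution. -/
theorem sq_swap_not_mem {v : G} (hv : orderOf v = 2) (hva : v • a = b) {d : G}
    (hd : d ∈ pairStab G a b) (hdS : d ∉ h.scal) : v * d * (v * d) ∉ h.scal := by
  intro hu
  have hu1 : v * d * (v * d) = 1 := by
    refine h.eq_one_of_inverted hS hd hu ?_
    calc d * (v * d * (v * d)) * d⁻¹ = (v * v) * (d * (v * d * (v * d)) * d⁻¹) * (v * v)⁻¹ := by
          rw [involution_sq hv]; group
      _ = v * ((v * d) * (v * d * (v * d)) * (v * d)⁻¹) * v⁻¹ := by group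
      _ = v * (v * d * (v * d)) * v⁻¹ := by group
      _ = (v * d * (v * d))⁻¹ := h.swap_inv hS hv hva hu
  have hda : (v * d) • a = b := by rw [mul_smul, show d • a = a from hd.1, hva]
  obtain ⟨x, hx, hxd⟩ := h.exists_swap_eq hS hv hva
    (orderOf_eq_two_of (fun e1 => h.ne (by rw [← hda, e1, one_smul])) hu1) hda
  exact hdS (mul_left_cancel hxd ▸ hx)

theorem conj_scal_mem_normalizer {g : G} (hg : ∀ x ∈ h.scal, g * x * g⁻¹ ∈ h.scal) :
    g ∈ normalizer (h.scal : Set G) := by
  rw [mem_normalizer_iff]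
  refine fun x => ⟨hg x, fun hx => ?_⟩
  have hinj : Function.Injective fun y : h.scal => (⟨g * y * g⁻¹, hg y y.2⟩ : h.scal) :=
    fun y z e => Subtype.ext (mul_left_cancel (mul_right_cancel (congrArg Subtype.val e)))
  obtain ⟨y, hy⟩ := (Finite.injective_iff_surjective.1 hinj) ⟨_, hx⟩
  have := mul_left_cancel (mul_right_cancel (congrArg Subtype.val hy))
  exact this ▸ y.2

theorem pairStab_le_normalizer : pairStab G a b ≤ normalizer (h.scal : Set G) := fun _ hd =>
  h.conj_scal_mem_normalizer hS fun _ hx => h.scal_conj hd hx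

theorem exists_ne_one : ∃ x ∈ h.scal, x ≠ 1 := by
  by_contra hall
  push Not at hall
  have : h.scal = ⊥ := (Subgroup.eq_bot_iff_forall _).2 hall
  have h1 := h.card_scal
  rw [this, Subgroup.card_bot] at h1
  have := h.three_le hS
  have := Nat.pow_le_pow_right (show 1 ≤ 2 by norm_num) this
  omega

/-- The normaliser of the scalars permutes the two points. -/
theorem normalizer_smul {g : G} (hg : g ∈ normalizer (h.scal : Set G)) :
    (g • a = a ∧ g • b = b) ∨ (g • a = b ∧ g • b = a) := by
  obtain ⟨x, hx, hx1⟩ := h.exists_ne_one hS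
  have hy := (mem_normalizer_iff.1 hg x).1 hx
  have hfix : ∀ c : Ω, x • c = c → g • c = a ∨ g • c = b := fun c hc =>
    h.fix_scal hS hy (fun e => hx1 (by simpa using e)) (by
      rw [mul_smul, mul_smul, inv_smul_smul, hc])
  rcases hfix a (h.scal_le hx).1 with ha | ha <;> rcases hfix b (h.scal_le hx).2 with hb | hb
  · exact absurd (smul_left_cancel g (hb.trans ha.symm)) (Ne.symm h.ne)
  · exact Or.inl ⟨ha, hb⟩
  · exact Or.inr ⟨ha, hb⟩
  · exact absurd (smul_left_cancel g (hb.trans ha.symm)) (Ne.symm h.ne)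

theorem card_normalizer : Nat.card (normalizer (h.scal : Set G)) = 2 * ((2 ^ q - 1) * q) := by
  obtain ⟨v, hv, hva⟩ := hS.exists_swapper h.ne
  have hvN : v ∈ normalizer (h.scal : Set G) :=
    h.conj_scal_mem_normalizer hS fun _ hx => h.swap_conj_mem hS hv hva hx
  set N := normalizer (h.scal : Set G)
  have ho : orbit N a = {a, b} := by
    ext c
    constructor
    · rintro ⟨g, rfl⟩
      rcases h.normalizer_smul hS g.2 with ⟨ha, -⟩ | ⟨ha, -⟩
      · exact Or.inl ha
      · exact Or.inr ha
    · rintro (rfl | rfl)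
      · exact mem_orbit_self _
      · exact ⟨⟨v, hvN⟩, hva⟩
  have hs : stabilizer N a = (pairStab G a b).subgroupOf N := by
    ext g
    constructor
    · intro hga
      rcases h.normalizer_smul hS g.2 with hg' | ⟨hg', -⟩
      · exact mem_subgroupOf.2 hg'
      · exact absurd ((show (g : G) • a = a from hga).symm.trans hg') h.ne
    · exact fun hg => (mem_subgroupOf.1 hg).1
  have := Nat.card_congr (orbitProdStabilizerEquivGroup N a)
  rw [Nat.card_prod, ho, hs, Nat.card_congr (subgroupOfEquivOfLe (h.pairStab_le_normalizer hS)).toEquiv,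
    h.card_pair, Nat.card_coe_set_eq, Set.ncard_pair h.ne] at this
  exact this.symm

theorem relIndex_normalizer : h.scal.relIndex (normalizer (h.scal : Set G)) = 2 * q := by
  have h1 := (h.scal.subgroupOf (normalizer (h.scal : Set G))).index_mul_card
  rw [Nat.card_congr (subgroupOfEquivOfLe le_normalizer).toEquiv, h.card_normalizer hS, h.card_scal] at h1
  have h2 : 0 < 2 ^ q - 1 := lt_of_lt_of_le h.prime.pos h.q_le_m
  exact Nat.eq_of_mul_eq_mul_right h2 (h1.trans (by ring))

theorem card_stab :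
    Nat.card (stabilizer G a) = (Nat.card Ω - 1) * ((2 ^ q - 1) * q) := by
  have ho : orbit (stabilizer G a) b = {a}ᶜ := by
    ext c
    constructor
    · rintro ⟨g, rfl⟩ hc
      exact h.ne.symm (smul_left_cancel (g : G) ((hc : (g : G) • b = a).trans g.2.symm))
    · intro hc
      obtain ⟨g, hg, rfl⟩ := hS.exists_stab_smul h.ne.symm hc
      exact ⟨⟨g, hg⟩, rfl⟩
  have hs : stabilizer (stabilizer G a) b = (pairStab G a b).subgroupOf (stabilizer G a) := by
    ext g
    exact ⟨fun hg => mem_subgroupOf.2 ⟨g.2, hg⟩, fun hg => (mem_subgroupOf.1 hg).2⟩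
  have := Nat.card_congr (orbitProdStabilizerEquivGroup (stabilizer G a) b)
  rw [Nat.card_prod, ho, hs, Nat.card_congr (subgroupOfEquivOfLe inf_le_left).toEquiv,
    h.card_pair, Nat.card_coe_set_eq, Set.ncard_compl, Set.ncard_singleton] at this
  exact this.symm

/-! ### The scalars inside the stabiliser -/

omit hS in
/-- The scalars, in the stabiliser. -/
def scalH : Subgroup (stabilizer G a) := h.scal.subgroupOf (stabilizer G a)

omit hS in
theorem mem_scalH {g : stabilizer G a} : g ∈ h.scalH ↔ (g : G) ∈ h.scal := mem_subgroupOf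

omit hS in
theorem card_scalH : Nat.card h.scalH = 2 ^ q - 1 := by
  rw [scalH, Nat.card_congr (subgroupOfEquivOfLe (h.scal_le.trans inf_le_left)).toEquiv, h.card_scal]

theorem selfCentH : CfsgLib.CA.SelfCent h.scalH := by
  intro x hx hx1
  ext g
  rw [mem_centralizer_singleton_iff, h.mem_scalH,
    ← h.selfCent hS x (h.mem_scalH.1 hx) (fun e => hx1 (Subtype.ext e)),
    mem_centralizer_singleton_iff]
  exact ⟨congrArg Subtype.val, fun e => Subtype.ext e⟩

theorem normalizerH :
    normalizer (h.scalH : Set (stabilizer G a)) = (pairStab G a b).subgroupOf (stabilizer G a) := by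
  ext g
  rw [mem_subgroupOf]
  constructor
  · intro hg
    have : (g : G) ∈ normalizer (h.scal : Set G) := h.conj_scal_mem_normalizer hS fun x hx =>
      h.mem_scalH.1 ((mem_normalizer_iff.1 hg ⟨x, (h.scal_le hx).1⟩).1 (h.mem_scalH.2 hx))
    rcases h.normalizer_smul hS this with hg' | ⟨hg', -⟩
    · exact hg'
    · exact absurd ((show (g : G) • a = a from g.2).symm.trans hg') h.ne
  · intro hg
    rw [mem_normalizer_iff]
    intro x
    rw [h.mem_scalH, h.mem_scalH]
    exact mem_normalizer_iff.1 (h.pairStab_le_normalizer hS hg) x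

theorem relIndexH : h.scalH.relIndex (normalizer (h.scalH : Set (stabilizer G a))) = q := by
  rw [h.normalizerH hS, scalH, relIndex_subgroupOf inf_le_left]
  have h1 := (h.scal.subgroupOf (pairStab G a b)).index_mul_card
  rw [Nat.card_congr (subgroupOfEquivOfLe h.scal_le).toEquiv, h.card_pair, h.card_scal] at h1
  have h2 : 0 < 2 ^ q - 1 := lt_of_lt_of_le h.prime.pos h.q_le_m
  exact Nat.eq_of_mul_eq_mul_right h2 (h1.trans (by ring))

end CommData

end CfsgLib.Bender
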