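import Cfsg.Agent.Lib.Bender.Gen.CommPairs
import Cfsg.Agent.Lib.Bender.Gen.CommCC
import Cfsg.Agent.Lib.Bender.Gen.CommGalois
import Cfsg.Agent.Lib.HallNumber.Small
import Cfsg.Agent.Lib.Char.Perm

/-!
Owner: helper2 (slice F2). Either the stabiliser is doubly transitive on the involutions at its point or
it acts on them as a semilinear, so solvable, group.
-/

set_option autoImplicit false
set_option linter.style.haveILetI false
set_option linter.unusedSectionVars false

namespace CfsgLib.Bender

open Subgroup MulAction CfsgLib.Char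
open scoped Classical
open CfsgLib.Signalizer (involution_sq involution_inv orderOf_eq_two_of involution_ne_one)

variable {G Ω : Type*} [Group G] [Finite G] [MulAction G Ω] [Finite Ω] {a b : Ω} {q : ℕ}
  {F : Type*} [Field F] {coord : Multiplicative F →* G}

/-- The stabiliser acts on the involutions at its point by conjugation. -/
instance invAction : MulAction (stabilizer G a) (IAt G a) where
  smul g t := ⟨g * t * (g : G)⁻¹, t.2.conj' g.2⟩
  one_smul t := Subtype.ext (by
    show ((1 : stabilizer G a) : G) * t.1 * ((1 : stabilizer G a) : G)⁻¹ = t.1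
    simp)
  mul_smul g g' t := Subtype.ext (by
    show ((g * g' : stabilizer G a) : G) * t.1 * ((g * g' : stabilizer G a) : G)⁻¹ =
      (g : G) * ((g' : G) * t.1 * (g' : G)⁻¹) * (g : G)⁻¹
    simp [mul_assoc])

theorem coe_invAction (g : stabilizer G a) (t : IAt G a) :
    ((g • t : IAt G a) : G) = g * t * (g : G)⁻¹ := rfl

namespace CommData

/-- The automorphisms: the two-point stabiliser at `1`. -/
def autH (_ : CommData G a b q F coord) : Subgroup (stabilizer G a) :=
  (pairStab G a b ⊓ centralizer {el coord 1}).subgroupOf (stabilizer G a)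

variable (h : CommData G a b q F coord) (hS : Setting G Ω)
include h hS

theorem pretransitive : MulAction.IsPretransitive (stabilizer G a) (IAt G a) := by
  refine ⟨fun s t => ?_⟩
  obtain ⟨d, hd, he⟩ := hS.conj_fixing h.ne s.2 t.2
  exact ⟨⟨d, hd.1⟩, Subtype.ext he⟩

omit hS in
/-- The involution attached to `1`. -/
def one : IAt G a := ⟨el coord 1, h.inv_el one_ne_zero⟩

theorem two_le_card : 2 ≤ Nat.card (IAt G a) := by
  rw [h.card_inv]
  have := h.q_le_m
  have := h.three_le hS
  omega

omit hS in
theorem fixed_scal {g : stabilizer G a} (hg : g ∈ h.scalH) (hg1 : g ≠ 1) :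
    permChar (stabilizer G a) (IAt G a) g = 0 := by
  haveI : IsEmpty (fixedBy (IAt G a) g) := ⟨fun t => hg1 (Subtype.ext
    (h.scal_free (h.mem_scalH.1 hg) t.1.2 (congrArg Subtype.val t.2)))⟩
  rw [permChar, Nat.card_of_isEmpty, Nat.cast_zero]

theorem card_autH : Nat.card h.autH = q := by
  rw [autH, Nat.card_congr (subgroupOfEquivOfLe (inf_le_left.trans inf_le_left)).toEquiv]
  have hc := hS.card_pairStab_invAt h.ne (h.inv_el (x := (1 : F)) one_ne_zero)
  rw [h.card_pair, show Nat.card {t : G // InvAt t a} = 2 ^ q - 1 from h.card_inv] at hc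
  exact Nat.eq_of_mul_eq_mul_left (lt_of_lt_of_le h.prime.pos h.q_le_m) hc

omit hS in
theorem autH_smul_one (d : h.autH) : d • h.one = h.one := by
  refine Subtype.ext ?_
  show ((d : stabilizer G a) : G) * el coord 1 * ((d : stabilizer G a) : G)⁻¹ = el coord 1
  rw [mul_inv_eq_iff_eq_mul]
  exact mem_centralizer_singleton_iff.1 (mem_subgroupOf.1 d.2).2

theorem card_orbits_autH :
    Nat.card (orbitRel.Quotient h.autH (IAt G a)) * q = 2 ^ q - 1 - 1 + q := by
  haveI := Fintype.ofFinite h.autH
  haveI := Fintype.ofFinite (IAt G a)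
  have hB := MulAction.sum_card_fixedBy_eq_card_orbits_mul_card_group h.autH (IAt G a)
  simp only [← Nat.card_eq_fintype_card, h.card_autH hS] at hB
  rw [← hB, ← Finset.add_sum_erase _ _ (Finset.mem_univ (1 : h.autH))]
  have h1 : Nat.card (fixedBy (IAt G a) (1 : h.autH)) = 2 ^ q - 1 := by
    rw [MulAction.fixedBy_one_eq_univ, Nat.card_coe_set_eq, Set.ncard_univ, h.card_inv]
  have h2 : ∀ d ∈ (Finset.univ : Finset h.autH).erase 1, Nat.card (fixedBy (IAt G a) d) = 1 := by
    intro d hd
    have hd1 := Finset.ne_of_mem_erase hd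
    have hdD : ((d : stabilizer G a) : G) ∈ pairStab G a b := (mem_subgroupOf.1 d.2).1
    have hdS : ((d : stabilizer G a) : G) ∉ h.scal := fun hs => hd1 (Subtype.ext (Subtype.ext
      (h.scal_free hs h.one.2 (congrArg Subtype.val (h.autH_smul_one d)))))
    obtain ⟨t, ht, huniq⟩ := h.fix_one hdD hdS
    rw [Nat.card_eq_one_iff_unique]
    exact ⟨⟨fun x y => Subtype.ext ((huniq x.1 (congrArg Subtype.val x.2)).trans
      (huniq y.1 (congrArg Subtype.val y.2)).symm)⟩, ⟨⟨t, Subtype.ext ht⟩⟩⟩
  rw [h1, Finset.sum_congr rfl h2, Finset.sum_const, smul_eq_mul, mul_one,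
    Finset.card_erase_of_mem (Finset.mem_univ _), Finset.card_univ, ← Nat.card_eq_fintype_card,
    h.card_autH hS]
  have := h.q_le_m
  have := h.prime.pos
  omega

/-- If the pairs fall into few orbits, an element fixing `1` moves each involution by an automorphism. -/
theorem smul_mem_orbit {k : ℕ} (hk : k * q + 1 = 2 ^ q - 1)
    (hO : Nat.card (orbitRel.Quotient (stabilizer G a) (IAt G a × IAt G a)) = k + 1)
    {g : stabilizer G a} (hg : g • h.one = h.one) (x : IAt G a) :
    g • x ∈ orbit h.autH x := by
  haveI := h.pretransitive hS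
  let φ : orbitRel.Quotient h.autH (IAt G a) →
      orbitRel.Quotient (stabilizer G a) (IAt G a × IAt G a) :=
    Quotient.lift (fun x => Quotient.mk'' (h.one, x)) fun x y hxy => by
      obtain ⟨d, rfl⟩ := MulAction.mem_orbit_iff.1 (show x ∈ orbit h.autH y from hxy)
      refine Quotient.sound' (MulAction.mem_orbit_iff.2 ⟨(d : stabilizer G a), ?_⟩)
      exact Prod.ext (h.autH_smul_one d) rfl
  have hsurj : Function.Surjective φ := by
    intro z
    induction z using Quotient.inductionOn' with | _ p => ?_
    obtain ⟨g, hg⟩ := MulAction.exists_smul_eq (stabilizer G a) p.1 h.one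
    refine ⟨Quotient.mk'' (g • p.2), Quotient.sound' (MulAction.mem_orbit_iff.2 ⟨g, ?_⟩)⟩
    exact Prod.ext hg rfl
  have hcard : Nat.card (orbitRel.Quotient h.autH (IAt G a)) = k + 1 := by
    refine Nat.eq_of_mul_eq_mul_right h.prime.pos ?_
    rw [h.card_orbits_autH hS, add_mul, one_mul]
    omega
  haveI := Fintype.ofFinite (orbitRel.Quotient h.autH (IAt G a))
  have hinj : Function.Injective φ :=
    ((Nat.bijective_iff_surjective_and_card φ).mpr ⟨hsurj, by rw [hcard, hO]⟩).1
  have he : (Quotient.mk'' (g • x) : orbitRel.Quotient h.autH (IAt G a)) = Quotient.mk'' x :=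
    hinj (Quotient.sound' (MulAction.mem_orbit_iff.2 ⟨g, Prod.ext hg rfl⟩))
  exact Quotient.exact' he

/-- A non-doubly transitive stabiliser acts solvably. -/
theorem solvMod_of_orbits {k : ℕ} (hk : k * q + 1 = 2 ^ q - 1)
    (hO : Nat.card (orbitRel.Quotient (stabilizer G a) (IAt G a × IAt G a)) = k + 1) :
    SolvMod G a := by
  haveI := h.finite_field
  haveI := h.charP
  haveI := h.pretransitive hS
  haveI : Fact (Nat.Prime 2) := ⟨Nat.prime_two⟩
  letI : Algebra (ZMod 2) F := ZMod.algebra F 2
  have hcard : Nat.card (F ≃ₐ[ZMod 2] F) = q := by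
    rw [IsGalois.card_aut_eq_finrank]
    have h1 := Module.natCard_eq_pow_finrank (K := ZMod 2) (V := F)
    rw [h.card_field, Nat.card_zmod] at h1
    exact (Nat.pow_right_injective (le_refl 2) h1).symm
  obtain ⟨x₀, x₁, O, hx₀, hx₁, hOcard, hrig⟩ := exists_rigid_pair h.prime (h.odd_q hS) hcard
  -- the additive map of an element of the stabiliser
  have hmap : ∀ g : stabilizer G a, ∃ f : F →+ F, Function.Injective f ∧
      ∀ x, (g : G) * el coord x * (g : G)⁻¹ = el coord (f x) := by
    intro g
    choose f hf using h.exists_conj_el g.2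
    refine ⟨AddMonoidHom.mk' f fun x y => h.el_inj ?_, fun x y e => h.el_inj ?_, hf⟩
    · rw [el_add, ← hf, ← hf, ← hf, el_add]
      group
    · have e' : f x = f y := e
      have := (hf x).trans ((congrArg (el coord) e').trans (hf y).symm)
      exact mul_left_cancel (mul_right_cancel this)
  choose f hfinj hf using hmap
  have horb : ∀ g : stabilizer G a, g • h.one = h.one → ∀ x, ∃ σ : F ≃ₐ[ZMod 2] F, f g x = σ x := by
    intro g hg x
    by_cases hx : x = 0
    · exact ⟨AlgEquiv.refl, by rw [hx, map_zero]; rfl⟩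
    obtain ⟨d, hd⟩ := MulAction.mem_orbit_iff.1 (h.smul_mem_orbit hS hk hO hg ⟨el coord x, h.inv_el hx⟩)
    obtain ⟨c, σ, hσ⟩ := h.semilinear' _ (mem_subgroupOf.1 d.2).1
    have hc : c = 1 := by
      have h1 := (hσ 1).symm.trans (congrArg Subtype.val (h.autH_smul_one d))
      simpa using h.el_inj h1
    refine ⟨AlgEquiv.ofRingEquiv (f := σ) fun y =>
      RingHom.congr_fun (Subsingleton.elim ((σ : F →+* F).comp (algebraMap (ZMod 2) F))
        (algebraMap (ZMod 2) F)) y, h.el_inj ?_⟩
    have h2 : (d : stabilizer G a) * el coord x * ((d : stabilizer G a) : G)⁻¹ =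
        (g : G) * el coord x * (g : G)⁻¹ := congrArg Subtype.val hd
    rw [← hf, ← h2, hσ, hc, one_mul]
    rfl
  -- the permutation group
  let π := MulAction.toPermHom (stabilizer G a) (IAt G a)
  set P := π.range
  haveI : MulAction.IsPretransitive P (IAt G a) :=
    ⟨fun s t => by
      obtain ⟨g, hg⟩ := MulAction.exists_smul_eq (stabilizer G a) s t
      exact ⟨⟨π g, g, rfl⟩, hg⟩⟩
  have hP : Nat.card P = (2 ^ q - 1) * Nat.card (stabilizer P h.one) := by
    have := Nat.card_congr (orbitProdStabilizerEquivGroup P h.one)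
    rw [Nat.card_prod, MulAction.orbit_eq_univ, Nat.card_coe_set_eq, Set.ncard_univ, h.card_inv] at this
    exact this.symm
  have hle : Nat.card (stabilizer P h.one) ≤ 2 * q := by
    choose gp hgp using fun p : stabilizer P h.one => p.1.2
    have hg1 : ∀ p, gp p • h.one = h.one := fun p =>
      (Equiv.ext_iff.1 (hgp p) h.one).trans p.2
    let F' : stabilizer P h.one → O := fun p =>
      ⟨(f (gp p) x₀, f (gp p) x₁), (hrig _ (hfinj _) (horb _ (hg1 p))).1⟩
    have hinj : Function.Injective F' := by
      intro p p' e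
      have e0 : f (gp p) x₀ = f (gp p') x₀ := congrArg (fun z : O => z.1.1) e
      have e1 : f (gp p) x₁ = f (gp p') x₁ := congrArg (fun z : O => z.1.2) e
      set g := (gp p')⁻¹ * gp p with hgdef
      have hgone : g • h.one = h.one := by
        rw [mul_smul, hg1 p, inv_smul_eq_iff, hg1 p']
      have hfix : ∀ x, f (gp p) x = f (gp p') x → f g x = x := by
        intro x ex
        refine h.el_inj ?_
        rw [← hf, hgdef, Subgroup.coe_mul, Subgroup.coe_inv]
        calc ((gp p' : G))⁻¹ * gp p * el coord x * (((gp p' : G))⁻¹ * gp p)⁻¹ =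
            ((gp p' : G))⁻¹ * ((gp p : G) * el coord x * (gp p : G)⁻¹) * gp p' := by group
          _ = el coord x := by rw [hf, ex, ← hf]; group
      have hall := (hrig _ (hfinj g) (horb g hgone)).2 (hfix _ e0) (hfix _ e1)
      refine Subtype.ext (Subtype.ext ?_)
      rw [← hgp p, ← hgp p']
      refine Equiv.ext fun t => ?_
      show gp p • t = gp p' • t
      obtain ⟨x, -, hx⟩ := h.exists_el t.2
      have : g • t = t := Subtype.ext (by rw [coe_invAction, ← hx, hf, hall])
      rw [hgdef, mul_smul, inv_smul_eq_iff] at this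
      exact this
    refine (Nat.card_le_card_of_injective F' hinj).trans ?_
    rw [Nat.card_eq_fintype_card, Fintype.card_coe]
    exact hOcard
  have hdvd : q ∣ Nat.card (stabilizer P h.one) := by
    let ι : h.autH →* stabilizer P h.one :=
      { toFun := fun d => ⟨⟨π d.1, d.1, rfl⟩, h.autH_smul_one d⟩
        map_one' := by ext; simp
        map_mul' := fun _ _ => by ext; simp }
    have hι : Function.Injective ι := by
      rw [← MonoidHom.ker_eq_bot_iff, Subgroup.eq_bot_iff_forall]
      intro d hd
      have hd' : π d.1 = 1 :=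
        congrArg (fun p : stabilizer P h.one => ((p : P) : Equiv.Perm (IAt G a))) hd
      refine Subtype.ext (Subtype.ext ?_)
      refine h.faithful _ (mem_subgroupOf.1 d.2).1 fun t ht => ?_
      have := congrArg Subtype.val (Equiv.ext_iff.1 hd' ⟨t, ht⟩)
      exact mul_inv_eq_iff_eq_mul.1 this
    have := Subgroup.card_dvd_of_injective ι hι
    rwa [h.card_autH hS] at this
  have h4 : ¬ 4 ∣ Nat.card P := by
    rw [hP]
    intro h4
    obtain ⟨j, hj⟩ := hdvd
    have hpos : 0 < Nat.card (stabilizer P h.one) := Nat.card_pos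
    have hj2 : j ≤ 2 := Nat.le_of_mul_le_mul_left (by rw [← hj, mul_comm q]; exact hle) h.prime.pos
    obtain ⟨u, hu⟩ := h.odd_m.mul (h.odd_q hS)
    obtain rfl | rfl : j = 1 ∨ j = 2 := by
      rcases Nat.eq_zero_or_pos j with rfl | hj0
      · rw [mul_zero] at hj; omega
      · omega
    · rw [hj, mul_one, hu] at h4; omega
    · rw [hj, ← mul_assoc, hu] at h4; omega
  have hsol : Group.IsSolvable P := CfsgLib.HallNumber.solvable_of_not_four_dvd h4
  have hker : π.rangeRestrict.ker ≤ (imgHom G a).rangeRestrict.ker := by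
    rw [MonoidHom.ker_rangeRestrict, MonoidHom.ker_rangeRestrict]
    intro g hg
    refine MonoidHom.mem_ker.2 (Equiv.ext fun z => ?_)
    induction z using Quotient.inductionOn with
    | _ t => exact congrArg (Quotient.mk _) (Equiv.ext_iff.1 (MonoidHom.mem_ker.1 hg) t)
  have hsurj : Function.Surjective
      (π.rangeRestrict.liftOfSurjective π.rangeRestrict_surjective ⟨_, hker⟩) := by
    intro y
    obtain ⟨g, rfl⟩ := (imgHom G a).rangeRestrict_surjective y
    exact ⟨π.rangeRestrict g, MonoidHom.liftOfRightInverse_comp_apply _ _ _ _ _⟩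
  exact Group.isSolvable_of_surjective hsurj

theorem restrict_inner [Fintype h.scalH] (lam : Cfsg.IrrCharacter h.scalH) :
    Cfsg.classInner (fun s : h.scalH => permChar (stabilizer G a) (IAt G a) s - 1)
      (lam : h.scalH → ℂ) = if lam = trivChar h.scalH then 0 else 1 := by
  have hval : ∀ s : h.scalH, permChar (stabilizer G a) (IAt G a) s =
      if s = 1 then (Nat.card h.scalH : ℂ) else 0 := by
    intro s
    split_ifs with hs
    · rw [hs, permChar, Subgroup.coe_one, MulAction.fixedBy_one_eq_univ, Nat.card_coe_set_eq,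
        Set.ncard_univ, h.card_inv, h.card_scalH]
    · exact h.fixed_scal s.2 fun e => hs (Subtype.ext e)
  have h1 : Cfsg.classInner (fun s : h.scalH => permChar (stabilizer G a) (IAt G a) s)
      (lam : h.scalH → ℂ) = 1 := by
    simp only [Cfsg.classInner, hval, ite_mul, zero_mul]
    rw [Finset.sum_ite_eq' Finset.univ (1 : h.scalH), if_pos (Finset.mem_univ _),
      CA.degree_one (h.selfCentH hS), map_one, mul_one,
      inv_mul_cancel₀ (Nat.cast_ne_zero.2 Nat.card_pos.ne')]
  rw [show (fun s : h.scalH => permChar (stabilizer G a) (IAt G a) s - 1) =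
      (fun s : h.scalH => permChar (stabilizer G a) (IAt G a) s) - (trivChar h.scalH : h.scalH → ℂ) by
      funext s; simp, classInner_sub_left, h1, classInner_irr]
  by_cases e : lam = trivChar h.scalH
  · rw [if_pos e, if_pos e.symm, sub_self]
  · rw [if_neg e, if_neg (Ne.symm e), sub_zero]

/-- The stabiliser is doubly transitive on the involutions at its point or acts solvably. -/
theorem irr_or_solv :
    Cfsg.IsIrrCharacter (stabilizer G a) (fun g => permChar (stabilizer G a) (IAt G a) g - 1) ∨
      SolvMod G a := by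
  haveI := Fintype.ofFinite (stabilizer G a)
  haveI := Fintype.ofFinite h.scalH
  haveI := Fintype.ofFinite (Cfsg.IrrCharacter (stabilizer G a))
  haveI := h.pretransitive hS
  haveI : Nonempty (IAt G a) := ⟨h.one⟩
  obtain ⟨k, r, hk, hr1, hr2, hr3, -⟩ := CA.exists_reps (h.selfCentH hS)
  rw [h.relIndexH hS, h.card_scalH] at hk
  have hch := isCharacter_permChar_sub_one (G := stabilizer G a) (X := IAt G a)
  rcases CC.norm_dichotomy (h.selfCentH hS) r hr1 hr2 hr3 hch
      (by rw [h.restrict_inner hS, if_pos rfl])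
      (fun lam hlam => by rw [h.restrict_inner hS, if_neg hlam]) with hn | hn
  · exact Or.inl (IsChar.isIrr_of_classInner_eq_one hch hn)
  refine Or.inr (h.solvMod_of_orbits hS hk ?_)
  have h0 : Nat.card (orbitRel.Quotient (stabilizer G a) (IAt G a)) = 1 := by
    rw [Nat.card_eq_one_iff_unique]
    exact ⟨(MulAction.pretransitive_iff_subsingleton_quotient _ _).mp inferInstance,
      ⟨Quotient.mk'' h.one⟩⟩
  have h1 := classInner_permChar_one (G := stabilizer G a) (X := IAt G a)
  rw [h0, Nat.cast_one] at h1
  have h2 : Cfsg.classInner (fun _ : stabilizer G a => (1 : ℂ))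
      (permChar (stabilizer G a) (IAt G a)) = 1 := by
    rw [← classInner_conj_symm, h1, map_one]
  have h3 : Cfsg.classInner (fun _ : stabilizer G a => (1 : ℂ)) (fun _ => 1) = 1 :=
    classInner_irr_self (trivChar (stabilizer G a))
  rw [show (fun g => permChar (stabilizer G a) (IAt G a) g - 1) =
      permChar (stabilizer G a) (IAt G a) - (fun _ => 1) from rfl, classInner_sub_left,
    classInner_sub_right, classInner_sub_right, classInner_permChar_self, h1, h2, h3] at hn
  have : (Nat.card (orbitRel.Quotient (stabilizer G a) (IAt G a × IAt G a)) : ℂ) = ((k + 1 : ℕ) : ℂ) := by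
    push_cast
    linear_combination hn
  exact_mod_cast this

end CommData

end CfsgLib.Bender
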