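import Cfsg.Agent.Lib.Bender.Gen.CommRank
import Cfsg.Agent.Lib.Char.Central
import Cfsg.Agent.Lib.Char.Indicator

/-!
Owner: helper2 (slice F2). The character induced from the doubly transitive character of the
stabiliser: its constituents take the value `j` at an involution and `j` times the number of points at
the identity.
-/

set_option autoImplicit false
set_option linter.style.haveILetI false
set_option linter.unusedSectionVars false

namespace CfsgLib.Bender

open Subgroup MulAction CfsgLib.Char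
open scoped Classical ComplexConjugate
open CfsgLib.Signalizer (involution_sq involution_inv orderOf_eq_two_of involution_ne_one)

universe u

variable {G Ω : Type u} [Group G] [Fintype G] [MulAction G Ω] [Finite Ω] {a b : Ω} {q : ℕ}
  {F : Type u} [Field F] {coord : Multiplicative F →* G}

namespace CommData

/-- The permutation character on the involutions less one. -/
noncomputable def rho (_ : CommData G a b q F coord) : stabilizer G a → ℂ :=
  fun g => permChar (stabilizer G a) (IAt G a) g - 1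

/-- Its extension by zero. -/
noncomputable def rext (h : CommData G a b q F coord) : G → ℂ :=
  Cfsg.extendByZero (stabilizer G a) h.rho

variable (h : CommData G a b q F coord) (hS : Setting G Ω)
include h

theorem rext_coe (g : stabilizer G a) : h.rext g = h.rho g := extendByZero_coe _ _ g

theorem rext_off_stab {g : G} (hg : g • a ≠ a) : h.rext g = 0 := extendByZero_of_notMem _ _ hg

theorem rext_fixed {g : G} (hga : g • a = a) (n : ℕ)
    (hn : Nat.card {t : IAt G a // g * t.1 * g⁻¹ = t.1} = n) : h.rext g = (n : ℂ) - 1 := by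
  rw [show g = ((⟨g, hga⟩ : stabilizer G a) : G) from rfl, h.rext_coe, rho, permChar, ← hn]
  congr 2
  exact Nat.card_congr (Equiv.subtypeEquivRight fun t =>
    ⟨fun e => congrArg Subtype.val e, fun e => Subtype.ext e⟩)

theorem m_cast : ((2 ^ q - 1 : ℕ) : ℂ) = (2 : ℂ) ^ q - 1 := by
  rw [Nat.cast_sub Nat.one_le_two_pow]
  norm_num

theorem rext_el (x : F) : h.rext (el coord x) = ((2 ^ q - 1 : ℕ) : ℂ) - 1 := by
  refine h.rext_fixed ?_ _ ?_
  · by_cases hx : x = 0
    · rw [hx, el_zero, one_smul]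
    · exact (h.inv_el hx).2
  · rw [← h.card_inv]
    refine Nat.card_congr (Equiv.subtypeUnivEquiv fun t => ?_)
    obtain ⟨y, -, hy⟩ := h.exists_el t.2
    rw [← hy, el_comm, mul_inv_cancel_right]

theorem rext_one : h.rext 1 = ((2 ^ q - 1 : ℕ) : ℂ) - 1 := by
  rw [← el_zero (coord := coord)]
  exact h.rext_el 0

theorem rext_scal {s : G} (hs : s ∈ h.scal) (hs1 : s ≠ 1) : h.rext s = -1 := by
  rw [h.rext_fixed (h.scal_le hs).1 0 ?_]
  · simp
  · haveI : IsEmpty {t : IAt G a // s * t.1 * s⁻¹ = t.1} :=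
      ⟨fun t => hs1 (h.scal_free hs t.1.2 t.2)⟩
    exact Nat.card_of_isEmpty

theorem rext_off {d : G} (hd : d ∈ pairStab G a b) (hdS : d ∉ h.scal) : h.rext d = 0 := by
  rw [h.rext_fixed hd.1 1 ?_]
  · simp
  · obtain ⟨t, ht, huniq⟩ := h.fix_one hd hdS
    rw [Nat.card_eq_one_iff_unique]
    exact ⟨⟨fun x y => Subtype.ext ((huniq _ x.2).trans (huniq _ y.2).symm)⟩, ⟨⟨t, ht⟩⟩⟩

theorem conj_rext (g : G) : conj (h.rext g) = h.rext g := by
  by_cases hg : g • a = a
  · rw [h.rext_fixed hg _ rfl, map_sub, map_natCast, map_one]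
  · rw [h.rext_off_stab hg, map_zero]

/-- The scalars as a finite set. -/
theorem card_scal_filter :
    (Finset.univ.filter fun s : G => s ∈ h.scal).card = 2 ^ q - 1 := by
  rw [← Fintype.card_subtype, ← Nat.card_eq_fintype_card]
  exact h.card_scal

theorem sum_rext_scal : ∑ s ∈ Finset.univ.filter (fun s : G => s ∈ h.scal), h.rext s = 0 := by
  have h1 : (1 : G) ∈ Finset.univ.filter (fun s : G => s ∈ h.scal) := by simp
  rw [← Finset.add_sum_erase _ _ h1, h.rext_one, Finset.sum_congr rfl (g := fun _ => (-1 : ℂ))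
    fun s hs => h.rext_scal (Finset.mem_filter.1 (Finset.mem_of_mem_erase hs)).2
      (Finset.ne_of_mem_erase hs), Finset.sum_const, Finset.card_erase_of_mem h1, h.card_scal_filter,
    nsmul_eq_mul, Nat.cast_sub (show 1 ≤ 2 ^ q - 1 from le_trans h.prime.one_lt.le h.q_le_m)]
  push_cast
  ring

theorem sum_rext_sq_scal :
    ∑ s ∈ Finset.univ.filter (fun s : G => s ∈ h.scal), h.rext s * h.rext s =
      ((2 ^ q - 1 : ℕ) : ℂ) * (((2 ^ q - 1 : ℕ) : ℂ) - 1) := by
  have h1 : (1 : G) ∈ Finset.univ.filter (fun s : G => s ∈ h.scal) := by simp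
  rw [← Finset.add_sum_erase _ _ h1, h.rext_one, Finset.sum_congr rfl (g := fun _ => (1 : ℂ))
    fun s hs => by rw [h.rext_scal (Finset.mem_filter.1 (Finset.mem_of_mem_erase hs)).2
      (Finset.ne_of_mem_erase hs)]; ring, Finset.sum_const, Finset.card_erase_of_mem h1,
    h.card_scal_filter, nsmul_eq_mul,
    Nat.cast_sub (show 1 ≤ 2 ^ q - 1 from le_trans h.prime.one_lt.le h.q_le_m)]
  push_cast
  ring

include hS

theorem rext_conj {k : G} (hk : k • a = a) (g : G) : h.rext (k * g * k⁻¹) = h.rext g := by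
  haveI := h.pretransitive hS
  haveI : Nonempty (IAt G a) := ⟨h.one⟩
  by_cases hg : g • a = a
  · have hcl := IsChar.isClassFunction (isCharacter_permChar_sub_one (G := stabilizer G a) (X := IAt G a))
      ⟨g, hg⟩ ⟨k, hk⟩
    rw [show g = ((⟨g, hg⟩ : stabilizer G a) : G) from rfl, h.rext_coe,
      show k * ((⟨g, hg⟩ : stabilizer G a) : G) * k⁻¹ =
        ((⟨k, hk⟩ * ⟨g, hg⟩ * ⟨k, hk⟩⁻¹ : stabilizer G a) : G) from rfl, h.rext_coe]
    exact hcl
  · rw [h.rext_off_stab hg, h.rext_off_stab ?_]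
    rw [mul_smul, mul_smul, inv_smul_eq_iff.2 hk.symm]
    exact fun e => hg (smul_left_cancel k (e.trans hk.symm))

theorem two_le_points : 2 ≤ Nat.card Ω := by
  haveI : Nontrivial Ω := ⟨a, b, h.ne⟩
  exact Finite.one_lt_card

theorem card_stab' :
    (Nat.card (stabilizer G a) : ℂ) =
      ((Nat.card Ω : ℂ) - 1) * (((2 ^ q - 1 : ℕ) : ℂ) * (q : ℂ)) := by
  rw [h.card_stab hS, Nat.cast_mul, Nat.cast_mul, Nat.cast_sub (le_trans one_le_two (h.two_le_points hS))]
  norm_num

/-- A conjugation invariant sum splits by the image of the point. -/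
theorem sum_split {f : G → ℂ} (hf : ∀ k g : G, k • a = a → f (k * g * k⁻¹) = f g)
    {v : G} (hv : orderOf v = 2) (hva : v • a = b) :
    ∑ g : G, f g = ∑ g ∈ Finset.univ.filter (fun g : G => g • a = a), f g +
      ((Nat.card Ω : ℂ) - 1) * ∑ g ∈ Finset.univ.filter (fun g : G => g • a = a), f (v * g) := by
  haveI := Fintype.ofFinite Ω
  rw [← Finset.sum_fiberwise Finset.univ (fun g : G => g • a) f,
    ← Finset.add_sum_erase _ _ (Finset.mem_univ a)]
  congr 1
  have hfib : ∀ c ∈ (Finset.univ : Finset Ω).erase a,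
      ∑ g ∈ Finset.univ.filter (fun g : G => g • a = c), f g =
        ∑ g ∈ Finset.univ.filter (fun g : G => g • a = a), f (v * g) := by
    intro c hc
    obtain ⟨k, hk, rfl⟩ := hS.exists_stab_smul h.ne.symm (Finset.ne_of_mem_erase hc)
    symm
    refine Finset.sum_bij' (fun g _ => k * (v * g) * k⁻¹) (fun g _ => v * (k⁻¹ * g * k)) ?_ ?_ ?_ ?_ ?_
    · intro g hg
      have hga := (Finset.mem_filter.1 hg).2
      refine Finset.mem_filter.2 ⟨Finset.mem_univ _, ?_⟩
      rw [mul_smul, inv_smul_eq_iff.2 hk.symm, mul_smul, mul_smul, hga, hva]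
    · intro g hg
      have hga := (Finset.mem_filter.1 hg).2
      refine Finset.mem_filter.2 ⟨Finset.mem_univ _, ?_⟩
      rw [mul_smul, mul_smul, mul_smul, hk, hga, inv_smul_smul, hS.swap_back hv hva]
    · intro g _
      rw [show v * (k⁻¹ * (k * (v * g) * k⁻¹) * k) = v * v * g by group, involution_sq hv, one_mul]
    · intro g _
      rw [show k * (v * (v * (k⁻¹ * g * k))) * k⁻¹ = k * (v * v) * (k⁻¹ * g) by group,
        involution_sq hv, mul_one, mul_inv_cancel_left]
    · intro g _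
      exact (hf k _ hk).symm
  rw [Finset.sum_congr rfl hfib, Finset.sum_const, Finset.card_erase_of_mem (Finset.mem_univ a),
    Finset.card_univ, nsmul_eq_mul, ← Nat.card_eq_fintype_card,
    Nat.cast_sub (le_trans one_le_two (h.two_le_points hS))]
  norm_num

theorem sum_scal_of_vanish {f : G → ℂ} (hf : ∀ g : G, g • a = a → g ∉ h.scal → f g = 0) :
    ∑ g ∈ Finset.univ.filter (fun g : G => g • a = a), f g =
      ∑ g ∈ Finset.univ.filter (fun g : G => g ∈ h.scal), f g :=
  (Finset.sum_subset (fun g hg => Finset.mem_filter.2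
    ⟨Finset.mem_univ _, (h.scal_le (Finset.mem_filter.1 hg).2).1⟩)
    fun g hg hg' => hf g (Finset.mem_filter.1 hg).2 fun hs =>
      hg' (Finset.mem_filter.2 ⟨Finset.mem_univ _, hs⟩)).symm

theorem sum_stab (f : G → ℂ) :
    ∑ g ∈ Finset.univ.filter (fun g : G => g • a = a), f g = ∑ g : stabilizer G a, f g :=
  Finset.sum_subtype _ (fun g => by simp) f

variable (hirr : Cfsg.IsIrrCharacter (stabilizer G a)
  (fun g => permChar (stabilizer G a) (IAt G a) g - 1))

include hirr

theorem sum_rext_sq :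
    ∑ g : G, h.rext g * h.rext g = (Nat.card (stabilizer G a) : ℂ) := by
  have h1 := classInner_irr_self (⟨_, hirr⟩ : Cfsg.IrrCharacter (stabilizer G a))
  rw [Cfsg.classInner, inv_mul_eq_iff_eq_mul₀ (Nat.cast_ne_zero.2 Nat.card_pos.ne'), mul_one] at h1
  refine Eq.trans ?_ h1
  rw [← Finset.sum_subset (Finset.subset_univ (Finset.univ.filter fun g : G => g • a = a))
    (fun g _ hg => by
      rw [h.rext_off_stab fun e => hg (Finset.mem_filter.2 ⟨Finset.mem_univ _, e⟩), zero_mul]),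
    h.sum_stab hS]
  refine Finset.sum_congr rfl fun g _ => ?_
  conv_lhs => arg 2; rw [← h.conj_rext]
  rw [h.rext_coe]
  rfl

/-- The doubly transitive character has indicator one. -/
theorem sum_rext_square :
    ∑ g ∈ Finset.univ.filter (fun g : G => g • a = a), h.rext (g * g) =
      (Nat.card (stabilizer G a) : ℂ) := by
  haveI : Nonempty (IAt G a) := ⟨h.one⟩
  obtain ⟨n, ρ, hρ, hρc⟩ := hirr
  haveI := hρ
  set N : ℕ := ∑ g : stabilizer G a, Nat.card (fixedBy (IAt G a) (g * g)) with hN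
  have hfs : fsInd ρ.character =
      (Nat.card (stabilizer G a) : ℂ)⁻¹ * ((N : ℂ) - Nat.card (stabilizer G a)) := by
    rw [fsInd, hρc, hN, Finset.sum_sub_distrib, Nat.cast_sum]
    simp [permChar, Nat.card_eq_fintype_card]
  obtain ⟨htri, hzero⟩ := fsInd_trichotomy ρ
  have hne : fsInd ρ.character ≠ 0 := fun e => by
    obtain ⟨s, hs⟩ := hzero.1 e
    rw [hρc] at hs
    simp [permChar] at hs
  have hpos : 0 < N := by
    have hle : Nat.card (fixedBy (IAt G a) ((1 : stabilizer G a) * 1)) ≤ N :=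
      Finset.single_le_sum (f := fun g : stabilizer G a => Nat.card (fixedBy (IAt G a) (g * g)))
        (fun _ _ => Nat.zero_le _) (Finset.mem_univ 1)
    rw [mul_one, MulAction.fixedBy_one_eq_univ, Nat.card_coe_set_eq, Set.ncard_univ] at hle
    exact lt_of_lt_of_le Nat.card_pos hle
  have hH : (Nat.card (stabilizer G a) : ℂ) ≠ 0 := Nat.cast_ne_zero.2 Nat.card_pos.ne'
  have h1 : fsInd ρ.character = 1 := by
    rcases htri with e | e | e
    · exact absurd e hne
    · exact e
    · exfalso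
      rw [hfs, inv_mul_eq_iff_eq_mul₀ hH, mul_neg, mul_one, sub_eq_iff_eq_add, neg_add_cancel,
        Nat.cast_eq_zero] at e
      omega
  rw [fsInd, inv_mul_eq_iff_eq_mul₀ hH, mul_one, hρc] at h1
  rw [h.sum_stab hS]
  refine Eq.trans (Finset.sum_congr rfl fun g _ => ?_) h1
  rw [← Subgroup.coe_mul, h.rext_coe]
  rfl

/-- The induced character. -/
theorem isCharacter_theta : Cfsg.IsCharacter G (Cfsg.indFun (stabilizer G a) h.rho) :=
  isCharacter_indFun _ (IsIrr.isCharacter hirr)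

omit hirr hS in
theorem theta_apply (g : G) :
    Cfsg.indFun (stabilizer G a) h.rho g =
      (Nat.card (stabilizer G a) : ℂ)⁻¹ * ∑ x : G, h.rext (x⁻¹ * g * x) := rfl

omit hirr in
theorem theta_one :
    Cfsg.indFun (stabilizer G a) h.rho 1 =
      (Nat.card Ω : ℂ) * (((2 ^ q - 1 : ℕ) : ℂ) - 1) := by
  haveI : MulAction.IsPretransitive G Ω := ⟨hS.trans⟩
  rw [indFun_apply_one, MulAction.index_stabilizer_of_transitive G a]
  congr 1
  rw [← h.rext_coe, Subgroup.coe_one, h.rext_one]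

omit hirr in
theorem theta_inv {t : G} (ht : InvAt t a) :
    Cfsg.indFun (stabilizer G a) h.rho t = ((2 ^ q - 1 : ℕ) : ℂ) - 1 := by
  rw [h.theta_apply, inv_mul_eq_iff_eq_mul₀ (Nat.cast_ne_zero.2 Nat.card_pos.ne')]
  rw [← Finset.sum_subset (Finset.subset_univ (Finset.univ.filter fun g : G => g • a = a))
    (fun x _ hx => h.rext_off_stab fun e => hx (Finset.mem_filter.2 ⟨Finset.mem_univ _, ?_⟩))]
  · rw [Finset.sum_congr rfl (g := fun _ => ((2 ^ q - 1 : ℕ) : ℂ) - 1) fun x hx => ?_, Finset.sum_const,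
      nsmul_eq_mul]
    · congr 2
      rw [← Fintype.card_subtype, ← Nat.card_eq_fintype_card]
      exact Nat.card_congr (Equiv.subtypeEquivRight fun g => Iff.rfl)
    · have hxa := (Finset.mem_filter.1 hx).2
      obtain ⟨y, -, hy⟩ := h.exists_el (ht.conj' (inv_smul_eq_iff.2 hxa.symm))
      rw [inv_inv] at hy
      rw [← hy, h.rext_el]
  · rw [mul_smul, mul_smul, inv_smul_eq_iff] at e
    exact hS.fix_unique (t := t) ⟨ht.1, e⟩ ht

omit hirr in
theorem isConj_inv {s t : G} (hs : orderOf s = 2) (ht : InvAt t a) : IsConj t s := by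
  obtain ⟨x, hx⟩ := hS.fix_exists hs
  obtain ⟨g, hg⟩ := hS.trans x a
  obtain ⟨d, -, hd⟩ := hS.conj_fixing h.ne ht (hg ▸ (InvAt.conj (t := s) ⟨hs, hx⟩ g))
  refine isConj_iff.2 ⟨g⁻¹ * d, ?_⟩
  rw [show g⁻¹ * d * t * (g⁻¹ * d)⁻¹ = g⁻¹ * (d * t * d⁻¹) * g by group, hd]
  group

omit hirr in
theorem classFinset_inv {t : G} (ht : InvAt t a) :
    CharIntegral.classFinset t = Finset.univ.filter fun s : G => orderOf s = 2 := by
  ext s
  rw [CharIntegral.mem_classFinset, Finset.mem_filter]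
  refine ⟨fun hc => ⟨Finset.mem_univ _, ?_⟩, fun hs => h.isConj_inv hS hs.2 ht⟩
  obtain ⟨g, rfl⟩ := isConj_iff.1 hc
  rw [CfsgLib.Signalizer.orderOf_conj]
  exact ht.1

omit hirr in
theorem card_involutions :
    (Finset.univ.filter fun s : G => orderOf s = 2).card = Nat.card Ω * (2 ^ q - 1) := by
  haveI := Fintype.ofFinite Ω
  choose fx hfx using fun s : {s : G // orderOf s = 2} => hS.fix_exists s.2
  let e : {s : G // orderOf s = 2} ≃ Σ x : Ω, {t : G // InvAt t x} :=
    { toFun := fun s => ⟨fx s, s.1, s.2, hfx s⟩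
      invFun := fun p => ⟨p.2.1, p.2.2.1⟩
      left_inv := fun s => rfl
      right_inv := fun p => by
        have e1 : fx ⟨p.2.1, p.2.2.1⟩ = p.1 :=
          hS.fix_unique (t := p.2.1) ⟨p.2.2.1, hfx ⟨p.2.1, p.2.2.1⟩⟩ p.2.2
        exact Sigma.subtype_ext e1 rfl }
  rw [← Fintype.card_subtype, ← Nat.card_eq_fintype_card, Nat.card_congr e, Nat.card_sigma]
  simp only [hS.card_invAt_eq _ a, show Nat.card {t : G // InvAt t a} = _ from h.card_inv,
    Finset.sum_const, Finset.card_univ, smul_eq_mul, Nat.card_eq_fintype_card]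

omit hirr in
theorem sum_rext_pairs :
    ∑ i ∈ Finset.univ.filter (fun s : G => orderOf s = 2),
      ∑ j ∈ Finset.univ.filter (fun s : G => orderOf s = 2), h.rext (i * j) =
      ((2 ^ q - 1 : ℕ) : ℂ) * ((2 ^ q - 1 : ℕ) : ℂ) * (((2 ^ q - 1 : ℕ) : ℂ) - 1) := by
  set K := Finset.univ.filter (fun s : G => orderOf s = 2) with hK
  have hmem : ∀ {s : G}, s ∈ K ↔ orderOf s = 2 := fun {s} => by simp [hK]
  obtain ⟨v, hv, hva⟩ := hS.exists_swapper h.ne
  set f : G → ℂ := fun i => if orderOf i = 2 then ∑ j ∈ K, h.rext (i * j) else 0 with hf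
  have hinv : ∀ k g : G, k • a = a → f (k * g * k⁻¹) = f g := by
    intro k g hk
    simp only [hf, CfsgLib.Signalizer.orderOf_conj]
    refine if_congr Iff.rfl ?_ rfl
    symm
    refine Finset.sum_bij' (fun j _ => k * j * k⁻¹) (fun j _ => k⁻¹ * j * k) ?_ ?_ ?_ ?_ ?_
    · exact fun j hj => hmem.2 (by rw [CfsgLib.Signalizer.orderOf_conj]; exact hmem.1 hj)
    · intro j hj
      refine hmem.2 ?_
      have := CfsgLib.Signalizer.orderOf_conj k⁻¹ j
      rw [inv_inv] at this
      rw [this]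
      exact hmem.1 hj
    · intro j _; group
    · intro j _; group
    · intro j _
      rw [show k * g * k⁻¹ * (k * j * k⁻¹) = k * (g * j) * k⁻¹ by group, h.rext_conj hS hk]
  rw [show ∑ i ∈ K, ∑ j ∈ K, h.rext (i * j) = ∑ i, f i by
      rw [hf, hK, Finset.sum_filter], h.sum_split hS hinv hv hva]
  have hzero : ∑ g ∈ Finset.univ.filter (fun g : G => g • a = a), f (v * g) = 0 := by
    refine Finset.sum_eq_zero fun g hg => ?_
    have hga := (Finset.mem_filter.1 hg).2
    simp only [hf]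
    split_ifs with hi
    swap
    · rfl
    have hia : (v * g) • a = b := by rw [mul_smul, hga, hva]
    obtain ⟨s, hs, hsd⟩ := h.exists_swap_eq hS hv hva hi hia
    rw [hsd]
    have hswap : ∀ r ∈ h.scal, orderOf (v * r) = 2 := by
      intro r hr
      have hra : (v * r) • a = b := by rw [mul_smul, (h.scal_le hr).1, hva]
      exact orderOf_eq_two_of (fun e => h.ne (by rw [← hra, e, one_smul])) (h.sq_swap hS hv hva hr)
    rw [← Finset.sum_subset (s₁ := (Finset.univ.filter fun r : G => r ∈ h.scal).image (v * ·))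
      (fun j hj => by
        obtain ⟨r, hr, rfl⟩ := Finset.mem_image.1 hj
        exact hmem.2 (hswap r (Finset.mem_filter.1 hr).2))
      (fun j hj hj' => h.rext_off_stab fun e => hj' ?_), Finset.sum_image fun _ _ _ _ e => mul_left_cancel e]
    · rw [Finset.sum_congr rfl (g := fun r => h.rext (s⁻¹ * r)) fun r hr => by
        rw [show v * s * (v * r) = v * s * v⁻¹ * (v * v) * r by group, h.swap_inv hS hv hva hs,
          involution_sq hv, mul_one]]
      refine Eq.trans (Finset.sum_bij' (fun r _ => s⁻¹ * r) (fun r _ => s * r) ?_ ?_ ?_ ?_ ?_)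
        h.sum_rext_scal
      · exact fun r hr => Finset.mem_filter.2
          ⟨Finset.mem_univ _, mul_mem (inv_mem hs) (Finset.mem_filter.1 hr).2⟩
      · exact fun r hr => Finset.mem_filter.2
          ⟨Finset.mem_univ _, mul_mem hs (Finset.mem_filter.1 hr).2⟩
      · intro r _; group
      · intro r _; group
      · intro r _; rfl
    · have hja : j • a = b := by
        rw [mul_smul] at e
        have e2 := congrArg ((v * s) • ·) e
        simp only [← mul_smul] at e2
        rw [← mul_assoc, h.sq_swap hS hv hva hs, one_mul] at e2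
        exact e2.trans (hsd ▸ hia)
      obtain ⟨r, hr, rfl⟩ := h.exists_swap_eq hS hv hva (hmem.1 hj) hja
      exact Finset.mem_image_of_mem _ (Finset.mem_filter.2 ⟨Finset.mem_univ _, hr⟩)
  rw [hzero, mul_zero, add_zero]
  have hIA : ((Finset.univ.filter fun g : G => g • a = a).filter fun g => orderOf g = 2).card =
      2 ^ q - 1 := by
    rw [← h.card_inv, Finset.filter_filter, ← Fintype.card_subtype, ← Nat.card_eq_fintype_card]
    exact Nat.card_congr (Equiv.subtypeEquivRight fun g => ⟨fun e => ⟨e.2, e.1⟩, fun e => ⟨e.2, e.1⟩⟩)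
  simp only [hf]
  rw [← Finset.sum_filter, Finset.sum_congr rfl
    (g := fun _ => ((2 ^ q - 1 : ℕ) : ℂ) * (((2 ^ q - 1 : ℕ) : ℂ) - 1)) fun i hi => ?_,
    Finset.sum_const, hIA, nsmul_eq_mul, mul_assoc]
  have hia := Finset.mem_filter.1 hi
  have hiI : InvAt i a := ⟨hia.2, (Finset.mem_filter.1 hia.1).2⟩
  obtain ⟨x, -, hx⟩ := h.exists_el hiI
  have hsub : ∀ j ∈ K, j ∉ Finset.univ.filter (fun g : G => InvAt g a) → h.rext (i * j) = 0 := by
    intro j hj hj'
    refine h.rext_off_stab fun e => hj' (Finset.mem_filter.2 ⟨Finset.mem_univ _, hmem.1 hj, ?_⟩)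
    rw [mul_smul] at e
    exact smul_left_cancel i (e.trans hiI.2.symm)
  rw [← Finset.sum_subset (fun j hj => hmem.2 (Finset.mem_filter.1 hj).2.1) hsub,
    Finset.sum_congr rfl (g := fun _ => ((2 ^ q - 1 : ℕ) : ℂ) - 1) fun j hj => ?_, Finset.sum_const,
    nsmul_eq_mul]
  · congr 2
    rw [← h.card_inv, ← Fintype.card_subtype, ← Nat.card_eq_fintype_card]
  · obtain ⟨y, -, hy⟩ := h.exists_el (Finset.mem_filter.1 hj).2
    rw [← hx, ← hy, ← el_add, h.rext_el]

omit hirr in
theorem sum_theta_pairs :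
    ∑ i ∈ Finset.univ.filter (fun s : G => orderOf s = 2),
      ∑ j ∈ Finset.univ.filter (fun s : G => orderOf s = 2),
        Cfsg.indFun (stabilizer G a) h.rho (i * j) =
      (Nat.card Ω : ℂ) *
        (((2 ^ q - 1 : ℕ) : ℂ) * ((2 ^ q - 1 : ℕ) : ℂ) * (((2 ^ q - 1 : ℕ) : ℂ) - 1)) := by
  set K := Finset.univ.filter (fun s : G => orderOf s = 2) with hK
  have hmem : ∀ {s : G}, s ∈ K ↔ orderOf s = 2 := fun {s} => by simp [hK]
  simp only [h.theta_apply, ← Finset.mul_sum]
  rw [Finset.sum_congr rfl fun i _ => Finset.sum_comm, Finset.sum_comm,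
    Finset.sum_congr rfl (g := fun _ => ∑ i ∈ K, ∑ j ∈ K, h.rext (i * j)) fun x _ => ?_]
  · rw [Finset.sum_const, Finset.card_univ, nsmul_eq_mul, ← Nat.card_eq_fintype_card,
      h.sum_rext_pairs hS, ← mul_assoc]
    congr 1
    haveI : MulAction.IsPretransitive G Ω := ⟨hS.trans⟩
    rw [← Subgroup.index_mul_card (stabilizer G a), Nat.cast_mul, mul_comm,
      mul_assoc, mul_inv_cancel₀ (Nat.cast_ne_zero.2 Nat.card_pos.ne'), mul_one,
      MulAction.index_stabilizer_of_transitive G a]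
  · have hio : ∀ {s y : G}, orderOf s = 2 → orderOf (y⁻¹ * s * y) = 2 := fun {s y} hs => by
      have := CfsgLib.Signalizer.orderOf_conj y⁻¹ s
      rw [inv_inv] at this
      rw [this]; exact hs
    refine Finset.sum_bij' (fun i _ => x⁻¹ * i * x) (fun i _ => x * i * x⁻¹)
      (fun i hi => hmem.2 (hio (hmem.1 hi)))
      (fun i hi => hmem.2 (by rw [CfsgLib.Signalizer.orderOf_conj]; exact hmem.1 hi))
      (fun i _ => by group) (fun i _ => by group) fun i _ => ?_
    refine Finset.sum_bij' (fun j _ => x⁻¹ * j * x) (fun j _ => x * j * x⁻¹)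
      (fun j hj => hmem.2 (hio (hmem.1 hj)))
      (fun j hj => hmem.2 (by rw [CfsgLib.Signalizer.orderOf_conj]; exact hmem.1 hj))
      (fun j _ => by group) (fun j _ => by group) fun j _ => ?_
    congr 1
    group

theorem fsInd_theta {k : ℕ} (hk : k * q + 1 = 2 ^ q - 1) :
    fsInd (Cfsg.indFun (stabilizer G a) h.rho) = (k : ℂ) + 1 := by
  obtain ⟨v, hv, hva⟩ := hS.exists_swapper h.ne
  have hvb := hS.swap_back hv hva
  have hH : (Nat.card (stabilizer G a) : ℂ) ≠ 0 := Nat.cast_ne_zero.2 Nat.card_pos.ne'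
  have hG : (Nat.card G : ℂ) ≠ 0 := Nat.cast_ne_zero.2 Nat.card_pos.ne'
  have hm : ((2 ^ q - 1 : ℕ) : ℂ) - 1 = (k : ℂ) * q := by
    rw [← hk]; push_cast; ring
  have hswap : ∑ g : G, h.rext (g * g) =
      (Nat.card (stabilizer G a) : ℂ) +
        ((Nat.card Ω : ℂ) - 1) * (((2 ^ q - 1 : ℕ) : ℂ) * (((2 ^ q - 1 : ℕ) : ℂ) - 1)) := by
    rw [h.sum_split hS (f := fun g => h.rext (g * g)) (fun k g hk => by
      rw [show k * g * k⁻¹ * (k * g * k⁻¹) = k * (g * g) * k⁻¹ by group]
      exact h.rext_conj hS hk _) hv hva, h.sum_rext_square hS hirr]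
    congr 2
    rw [h.sum_scal_of_vanish hS (f := fun g => h.rext (v * g * (v * g))) fun g hga hgS => ?_,
      Finset.sum_congr rfl (g := fun _ => ((2 ^ q - 1 : ℕ) : ℂ) - 1) fun g hg => by
        rw [h.sq_swap hS hv hva (Finset.mem_filter.1 hg).2, h.rext_one],
      Finset.sum_const, nsmul_eq_mul, h.card_scal_filter]
    by_cases hgb : g • b = b
    · refine h.rext_off ⟨?_, ?_⟩ (h.sq_swap_not_mem hS hv hva ⟨hga, hgb⟩ hgS)
      · show (v * g * (v * g)) • a = a
        rw [mul_smul, mul_smul (x := v) (y := g) (b := a), hga, hva, mul_smul, hgb, hvb]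
      · show (v * g * (v * g)) • b = b
        rw [mul_smul, mul_smul (x := v) (y := g) (b := b), hgb, hvb, mul_smul, hga, hva]
    · refine h.rext_off_stab fun e => hgb ?_
      rw [mul_smul, mul_smul (x := v) (y := g) (b := a), hga, hva, mul_smul] at e
      exact smul_left_cancel v (e.trans hvb.symm)
  rw [fsInd, inv_mul_eq_iff_eq_mul₀ hG]
  simp only [h.theta_apply, ← Finset.mul_sum]
  rw [Finset.sum_comm, Finset.sum_congr rfl (g := fun _ => ∑ g : G, h.rext (g * g)) fun x _ => ?_,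
    Finset.sum_const, Finset.card_univ, nsmul_eq_mul, ← Nat.card_eq_fintype_card,
    inv_mul_eq_iff_eq_mul₀ hH, hswap, hm]
  · linear_combination (Nat.card G : ℂ) * (-(k : ℂ)) * h.card_stab' hS
  · refine Fintype.sum_equiv (MulAut.conj x⁻¹).toEquiv _ _ fun g => ?_
    congr 1
    simp [mul_assoc]

theorem norm_theta {k : ℕ} (hk : k * q + 1 = 2 ^ q - 1) :
    Cfsg.classInner (Cfsg.indFun (stabilizer G a) h.rho) (Cfsg.indFun (stabilizer G a) h.rho) =
      (k : ℂ) + 1 := by
  obtain ⟨v, hv, hva⟩ := hS.exists_swapper h.ne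
  have hvb := hS.swap_back hv hva
  have hH : (Nat.card (stabilizer G a) : ℂ) ≠ 0 := Nat.cast_ne_zero.2 Nat.card_pos.ne'
  have hm : ((2 ^ q - 1 : ℕ) : ℂ) - 1 = (k : ℂ) * q := by
    rw [← hk]; push_cast; ring
  set f : G → ℂ := fun x => ∑ g : G, h.rext g * h.rext (x⁻¹ * g * x) with hf
  have hinv : ∀ l x : G, l • a = a → f (l * x * l⁻¹) = f x := by
    intro l x hl
    symm
    refine Fintype.sum_equiv (MulAut.conj l).toEquiv _ _ fun g => ?_
    simp only [MulEquiv.toEquiv_eq_coe, MulEquiv.coe_toEquiv, MulAut.conj_apply]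
    rw [h.rext_conj hS hl, show (l * x * l⁻¹)⁻¹ * (l * g * l⁻¹) * (l * x * l⁻¹) =
      l * (x⁻¹ * g * x) * l⁻¹ by group, h.rext_conj hS hl]
  have hfix : ∀ d ∈ Finset.univ.filter (fun x : G => x • a = a),
      f d = (Nat.card (stabilizer G a) : ℂ) := by
    intro d hd
    rw [← h.sum_rext_sq hS hirr]
    refine Finset.sum_congr rfl fun g _ => ?_
    congr 1
    have := h.rext_conj hS (inv_smul_eq_iff.2 (Finset.mem_filter.1 hd).2.symm) g
    rwa [inv_inv] at this
  have hsw : ∀ d ∈ Finset.univ.filter (fun x : G => x • a = a),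
      f (v * d) = ((2 ^ q - 1 : ℕ) : ℂ) * (((2 ^ q - 1 : ℕ) : ℂ) - 1) := by
    intro d hd
    have hd' : d⁻¹ • a = a := inv_smul_eq_iff.2 (Finset.mem_filter.1 hd).2.symm
    rw [← h.sum_rext_sq_scal]
    simp only [hf]
    refine Eq.trans (Finset.sum_congr rfl (g := fun g => h.rext g * h.rext (v * g * v⁻¹)) fun g _ => ?_) ?_
    · congr 1
      rw [show (v * d)⁻¹ * g * (v * d) = d⁻¹ * (v⁻¹ * g * v) * d⁻¹⁻¹ by group, h.rext_conj hS hd',
        involution_inv hv]
    rw [← Finset.sum_subset (Finset.subset_univ (Finset.univ.filter fun g : G => g ∈ h.scal))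
      fun g _ hg => ?_, Finset.sum_congr rfl fun g hg => ?_]
    · have hgS := (Finset.mem_filter.1 hg).2
      rw [h.swap_inv hS hv hva hgS]
      congr 1
      by_cases hg1 : g = 1
      · rw [hg1, inv_one]
      · rw [h.rext_scal (inv_mem hgS) (inv_ne_one.2 hg1), h.rext_scal hgS hg1]
    · have hgS : g ∉ h.scal := fun hs => hg (Finset.mem_filter.2 ⟨Finset.mem_univ _, hs⟩)
      by_cases hga : g • a = a
      · by_cases hgb : g • b = b
        · rw [h.rext_off ⟨hga, hgb⟩ hgS, zero_mul]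
        · rw [h.rext_off_stab (g := v * g * v⁻¹) ?_, mul_zero]
          intro e
          rw [involution_inv hv, mul_smul, mul_smul, hva] at e
          exact hgb (smul_left_cancel v (e.trans hvb.symm))
      · rw [h.rext_off_stab hga, zero_mul]
  rw [frobenius_reciprocity _ _ (IsChar.isClassFunction (h.isCharacter_theta hS hirr)),
    Cfsg.classInner, inv_mul_eq_iff_eq_mul₀ hH]
  have hterm : ∑ g : stabilizer G a, h.rho g * conj (Cfsg.indFun (stabilizer G a) h.rho g) =
      (Nat.card (stabilizer G a) : ℂ)⁻¹ * ∑ x : G, f x := by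
    simp only [h.theta_apply, map_mul, map_inv₀, map_natCast, map_sum, h.conj_rext, ← h.rext_coe, hf]
    rw [← h.sum_stab hS (fun g => h.rext g * ((Nat.card (stabilizer G a) : ℂ)⁻¹ *
      ∑ x : G, h.rext (x⁻¹ * g * x))), Finset.sum_subset (Finset.subset_univ _) (fun g _ hg => by
      rw [h.rext_off_stab fun e => hg (Finset.mem_filter.2 ⟨Finset.mem_univ _, e⟩), zero_mul]),
      Finset.sum_comm (s := (Finset.univ : Finset G)) (t := Finset.univ)]
    simp only [Finset.mul_sum]
    exact Finset.sum_congr rfl fun g _ => Finset.sum_congr rfl fun x _ => by ring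
  rw [hterm, inv_mul_eq_iff_eq_mul₀ hH, h.sum_split hS hinv hv hva, Finset.sum_congr rfl hfix,
    Finset.sum_congr rfl hsw, Finset.sum_const, Finset.sum_const, nsmul_eq_mul, nsmul_eq_mul,
    show (Finset.univ.filter fun g : G => g • a = a).card = Nat.card (stabilizer G a) by
      rw [← Fintype.card_subtype, ← Nat.card_eq_fintype_card]; rfl, hm]
  linear_combination (Nat.card (stabilizer G a) : ℂ) * (-(k : ℂ)) * h.card_stab' hS

/-- The constituents of the induced character. -/
theorem theta_data [Fintype (Cfsg.IrrCharacter G)] {t : G} (ht : InvAt t a) {k : ℕ}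
    (hk : k * q + 1 = 2 ^ q - 1) :
    ∃ (T : Finset (Cfsg.IrrCharacter G)) (j : Cfsg.IrrCharacter G → ℕ), T.card = k + 1 ∧
      (∀ χ ∈ T, 0 < j χ ∧ (χ : G → ℂ) t = (j χ : ℂ) ∧
        (χ : G → ℂ) 1 = (Nat.card Ω : ℂ) * (j χ : ℂ) ∧ χ ≠ trivChar G) ∧
      ∑ χ ∈ T, j χ = 2 ^ q - 1 - 1 := by
  obtain ⟨r, hr⟩ := IsChar.exists_sum (h.isCharacter_theta hS hirr)
  set n : ℕ := Nat.card Ω with hn
  set mC : ℂ := ((2 ^ q - 1 : ℕ) : ℂ) with hmC
  have happ : ∀ g : G, Cfsg.indFun (stabilizer G a) h.rho g =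
      ∑ χ : Cfsg.IrrCharacter G, (r χ : ℂ) * (χ : G → ℂ) g := fun g => by
    rw [congrFun hr g, Finset.sum_apply]
    rfl
  -- all multiplicities are one
  have hfsχ : ∀ χ : Cfsg.IrrCharacter G,
      fsInd (χ : G → ℂ) = 0 ∨ fsInd (χ : G → ℂ) = 1 ∨ fsInd (χ : G → ℂ) = -1 := by
    rintro ⟨χ, d, σ, hσ, rfl⟩
    haveI := hσ
    exact (fsInd_trichotomy σ).1
  have hfs : ∑ χ : Cfsg.IrrCharacter G, (r χ : ℂ) * fsInd (χ : G → ℂ) = (k : ℂ) + 1 := by
    rw [← h.fsInd_theta hS hirr hk]
    simp only [fsInd, happ, Finset.mul_sum]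
    rw [Finset.sum_comm]
    exact Finset.sum_congr rfl fun g _ => Finset.sum_congr rfl fun χ _ => by ring
  have hnorm : ∑ χ : Cfsg.IrrCharacter G, r χ * r χ = k + 1 := by
    have h1 := h.norm_theta hS hirr hk
    rw [hr, IsChar.classInner_self] at h1
    simp only [map_natCast] at h1
    exact_mod_cast h1
  choose e he using fun χ : Cfsg.IrrCharacter G => show ∃ e : ℤ, fsInd (χ : G → ℂ) = (e : ℂ) ∧ e ≤ 1 from by
    rcases hfsχ χ with e | e | e
    · exact ⟨0, by rw [e]; norm_num, by norm_num⟩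
    · exact ⟨1, by rw [e]; norm_num, le_refl 1⟩
    · exact ⟨-1, by rw [e]; norm_num, by norm_num⟩
  have hr1 : ∀ χ, r χ = 0 ∨ r χ = 1 := by
    have hsum : ∑ χ, (r χ : ℤ) * e χ = ∑ χ, (r χ : ℤ) * r χ := by
      have h2 : ∑ χ : Cfsg.IrrCharacter G, ((r χ : ℤ) : ℂ) * (e χ : ℂ) = ((k + 1 : ℕ) : ℂ) := by
        rw [Nat.cast_add, Nat.cast_one, ← hfs]
        exact Finset.sum_congr rfl fun χ _ => by rw [(he χ).1, Int.cast_natCast]
      rw [← hnorm] at h2
      exact_mod_cast h2
    intro χ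
    by_contra hcon
    push Not at hcon
    have hlt : ∑ χ, (r χ : ℤ) * e χ < ∑ χ, (r χ : ℤ) * r χ := by
      refine Finset.sum_lt_sum (fun x _ => ?_) ⟨χ, Finset.mem_univ _, ?_⟩
      · rcases Nat.eq_zero_or_pos (r x) with h0 | h0
        · simp [h0]
        · exact mul_le_mul_of_nonneg_left ((he x).2.trans (by exact_mod_cast h0)) (by positivity)
      · have h2 : (2 : ℤ) ≤ r χ := by have := hcon.1; have := hcon.2; omega
        exact mul_lt_mul_of_pos_left (by have := (he χ).2; omega) (by omega)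
    exact absurd hsum hlt.ne
  -- the class equation
  have hone : ∑ χ : Cfsg.IrrCharacter G, (r χ : ℂ) * (χ : G → ℂ) 1 = (n : ℂ) * (mC - 1) := by
    rw [← happ, h.theta_one hS]
  have hval : ∑ χ : Cfsg.IrrCharacter G, (r χ : ℂ) * (χ : G → ℂ) t = mC - 1 := by
    rw [← happ, h.theta_inv hS ht]
  have hpairs : ∑ χ : Cfsg.IrrCharacter G,
      (r χ : ℂ) * ((χ : G → ℂ) t * (χ : G → ℂ) t / (χ : G → ℂ) 1) * ((n : ℂ) * mC) ^ 2 =
        (n : ℂ) * (mC * mC * (mC - 1)) := by
    rw [hn, ← h.sum_theta_pairs hS, ← h.classFinset_inv hS ht]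
    simp only [happ]
    rw [Finset.sum_congr rfl fun i _ => Finset.sum_comm, Finset.sum_comm]
    refine Finset.sum_congr rfl fun χ _ => ?_
    simp only [← Finset.mul_sum]
    have hcls : ∀ g : G, ∑ x ∈ CharIntegral.classFinset t, (χ : G → ℂ) (x * g) =
        ((Subgroup.centralizer ({t} : Set G)).index : ℂ) * (χ : G → ℂ) t / (χ : G → ℂ) 1 *
          (χ : G → ℂ) g := by
      intro g
      obtain ⟨χ, d, σ, hσ, rfl⟩ := χ
      haveI := hσ
      have hh := congrArg (fun f : Module.End ℂ (Fin d → ℂ) => LinearMap.trace ℂ (Fin d → ℂ) (f * σ g))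
        (CharIntegral.classSum_eq_scalar σ t)
      simp only [Finset.sum_mul, map_sum, ← map_mul] at hh
      refine hh.trans ?_
      show _ = _ * σ.character t / σ.character 1 * σ.character g
      rw [smul_mul_assoc, map_smul, smul_eq_mul, Representation.char_one]
      rfl
    rw [Finset.sum_comm, Finset.sum_congr rfl fun j _ => hcls j, ← Finset.mul_sum]
    have h1 := hcls 1
    simp only [mul_one] at h1
    rw [h1, ← CharIntegral.card_classFinset, h.classFinset_inv hS ht, h.card_involutions hS]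
    have := IsIrr.apply_one_ne_zero χ.2
    push_cast [hmC]
    field_simp
  have hn0 : (n : ℂ) ≠ 0 := Nat.cast_ne_zero.2 (by have := h.two_le_points hS; omega)
  have hm0 : mC ≠ 0 := Nat.cast_ne_zero.2 (by have := h.q_le_m; have := h.prime.pos; omega)
  choose d hd using fun χ : Cfsg.IrrCharacter G => IsIrr.exists_degree χ.2
  have hreal : ∀ χ : Cfsg.IrrCharacter G, (((χ : G → ℂ) t).re : ℂ) = (χ : G → ℂ) t := fun χ => by
    have := IsIrr.map_inv χ.2 t
    rw [involution_inv ht.1] at this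
    exact Complex.conj_eq_iff_re.1 this.symm
  have heq : ∀ χ : Cfsg.IrrCharacter G, r χ ≠ 0 →
      (χ : G → ℂ) 1 = (n : ℂ) * (χ : G → ℂ) t := by
    set w : Cfsg.IrrCharacter G → ℝ :=
      fun χ => (r χ : ℝ) * ((n : ℝ) * ((χ : G → ℂ) t).re - d χ) ^ 2 / d χ with hw
    have hpairs' : ∑ χ : Cfsg.IrrCharacter G,
        (r χ : ℂ) * ((χ : G → ℂ) t * (χ : G → ℂ) t / (χ : G → ℂ) 1) * (n : ℂ) ^ 2 =
          (n : ℂ) * (mC - 1) := by
      refine mul_right_cancel₀ (pow_ne_zero 2 hm0) ?_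
      rw [Finset.sum_mul]
      refine Eq.trans (Finset.sum_congr rfl fun χ _ => ?_) (hpairs.trans ?_) <;> ring
    have hzero : ∑ χ, w χ = 0 := by
      apply Complex.ofReal_injective
      push_cast [hw]
      rw [Finset.sum_congr rfl (g := fun χ : Cfsg.IrrCharacter G =>
        (r χ : ℂ) * ((χ : G → ℂ) t * (χ : G → ℂ) t / (χ : G → ℂ) 1) * (n : ℂ) ^ 2 -
          2 * n * ((r χ : ℂ) * (χ : G → ℂ) t) + (r χ : ℂ) * (χ : G → ℂ) 1) fun χ _ => ?_]
      · rw [Finset.sum_add_distrib, Finset.sum_sub_distrib, hpairs', ← Finset.mul_sum, hval, hone]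
        ring
      · rw [hreal, (hd χ).2]
        have : (d χ : ℂ) ≠ 0 := Nat.cast_ne_zero.2 (hd χ).1.ne'
        field_simp
        ring
    intro χ hχ
    have hdpos : (0 : ℝ) < d χ := by exact_mod_cast (hd χ).1
    have h1 := (Finset.sum_eq_zero_iff_of_nonneg fun χ _ => by
      rw [hw]; positivity).1 hzero χ (Finset.mem_univ _)
    simp only [hw, div_eq_zero_iff, hdpos.ne', or_false, mul_eq_zero, Nat.cast_eq_zero, hχ,
      false_or, pow_eq_zero_iff two_ne_zero, sub_eq_zero] at h1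
    rw [(hd χ).2, ← hreal, show ((d χ : ℕ) : ℂ) = (((d χ : ℕ) : ℝ) : ℂ) from rfl, ← h1]
    push_cast
    rfl
  have hj : ∀ χ, r χ ≠ 0 → ∃ j : ℕ, 0 < j ∧ (χ : G → ℂ) t = (j : ℂ) ∧
      (χ : G → ℂ) 1 = (n : ℂ) * j := by
    intro χ hχ
    have h1 := heq χ hχ
    rw [(hd χ).2] at h1
    have hint : IsIntegral ℤ ((d χ : ℂ) / (n : ℂ)) := by
      rw [h1, mul_div_cancel_left₀ _ hn0]
      exact IsChar.isIntegral (IsIrr.isCharacter χ.2) t
    obtain ⟨j, hj⟩ := CharIntegral.dvd_of_isIntegral_div (by have := h.two_le_points hS; omega) hint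
    refine ⟨j, Nat.pos_of_ne_zero fun e0 => (hd χ).1.ne' (by rw [hj, e0, mul_zero]), ?_, ?_⟩
    · rw [hj, Nat.cast_mul] at h1
      exact (mul_left_cancel₀ hn0 h1).symm
    · rw [(hd χ).2, hj, Nat.cast_mul]
  choose! j hjp hjt hj1 using hj
  refine ⟨Finset.univ.filter fun χ => r χ ≠ 0, j, ?_, fun χ hχ => ?_, ?_⟩
  · rw [Finset.card_filter, ← hnorm]
    refine Finset.sum_congr rfl fun χ _ => ?_
    rcases hr1 χ with e | e <;> simp [e]
  · have hχ' := (Finset.mem_filter.1 hχ).2
    refine ⟨hjp χ hχ', hjt χ hχ', hj1 χ hχ', fun e => ?_⟩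
    have h2 := hj1 χ hχ'
    rw [e, trivChar_apply] at h2
    have h3 : (1 : ℕ) = n * j (trivChar G) := by exact_mod_cast h2
    have := h.two_le_points hS
    have := Nat.eq_one_of_mul_eq_one_right h3.symm
    omega
  · have h2 : ((∑ χ ∈ Finset.univ.filter (fun χ => r χ ≠ 0), j χ : ℕ) : ℂ) =
        ((2 ^ q - 1 - 1 : ℕ) : ℂ) := by
      rw [Nat.cast_sum, Nat.cast_sub (show 1 ≤ 2 ^ q - 1 from le_trans h.prime.one_lt.le h.q_le_m),
        Nat.cast_one, ← hmC, ← hval, Finset.sum_filter]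
      refine Finset.sum_congr rfl fun χ _ => ?_
      rcases hr1 χ with e | e
      · rw [if_neg (by simp [e]), e, Nat.cast_zero, zero_mul]
      · rw [if_pos (by simp [e]), hjt χ (by simp [e]), e, Nat.cast_one, one_mul]
    exact_mod_cast h2

end CommData

end CfsgLib.Bender
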