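import Cfsg.Agent.Lib.Bender.Gen.Sig
import Cfsg.Agent.Lib.Bender.Moves

/-!
Owner: helper18. General Bender theorem, slice D: what follows at once from `SR`, and the lemma that a
class `p`-group has at most two fixed points.
-/

set_option autoImplicit false
set_option linter.style.haveILetI false
set_option linter.unusedSectionVars false

namespace CfsgLib.Bender.Cons

open Subgroup MulAction
open CfsgLib.Signalizer (involution_sq involution_inv orderOf_eq_two_of involution_ne_one)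

variable {G Ω : Type*} [Group G] [Finite G] [MulAction G Ω] [Finite Ω]

omit [Finite G] [Finite Ω] in
theorem isClass0_mono {x : Ω} {R S : Subgroup G} (h : IsClass0 x R) (hle : R ≤ S)
    (hS : S ≤ stabilizer G x) : IsClass0 x S :=
  ⟨hS, fun t ht => let ⟨r, hr, hne⟩ := h.2 t ht; ⟨r, hle hr, hne⟩⟩

theorem isClass0_smul {R : Subgroup G} {g : G} (hg : g ∈ normalizer (R : Set G)) {x : Ω}
    (h : IsClass0 x R) : IsClass0 (g • x) R := by
  refine ⟨smul_of_mem_normalizer hg h.1, fun t ht => ?_⟩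
  have ht' : InvAt (g⁻¹ * t * g) x := by simpa using ht.conj g⁻¹
  obtain ⟨r, hr, hne⟩ := h.2 _ ht'
  refine ⟨g * r * g⁻¹, (mem_normalizer_iff.1 hg r).1 hr, fun he => hne ?_⟩
  calc r * (g⁻¹ * t * g) = g⁻¹ * (g * r * g⁻¹ * t) * g := by group
    _ = g⁻¹ * (t * (g * r * g⁻¹)) * g := by rw [he]
    _ = _ := by group

variable (hS : Setting0 G Ω)
include hS

theorem exists_inv_of_swap {H : Subgroup G} {x : G} (hx : x ∈ H) {a b : Ω} (hab : a ≠ b)
    (h : x • a = b) (h' : x • b = a) : ∃ u ∈ H, orderOf u = 2 ∧ u • a = b := by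
  have hD : x * x ∈ pairStab G a b :=
    ⟨show (x * x) • a = a by rw [mul_smul, h, h'], show (x * x) • b = b by rw [mul_smul, h', h]⟩
  obtain ⟨n, hn⟩ := (hS.odd_pairStab hab).of_dvd_nat (orderOf_dvd_natCard _ hD)
  have hua : x ^ (2 * n + 1) • a = b := by
    have h1 : (x * x) ^ n • a = a := (stabilizer G a).pow_mem hD.1 n
    rw [pow_succ', pow_mul, pow_two, mul_smul, h1, h]
  refine ⟨x ^ (2 * n + 1), H.pow_mem hx _, orderOf_eq_two_of ?_ ?_, hua⟩
  · intro he
    rw [he, one_smul] at hua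
    exact hab hua
  · rw [← pow_add, ← two_mul, pow_mul, pow_two, ← hn, pow_orderOf_eq_one]

theorem swap_of_syl {a b : Ω} (hab : a ≠ b) {p : ℕ} [Fact p.Prime] {R : Subgroup G}
    (hR : IsSyl p R (pairStab G a b)) :
    ∃ u ∈ normalizer (R : Set G), orderOf u = 2 ∧ u • a = b := by
  obtain ⟨v, hv, hva⟩ := hS.exists_swapper hab
  have h1 := hR.map_conj v
  rw [map_conj_eq_of_mem_normalizer (hS.swapper_normalizer hv hva)] at h1
  obtain ⟨d, hd, he⟩ := h1.exists_conj hR
  have hdv : d * v ∈ normalizer (R : Set G) := by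
    refine mem_normalizer_of_map_conj_eq ?_
    conv_rhs => rw [← he, Subgroup.map_map]
    congr 1
    ext r
    simp [mul_assoc]
  refine exists_inv_of_swap hS hdv hab ?_ ?_
  · rw [mul_smul, hva]; exact hd.2
  · rw [mul_smul, Setting0.swap_back hS hv hva]; exact hd.1

theorem card_stab_eq (x y : Ω) : Nat.card (stabilizer G x) = Nat.card (stabilizer G y) := by
  obtain ⟨g, rfl⟩ := hS.trans x y
  rw [stabilizer_smul_eq, card_map_conj]

theorem syl_stab_of_fix {a b : Ω} (hab : a ≠ b) {p : ℕ} [Fact p.Prime] {P : Subgroup G}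
    (hP : IsSyl p P (pairStab G a b)) (hfix : ∀ y : Ω, P ≤ stabilizer G y → y = a ∨ y = b) :
    IsSyl p P (stabilizer G a) ∧ IsSyl p P (stabilizer G b) := by
  obtain ⟨S, hS', hPS⟩ := exists_isSyl_ge hP.isPGroup (hP.le.trans inf_le_left)
  have hSb := le_stab_of_chain hS'.isPGroup hab hS'.le P hPS (hP.le.trans inf_le_right) hfix
  obtain rfl := hP.eq_of_le hS'.isPGroup hPS (le_inf hS'.le hSb)
  exact ⟨hS', hSb, by rw [hS'.2, card_stab_eq hS a b]⟩

/-- A class `p`-group makes `p` divide the number of involutions at the point. -/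
theorem dvd_card_invAt {p : ℕ} [Fact p.Prime] {R : Subgroup G} (hR : IsPGroup p R) {a : Ω}
    (hcl : IsClass0 a R) : p ∣ Nat.card {t : G // InvAt t a} := by
  let _ : MulAction R {t : G // InvAt t a} :=
    { smul := fun r t => ⟨(r : G) * t * (r : G)⁻¹, t.2.conj' (hcl.1 r.2)⟩
      one_smul := fun t => Subtype.ext (show (1 : G) * (t : G) * (1 : G)⁻¹ = t by simp)
      mul_smul := fun r r' t => Subtype.ext (show ((r : G) * r') * (t : G) * ((r : G) * r')⁻¹ =
        (r : G) * ((r' : G) * t * (r' : G)⁻¹) * (r : G)⁻¹ by group) }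
  by_contra hp
  obtain ⟨t, ht⟩ := hR.nonempty_fixed_point_of_prime_not_dvd_card {t : G // InvAt t a} hp
  obtain ⟨r, hr, hne⟩ := hcl.2 t t.2
  exact hne (mul_inv_eq_iff_eq_mul.1 (congrArg Subtype.val (ht ⟨r, hr⟩)))

/-- A Sylow subgroup of a two-point stabiliser centralising a swapper makes `p` prime to the class size. -/
theorem not_dvd_of_centralizes_swapper {p : ℕ} [hp : Fact p.Prime] {R : Subgroup G} {a c : Ω}
    (hac : a ≠ c) (hR : IsSyl p R (pairStab G a c)) {v : G} (hv : orderOf v = 2) (hva : v • a = c)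
    (hRv : ∀ r ∈ R, r * v = v * r) : ¬ p ∣ Nat.card {t : G // InvAt t a} := by
  intro hd
  obtain ⟨t, ht⟩ := hS.exists_invAt a
  haveI : Nonempty {t : G // InvAt t a} := ⟨⟨t, ht⟩⟩
  have e := congrArg (vp p) (hS.card_pairStab_swapper hac hv hva)
  simp only [vp, Nat.factorization_mul Nat.card_pos.ne' Nat.card_pos.ne', Finsupp.add_apply] at e
  have hle : R ≤ pairStab G a c ⊓ centralizer ({v} : Set G) :=
    le_inf hR.le fun r hr => mem_centralizer_singleton_iff.2 (hRv r hr)
  have h1 := vp_card_mono (p := p) hle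
  have h2 := hR.vp_eq
  have h3 := hp.out.factorization_pos_of_dvd Nat.card_pos.ne' hd
  simp only [vp] at h1 h2
  omega

variable (hSR : SR G Ω)
include hSR

theorem centralizes {a b : Ω} {R : Subgroup G} (hab : a ≠ b) (hR : R ≤ pairStab G a b) {t : G}
    (ht : InvAt t a) (htR : t ∈ normalizer (R : Set G)) {r : G} (hr : r ∈ R) : r * t = t * r := by
  have hc : r * (t * r⁻¹ * t⁻¹) ∈ R := mul_mem hr ((mem_normalizer_iff.1 htR _).1 (inv_mem hr))
  have h1 : r * (t * r⁻¹ * t⁻¹) = 1 := by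
    refine hSR a b _ t hab.symm ht (hR hc).1 (hR hc).2 ?_
    calc t * (r * (t * r⁻¹ * t⁻¹)) * t⁻¹ = t * r * (t * r⁻¹ * (t⁻¹ * t⁻¹)) := by group
      _ = t * r * (t⁻¹ * r⁻¹) := by
        rw [involution_inv ht.1, involution_sq ht.1, mul_one]
      _ = _ := by group
  calc r * t = r * (t * r⁻¹ * t⁻¹) * (t * r) := by group
    _ = t * r := by rw [h1, one_mul]

theorem inj {a b : Ω} {s t : G} (hab : a ≠ b) (hs : InvAt s a) (ht : InvAt t a)
    (he : s • b = t • b) : s = t := by
  have h1 : s * t = 1 := by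
    refine hSR a b _ t hab.symm ht (by rw [mul_smul, ht.2, hs.2]) ?_ ?_
    · rw [mul_smul, ← he, ← mul_smul, involution_sq hs.1, one_smul]
    · rw [mul_inv_rev, involution_inv hs.1, involution_inv ht.1, mul_assoc, mul_assoc, involution_sq ht.1, mul_one]
  rw [eq_inv_of_mul_eq_one_left h1, involution_inv ht.1]

/-- The hypothesis of the induction: no larger class group has three fixed points. -/
def LargerOK0 (G : Type*) (Ω : Type*) [Group G] [Finite G] [MulAction G Ω] (p : ℕ) (R : Subgroup G) :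
    Prop :=
  ∀ S : Subgroup G, IsPGroup p S → R ≤ S → R ≠ S → ∀ a b c : Ω, IsClass0 a S → a ≠ b → a ≠ c →
    b ≠ c → S ≤ stabilizer G b → S ≤ stabilizer G c → False

variable {p : ℕ} [Fact p.Prime] {R : Subgroup G} (hR : IsPGroup p R) (hmax : LargerOK0 G Ω p R)
include hR hmax

theorem full_of_not_syl {a b : Ω} (ha : IsClass0 a R) (hab : a ≠ b) (hb : R ≤ stabilizer G b)
    (hsyl : ¬ IsSyl p R (pairStab G a b)) :
    ∃ N : Subgroup G, IsPGroup p N ∧ N ≤ normalizer (R : Set G) ∧ N ≤ stabilizer G a ∧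
      N ≤ stabilizer G b ∧ ∀ y : Ω, N ≤ stabilizer G y → y = a ∨ y = b := by
  obtain ⟨P, hP, hRP⟩ := exists_isSyl_ge hR (le_inf ha.1 hb)
  obtain ⟨g, hgP, hgn, hg⟩ := exists_mem_normalizer_notMem hP.isPGroup hRP fun h => hsyl (h ▸ hP)
  have hRN : R ≤ P ⊓ normalizer (R : Set G) := le_inf hRP le_normalizer
  have hneN : R ≠ P ⊓ normalizer (R : Set G) := fun h => hg (by rw [h]; exact ⟨hgP, hgn⟩)
  have hNpair : P ⊓ normalizer (R : Set G) ≤ pairStab G a b := inf_le_left.trans hP.le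
  refine ⟨_, hP.isPGroup.to_le inf_le_left, inf_le_right, hNpair.trans inf_le_left,
    hNpair.trans inf_le_right, fun y hy => ?_⟩
  by_contra hcon
  push Not at hcon
  exact hmax _ (hP.isPGroup.to_le inf_le_left) hRN hneN a b y
    (isClass0_mono ha hRN (hNpair.trans inf_le_left)) hab (Ne.symm hcon.1) (Ne.symm hcon.2)
    (hNpair.trans inf_le_right) hy

theorem full_orbit {a b c : Ω} (hab : a ≠ b) (hac : a ≠ c) {N N' : Subgroup G}
    (hN : IsPGroup p N) (hNK : N ≤ normalizer (R : Set G)) (hNa : N ≤ stabilizer G a)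
    (hNb : N ≤ stabilizer G b) (hfN : ∀ y : Ω, N ≤ stabilizer G y → y = a ∨ y = b)
    (hN' : IsPGroup p N') (hN'K : N' ≤ normalizer (R : Set G)) (hN'a : N' ≤ stabilizer G a)
    (hN'c : N' ≤ stabilizer G c) (hfN' : ∀ y : Ω, N' ≤ stabilizer G y → y = a ∨ y = c) :
    ∃ k ∈ normalizer (R : Set G), k • a = a ∧ k • b = c := by
  set Ka : Subgroup G := normalizer (R : Set G) ⊓ stabilizer G a
  obtain ⟨T, hT, hNT⟩ := exists_isSyl_ge (H := Ka) hN (le_inf hNK hNa)
  obtain ⟨T', hT', hNT'⟩ := exists_isSyl_ge (H := Ka) hN' (le_inf hN'K hN'a)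
  have hTb := le_stab_of_chain hT.isPGroup hab (hT.le.trans inf_le_right) N hNT hNb hfN
  obtain ⟨k, hk, hkT⟩ := hT.exists_conj hT'
  refine ⟨k, hk.1, hk.2, ?_⟩
  have hle : T' ≤ stabilizer G (k • b) := by
    rw [stabilizer_smul_eq, ← hkT]
    exact map_mono hTb
  rcases hfN' _ (hNT'.trans hle) with h | h
  · exact absurd (smul_left_cancel k (h.trans (show k • a = a from hk.2).symm)) hab.symm
  · exact h

/-- All fixed points of a class group are class. -/
theorem class_of_fix {a b : Ω} (ha : IsClass0 a R) (hb : R ≤ stabilizer G b) : IsClass0 b R := by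
  rcases eq_or_ne a b with rfl | hab
  · exact ha
  refine ⟨hb, fun t ht => ?_⟩
  by_contra hcon
  push Not at hcon
  have htn : t ∈ normalizer (R : Set G) := by
    rw [mem_normalizer_iff]
    intro r
    constructor
    · intro hr
      rwa [← hcon r hr, mul_inv_cancel_right]
    · intro hr
      have := hcon _ hr
      rw [inv_mul_cancel_right] at this
      exact (mul_left_cancel this) ▸ hr
  have hct : t • (t • a) = a := by rw [← mul_smul, involution_sq ht.1, one_smul]
  have hca : a ≠ t • a := fun h => hab (hS.fix_unique ⟨ht.1, h.symm⟩ ht)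
  have hsyl : ¬ IsSyl p R (pairStab G a (t • a)) := fun h =>
    not_dvd_of_centralizes_swapper hS hca h ht.1 rfl (fun r hr => hcon r hr) (dvd_card_invAt hS hR ha)
  have hsylb : ¬ IsSyl p R (pairStab G a b) := fun h => by
    obtain ⟨u, hu, -, hua⟩ := swap_of_syl hS hab h
    obtain ⟨r, hr, hne⟩ := (hua ▸ isClass0_smul hu ha).2 t ht
    exact hne (hcon r hr)
  obtain ⟨N, hN, hNK, hNa, hNb, hfN⟩ := full_of_not_syl hS hSR hR hmax ha hab hb hsylb
  obtain ⟨N', hN', hN'K, hN'a, hN'c, hfN'⟩ :=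
    full_of_not_syl hS hSR hR hmax ha hca (smul_of_mem_normalizer htn ha.1) hsyl
  obtain ⟨k, hk, hka, hkc⟩ := full_orbit hS hSR hR hmax hca hab hN' hN'K hN'a hN'c hfN' hN hNK hNa hNb hfN
  obtain ⟨r, hr, hne⟩ := (hkc ▸ isClass0_smul hk (isClass0_smul htn ha)).2 t ht
  exact hne (hcon r hr)

/-- No involution normalising `R` has its centre among the fixed points. -/
theorem no_centre {a x : Ω} (ha : IsClass0 a R) (hx : R ≤ stabilizer G x) {y : Ω} (hyx : y ≠ x)
    (hy : R ≤ stabilizer G y) {u : G} (hu : InvAt u x) : u ∉ normalizer (R : Set G) := fun hun => by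
  obtain ⟨r, hr, hne⟩ := (class_of_fix hS hSR hR hmax ha hx).2 u hu
  exact hne (centralizes hS hSR hyx.symm (le_inf hx hy) hu hun hr)

theorem exists_orbit_of_no_swap {a b c : Ω} (ha : IsClass0 a R) (hab : a ≠ b) (hac : a ≠ c)
    (hb : R ≤ stabilizer G b) (hc : R ≤ stabilizer G c)
    (hnb : ∀ u ∈ normalizer (R : Set G), orderOf u = 2 → u • a ≠ b)
    (hnc : ∀ u ∈ normalizer (R : Set G), orderOf u = 2 → u • a ≠ c) :
    ∃ k ∈ normalizer (R : Set G), k • a = a ∧ k • b = c := by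
  have hsb : ¬ IsSyl p R (pairStab G a b) := fun h =>
    let ⟨u, hu, ho, hua⟩ := swap_of_syl hS hab h
    hnb u hu ho hua
  have hsc : ¬ IsSyl p R (pairStab G a c) := fun h =>
    let ⟨u, hu, ho, hua⟩ := swap_of_syl hS hac h
    hnc u hu ho hua
  obtain ⟨N, hN, hNK, hNa, hNb, hfN⟩ := full_of_not_syl hS hSR hR hmax ha hab hb hsb
  obtain ⟨N', hN', hN'K, hN'a, hN'c, hfN'⟩ := full_of_not_syl hS hSR hR hmax ha hac hc hsc
  exact full_orbit hS hSR hR hmax hab hac hN hNK hNa hNb hfN hN' hN'K hN'a hN'c hfN'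

/-- An invariant set of fixed points without swappers has at most two points. -/
theorem no_three_without_swap {a₀ : Ω} (ha₀ : IsClass0 a₀ R) {O : Set Ω}
    (hO : ∀ x ∈ O, R ≤ stabilizer G x)
    (hinv : ∀ k ∈ normalizer (R : Set G), ∀ x ∈ O, k • x = x → ∀ y ∈ O, k • y ∈ O)
    (hns : ∀ u ∈ normalizer (R : Set G), orderOf u = 2 → ∀ x ∈ O, ∀ y ∈ O, x ≠ y → u • x ≠ y)
    {a b c : Ω} (ha : a ∈ O) (hb : b ∈ O) (hc : c ∈ O) (hab : a ≠ b) (hac : a ≠ c) (hbc : b ≠ c) :
    False := by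
  obtain ⟨k, hk, hkc, hka⟩ := exists_orbit_of_no_swap hS hSR hR hmax
    (class_of_fix hS hSR hR hmax ha₀ (hO c hc))
    hac.symm hbc.symm (hO a ha) (hO b hb) (fun u hu ho => hns u hu ho c hc a ha hac.symm)
    (fun u hu ho => hns u hu ho c hc b hb hbc.symm)
  have hkb : k • b ∈ O := hinv k hk c hc hkc b hb
  have hne : k • b ≠ b := fun h => hab (smul_left_cancel k (hka.trans h.symm))
  obtain ⟨k', hk', hk'b, hk'kb⟩ := exists_orbit_of_no_swap hS hSR hR hmax
    (class_of_fix hS hSR hR hmax ha₀ (hO b hb)) hne.symm hab.symm (hO _ hkb) (hO a ha)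
    (fun u hu ho => hns u hu ho b hb _ hkb hne.symm) (fun u hu ho => hns u hu ho b hb a ha hab.symm)
  obtain ⟨u, hu, ho, hua⟩ := exists_inv_of_swap hS (H := normalizer (R : Set G)) (mul_mem hk' hk) hab
    (by rw [mul_smul, hka, hk'b]) (by rw [mul_smul, hk'kb])
  exact hns u hu ho a ha b hb hab hua

theorem fix_le_two_step {a b c : Ω} (hp : Odd p) (ha : IsClass0 a R) (hab : a ≠ b) (hac : a ≠ c)
    (hbc : b ≠ c) (hb : R ≤ stabilizer G b) (hc : R ≤ stabilizer G c) : False := by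
  set K := normalizer (R : Set G)
  have hcentre : ∀ {x : Ω}, R ≤ stabilizer G x → ∀ {u : G}, InvAt u x → u ∉ normalizer (R : Set G) := by
    intro x hx u hu
    rcases eq_or_ne a x with h | h
    · exact no_centre hS hSR hR hmax ha hx (y := b) (h ▸ hab.symm) hb hu
    · exact no_centre hS hSR hR hmax ha hx h ha.1 hu
  by_cases hinv : ∀ u ∈ normalizer (R : Set G), orderOf u ≠ 2
  · exact no_three_without_swap hS hSR hR hmax ha (O := {x | R ≤ stabilizer G x}) (fun x hx => hx)
      (fun k hk _ _ _ y hy => smul_of_mem_normalizer hk hy) (fun u hu ho => absurd ho (hinv u hu))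
      ha.1 hb hc hab hac hbc
  push Not at hinv
  obtain ⟨w, hwK, hw⟩ := hinv
  have hRodd : Odd (Nat.card R) := by rw [card_eq_pow hR]; exact hp.pow
  by_cases hfour : ∃ e ∈ normalizer (R : Set G), ∃ f ∈ normalizer (R : Set G),
      orderOf e = 2 ∧ orderOf f = 2 ∧ e * f = f * e ∧ e ≠ f
  · obtain ⟨e, heK, f, hfK, he, hf, hef, hne⟩ := hfour
    obtain ⟨y, hy⟩ := hS.fix_exists he
    refine hcentre (hS.le_stab_of_four hRodd ⟨he, hy⟩ ⟨hf, hS.fix_of_commute ⟨he, hy⟩ hef⟩ hne hef
      heK hfK) ⟨he, hy⟩ heK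
  push Not at hfour
  set O : Subgroup G := (Cfsg.oddCore ↥K).map K.subtype with hOdef
  have hOodd : Odd (Nat.card O) := by
    rw [hOdef, ← Nat.card_congr ((Cfsg.oddCore _).equivMapOfInjective _ K.subtype_injective).toEquiv]
    exact CfsgLib.ZStar.odd_card_oddCore _
  have hOK : O ≤ K := map_subtype_le _
  have hOn : ∀ k ∈ K, ∀ o ∈ O, k * o * k⁻¹ ∈ O := by
    rintro k hk _ ⟨o, ho, rfl⟩
    exact ⟨⟨k, hk⟩ * o * ⟨k, hk⟩⁻¹, (inferInstance : (Cfsg.oddCore ↥K).Normal).conj_mem o ho _, rfl⟩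
  have hcong : ∀ u ∈ K, orderOf u = 2 → u * w ∈ O := fun u hu ho =>
    mul_mem_oddCore_of_rank_one K (fun e he f hf ho1 ho2 h => hfour e he f hf ho1 ho2 h) hu hwK ho hw
  -- an involution moves no fixed point inside its orbit under `O`
  have hsame : ∀ u ∈ K, orderOf u = 2 → ∀ x : Ω, R ≤ stabilizer G x → ∀ o ∈ O, o • x ≠ u • x := by
    intro u hu ho x hx o hoO hox
    set h := o⁻¹ * u with hdef
    have hhK : h ∈ K := mul_mem (inv_mem (hOK hoO)) hu
    have hhx : h • x = x := by rw [hdef, mul_smul, ← hox, inv_smul_smul]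
    have hh2 : h * h ∈ O := by
      have : h * h = o⁻¹ * (u * o⁻¹ * u⁻¹) := by
        rw [hdef, involution_inv ho]; group
      rw [this]
      exact mul_mem (inv_mem hoO) (hOn u hu _ (inv_mem hoO))
    have heven : Even (orderOf h) := by
      rw [← Nat.not_odd_iff_even]
      rintro ⟨n, hn⟩
      have h1 : h = (h * h) ^ (n + 1) := by
        rw [← pow_two, ← pow_mul, show 2 * (n + 1) = 2 * n + 1 + 1 by ring, pow_succ, ← hn,
          pow_orderOf_eq_one, one_mul]
      have h2 : u ∈ O := by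
        have h3 : h ∈ O := h1 ▸ O.pow_mem hh2 _
        have h4 := mul_mem hoO h3
        rwa [hdef, mul_inv_cancel_left] at h4
      exact not_mem_of_odd hOodd ho h2
    obtain ⟨m, hm⟩ := heven
    have hm0 : 0 < m := by have := orderOf_pos h; omega
    have hord : orderOf (h ^ m) = 2 := by
      rw [orderOf_pow_of_dvd hm0.ne' ⟨2, by omega⟩, hm]
      exact Nat.div_eq_of_eq_mul_left hm0 (by omega)
    exact hcentre hx ⟨hord, (stabilizer G x).pow_mem hhx m⟩ (K.pow_mem hhK m)
  -- the orbits of `O` on the fixed points are trivial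
  have htriv : ∀ x : Ω, R ≤ stabilizer G x → ∀ o ∈ O, o • x = x := by
    intro x hx o ho
    by_contra hne
    have ho2 : (o * o) • x ≠ x := by
      intro h
      obtain ⟨n, hn⟩ := hOodd.of_dvd_nat (O.orderOf_dvd_natCard ho)
      have h1 : ((o * o) ^ (n + 1)) • x = x := (stabilizer G x).pow_mem h _
      rw [← pow_two, ← pow_mul, show 2 * (n + 1) = 2 * n + 1 + 1 by ring, pow_succ, ← hn,
        pow_orderOf_eq_one, one_mul] at h1
      exact hne h1
    refine no_three_without_swap hS hSR hR hmax ha (O := {y | ∃ o' ∈ O, o' • x = y}) ?_ ?_ ?_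
      ⟨1, one_mem _, one_smul _ _⟩ ⟨o, ho, rfl⟩ ⟨o * o, mul_mem ho ho, rfl⟩ (Ne.symm hne) ho2.symm ?_
    · rintro _ ⟨o', ho', rfl⟩
      exact smul_of_mem_normalizer (hOK ho') hx
    · rintro k hk _ ⟨o₁, ho₁, rfl⟩ hkx _ ⟨o₂, ho₂, rfl⟩
      refine ⟨(k * (o₂ * o₁⁻¹) * k⁻¹) * o₁, mul_mem (hOn k hk _ (mul_mem ho₂ (inv_mem ho₁))) ho₁, ?_⟩
      rw [mul_smul, mul_smul, mul_smul, inv_smul_eq_iff.2 hkx.symm, mul_smul, inv_smul_smul]
    · rintro u hu hou _ ⟨o₁, ho₁, rfl⟩ _ ⟨o₂, ho₂, rfl⟩ - h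
      refine hsame u hu hou (o₁ • x) (smul_of_mem_normalizer (hOK ho₁) hx) (o₂ * o₁⁻¹)
        (mul_mem ho₂ (inv_mem ho₁)) ?_
      rw [h, mul_smul, inv_smul_smul]
    · intro h
      rw [mul_smul] at h
      exact hne (smul_left_cancel o h.symm)
  have hwa : ∀ u ∈ K, orderOf u = 2 → ∀ x : Ω, R ≤ stabilizer G x → u • x = w • x := by
    intro u hu ho x hx
    have h := htriv (w • x) (smul_of_mem_normalizer hwK hx) _ (hcong u hu ho)
    rwa [mul_smul, ← mul_smul w, involution_sq hw, one_smul] at h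
  -- all fixed points other than `a` equal `w • a`
  have key : ∀ y : Ω, R ≤ stabilizer G y → a ≠ y → y = w • a := by
    intro y hy hay
    by_cases hsyl : IsSyl p R (pairStab G a y)
    · obtain ⟨u, hu, ho, hua⟩ := swap_of_syl hS hay hsyl
      rw [← hua, hwa u hu ho a ha.1]
    obtain ⟨N, -, hNK, hNa, -, hfN⟩ := full_of_not_syl hS hSR hR hmax ha hay hy hsyl
    have hNwa : N ≤ stabilizer G (w • a) := by
      intro k hk
      have hkK : k ∈ K := hNK hk
      have hka : k • a = a := hNa hk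
      show k • w • a = w • a
      have h := hwa (k * w * k⁻¹) (mul_mem (mul_mem hkK hwK) (inv_mem hkK))
        (by rw [CfsgLib.Signalizer.orderOf_conj]; exact hw) a ha.1
      rwa [mul_smul, inv_smul_eq_iff.2 hka.symm, mul_smul] at h
    rcases hfN _ hNwa with h | h
    · exact absurd hwK (hcentre ha.1 ⟨hw, h⟩)
    · exact h.symm
  exact hbc ((key b hb hab).trans (key c hc hac).symm)

omit hR hmax in
/-- An odd class `p`-group has at most two fixed points. -/
theorem fix_le_two (hp : Odd p) :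
    ∀ R : Subgroup G, IsPGroup p R → ∀ a b c : Ω, IsClass0 a R → a ≠ b → a ≠ c → b ≠ c →
      R ≤ stabilizer G b → R ≤ stabilizer G c → False := by
  intro R
  induction h : (Nat.card G - Nat.card R) using Nat.strong_induction_on generalizing R with
  | _ m ih =>
    intro hR a b c ha hab hac hbc hb hc
    refine fix_le_two_step hS hSR hR ?_ hp ha hab hac hbc hb hc
    intro S hS' hle hne
    have h1 : Nat.card R < Nat.card S := by
      by_contra hcon
      exact hne (eq_of_le_of_card_ge hle (not_lt.1 hcon))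
    have h2 := Nat.le_of_dvd Nat.card_pos S.card_subgroup_dvd_card
    exact ih _ (by omega) S rfl hS'

end CfsgLib.Bender.Cons
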