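import Cfsg.Agent.Lib.Bender.Gen.NSig
import Cfsg.Agent.Lib.Bender.Gen.Cons
import Cfsg.Agent.Lib.Bender.Gen.Quot
import Cfsg.Agent.Lib.Bender.Gen.Local

/-!
Owner: helper24. Slice G0: the fixed points of an element without evil powers.
-/

set_option autoImplicit false
set_option linter.style.haveILetI false
set_option linter.unusedSectionVars false

namespace CfsgLib.Bender.NDescent

open Subgroup MulAction
open CfsgLib.Signalizer (involution_sq involution_inv orderOf_eq_two_of involution_ne_one)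

universe u

variable {G Ω : Type u} [Group G] [Finite G] [MulAction G Ω] [Finite Ω]

/-- The 2-elements fixing the centre in a subgroup with two centres and central kernel lie in one 2-subgroup. -/
theorem exists_twoSubgroup (hS : Setting0 G Ω) (hIH : IH.{u} (Nat.card G)) {J : Subgroup G} {a : Ω}
    (hJ : TwoCentres G J a)
    (hcent : ∀ k ∈ J, (∀ h ∈ J, k • h • a = h • a) → ∀ h ∈ J, k * h = h * k) :
    ∃ P : Subgroup G, P ≤ J ⊓ stabilizer G a ∧ IsPGroup 2 P ∧
      ∀ g ∈ J, g • a = a → (∃ k : ℕ, g ^ 2 ^ k = 1) → g ∈ P := by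
  haveI : Fact (Nat.Prime 2) := ⟨Nat.prime_two⟩
  set M : Subgroup J := (stabilizer G a).subgroupOf J with hMdef
  have hmem : ∀ h : J, h ∈ M ↔ (h : G) • a = a := fun h => Iff.rfl
  obtain ⟨s, t, hsJ, htJ, hs, ht, hne, hc⟩ := hJ.four
  obtain ⟨i, hiJ, -, hia⟩ := hJ.other
  have hSE : Cfsg.IsStronglyEmbedded M := by
    refine ⟨fun h => hia ((hmem ⟨i, hiJ⟩).1 (h ▸ mem_top _)), ?_, fun g hg => ?_⟩
    · refine even_iff_two_dvd.2 ?_
      have := M.orderOf_dvd_natCard (x := ⟨s, hsJ⟩) ((hmem _).2 hs.2)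
      rwa [Subgroup.orderOf_mk, hs.1] at this
    · have hga : a ≠ (g : G) • a := fun h => hg ((hmem g).2 h.symm)
      refine (hS.odd_pairStab hga).of_dvd_nat ?_
      rw [Nat.card_congr (Subgroup.equivMapOfInjective _ _ J.subtype_injective).toEquiv]
      refine card_dvd_of_le ?_
      rintro _ ⟨x, hx, rfl⟩
      obtain ⟨y, hy, hxy⟩ := hx.2
      refine ⟨(hmem x).1 hx.1, ?_⟩
      show (x : G) • (g : G) • a = (g : G) • a
      rw [← hxy]
      simp [mul_smul, (hmem y).1 hy]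
  have hfour : ∃ x ∈ M, ∃ y ∈ M, orderOf x = 2 ∧ orderOf y = 2 ∧ x ≠ y ∧ x * y = y * x :=
    ⟨⟨s, hsJ⟩, (hmem _).2 hs.2, ⟨t, htJ⟩, (hmem _).2 ht.2, by rw [Subgroup.orderOf_mk]; exact hs.1,
      by rw [Subgroup.orderOf_mk]; exact ht.1, fun h => hne (congrArg Subtype.val h), Subtype.ext hc⟩
  set π := QuotientGroup.mk' M.normalCore with hπ
  obtain ⟨hSQ, hsolQ⟩ := hIH (J ⧸ M.normalCore)
    (lt_of_le_of_lt (Nat.le_of_dvd Nat.card_pos M.normalCore.card_quotient_dvd_card)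
      (CfsgLib.Core.card_subgroup_lt J hJ.ne_top)) _ (quot_stronglyEmbedded hSE) (quot_four hSE hfour)
  have hfaith : ∀ k : J ⧸ M.normalCore, (∀ q : (J ⧸ M.normalCore) ⧸ M.map π, k • q = q) → k = 1 := by
    intro k hk
    obtain ⟨k, rfl⟩ := QuotientGroup.mk'_surjective _ k
    refine (QuotientGroup.eq_one_iff k).2 fun b => ?_
    have h1 := hk ((π b⁻¹ : J ⧸ M.normalCore) : (J ⧸ M.normalCore) ⧸ M.map π)
    rw [MulAction.Quotient.smul_coe, smul_eq_mul, eq_comm, QuotientGroup.eq, ← map_inv, ← map_mul, ← map_mul,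
      mk_mem_map_iff] at h1
    simpa [mul_assoc] using h1
  obtain ⟨U, hUa, hUn, -, -, hU, -⟩ := hSQ.exists_regular (smallerOK _) hfaith _ hsolQ
  rw [stab_base] at hUa hUn
  -- the preimage has a normal Sylow subgroup
  set W := U.comap π with hW
  have hKc : M.normalCore.subgroupOf W ≤ center W := by
    intro x hx
    refine mem_center_iff.2 fun y => Subtype.ext (Subtype.ext ?_)
    refine (hcent _ (x : J).2 (fun h hh => ?_) _ (y : J).2).symm
    have h1 : (⟨h, hh⟩ : J)⁻¹ * (x : J) * ⟨h, hh⟩ ∈ M := by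
      have := mem_subgroupOf.1 hx (⟨h, hh⟩ : J)⁻¹
      rwa [inv_inv] at this
    have h2 := (hmem _).1 h1
    rw [Subgroup.coe_mul, Subgroup.coe_mul, Subgroup.coe_inv, mul_smul, mul_smul, inv_smul_eq_iff] at h2
    exact h2
  haveI : Group.IsNilpotent U := (IsPGroup.of_card (G := U) hU).isNilpotent
  haveI : Group.IsNilpotent W := by
    let f : W →* U := π.subgroupComap U
    refine Subgroup.isNilpotent_of_ker_le_center f ?_
    intro x hx
    refine hKc (mem_subgroupOf.2 ((QuotientGroup.eq_one_iff (x : J)).1 ?_))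
    exact congrArg Subtype.val hx
  haveI := fun p (hp : Fact p.Prime) (S : Sylow p W) => S.normal_of_normalizerCondition Group.normalizerCondition_of_isNilpotent
  obtain ⟨S⟩ := (inferInstance : Nonempty (Sylow 2 W))
  refine ⟨((S : Subgroup W).map W.subtype).map J.subtype, ?_, (S.isPGroup'.map W.subtype).map J.subtype, ?_⟩
  · rintro _ ⟨_, ⟨x, -, rfl⟩, rfl⟩
    refine ⟨(x : J).2, ?_⟩
    exact (hmem (x : J)).1 (mk_mem_map_iff.1 (hUa (show π (x : J) ∈ U from x.2)))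
  · intro g hgJ hga hg2
    obtain ⟨k, hk⟩ := hg2
    set g' : J := ⟨g, hgJ⟩
    have hπg : π g' ∈ U := by
      have hz : IsPGroup 2 (zpowers (π g')) := by
        refine fun z => ⟨k, ?_⟩
        obtain ⟨j, hj⟩ := mem_zpowers_iff.1 z.2
        refine Subtype.ext ?_
        rw [Subgroup.coe_pow, ← hj, ← zpow_natCast, ← zpow_mul, mul_comm, zpow_mul, zpow_natCast,
          ← map_pow, show g' ^ 2 ^ k = 1 from Subtype.ext (by rw [Subgroup.coe_pow]; exact hk), map_one, one_zpow]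
        rfl
      have hn : zpowers (π g') ≤ normalizer (U : Set (J ⧸ M.normalCore)) :=
        zpowers_le.2 (hUn ⟨g', (hmem g').2 hga, rfl⟩)
      obtain ⟨n, hn'⟩ := IsPGroup.iff_card.1 (IsPGroup.to_sup_of_normal_right' hz (IsPGroup.of_card (G := U) hU) hn)
      have hle : n ≤ vp 2 (Nat.card (J ⧸ M.normalCore)) := by
        have h := Subgroup.card_subgroup_dvd_card (zpowers (π g') ⊔ U)
        rw [hn'] at h
        exact (Nat.prime_two.pow_dvd_iff_le_factorization Nat.card_pos.ne').1 h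
      have heq : U = zpowers (π g') ⊔ U := by
        refine eq_of_le_of_card_ge le_sup_right ?_
        rw [hn', hU]
        exact Nat.pow_le_pow_right two_pos hle
      exact heq.symm ▸ mem_sup_left (mem_zpowers _)
    set x : W := ⟨g', hπg⟩
    have hxS : x ∈ (S : Subgroup W) := by
      have hx2 : IsPGroup 2 (zpowers x) := by
        refine fun z => ⟨k, ?_⟩
        obtain ⟨j, hj⟩ := mem_zpowers_iff.1 z.2
        refine Subtype.ext ?_
        rw [Subgroup.coe_pow, ← hj, ← zpow_natCast, ← zpow_mul, mul_comm, zpow_mul, zpow_natCast,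
          show x ^ 2 ^ k = 1 from Subtype.ext (Subtype.ext (by simp only [Subgroup.coe_pow, Subgroup.coe_one]; exact hk)),
          one_zpow]
        rfl
      obtain ⟨S', hS'⟩ := hx2.exists_le_sylow
      letI := Sylow.unique_of_normal S inferInstance
      exact (Subsingleton.elim S' S) ▸ hS' (mem_zpowers x)
    exact ⟨g', ⟨x, hxS, rfl⟩, rfl⟩

/-- An element of prime power order in a two-point stabiliser without evil powers: the fixed points other than the
centre form a regular orbit of a 2-group centralising it. -/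
theorem fix_control (h : NC G Ω) {a b : Ω} (hab : a ≠ b) {q : ℕ} [hq : Fact q.Prime] {y : G}
    (hy : y ∈ pairStab G a b) (hyq : ∃ k : ℕ, y ^ q ^ k = 1) (hy1 : y ≠ 1)
    (hnev : ∀ z ∈ zpowers y, ¬ Evil a b z) :
    ∃ P : Subgroup G, P ≤ stabilizer G a ⊓ centralizer ({y} : Set G) ∧ IsPGroup 2 P ∧
      ∀ c : Ω, c ≠ a → y • c = c → ∃! g : G, g ∈ P ∧ g • b = c := by
  obtain ⟨k, hk⟩ := hyq
  obtain ⟨j, -, hj⟩ := (Nat.dvd_prime_pow hq.out).1 (orderOf_dvd_of_pow_eq_one hk)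
  have hj0 : j ≠ 0 := fun h0 => hy1 (orderOf_eq_one_iff.1 (by rw [hj, h0, pow_zero]))
  set z := y ^ q ^ (j - 1) with hz
  have hzy : z ∈ zpowers y := pow_mem (mem_zpowers y) _
  have hzq : orderOf z = q := by
    rw [hz, orderOf_pow_of_dvd (pow_ne_zero _ hq.out.ne_zero) (hj ▸ pow_dvd_pow q (Nat.sub_le j 1)), hj]
    refine Nat.div_eq_of_eq_mul_left (pow_pos hq.out.pos _) ?_
    rw [← pow_succ', Nat.sub_add_cancel (Nat.one_le_iff_ne_zero.2 hj0)]
  have hz1 : z ≠ 1 := fun e => hq.out.ne_one (by rw [← hzq, e, orderOf_one])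
  have hzD : z ∈ pairStab G a b := zpowers_le.2 hy hzy
  have hqodd : Odd q := (h.setting.odd_pairStab hab).of_dvd_nat (hzq ▸ orderOf_dvd_natCard _ hzD)
  have hfz : ∀ c : Ω, y • c = c → z • c = c := fun c hc => mem_stabilizer_iff.1 (pow_mem (mem_stabilizer_iff.2 hc) _)
  by_cases hex : ∃ t : G, InvAt t a ∧ z * t = t * z
  swap
  · push Not at hex
    refine ⟨⊥, bot_le, IsPGroup.of_bot, fun c hca hc => ?_⟩
    have hcb : c = b := by
      by_contra hcb
      refine h.cons.fix_le_two q hq.out (fun e => absurd (e ▸ hqodd) (by decide)) (zpowers z)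
        (IsPGroup.of_card (n := 1) (by rw [Nat.card_zpowers, hzq, pow_one])) a b c
        ⟨zpowers_le.2 hzD.1, fun t ht => ⟨z, mem_zpowers z, hex t ht⟩⟩ hab (Ne.symm hca) (Ne.symm hcb)
        (zpowers_le.2 hzD.2) (zpowers_le.2 (hfz c hc))
    exact ⟨1, ⟨one_mem _, by rw [one_smul, hcb]⟩, fun g hg => mem_bot.1 hg.1⟩
  obtain ⟨s, hs, hzs⟩ := hex
  obtain ⟨t, ht, hzt, hst⟩ : ∃ t : G, InvAt t a ∧ z * t = t * z ∧ t ≠ s := by
    by_contra hcon
    push Not at hcon
    exact hnev z hzy ⟨hzq ▸ hq.out, hzD, s, ⟨hs, hzs⟩, fun t ⟨ht, hzt⟩ => hcon t ht hzt⟩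
  have hcomm : s * t = t * s := by
    by_contra hne
    exact hz1 (h.cons.pair_free a b z s t hab hzD hs ht hne hzs hzt)
  set N := centralizer ({z} : Set G) with hN
  have hNtop : N ≠ ⊤ := Cons.centralizer_ne_top h.setting h.faith hzD.1 hz1
  set J := Subgroup.closure {r : G | r ∈ N ∧ orderOf r = 2} with hJ
  have hJN : J ≤ N := (closure_le _).2 fun r hr => hr.1
  have hsub : ∀ {r : G}, orderOf r = 2 → z * r = r * z → r ∈ J :=
    fun hr hzr => subset_closure ⟨mem_centralizer_singleton_iff.2 hzr.symm, hr⟩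
  have hcentre : ∀ c : Ω, c ≠ a → z • c = c → ∃ r ∈ J, InvAt r c := by
    intro c hca hc
    obtain ⟨r, hr, hzr⟩ := Cons.exists_inv_other h.setting h.sr h.faith (Ne.symm hca) hqodd hzq hzD.1 hc hs hzs
    exact ⟨r, hsub hr.1 hzr, hr⟩
  obtain ⟨r₀, hr₀J, hr₀⟩ := hcentre b hab.symm hzD.2
  have hr₀a : r₀ • a ≠ a := h.setting.ne_of_inv hr₀ hab
  have hT : TwoCentres G J a :=
    ⟨fun e => hNtop (top_le_iff.1 (e ▸ hJN)), ⟨s, t, hsub hs.1 hzs, hsub ht.1 hzt, hs, ht, hst.symm, hcomm⟩,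
      r₀, hr₀J, hr₀.1, hr₀a⟩
  have hL := h.localOK J a hT
  have horbz : ∀ {c : Ω}, c ∈ orb J a → z • c = c := by
    rintro _ ⟨g, hg, rfl⟩
    rw [← mul_smul, ← mem_centralizer_singleton_iff.1 (hJN hg), mul_smul, show z • a = a from hzD.1]
  have horb : ∀ {c : Ω}, z • c = c → c ∈ orb J a := by
    intro c hc
    rcases eq_or_ne c a with rfl | hca
    · exact ⟨1, one_mem _, one_smul _ _⟩
    · obtain ⟨r, hrJ, hr⟩ := hcentre c hca hc
      exact hL.centres r hrJ c hr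
  -- the kernel is central
  let K : Subgroup G :=
    { carrier := {k | k ∈ J ∧ ∀ c ∈ orb J a, k • c = c}
      one_mem' := ⟨one_mem _, fun c _ => one_smul _ _⟩
      mul_mem' := fun {x x'} hx hx' => ⟨mul_mem hx.1 hx'.1, fun c hc => by rw [mul_smul, hx'.2 c hc, hx.2 c hc]⟩
      inv_mem' := fun {x} hx => ⟨inv_mem hx.1, fun c hc => inv_smul_eq_iff.2 (hx.2 c hc).symm⟩ }
  have hKn : ∀ r ∈ J, ∀ x ∈ K, r * x * r⁻¹ ∈ K := fun r hr x hx => ⟨mul_mem (mul_mem hr hx.1) (inv_mem hr), fun c hc => by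
    obtain ⟨g, hg, rfl⟩ := hc
    rw [mul_smul, mul_smul, hx.2 _ ⟨r⁻¹ * g, mul_mem (inv_mem hr) hg, mul_smul _ _ _⟩, smul_inv_smul]⟩
  have hJc : ∀ x ∈ K, J ≤ centralizer ({x} : Set G) := by
    intro x hx
    refine (closure_le _).2 fun r hr => ?_
    have hrJ : r ∈ J := subset_closure hr
    obtain ⟨e, he⟩ := h.setting.fix_exists hr.2
    have heo : e ∈ orb J a := hL.centres r hrJ e ⟨hr.2, he⟩
    obtain ⟨e', he', hne'⟩ : ∃ e', e' ∈ orb J a ∧ e' ≠ e := by
      rcases eq_or_ne e a with rfl | hea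
      · exact ⟨b, horb hzD.2, hab.symm⟩
      · exact ⟨a, ⟨1, one_mem _, one_smul _ _⟩, hea.symm⟩
    have hrK : r ∈ normalizer (K : Set G) := by
      rw [mem_normalizer_iff]
      refine fun w => ⟨hKn r hrJ w, fun hw => ?_⟩
      have := hKn _ (inv_mem hrJ) _ hw
      simpa [mul_assoc] using this
    exact mem_centralizer_singleton_iff.2 (h.cons.centralizes e e' K hne'.symm
      (fun w hw => ⟨hw.2 e heo, hw.2 e' he'⟩) r ⟨hr.2, he⟩ hrK x hx).symm
  obtain ⟨P₀, hP₀, hP₀p, hP₀2⟩ := exists_twoSubgroup h.setting h.ih hT (fun k hk hfix g hg => by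
    have hkK : k ∈ K := ⟨hk, fun c hc => by obtain ⟨g', hg', rfl⟩ := hc; exact hfix g' hg'⟩
    exact (mem_centralizer_singleton_iff.1 (hJc k hkK hg)).symm)
  have hfree : ∀ g ∈ P₀, g • b = b → g = 1 := by
    intro g hg hgb
    obtain ⟨n, hn⟩ := hP₀p ⟨g, hg⟩
    have hd : g ∈ pairStab G a b := ⟨(hP₀ hg).2, hgb⟩
    exact orderOf_eq_one_iff.1 (Nat.eq_one_of_dvd_coprimes (Nat.Coprime.pow_left n
      (Nat.coprime_two_left.2 (h.setting.odd_pairStab hab)))
      (orderOf_dvd_of_pow_eq_one (by simpa [Subtype.ext_iff] using hn)) (orderOf_dvd_natCard _ hd))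
  have hyN : ∀ {w : G}, w ∈ N → y * w * y⁻¹ ∈ N := by
    intro w hw
    have hc : Commute y z := hz ▸ (Commute.refl y).pow_right _
    exact mem_centralizer_singleton_iff.2 ((Commute.mul_left (Commute.mul_left hc
      (mem_centralizer_singleton_iff.1 hw)) hc.inv_left).eq)
  have hyJ : ∀ w ∈ J, y * w * y⁻¹ ∈ J := by
    intro w hw
    have hle : J.map (MulAut.conj y).toMonoidHom ≤ J := by
      rw [hJ, MonoidHom.map_closure]
      refine closure_mono ?_
      rintro _ ⟨r, hr, rfl⟩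
      exact ⟨hyN hr.1, (CfsgLib.Signalizer.orderOf_conj y r).trans hr.2⟩
    exact hle ⟨w, hw, rfl⟩
  refine ⟨P₀ ⊓ centralizer ({y} : Set G), le_inf (inf_le_left.trans (hP₀.trans inf_le_right)) inf_le_right,
    hP₀p.to_le inf_le_left, fun c hca hc => ?_⟩
  obtain ⟨g, hgJ, hg2, hga, hgb, -⟩ := hL.move b c (horb hzD.2) (horb (hfz c hc)) hab.symm hca
  have hgP : g ∈ P₀ := hP₀2 g hgJ hga hg2
  have hyg : y * g * y⁻¹ ∈ P₀ := by
    refine hP₀2 _ (hyJ g hgJ) ?_ ?_
    · rw [mul_smul, mul_smul, inv_smul_eq_iff.2 (show y • a = a from hy.1).symm, hga]; exact hy.1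
    · obtain ⟨n, hn⟩ := hg2
      exact ⟨n, by rw [conj_pow, hn, mul_one, mul_inv_cancel]⟩
  have huniq : ∀ g₁ ∈ P₀, ∀ g₂ ∈ P₀, g₁ • b = g₂ • b → g₁ = g₂ := fun g₁ h₁ g₂ h₂ e =>
    (inv_mul_eq_one.1 (hfree _ (mul_mem (inv_mem h₂) h₁) (by rw [mul_smul, e, inv_smul_smul]))).symm
  have hygeq : y * g * y⁻¹ = g := huniq _ hyg _ hgP (by
    rw [mul_smul, mul_smul, inv_smul_eq_iff.2 (show y • b = b from hy.2).symm, hgb]; exact hc)
  refine ⟨g, ⟨⟨hgP, mem_centralizer_singleton_iff.2 (mul_inv_eq_iff_eq_mul.1 hygeq).symm⟩, hgb⟩,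
    fun g' ⟨hg', he'⟩ => huniq g' hg'.1 g hgP (he'.trans hgb.symm)⟩

end CfsgLib.Bender.NDescent
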