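import Mathlib

/-!
Owner: helper29. General Bender theorem, slice G3: automorphisms of an elementary abelian group of rank two
which are fixed or inverted by a reflection.
-/

set_option autoImplicit false
set_option linter.style.haveILetI false
set_option linter.unusedSectionVars false

namespace CfsgLib.Bender.NRegK

open Matrix

/-- A reflection on an elementary abelian group of rank two with its eigenvectors. -/
structure Refl {V : Type*} [CommGroup V] (r : ℕ) (v : MulAut V) (u w : V) : Prop where
  odd : Odd r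
  exp : ∀ x : V, x ^ r = 1
  card : Nat.card V = r ^ 2
  inv : v u = u⁻¹
  fix : v w = w
  ne_u : u ≠ 1
  ne_w : w ≠ 1

variable {V : Type*} [CommGroup V] [Finite V] {r : ℕ} [Fact r.Prime] {v : MulAut V} {u w : V}

theorem Refl.exists_coord (h : Refl r v u w) :
    ∃ c : MulAut V →* Matrix (Fin 2) (Fin 2) (ZMod r),
      Function.Injective c ∧ c v = !![-1, 0; 0, 1] := by
  classical
  letI : Module (ZMod r) (Additive V) :=
    AddCommGroup.zmodModule (n := r) fun x => h.exp x.toMul
  let L : (Fin 2 → ZMod r) →ₗ[ZMod r] Additive V :=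
    (LinearMap.proj 0).smulRight (Additive.ofMul u) + (LinearMap.proj 1).smulRight (Additive.ofMul w)
  let lin : MulAut V → (Additive V →ₗ[ZMod r] Additive V) := fun σ =>
    (MonoidHom.toAdditive σ.toMonoidHom).toZModLinearMap r
  have linu : lin v (Additive.ofMul u) = - Additive.ofMul u := congrArg Additive.ofMul h.inv
  have linw : lin v (Additive.ofMul w) = Additive.ofMul w := congrArg Additive.ofMul h.fix
  have h2 : (2 : ZMod r) ≠ 0 := by
    intro e
    have h' : ((2 : ℕ) : ZMod r) = 0 := by exact_mod_cast e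
    rw [ZMod.natCast_eq_zero_iff] at h'
    have := (Nat.prime_dvd_prime_iff_eq (Fact.out : r.Prime) Nat.prime_two).1 h'
    exact Nat.not_even_iff_odd.2 h.odd (this ▸ even_two)
  have hL : Function.Injective L := by
    rw [← LinearMap.ker_eq_bot, LinearMap.ker_eq_bot']
    intro f hf
    have hf' : f 0 • Additive.ofMul u + f 1 • Additive.ofMul w = 0 := hf
    have hv := congrArg (lin v) hf'
    rw [map_add, map_smul, map_smul, map_zero, linu, linw, smul_neg] at hv
    have e0 : (2 * f 0) • Additive.ofMul u = 0 := by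
      have := congrArg₂ (· - ·) hf' hv
      simp only [sub_zero] at this
      rw [two_mul, add_smul]
      rw [← this]; abel
    have f0 : f 0 = 0 := by
      rcases smul_eq_zero.1 e0 with e | e
      · exact (mul_eq_zero.1 e).resolve_left h2
      · exact absurd (ofMul_eq_zero.1 e) h.ne_u
    rw [f0, zero_smul, zero_add] at hf'
    have f1 : f 1 = 0 := (smul_eq_zero.1 hf').resolve_right fun e => h.ne_w (ofMul_eq_zero.1 e)
    funext i
    fin_cases i
    · exact f0
    · exact f1
  have hbij : Function.Bijective L := hL.bijective_of_nat_card_le (by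
    rw [Nat.card_fun, Nat.card_zmod, Nat.card_fin]
    exact (le_of_eq ((Nat.card_congr (Additive.toMul (α := V))).trans h.card)))
  let bs : Module.Basis (Fin 2) (ZMod r) (Additive V) :=
    Module.Basis.ofEquivFun (LinearEquiv.ofBijective L hbij).symm
  have hbs : ∀ i, bs i = L (Pi.single i 1) := fun i => by
    simp [bs, Module.Basis.coe_ofEquivFun]
  let c : MulAut V →* Matrix (Fin 2) (Fin 2) (ZMod r) :=
    { toFun := fun σ => LinearMap.toMatrix bs bs (lin σ)
      map_one' := by
        rw [show lin 1 = LinearMap.id from rfl, LinearMap.toMatrix_id]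
      map_mul' := fun σ τ => by
        rw [show lin (σ * τ) = (lin σ).comp (lin τ) from rfl, LinearMap.toMatrix_comp bs bs bs] }
  refine ⟨c, fun σ τ e => ?_, ?_⟩
  · have e' : lin σ = lin τ := (LinearMap.toMatrix bs bs).injective e
    exact MulEquiv.ext fun x => congrArg (fun f => Additive.toMul (f (Additive.ofMul x))) e'
  · show LinearMap.toMatrix bs bs (lin v) = _
    rw [← LinearEquiv.eq_symm_apply, LinearMap.toMatrix_symm]
    refine bs.ext fun i => ?_
    rw [Matrix.toLin_self, Fin.sum_univ_two]
    have b0 : bs 0 = Additive.ofMul u := by rw [hbs]; simp [L]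
    have b1 : bs 1 = Additive.ofMul w := by rw [hbs]; simp [L]
    fin_cases i
    · simpa [b0, b1] using linu
    · simpa [b0, b1] using linw

omit [Finite V] in
/-- An automorphism fixed by the reflection which it inverts is trivial. -/
theorem eq_one_of_inv_commute {σ v : MulAut V} (hσ : Odd (orderOf σ)) (hinv : v * σ * v⁻¹ = σ⁻¹)
    (hc : Commute v σ) : σ = 1 := by
  rw [hc.eq, mul_inv_cancel_right] at hinv
  have h2 : σ * σ = 1 := by nth_rw 2 [hinv]; exact mul_inv_cancel σ
  have := orderOf_dvd_of_pow_eq_one (show σ ^ 2 = 1 by rw [pow_two, h2])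
  rcases (Nat.dvd_prime Nat.prime_two).1 this with e | e
  · exact orderOf_eq_one_iff.1 e
  · rw [e] at hσ; exact absurd hσ (by decide)

variable (h : Refl r v u w)
include h

theorem Refl.two_ne : (2 : ZMod r) ≠ 0 := by
  intro e
  have h' : ((2 : ℕ) : ZMod r) = 0 := by exact_mod_cast e
  rw [ZMod.natCast_eq_zero_iff] at h'
  have := (Nat.prime_dvd_prime_iff_eq (Fact.out : r.Prime) Nat.prime_two).1 h'
  exact Nat.not_even_iff_odd.2 h.odd (this ▸ even_two)

/-- Elements fixed by the reflection are diagonal. -/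
theorem Refl.diag {c : MulAut V →* Matrix (Fin 2) (Fin 2) (ZMod r)} (hcv : c v = !![-1, 0; 0, 1])
    {σ : MulAut V} (hσ : Commute σ v) : c σ 0 1 = 0 ∧ c σ 1 0 = 0 := by
  have e := congrArg c hσ.eq
  rw [map_mul, map_mul, hcv] at e
  have e01 := congrFun (congrFun e 0) 1
  have e10 := congrFun (congrFun e 1) 0
  simp [Matrix.mul_apply, Fin.sum_univ_two] at e01 e10
  constructor
  · refine (mul_eq_zero.1 (show 2 * c σ 0 1 = 0 by linear_combination e01)).resolve_left h.two_ne
  · refine (mul_eq_zero.1 (show 2 * c σ 1 0 = 0 by linear_combination -e10)).resolve_left h.two_ne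

/-- A fixed automorphism of odd order commutes with an inverted automorphism of order prime to `r` if the
latter commutes with its conjugate. -/
theorem Refl.rot {y τ : MulAut V} (hy : Commute y v) (hyo : Odd (orderOf y))
    (hτ : v * τ * v⁻¹ = τ⁻¹) (hτo : Odd (orderOf τ)) (hτr : (orderOf τ).Coprime r)
    (hcomm : Commute τ (y * τ * y⁻¹)) : Commute y τ := by
  obtain ⟨c, hinj, hcv⟩ := h.exists_coord
  obtain ⟨hy01, hy10⟩ := h.diag hcv hy
  set σ := y * τ * y⁻¹ with hσdef
  have eσ : c σ * c y = c y * c τ := by rw [← map_mul, ← map_mul, hσdef]; congr 1; group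
  have eτ : c v * c τ * c v * c τ = 1 := by
    rw [← map_mul, ← map_mul, ← map_mul]
    have hv2 : v * v = 1 := hinj (by rw [map_mul, map_one, hcv]; ext i j; fin_cases i <;> fin_cases j <;> simp)
    rw [show v * τ * v = τ⁻¹ by rw [← hτ, inv_eq_of_mul_eq_one_right hv2], inv_mul_cancel, map_one]
  have ec : c τ * c σ = c σ * c τ := by rw [← map_mul, ← map_mul, hcomm.eq]
  rw [hcv] at eτ
  have t00 := congrFun (congrFun eτ 0) 0
  have t01 := congrFun (congrFun eτ 0) 1
  have t10 := congrFun (congrFun eτ 1) 0
  have t11 := congrFun (congrFun eτ 1) 1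
  simp [Matrix.mul_apply, Fin.sum_univ_two, Matrix.vecMul, dotProduct] at t00 t01 t10 t11
  have s00 := congrFun (congrFun eσ 0) 0
  have s01 := congrFun (congrFun eσ 0) 1
  have s10 := congrFun (congrFun eσ 1) 0
  have s11 := congrFun (congrFun eσ 1) 1
  simp [Matrix.mul_apply, Fin.sum_univ_two, hy01, hy10] at s00 s01 s10 s11
  have c00 := congrFun (congrFun ec 0) 0
  simp [Matrix.mul_apply, Fin.sum_univ_two] at c00
  by_cases hoff : c τ 0 1 = 0 ∧ c τ 1 0 = 0
  · have : τ = 1 := eq_one_of_inv_commute hτo hτ <| hinj (by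
      rw [map_mul, map_mul, hcv]
      ext i j
      fin_cases i <;> fin_cases j <;> simp [Matrix.mul_apply, Fin.sum_univ_two, hoff.1, hoff.2, mul_comm])
    rw [this]
    exact Commute.one_right _
  have had : c τ 0 0 = c τ 1 1 := by
    rw [not_and_or] at hoff
    rcases hoff with e | e
    · exact mul_left_cancel₀ e (by linear_combination t01)
    · exact mul_left_cancel₀ e (by linear_combination -t10)
  by_cases hbg : c τ 0 1 * c τ 1 0 = 0
  · -- unipotent up to sign
    have ha : c τ 0 0 * c τ 0 0 = 1 := by linear_combination t00 + hbg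
    have hsq : c τ * c τ = 1 + (2 * c τ 0 0) • !![0, c τ 0 1; c τ 1 0, 0] := by
      ext i j
      fin_cases i <;> fin_cases j <;> simp [Matrix.mul_apply, Fin.sum_univ_two, ← had]
      · linear_combination ha + hbg
      · ring
      · ring
      · linear_combination ha + hbg
    have hN : (!![0, c τ 0 1; c τ 1 0, 0] : Matrix (Fin 2) (Fin 2) (ZMod r)) *
        !![0, c τ 0 1; c τ 1 0, 0] = 0 := by
      ext i j
      fin_cases i <;> fin_cases j <;> simp [Matrix.mul_apply, Fin.sum_univ_two]
      · exact mul_eq_zero.1 hbg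
      · exact (mul_eq_zero.1 hbg).symm
    have hpow : ∀ n : ℕ, (c τ * c τ) ^ n = 1 + ((n : ZMod r) * (2 * c τ 0 0)) • !![0, c τ 0 1; c τ 1 0, 0] := by
      intro n
      induction n with
      | zero => simp
      | succ n ih =>
        rw [pow_succ, ih, hsq, add_mul, one_mul, smul_mul_assoc, mul_add, mul_one, mul_smul_comm, hN]
        simp only [smul_zero, add_zero, Nat.cast_succ, add_mul, one_mul, add_smul]
        abel
    have hτ2 : τ ^ (2 * r) = 1 := hinj (by
      rw [map_pow, map_one, pow_mul, pow_two, hpow, ZMod.natCast_self, zero_mul, zero_smul, add_zero])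
    have : τ = 1 := orderOf_eq_one_iff.1 <| Nat.eq_one_of_dvd_coprimes
      ((Nat.coprime_two_right.2 hτo).mul_right hτr) dvd_rfl (orderOf_dvd_of_pow_eq_one hτ2)
    rw [this]
    exact Commute.one_right _
  · have hne : c y 0 0 ≠ 0 ∧ c y 1 1 ≠ 0 := by
      have e : c y * c y⁻¹ = 1 := by rw [← map_mul, mul_inv_cancel, map_one]
      have e0 := congrFun (congrFun e 0) 0
      have e1 := congrFun (congrFun e 1) 1
      simp [Matrix.mul_apply, Fin.sum_univ_two, hy01, hy10] at e0 e1
      exact ⟨fun z => by simp [z] at e0, fun z => by simp [z] at e1⟩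
    have hsq : c y 1 1 * c y 1 1 = c y 0 0 * c y 0 0 := by
      refine mul_left_cancel₀ hbg ?_
      have k : c τ 0 1 * c σ 1 0 = c σ 0 1 * c τ 1 0 := by linear_combination c00
      linear_combination (c y 0 0 * c y 1 1) * k - c τ 0 1 * c y 1 1 * s10 + c τ 1 0 * c y 0 0 * s01
    have hdiag : ∀ n : ℕ, (c y ^ n) 0 0 = c y 0 0 ^ n ∧ (c y ^ n) 1 1 = c y 1 1 ^ n := by
      intro n
      induction n with
      | zero => simp
      | succ n ih =>
        constructor <;>
          simp [pow_succ, Matrix.mul_apply, Fin.sum_univ_two, hy01, hy10, ih.1, ih.2]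
    have ho : c y 0 0 ^ orderOf y = 1 ∧ c y 1 1 ^ orderOf y = 1 := by
      have e : c y ^ orderOf y = 1 := by rw [← map_pow, pow_orderOf_eq_one, map_one]
      obtain ⟨h0, h1⟩ := hdiag (orderOf y)
      rw [← h0, ← h1, e]
      simp
    have heq : c y 1 1 = c y 0 0 := by
      rcases mul_self_eq_mul_self_iff.1 hsq with e | e
      · exact e
      · exfalso
        have h1 := ho.2
        rw [e, hyo.neg_pow, ho.1] at h1
        exact h.two_ne (by linear_combination -h1)
    refine hinj ?_
    rw [map_mul, map_mul]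
    ext i j
    fin_cases i <;> fin_cases j <;>
      simp [Matrix.mul_apply, Fin.sum_univ_two, hy01, hy10, heq, mul_comm]

/-- An inverted automorphism commuting with a non scalar fixed element of determinant one is trivial. -/
theorem Refl.eq_one_of_commute {z τ : MulAut V} (hz : Commute z v) (hzo : Odd (orderOf z)) (hz1 : z ≠ 1)
    (hdet : ∀ f : MulAut V →* ZMod r, f z = 1) (hτ : v * τ * v⁻¹ = τ⁻¹) (hτo : Odd (orderOf τ))
    (hcomm : Commute τ z) : τ = 1 := by
  obtain ⟨c, hinj, hcv⟩ := h.exists_coord
  obtain ⟨hz01, hz10⟩ := h.diag hcv hz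
  have hd : c z 0 0 * c z 1 1 = 1 := by
    have := hdet (Matrix.detMonoidHom.comp c)
    simpa [Matrix.detMonoidHom, Matrix.det_fin_two, hz01, hz10] using this
  have hne : c z 0 0 ≠ c z 1 1 := by
    intro e
    refine hz1 (orderOf_eq_one_iff.1 ?_)
    have h2 : z ^ 2 = 1 := hinj (by
      rw [map_pow, map_one, pow_two]
      ext i j
      fin_cases i <;> fin_cases j <;> simp [Matrix.mul_apply, Fin.sum_univ_two, hz01, hz10] <;>
        rw [← hd, e])
    rcases (Nat.dvd_prime Nat.prime_two).1 (orderOf_dvd_of_pow_eq_one h2) with e' | e'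
    · exact e'
    · rw [e'] at hzo; exact absurd hzo (by decide)
  have e := congrArg c hcomm.eq
  rw [map_mul, map_mul] at e
  have e01 := congrFun (congrFun e 0) 1
  have e10 := congrFun (congrFun e 1) 0
  simp [Matrix.mul_apply, Fin.sum_univ_two, hz01, hz10] at e01 e10
  have h01 : c τ 0 1 = 0 := (mul_eq_zero.1 (show (c z 1 1 - c z 0 0) * c τ 0 1 = 0 by
    linear_combination e01)).resolve_left (sub_ne_zero.2 hne.symm)
  have h10 : c τ 1 0 = 0 := (mul_eq_zero.1 (show (c z 0 0 - c z 1 1) * c τ 1 0 = 0 by
    linear_combination e10)).resolve_left (sub_ne_zero.2 hne)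
  refine eq_one_of_inv_commute hτo hτ (hinj ?_)
  rw [map_mul, map_mul, hcv]
  ext i j
  fin_cases i <;> fin_cases j <;> simp [Matrix.mul_apply, Fin.sum_univ_two, h01, h10, mul_comm]

end CfsgLib.Bender.NRegK
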