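import Cfsg.Agent.Lib.Bender.Gen.NRegKTools
import Cfsg.Agent.Lib.Bender.Gen.NRegKRot
import Cfsg.Agent.S0205

/-!
Owner: helper29. General Bender theorem, slice G3, second part: a chief factor above the largest inverted
normal subgroup of a two-point stabiliser is centralised by the swapper.
-/

set_option autoImplicit false
set_option linter.style.haveILetI false
set_option linter.unusedSectionVars false

namespace CfsgLib.Bender.NRegK

open Subgroup MulAction
open CfsgLib.Signalizer (involution_sq involution_inv orderOf_eq_two_of involution_ne_one)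
open scoped commutatorElement

universe u

section Group

variable {G : Type*} [Group G] [Finite G]

/-- The action on a section. -/
def sectionAct (N J : Subgroup G) [(J.subgroupOf N).Normal] :
    ↥(normalizer (N : Set G) ⊓ normalizer (J : Set G)) →* MulAut (↥N ⧸ J.subgroupOf N) where
  toFun g := QuotientGroup.congr _ _ (N.normalizerMonoidHom ⟨g, g.2.1⟩) (by
    ext n
    constructor
    · rintro ⟨k, hk, rfl⟩
      exact mem_subgroupOf.2 ((mem_normalizer_iff.1 g.2.2 _).1 (mem_subgroupOf.1 hk))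
    · intro hn
      refine ⟨(N.normalizerMonoidHom ⟨g, g.2.1⟩).symm n, mem_subgroupOf.2 ?_, by simp⟩
      refine (mem_normalizer_iff.1 g.2.2 _).2 ?_
      have e : ((N.normalizerMonoidHom ⟨g, g.2.1⟩ ((N.normalizerMonoidHom ⟨g, g.2.1⟩).symm n) : N) : G) =
          g * ((N.normalizerMonoidHom ⟨g, g.2.1⟩).symm n : N) * (g : G)⁻¹ := rfl
      rw [MulEquiv.apply_symm_apply] at e
      rw [← e]
      exact mem_subgroupOf.1 hn)
  map_one' := MulEquiv.ext fun x => by
    induction x using QuotientGroup.induction_on with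
    | H n => exact congrArg QuotientGroup.mk (Subtype.ext (show (1 : G) * n * (1 : G)⁻¹ = n by simp))
  map_mul' g k := MulEquiv.ext fun x => by
    induction x using QuotientGroup.induction_on with
    | H n =>
      exact congrArg QuotientGroup.mk (Subtype.ext
        (show (g : G) * k * n * ((g : G) * k)⁻¹ = g * (k * n * (k : G)⁻¹) * (g : G)⁻¹ by group))

theorem sectionAct_apply (N J : Subgroup G) [(J.subgroupOf N).Normal]
    (g : ↥(normalizer (N : Set G) ⊓ normalizer (J : Set G))) (n : N) :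
    sectionAct N J g (QuotientGroup.mk n) =
      QuotientGroup.mk ⟨g * n * (g : G)⁻¹, (mem_normalizer_iff.1 g.2.1 _).1 n.2⟩ := rfl

/-- Elements of order dividing a prime in a cyclic section. -/
theorem mem_sup_of_cyclic {J : Subgroup G} {g a x : G} {r : ℕ} (hr : r.Prime) (hJ : J ≤ zpowers g)
    (ha : a ∈ zpowers g) (hx : x ∈ zpowers g) (haJ : a ∉ J) (har : a ^ r ∈ J) (hxr : x ^ r ∈ J) :
    ∃ (k : ℕ) (j : G), j ∈ J ∧ x = a ^ k * j := by
  classical
  letI : CommGroup (zpowers g) := IsCyclic.commGroup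
  let π := QuotientGroup.mk' (J.subgroupOf (zpowers g))
  have := Fintype.ofFinite ((zpowers g : Subgroup G) ⧸ J.subgroupOf (zpowers g))
  haveI : IsCyclic ((zpowers g : Subgroup G) ⧸ J.subgroupOf (zpowers g)) :=
    isCyclic_of_surjective π (QuotientGroup.mk'_surjective _)
  have hord : orderOf (π ⟨a, ha⟩) = r := by
    refine (Nat.dvd_prime hr).1 (orderOf_dvd_of_pow_eq_one ?_) |>.resolve_left fun e => haJ ?_
    · rw [← map_pow]
      exact (QuotientGroup.eq_one_iff _).2 (mem_subgroupOf.2 har)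
    · exact mem_subgroupOf.1 ((QuotientGroup.eq_one_iff _).1 (orderOf_eq_one_iff.1 e))
  have h1 : ((zpowers (π ⟨a, ha⟩) : Set ((zpowers g : Subgroup G) ⧸ J.subgroupOf (zpowers g))).toFinset) = Finset.univ.filter (fun z => z ^ r = 1) := by
    refine Finset.eq_of_subset_of_card_le (fun z hz => ?_) ?_
    · obtain ⟨i, rfl⟩ := mem_zpowers_iff.1 (Set.mem_toFinset.1 hz)
      rw [Finset.mem_filter]
      refine ⟨Finset.mem_univ _, ?_⟩
      rw [← zpow_natCast, ← zpow_mul, mul_comm, zpow_mul, zpow_natCast, ← hord, pow_orderOf_eq_one, one_zpow]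
    · refine (IsCyclic.card_pow_eq_one_le hr.pos).trans (le_of_eq ?_)
      rw [Set.toFinset_card, ← Nat.card_eq_fintype_card]
      exact hord ▸ (Nat.card_zpowers _).symm
  have hxm : π ⟨x, hx⟩ ∈ zpowers (π ⟨a, ha⟩) := by
    rw [← SetLike.mem_coe, ← Set.mem_toFinset, h1, Finset.mem_filter]
    exact ⟨Finset.mem_univ _, by rw [← map_pow]; exact (QuotientGroup.eq_one_iff _).2 (mem_subgroupOf.2 hxr)⟩
  obtain ⟨k, hk⟩ := (mem_powers_iff_mem_zpowers).2 hxm
  refine ⟨k, (a ^ k)⁻¹ * x, ?_, by group⟩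
  have e : π (⟨a, ha⟩ ^ k) = π ⟨x, hx⟩ := by rw [map_pow]; exact hk
  exact mem_subgroupOf.1 (QuotientGroup.eq.1 e)

/-- Powers in a group of class two. -/
theorem conj_pow_central {g x z : G} (e : g * x * g⁻¹ = z * x) (hz : g * z = z * g) (n : ℕ) :
    g ^ n * x * (g ^ n)⁻¹ = z ^ n * x := by
  induction n with
  | zero => simp
  | succ n ih =>
    have hzn : g * z ^ n = z ^ n * g := ((show Commute g z from hz).pow_right n).eq
    calc g ^ (n + 1) * x * (g ^ (n + 1))⁻¹ = g * (g ^ n * x * (g ^ n)⁻¹) * g⁻¹ := by rw [pow_succ']; group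
      _ = g * z ^ n * x * g⁻¹ := by rw [ih]; group
      _ = z ^ n * (g * x * g⁻¹) := by rw [hzn]; group
      _ = _ := by rw [e, pow_succ]; group

/-- The commutator of an element of order `n` with a central commutator has order dividing `n`. -/
theorem pow_eq_one_of_conj {g x z : G} (e : g * x * g⁻¹ = z * x) (hz : g * z = z * g) {n : ℕ}
    (hg : g ^ n = 1) : z ^ n = 1 := by
  have h := conj_pow_central e hz n
  rw [hg] at h
  simpa using h.symm

end Group

variable {G Ω : Type u} [Group G] [Finite G] [MulAction G Ω] [Finite Ω]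

/-- A largest inverted normal subgroup. -/
structure Top (a b : Ω) (v : G) (J : Subgroup G) : Prop where
  inv : ∀ j ∈ J, Inv a b v j
  normal : pairStab G a b ≤ normalizer (J : Set G)
  max : ∀ L : Subgroup G, J ≤ L → pairStab G a b ≤ normalizer (L : Set G) → (∀ l ∈ L, Inv a b v l) → L = J

/-- The subgroup generated by the inverted elements and `J`. -/
def span (a b : Ω) (v : G) (J : Subgroup G) : Subgroup G := closure {x | Inv a b v x} ⊔ J

/-- A chief factor above `J`. -/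
structure Chief (a b : Ω) (v : G) (J N : Subgroup G) (r : ℕ) : Prop where
  lt : J < N
  le : N ≤ span a b v J
  normal : pairStab G a b ≤ normalizer (N : Set G)
  v_mem : v ∈ normalizer (N : Set G)
  min : ∀ M : Subgroup G, J ≤ M → M ≤ N → pairStab G a b ≤ normalizer (M : Set G) →
    v ∈ normalizer (M : Set G) → M = J ∨ M = N
  comm : ∀ g ∈ N, ∀ k ∈ N, g * k * g⁻¹ * k⁻¹ ∈ J
  prime : r.Prime
  exp : ∀ n ∈ N, n ^ r ∈ J

namespace Ctx

variable {a b : Ω} {v y : G} (h : Ctx a b v y)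
include h

theorem exists_top : ∃ J : Subgroup G, Top a b v J := by
  obtain ⟨J, ⟨h1, h2⟩, hmax⟩ := WellFounded.has_min (wellFounded_gt (α := Subgroup G))
    {L | (∀ l ∈ L, Inv a b v l) ∧ pairStab G a b ≤ normalizer (L : Set G)}
    ⟨⊥, fun l hl => by rw [mem_bot.1 hl]; exact h.inv_one',
      fun d _ => mem_normalizer_of_conj_le fun l hl => by rw [mem_bot.1 hl]; simp⟩
  exact ⟨J, h1, h2, fun L hJL hn hi => by
    by_contra hne
    exact hmax L ⟨hi, hn⟩ (lt_of_le_of_ne hJL (Ne.symm hne))⟩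

variable {J : Subgroup G} (hT : Top a b v J)
include hT

theorem top_le : J ≤ pairStab G a b := fun _ hj => (hT.inv _ hj).1

theorem v_mem_top : v ∈ normalizer (J : Set G) :=
  mem_normalizer_of_conj_le fun j hj => by rw [(hT.inv j hj).2]; exact inv_mem hj

theorem span_le : span a b v J ≤ pairStab G a b :=
  sup_le ((closure_le _).2 fun _ hx => hx.1) (h.top_le hT)

theorem inv_mem_span {x : G} (hx : Inv a b v x) : x ∈ span a b v J :=
  mem_sup_left (subset_closure hx)

theorem le_span : J ≤ span a b v J := le_sup_right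

theorem central {g : G} (hg : g ∈ span a b v J) {j : G} (hj : j ∈ J) : g * j = j * g := by
  have : span a b v J ≤ centralizer ({j} : Set G) := by
    refine sup_le ((closure_le _).2 fun x hx => ?_) fun k hk => ?_
    · exact mem_centralizer_singleton_iff.2 (h.commute_inverted hT.inv hx (hT.normal hx.1) hj)
    · exact mem_centralizer_singleton_iff.2 (h.comm_of_inverted hT.inv hk hj)
  exact mem_centralizer_singleton_iff.1 (this hg)

theorem span_normal : pairStab G a b ≤ normalizer (span a b v J : Set G) := by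
  intro d hd
  obtain ⟨c, x, hc, hcv, hx, -, rfl⟩ := h.split le_rfl h.v_mem hd
  refine (normalizer (span a b v J : Set G)).mul_mem ?_ (le_normalizer (h.inv_mem_span hT hx))
  refine mem_normalizer_of_conj_le fun g hg => ?_
  have hle : span a b v J ≤ (span a b v J).comap (MulAut.conj c).toMonoidHom := by
    refine sup_le ((closure_le _).2 fun x hx => ?_) fun j hj => ?_
    · exact h.inv_mem_span hT (h.inv_conj hc hcv hx)
    · exact h.le_span hT ((mem_normalizer_iff.1 (hT.normal hc) j).1 hj)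
  exact hle hg

theorem v_mem_span : v ∈ normalizer (span a b v J : Set G) := by
  refine mem_normalizer_of_conj_le fun g hg => ?_
  have hle : span a b v J ≤ (span a b v J).comap (MulAut.conj v).toMonoidHom := by
    refine sup_le ((closure_le _).2 fun x hx => ?_) fun j hj => ?_
    · show v * x * v⁻¹ ∈ span a b v J
      rw [hx.2]; exact h.inv_mem_span hT (h.inv_inv' hx)
    · exact h.le_span hT ((mem_normalizer_iff.1 (h.v_mem_top hT) j).1 hj)
  exact hle hg

/-- If all inverted elements lie in `J` then `J` is the regular subgroup. -/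
theorem regK_of_all (hall : ∀ x, Inv a b v x → x ∈ J) : RegK a b J where
  le := h.top_le hT
  normal := hT.normal
  comm x hx z hz := h.comm_of_inverted hT.inv hx hz
  inverted w hw hwa x hx := by
    obtain ⟨d, hd, rfl⟩ := h.nc.setting.exists_conj_swapper h.ne h.hv h.va hw hwa
    have hx' := (hT.inv _ ((mem_normalizer_iff''.1 (hT.normal hd) x).1 hx)).2
    calc d * v * d⁻¹ * x * (d * v * d⁻¹)⁻¹ = d * (v * (d⁻¹ * x * d) * v⁻¹) * d⁻¹ := by group
      _ = x⁻¹ := by rw [hx']; group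
  regular s t hs ht := by
    let f : J → {t : G // InvAt t a} := fun x => ⟨x * s * (x : G)⁻¹, hs.conj' (h.top_le hT x.2).1⟩
    have hinj : Function.Injective f := fun x z e => by
      have e' : (x : G) * s * (x : G)⁻¹ = z * s * (z : G)⁻¹ := congrArg Subtype.val e
      have hzx : (z : G)⁻¹ * x ∈ J := mul_mem (inv_mem z.2) x.2
      have := h.eq_one_of_fix (hT.inv _ hzx) hs (by
        calc (z : G)⁻¹ * x * s = (z : G)⁻¹ * (x * s * (x : G)⁻¹) * x := by group
          _ = s * ((z : G)⁻¹ * x) := by rw [e']; group)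
      exact Subtype.ext (eq_of_inv_mul_eq_one this).symm
    have hcard : Nat.card {t : G // InvAt t a} ≤ Nat.card J := by
      rw [← h.card_inv]
      exact (Nat.card_congr (Equiv.subtypeEquivRight fun x => ⟨fun hx => hall x hx, fun hx => hT.inv x hx⟩)).le
    have hbij := hinj.bijective_of_nat_card_le hcard
    obtain ⟨x, hx⟩ := hbij.2 ⟨t, ht⟩
    refine ⟨x, ⟨x.2, congrArg Subtype.val hx⟩, fun z hz => ?_⟩
    exact congrArg Subtype.val (@hinj ⟨z, hz.1⟩ x (Subtype.ext (hz.2.trans (congrArg Subtype.val hx).symm)))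
  self_centralizing d hd hcomm := by
    obtain ⟨c, x, hc, hcv, hx, -, rfl⟩ := h.split le_rfl h.v_mem hd
    suffices c = 1 by rw [this, one_mul]; exact hall x hx
    refine h.eq_one_of_centralizes hc hcv fun z hz => ?_
    have hxz : x * z = z * x := h.comm_of_inverted hT.inv (hall x hx) (hall z hz)
    have := hcomm z (hall z hz)
    rw [mul_assoc, hxz, ← mul_assoc, ← mul_assoc] at this
    exact mul_right_cancel this

/-- A chief factor exists above `J` unless all inverted elements lie in `J`. -/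
theorem exists_chief (hne : ∃ x, Inv a b v x ∧ x ∉ J) : ∃ N r, Chief a b v J N r := by
  obtain ⟨x0, hx0, hx0J⟩ := hne
  obtain ⟨N, ⟨hlt, hle, hn, hvn⟩, hmin⟩ := WellFounded.has_min (wellFounded_lt (α := Subgroup G))
    {L | J < L ∧ L ≤ span a b v J ∧ pairStab G a b ≤ normalizer (L : Set G) ∧ v ∈ normalizer (L : Set G)}
    ⟨span a b v J, lt_of_le_of_ne (h.le_span hT) fun e => hx0J (by rw [e]; exact h.inv_mem_span hT hx0),
      le_rfl, h.span_normal hT, h.v_mem_span hT⟩
  have min : ∀ M : Subgroup G, J ≤ M → M ≤ N → pairStab G a b ≤ normalizer (M : Set G) →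
      v ∈ normalizer (M : Set G) → M = J ∨ M = N := fun M h1 h2 h3 h4 => by
    by_contra hcon
    push Not at hcon
    exact hmin M ⟨lt_of_le_of_ne h1 hcon.1.symm, h2.trans hle, h3, h4⟩ (lt_of_le_of_ne h2 hcon.2)
  have hcen : ∀ n ∈ N, ∀ j ∈ J, n * j = j * n := fun n hn j hj => h.central hT (hle hn) hj
  have hcommle : ⁅N, N⁆ ⊔ J ≤ N := sup_le (commutator_le_self N) hlt.le
  have hnorm : ∀ d : G, d ∈ normalizer (N : Set G) → d ∈ normalizer (J : Set G) →
      d ∈ normalizer ((⁅N, N⁆ ⊔ J : Subgroup G) : Set G) := fun d hd hdJ => mem_normalizer_of_map_conj_eq (by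
    rw [Subgroup.map_sup, map_commutator, map_conj_eq_of_mem_normalizer hd, map_conj_eq_of_mem_normalizer hdJ])
  have hcomm : ⁅N, N⁆ ≤ J := by
    rcases min (⁅N, N⁆ ⊔ J) le_sup_right hcommle (fun d hd => hnorm d (hn hd) (hT.normal hd))
      (hnorm v hvn (h.v_mem_top hT)) with e | e
    · exact le_sup_left.trans e.le
    · have hperf : ⁅N, N⁆ = ⁅(⁅N, N⁆ : Subgroup G), ⁅N, N⁆⁆ := by
        refine le_antisymm (commutator_le.2 fun g hg k hk => ?_) (commutator_mono (commutator_le_self N) (commutator_le_self N))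
        have hsup : ⁅N, N⁆ ≤ normalizer (J : Set G) := fun z hz => hT.normal (h.span_le hT (hle (commutator_le_self N hz)))
        rw [← e, CfsgLib.Core.mem_sup_iff_mul hsup] at hg hk
        obtain ⟨g', hg', i, hi, rfl⟩ := hg
        obtain ⟨k', hk', j, hj, rfl⟩ := hk
        have hiC : ∀ z ∈ N, Commute z i := fun z hz => hcen z hz i hi
        have hjC : ∀ z ∈ N, Commute z j := fun z hz => hcen z hz j hj
        have hg'N := commutator_le_self N hg'
        have hk'N := commutator_le_self N hk'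
        have key : ⁅g' * i, k' * j⁆ = ⁅g', k'⁆ := by
          rw [commutatorElement_def, commutatorElement_def, mul_inv_rev, mul_inv_rev]
          have e1 : g' * i * (k' * j) = g' * k' * (i * j) := by
            rw [mul_assoc, ← mul_assoc i, ← (hiC k' hk'N).eq]; group
          have e2 : (i * j) * (i⁻¹ * g'⁻¹) * (j⁻¹ * k'⁻¹) = g'⁻¹ * k'⁻¹ := by
            have hij : Commute i j := hjC i (hlt.le hi)
            rw [show i * j * (i⁻¹ * g'⁻¹) = j * g'⁻¹ by rw [hij.eq]; group,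
              ← (hjC g'⁻¹ (inv_mem hg'N)).eq]
            group
          rw [e1, mul_assoc, mul_assoc (g' * k'), ← mul_assoc (i * j), e2]
          group
        rw [key]
        exact commutator_mem_commutator hg' hk'
      have hbot : ⁅N, N⁆ = ⊥ := by
        by_contra hne
        haveI : Nontrivial (⁅N, N⁆ : Subgroup G) := (nontrivial_iff_ne_bot _).2 hne
        haveI := Cfsg.Agent.S0205.result (odd_of_le ((commutator_le_self N).trans (hle.trans (h.span_le hT))) h.odd)
        refine (Group.IsSolvable.commutator_lt_top_of_nontrivial (⁅N, N⁆ : Subgroup G)).ne ?_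
        apply Subgroup.map_injective (⁅N, N⁆ : Subgroup G).subtype_injective
        rw [_root_.commutator_def, map_commutator, ← MonoidHom.range_eq_map, range_subtype]
        exact hperf.symm
      rw [hbot]; exact bot_le
  have hab : ∀ g ∈ N, ∀ k ∈ N, g * k * g⁻¹ * k⁻¹ ∈ J := fun g hg k hk => hcomm (commutator_mem_commutator hg hk)
  have hmul : ∀ (n : ℕ) (g k : G), g ∈ N → k ∈ N → (g * k) ^ n * (g ^ n * k ^ n)⁻¹ ∈ J := by
    intro n g k hg hk
    haveI : (J.subgroupOf N).Normal := ⟨fun j hj z => mem_subgroupOf.2 (by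
      show (z : G) * j * (z : G)⁻¹ ∈ J
      rw [hcen z z.2 j (mem_subgroupOf.1 hj), mul_inv_cancel_right]
      exact mem_subgroupOf.1 hj)⟩
    let π := QuotientGroup.mk' (J.subgroupOf N)
    have hc : Commute (π ⟨g, hg⟩) (π ⟨k, hk⟩) := by
      rw [Commute, SemiconjBy, ← mul_inv_eq_one, mul_inv_rev, ← mul_assoc, ← map_inv, ← map_inv,
        ← map_mul, ← map_mul, ← map_mul]
      exact (QuotientGroup.eq_one_iff _).2 (mem_subgroupOf.2 (hab g hg k hk))
    have e : π ((⟨g, hg⟩ * ⟨k, hk⟩) ^ n * (⟨g, hg⟩ ^ n * ⟨k, hk⟩ ^ n)⁻¹) = 1 := by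
      rw [map_mul, map_inv, map_mul, map_pow, map_pow, map_pow, map_mul, hc.mul_pow, mul_inv_cancel]
    exact mem_subgroupOf.1 ((QuotientGroup.eq_one_iff _).1 e)
  obtain ⟨n0, hn0, hn0J⟩ := SetLike.exists_of_lt hlt
  classical
  have hexp : ∃ k : ℕ, 0 < k ∧ n0 ^ k ∈ J :=
    ⟨orderOf n0, orderOf_pos n0, by rw [pow_orderOf_eq_one]; exact one_mem _⟩
  obtain ⟨k0pos, hk0⟩ := Nat.find_spec hexp
  have hk1 : Nat.find hexp ≠ 1 := fun e => hn0J (by rwa [e, pow_one] at hk0)
  obtain ⟨r, hr, l, hl⟩ := Nat.exists_prime_and_dvd hk1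
  have hlpos : 0 < l := Nat.pos_of_mul_pos_left (hl ▸ k0pos)
  have hn1J : n0 ^ l ∉ J := fun hj => Nat.find_min hexp
    (hl ▸ lt_mul_of_one_lt_left hlpos hr.one_lt) ⟨hlpos, hj⟩
  let M : Subgroup G :=
    { carrier := {n | n ∈ N ∧ n ^ r ∈ J}
      one_mem' := ⟨one_mem _, by rw [one_pow]; exact one_mem _⟩
      mul_mem' := fun {g k} hg hk => ⟨mul_mem hg.1 hk.1, by
        have := mul_mem (hmul r g k hg.1 hk.1) (mul_mem hg.2 hk.2)
        rwa [inv_mul_cancel_right] at this⟩
      inv_mem' := fun {g} hg => ⟨inv_mem hg.1, by rw [_root_.inv_pow]; exact inv_mem hg.2⟩ }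
  have hMn : ∀ d : G, d ∈ normalizer (N : Set G) → d ∈ normalizer (J : Set G) →
      d ∈ normalizer (M : Set G) := fun d hd hdJ => mem_normalizer_of_conj_le fun g hg =>
    ⟨(mem_normalizer_iff.1 hd g).1 hg.1, by rw [conj_pow]; exact (mem_normalizer_iff.1 hdJ _).1 hg.2⟩
  have hJM : J ≤ M := fun j hj => ⟨hlt.le hj, pow_mem hj r⟩
  rcases min M hJM (fun _ hg => hg.1) (fun d hd => hMn d (hn hd) (hT.normal hd))
    (hMn v hvn (h.v_mem_top hT)) with e | e
  · exact absurd (e ▸ (⟨pow_mem hn0 l, by rw [← pow_mul, mul_comm, ← hl]; exact hk0⟩ : n0 ^ l ∈ M)) hn1J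
  · exact ⟨N, r, hlt, hle, hn, hvn, min, hab, hr, fun n hn' => (e.symm ▸ hn' : n ∈ M).2⟩

variable {N : Subgroup G} {r : ℕ} (hN : Chief a b v J N r)
include hN

theorem chief_le : N ≤ pairStab G a b := hN.le.trans (h.span_le hT)

theorem chief_central {n j : G} (hn : n ∈ N) (hj : j ∈ J) : n * j = j * n := h.central hT (hN.le hn) hj

theorem fix_inf {j : G} (hj : j ∈ J) (hjv : j * v = v * j) : j = 1 :=
  eq_one_of_eq_inv h.odd (h.top_le hT hj) (by rw [← (hT.inv j hj).2, ← hjv, mul_inv_cancel_right])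

theorem fix_pow {c : G} (hc : c ∈ N) (hcv : c * v = v * c) : c ^ r = 1 :=
  h.fix_inf hT hN (hN.exp c hc) ((show Commute c v from hcv).pow_left r).eq

theorem exists_fix_ne : ∃ c ∈ N, c * v = v * c ∧ c ≠ 1 := by
  by_contra hcon
  push Not at hcon
  refine hN.lt.ne' (hT.max N hN.lt.le hN.normal fun n hn => ?_)
  obtain ⟨c, x, hc, hcv, hx, -, rfl⟩ := h.split (h.chief_le hT hN) hN.v_mem hn
  rw [hcon c hc hcv, one_mul]
  exact hx

theorem fix_comm {c d : G} (hc : c ∈ N) (hcv : c * v = v * c) (hd : d ∈ N) (hdv : d * v = v * d) :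
    c * d = d * c := by
  have := h.fix_inf hT hN (hN.comm c hc d hd)
    (((((show Commute c v from hcv).mul_left (show Commute d v from hdv)).mul_left
      (show Commute c v from hcv).inv_left).mul_left (show Commute d v from hdv).inv_left)).eq
  rwa [← mul_inv_eq_iff_eq_mul, ← mul_inv_eq_one]

theorem inv_comm {x z : G} (hx : x ∈ N) (hxi : Inv a b v x) (hz : z ∈ N) (hzi : Inv a b v z) :
    x * z = z * x := by
  set w := x * z * x⁻¹ * z⁻¹ with hw
  have hwJ : w ∈ J := hN.comm x hx z hz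
  have cx : Commute x w := h.chief_central hT hN hx hwJ
  have cz : Commute z w := h.chief_central hT hN hz hwJ
  have e : v * w * v⁻¹ = x⁻¹ * z⁻¹ * x * z := by
    calc v * w * v⁻¹ = (v * x * v⁻¹) * (v * z * v⁻¹) * (v * x * v⁻¹)⁻¹ * (v * z * v⁻¹)⁻¹ := by rw [hw]; group
      _ = _ := by rw [hxi.2, hzi.2]; group
  have e2 : x⁻¹ * z⁻¹ * x * z = w := by
    have e3 : x⁻¹ * z⁻¹ * x * z = z⁻¹ * (x⁻¹ * w * x) * z → True := fun _ => trivial
    have hxz : x * z = w * (z * x) := by rw [hw]; group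
    calc x⁻¹ * z⁻¹ * x * z = x⁻¹ * z⁻¹ * (x * z) := by group
      _ = x⁻¹ * (z⁻¹ * w * z) * x := by rw [hxz]; group
      _ = x⁻¹ * w * x := by rw [cz.inv_left.eq, inv_mul_cancel_right]
      _ = w := by rw [cx.inv_left.eq, inv_mul_cancel_right]
  have h1 : w = 1 := eq_one_of_eq_inv h.odd (h.top_le hT hwJ) ((e2.symm.trans e.symm).trans (hT.inv w hwJ).2)
  rwa [hw, mul_inv_eq_one, mul_inv_eq_iff_eq_mul] at h1

theorem top_cyclic {c : G} (hc : c ∈ N) (hcv : c * v = v * c) (hc1 : c ≠ 1) :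
    ∃ A : Subgroup G, (∃ g, A = zpowers g) ∧ (∀ x, x ∈ A ↔ Inv a b v x ∧ c * x = x * c) ∧ J ≤ A := by
  obtain ⟨A, hA, hmem, -⟩ := h.inv_torus (h.chief_le hT hN hc) hcv hc1
  exact ⟨A, hA, hmem, fun j hj => (hmem j).2 ⟨hT.inv j hj, h.chief_central hT hN hc hj⟩⟩

theorem conj_fix_mem {c x : G} (hc : c ∈ N) (hcv : c * v = v * c) (hx : x ∈ N) :
    ∃ z ∈ J, c * x * c⁻¹ = z * x ∧ z ^ r = 1 :=
  ⟨_, hN.comm c hc x hx, by group,
    pow_eq_one_of_conj (g := c) (x := x) (by group) (h.chief_central hT hN hc (hN.comm c hc x hx)) (h.fix_pow hT hN hc hcv)⟩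

/-- The centre of a non abelian factor is `J`. -/
theorem mem_top_of_central (hna : ∃ g ∈ N, ∃ k ∈ N, g * k ≠ k * g) {z : G} (hz : z ∈ N)
    (hzc : ∀ n ∈ N, z * n = n * z) : z ∈ J := by
  have hn : ∀ d : G, d ∈ normalizer (N : Set G) →
      d ∈ normalizer ((N ⊓ centralizer (N : Set G) : Subgroup G) : Set G) := fun d hd =>
    mem_normalizer_of_map_conj_eq (by
      rw [Subgroup.map_inf _ _ _ (MulAut.conj d).injective, map_conj_eq_of_mem_normalizer hd,
        map_conj_eq_of_mem_normalizer (le_normalizer_centralizer N hd)])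
  rcases hN.min (N ⊓ centralizer (N : Set G))
    (fun j hj => ⟨hN.lt.le hj, mem_centralizer_iff.2 fun n hn => h.chief_central hT hN hn hj⟩) inf_le_left
    (fun d hd => hn d (hN.normal hd)) (hn v hN.v_mem) with e | e
  · exact e.le ⟨hz, mem_centralizer_iff.2 fun n hn => (hzc n hn).symm⟩
  · obtain ⟨g, hg, k, hk, hgk⟩ := hna
    exact absurd (mem_centralizer_iff.1 (e.ge hk).2 g hg) hgk

/-- The inverted elements of the factor are one cyclic group above `J`. -/
theorem inv_line {a₁ x : G} (ha : a₁ ∈ N) (hai : Inv a b v a₁) (haJ : a₁ ∉ J) (hx : x ∈ N)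
    (hxi : Inv a b v x) : ∃ (k : ℕ) (j : G), j ∈ J ∧ x = a₁ ^ k * j := by
  classical
  obtain ⟨c, hc, hcv, hc1⟩ := h.exists_fix_ne hT hN
  by_cases hab : ∀ g ∈ N, ∀ k ∈ N, g * k = k * g
  · obtain ⟨A, ⟨g, rfl⟩, hA, hJA⟩ := h.top_cyclic hT hN hc hcv hc1
    exact mem_sup_of_cyclic hN.prime hJA ((hA a₁).2 ⟨hai, hab c hc a₁ ha⟩)
      ((hA x).2 ⟨hxi, hab c hc x hx⟩) haJ (hN.exp _ ha) (hN.exp _ hx)
  push Not at hab
  by_contra hcon
  push Not at hcon
  obtain ⟨A, ⟨g, rfl⟩, -, hJA⟩ := h.top_cyclic hT hN hc hcv hc1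
  haveI : Fact r.Prime := ⟨hN.prime⟩
  haveI : IsCyclic J := isCyclic_of_injective (Subgroup.inclusion hJA) (Subgroup.inclusion_injective hJA)
  have fixed_of_commute : ∀ z ∈ N, Inv a b v z → (∀ d ∈ N, d * v = v * d → d * z = z * d) → z ∈ J := by
    intro z hz hzi hd
    refine h.mem_top_of_central hT hN hab hz fun n hn => ?_
    obtain ⟨d, u, hdN, hdv, hu, huN, rfl⟩ := h.split (h.chief_le hT hN) hN.v_mem hn
    exact ((show Commute d z from hd d hdN hdv).mul_left (h.inv_comm hT hN huN hu hz hzi)).eq.symm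
  -- the commutators with fixed elements generate one group of order `r`
  obtain ⟨o, hoJ, hor, ho1⟩ : ∃ o ∈ J, o ^ r = 1 ∧ o ≠ 1 := by
    by_contra h0
    push Not at h0
    refine haJ (fixed_of_commute a₁ ha hai fun d hd hdv => ?_)
    obtain ⟨z, hzJ, hz, hzr⟩ := h.conj_fix_mem hT hN hd hdv ha
    rw [h0 z hzJ hzr, one_mul, mul_inv_eq_iff_eq_mul] at hz
    exact hz
  have homega : ∀ z ∈ J, z ^ r = 1 → ∃ i : ℕ, i < r ∧ z = o ^ i := by
    intro z hzJ hzr
    obtain ⟨g0, hg0⟩ := IsCyclic.exists_generator (α := J)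
    have hz' : z ∈ zpowers (g0 : G) := by
      obtain ⟨i, hi⟩ := mem_zpowers_iff.1 (hg0 ⟨z, hzJ⟩)
      exact ⟨i, congrArg Subtype.val hi⟩
    have ho' : o ∈ zpowers (g0 : G) := by
      obtain ⟨i, hi⟩ := mem_zpowers_iff.1 (hg0 ⟨o, hoJ⟩)
      exact ⟨i, congrArg Subtype.val hi⟩
    obtain ⟨k, j, hj, e⟩ := mem_sup_of_cyclic hN.prime (bot_le) ho' hz' (fun e => ho1 (mem_bot.1 e))
      (mem_bot.2 hor) (mem_bot.2 hzr)
    rw [mem_bot.1 hj, mul_one] at e
    refine ⟨k % r, Nat.mod_lt _ hN.prime.pos, ?_⟩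
    rw [e]
    conv_lhs => rw [← Nat.div_add_mod k r, pow_add, pow_mul, hor, one_pow, one_mul]
  -- an element of order `r` outside `J`
  obtain ⟨w, hw, hwi, hwJ, hwr⟩ : ∃ w ∈ N, Inv a b v w ∧ w ∉ J ∧ w ^ r = 1 := by
    obtain ⟨g0, hg0⟩ := IsCyclic.exists_generator (α := J)
    obtain ⟨α, hα⟩ := mem_zpowers_iff.1 (hg0 ⟨_, hN.exp a₁ ha⟩)
    obtain ⟨β, hβ⟩ := mem_zpowers_iff.1 (hg0 ⟨_, hN.exp x hx⟩)
    have hα' : (g0 : G) ^ α = a₁ ^ r := congrArg Subtype.val hα
    have hβ' : (g0 : G) ^ β = x ^ r := congrArg Subtype.val hβ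
    obtain ⟨z, γ, hzN, hzi, hzJ, hzγ⟩ : ∃ (z : G) (γ : ℤ), z ∈ N ∧ Inv a b v z ∧ z ∉ J ∧
        z ^ r = (g0 : G) ^ γ ∧ (r : ℤ) ∣ γ := by
      by_cases hrα : (r : ℤ) ∣ α
      · exact ⟨a₁, α, ha, hai, haJ, hα'.symm, hrα⟩
      · have hα0 : (α : ZMod r) ≠ 0 := fun e => hrα ((ZMod.intCast_zmod_eq_zero_iff_dvd _ _).1 e)
        set i := (-(β : ZMod r) * (α : ZMod r)⁻¹).val with hi
        have hcomm : Commute x a₁ := h.inv_comm hT hN hx hxi ha hai
        refine ⟨x * a₁ ^ i, β + α * i, mul_mem hx (pow_mem ha i), ⟨mul_mem hxi.1 (pow_mem hai.1 i), ?_⟩, ?_, ?_, ?_⟩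
        · rw [show v * (x * a₁ ^ i) * v⁻¹ = (v * x * v⁻¹) * (v * a₁ ^ i * v⁻¹) by group, hxi.2,
            (h.inv_pow hai i).2, mul_inv_rev, ((hcomm.pow_right i).inv_inv).eq]
        · intro hJ'
          refine hcon ((orderOf a₁ - 1) * i) _ hJ' ?_
          rw [← (hcomm.pow_right i).eq.symm.trans rfl, ← mul_assoc, ← pow_add,
            show (orderOf a₁ - 1) * i + i = orderOf a₁ * i by
              rw [Nat.sub_mul, one_mul, Nat.sub_add_cancel (Nat.le_mul_of_pos_left i (orderOf_pos a₁))],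
            pow_mul, pow_orderOf_eq_one, one_pow, one_mul]
        · rw [(hcomm.pow_right i).mul_pow, ← pow_mul, mul_comm i r, pow_mul, ← hα', ← hβ', zpow_add, zpow_mul,
            zpow_natCast]
        · rw [← ZMod.intCast_zmod_eq_zero_iff_dvd, Int.cast_add, Int.cast_mul, Int.cast_natCast, hi,
            ZMod.natCast_val, ZMod.cast_id', id_eq]
          field_simp
          ring
    obtain ⟨m, rfl⟩ := hzγ.2
    have hg0J : (g0 : G) ^ (-m) ∈ J := zpow_mem g0.2 _
    have hcz : Commute z ((g0 : G) ^ (-m)) := h.chief_central hT hN hzN hg0J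
    refine ⟨z * (g0 : G) ^ (-m), mul_mem hzN (hN.lt.le hg0J), ⟨mul_mem hzi.1 (h.top_le hT hg0J), ?_⟩,
      fun hJ' => hzJ ((J.mul_mem_cancel_right hg0J).1 hJ'), ?_⟩
    · rw [show v * (z * (g0 : G) ^ (-m)) * v⁻¹ = (v * z * v⁻¹) * (v * (g0 : G) ^ (-m) * v⁻¹) by group,
        hzi.2, (hT.inv _ hg0J).2, mul_inv_rev, hcz.inv_inv.eq]
    · rw [hcz.mul_pow, hzγ.1, ← zpow_natCast ((g0 : G) ^ (-m)), ← zpow_mul, ← zpow_add,
        show (r : ℤ) * m + -m * r = 0 by ring, zpow_zero]
  -- some fixed element commutes with it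
  obtain ⟨d, hd, hdv, hd1, hdw⟩ : ∃ d ∈ N, d * v = v * d ∧ d ≠ 1 ∧ d * w = w * d := by
    by_contra h0
    push Not at h0
    have hinj : ∀ d e : G, d ∈ N → d * v = v * d → e ∈ N → e * v = v * e →
        d * w * d⁻¹ = e * w * e⁻¹ → d = e := by
      intro d e hd hdv he hev hde
      by_contra hne
      refine h0 (e⁻¹ * d) (mul_mem (inv_mem he) hd)
        (((show Commute e v from hev).inv_left.mul_left (show Commute d v from hdv))).eq
        (fun e1 => hne (eq_of_inv_mul_eq_one e1).symm) (mul_inv_eq_iff_eq_mul.1 ?_)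
      calc e⁻¹ * d * w * (e⁻¹ * d)⁻¹ = e⁻¹ * (d * w * d⁻¹) * e := by group
        _ = w := by rw [hde]; group
    -- then the fixed part has order `r` and some line is central
    obtain ⟨z, hzJ, hz, hzr⟩ := h.conj_fix_mem hT hN hc hcv ha
    obtain ⟨z', hz'J, hz', hz'r⟩ := h.conj_fix_mem hT hN hc hcv hx
    have hfix : ∀ d ∈ N, d * v = v * d → ∃ i : ℕ, d = c ^ i := by
      intro d hd hdv
      obtain ⟨u, huJ, hu, hur⟩ := h.conj_fix_mem hT hN hd hdv hw
      obtain ⟨u0, hu0J, hu0, hu0r⟩ := h.conj_fix_mem hT hN hc hcv hw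
      obtain ⟨i, -, rfl⟩ := homega u huJ hur
      obtain ⟨k, -, rfl⟩ := homega u0 hu0J hu0r
      have hk0 : (k : ZMod r) ≠ 0 := fun e0 => by
        rw [ZMod.natCast_eq_zero_iff] at e0
        obtain ⟨k', rfl⟩ := e0
        rw [pow_mul, hor, one_pow, one_mul] at hu0
        exact hc1 (hinj c 1 hc hcv (one_mem _) (by simp) (by rw [hu0]; simp))
      refine ⟨((i : ZMod r) * (k : ZMod r)⁻¹).val, hinj _ _ hd hdv (pow_mem hc _)
        ((show Commute c v from hcv).pow_left _).eq ?_⟩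
      rw [hu, conj_pow_central hu0 (h.chief_central hT hN hc (pow_mem hoJ k)), ← pow_mul,
        ← pow_mod_orderOf o (k * _), ← pow_mod_orderOf o i, orderOf_eq_prime hor ho1]
      congr 2
      rw [← Nat.ModEq, ← ZMod.natCast_eq_natCast_iff, Nat.cast_mul, ZMod.natCast_val, ZMod.cast_id', id_eq]
      field_simp
    have hzero : ∀ u ∈ N, Inv a b v u → c * u = u * c → u ∈ J := fun u hu hui hcu =>
      fixed_of_commute u hu hui fun d hd hdv => by
        obtain ⟨i, rfl⟩ := hfix d hd hdv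
        exact ((show Commute c u from hcu).pow_left i).eq
    obtain ⟨i, -, rfl⟩ := homega z hzJ hzr
    obtain ⟨k, -, rfl⟩ := homega z' hz'J hz'r
    have hi0 : (i : ZMod r) ≠ 0 := fun e0 => haJ (hzero a₁ ha hai (by
      rw [ZMod.natCast_eq_zero_iff] at e0
      obtain ⟨i', rfl⟩ := e0
      rw [pow_mul, hor, one_pow, one_mul, mul_inv_eq_iff_eq_mul] at hz
      exact hz))
    set n := (-(k : ZMod r) * (i : ZMod r)⁻¹).val with hn
    have hcomm : Commute x a₁ := h.inv_comm hT hN hx hxi ha hai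
    have hmem : x * a₁ ^ n ∈ J := by
      refine hzero _ (mul_mem hx (pow_mem ha n)) ⟨mul_mem hxi.1 (pow_mem hai.1 n), ?_⟩ (mul_inv_eq_iff_eq_mul.1 ?_)
      · rw [show v * (x * a₁ ^ n) * v⁻¹ = (v * x * v⁻¹) * (v * a₁ ^ n * v⁻¹) by group, hxi.2,
          (h.inv_pow hai n).2, mul_inv_rev, ((hcomm.pow_right n).inv_inv).eq]
      · have h1 : Commute (o ^ i) a₁ := (h.chief_central hT hN ha (pow_mem hoJ i)).symm
        have h2 : Commute x (o ^ (i * n)) := h.chief_central hT hN hx (pow_mem hoJ _)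
        calc c * (x * a₁ ^ n) * c⁻¹ = (c * x * c⁻¹) * (c * a₁ * c⁻¹) ^ n := by rw [conj_pow]; group
          _ = o ^ k * (x * o ^ (i * n)) * a₁ ^ n := by rw [hz, hz', h1.mul_pow, ← pow_mul]; group
          _ = o ^ (k + i * n) * (x * a₁ ^ n) := by rw [h2.eq, pow_add]; group
          _ = x * a₁ ^ n := by
            have hdvd : r ∣ k + i * n := by
              rw [← ZMod.natCast_eq_zero_iff, Nat.cast_add, Nat.cast_mul, hn, ZMod.natCast_val,
                ZMod.cast_id', id_eq]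
              field_simp
              ring
            obtain ⟨l, hl⟩ := hdvd
            rw [hl, pow_mul, hor, one_pow, one_mul]
    refine hcon ((orderOf a₁ - 1) * n) _ hmem ?_
    rw [hcomm.pow_right n |>.eq, ← mul_assoc, ← pow_add,
      show (orderOf a₁ - 1) * n + n = orderOf a₁ * n by
        rw [Nat.sub_mul, one_mul, Nat.sub_add_cancel (Nat.le_mul_of_pos_left n (orderOf_pos a₁))],
      pow_mul, pow_orderOf_eq_one, one_pow, one_mul]
  obtain ⟨B, ⟨g', rfl⟩, hB, hJB⟩ := h.top_cyclic hT hN hd hdv hd1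
  obtain ⟨k, j, hj, e⟩ := mem_sup_of_cyclic hN.prime bot_le (hJB hoJ) ((hB w).2 ⟨hwi, hdw⟩)
    (fun e => ho1 (mem_bot.1 e)) (mem_bot.2 hor) (mem_bot.2 hwr)
  rw [mem_bot.1 hj, mul_one] at e
  exact hwJ (e ▸ pow_mem hoJ k)

/-- An inverted element of order prime to `r` stabilising the inverted line acts trivially. -/
theorem line_trivial {a₁ x : G} (ha : a₁ ∈ N) (hai : Inv a b v a₁) (haJ : a₁ ∉ J) (hx : Inv a b v x)
    (hxr : (orderOf x).Coprime r) (hline : x * a₁ * x⁻¹ * a₁⁻¹ ∈ J) :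
    ∀ n ∈ N, x * n * x⁻¹ * n⁻¹ ∈ J := by
  intro n hn
  have hxN : x ∈ normalizer (N : Set G) := hN.normal hx.1
  have hxJ : x ∈ normalizer (J : Set G) := hT.normal hx.1
  have hxs : ∀ j ∈ J, x * j = j * x := fun j hj => h.commute_inverted hT.inv hx hxJ hj
  -- fixed elements move inside the inverted line
  have hfix : ∀ c ∈ N, c * v = v * c → x * c * x⁻¹ * c⁻¹ ∈ J := by
    intro c hc hcv
    obtain ⟨c', u, hc', hc'v, hu, huN, e⟩ := h.split (h.chief_le hT hN) hN.v_mem ((mem_normalizer_iff.1 hxN c).1 hc)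
    have hc'v' : v * c' * v⁻¹ = c' := by rw [← hc'v, mul_inv_cancel_right]
    have hcv' : v * c * v⁻¹ = c := by rw [← hcv, mul_inv_cancel_right]
    have e' : x⁻¹ * c * x = c' * u⁻¹ := by
      calc x⁻¹ * c * x = (v * x * v⁻¹) * (v * c * v⁻¹) * (v * x * v⁻¹)⁻¹ := by rw [hx.2, hcv', inv_inv]
        _ = v * (x * c * x⁻¹) * v⁻¹ := by group
        _ = (v * c' * v⁻¹) * (v * u * v⁻¹) := by rw [e]; group
        _ = _ := by rw [hc'v', hu.2]
    obtain ⟨k, j, hj, rfl⟩ := h.inv_line hT hN ha hai haJ huN hu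
    -- conjugation by `x ^ 2` translates `c` by an element commuting with `x` modulo `J`
    have hu2 : (a₁ ^ k * j) * (a₁ ^ k * j) ∈ N := mul_mem huN huN
    have hxu : ∀ i : ℕ, x * (a₁ ^ i) * x⁻¹ * (a₁ ^ i)⁻¹ ∈ J := by
      intro i
      induction i with
      | zero => simp
      | succ i ih =>
        have := mul_mem ih ((mem_normalizer_iff.1 (hT.normal (h.chief_le hT hN (pow_mem ha i))) _).1 hline)
        convert this using 1
        rw [pow_succ]
        group
    set d := a₁ ^ (k + k) with hd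
    have hdN : d ∈ N := pow_mem ha _
    have hd2 : (a₁ ^ k * j) * (a₁ ^ k * j) = d * (j * j) := by
      have := h.chief_central hT hN (pow_mem ha k) hj
      rw [hd, pow_add, mul_assoc, ← mul_assoc j, ← this]; group
    -- `x² c x⁻² ≡ c · d`
    have hstep : ∃ i ∈ J, x * x * c * (x * x)⁻¹ = c * d * i := by
      have e2 : x * c * x⁻¹ = (x⁻¹ * c * x) * (d * (j * j)) := by
        rw [e', ← hd2, e]; group
      obtain ⟨i, hi, hxd⟩ : ∃ i ∈ J, x * d * x⁻¹ = i * d := ⟨_, hxu (k + k), by rw [hd]; group⟩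
      refine ⟨i * (j * j), mul_mem hi (mul_mem hj hj), ?_⟩
      calc x * x * c * (x * x)⁻¹ = x * (x * c * x⁻¹) * x⁻¹ := by group
        _ = c * (x * d * x⁻¹) * (x * (j * j) * x⁻¹) := by rw [e2]; group
        _ = c * (i * d) * (j * j) := by rw [hxd, hxs _ (mul_mem hj hj), mul_inv_cancel_right]
        _ = _ := by rw [← (h.chief_central hT hN hdN hi)]; group
    obtain ⟨i0, hi0, e0⟩ := hstep
    have hpow : ∀ l : ℕ, ∃ i ∈ J, (x * x) ^ l * c * ((x * x) ^ l)⁻¹ = c * d ^ l * i := by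
      intro l
      induction l with
      | zero => exact ⟨1, one_mem _, by simp⟩
      | succ l ih =>
        obtain ⟨i, hi, e1⟩ := ih
        obtain ⟨i1, hi1, hxd⟩ : ∃ i1 ∈ J, x * x * d ^ l * (x * x)⁻¹ = i1 * d ^ l := by
          obtain ⟨i2, hi2, e2⟩ : ∃ i2 ∈ J, x * d ^ l * x⁻¹ = i2 * d ^ l :=
            ⟨_, hxu ((k + k) * l), by rw [hd, ← pow_mul]; group⟩
          refine ⟨i2 * i2, mul_mem hi2 hi2, ?_⟩
          calc x * x * d ^ l * (x * x)⁻¹ = x * (x * d ^ l * x⁻¹) * x⁻¹ := by group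
            _ = x * (i2 * d ^ l) * x⁻¹ := by rw [e2]
            _ = (x * i2 * x⁻¹) * (x * d ^ l * x⁻¹) := by group
            _ = _ := by rw [hxs i2 hi2, mul_inv_cancel_right, e2]; group
        refine ⟨i0 * i1 * i, mul_mem (mul_mem hi0 hi1) hi, ?_⟩
        have k1 := h.chief_central hT hN (pow_mem hdN l) hi0
        have k2 := h.chief_central hT hN (pow_mem hdN l) hi1
        have hxi' : x * x * i * (x * x)⁻¹ = i := by
          rw [((show Commute x i from hxs i hi).mul_left (show Commute x i from hxs i hi)).eq, mul_inv_cancel_right]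
        calc (x * x) ^ (l + 1) * c * ((x * x) ^ (l + 1))⁻¹ = x * x * ((x * x) ^ l * c * ((x * x) ^ l)⁻¹) * (x * x)⁻¹ := by
              rw [pow_succ', mul_inv_rev]; simp only [mul_assoc]
          _ = (x * x * c * (x * x)⁻¹) * (x * x * d ^ l * (x * x)⁻¹) * (x * x * i * (x * x)⁻¹) := by rw [e1]; group
          _ = c * d * i0 * (i1 * d ^ l) * i := by rw [e0, hxd, hxi']
          _ = c * d * (i0 * d ^ l) * i1 * i := by rw [← k2]; group
          _ = c * d ^ (l + 1) * (i0 * i1 * i) := by rw [← k1, pow_succ']; group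
    have hdJ : d ∈ J := by
      obtain ⟨i, hi, e1⟩ := hpow (orderOf x)
      rw [← pow_two, ← pow_mul, mul_comm, pow_mul, pow_orderOf_eq_one, one_pow, one_mul, inv_one, mul_one,
        mul_assoc, left_eq_mul] at e1
      have h1 : d ^ orderOf x ∈ J := (J.mul_mem_cancel_right hi).1 (by rw [e1]; exact one_mem _)
      have h3 : d ^ (r : ℕ) ∈ J := hN.exp d hdN
      have h4 := mul_mem (zpow_mem (show d ^ (orderOf x : ℕ) ∈ J from h1) ((orderOf x).gcdA r))
        (zpow_mem h3 ((orderOf x).gcdB r))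
      rwa [← zpow_natCast d, ← zpow_natCast d, ← zpow_mul, ← zpow_mul, ← zpow_add, ← Nat.gcd_eq_gcd_ab,
        hxr.gcd_eq_one, Nat.cast_one, zpow_one] at h4
    have huJ : a₁ ^ k * j ∈ J := by
      have h2 : (a₁ ^ k * j) * (a₁ ^ k * j) ∈ J := by rw [hd2]; exact mul_mem hdJ (mul_mem hj hj)
      rw [← sq_pow_half h.odd hu.1]
      exact pow_mem h2 _
    -- so `x c x⁻¹` is congruent to a fixed element which must be `c`
    have hcc : (x * x) * c * (x * x)⁻¹ * c⁻¹ ∈ J := by
      rw [e0, show c * d * i0 * c⁻¹ = c * (d * i0) * c⁻¹ by group,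
        h.chief_central hT hN hc (mul_mem hdJ hi0), mul_inv_cancel_right]
      exact mul_mem hdJ hi0
    set i := (x * x) * c * (x * x)⁻¹ * c⁻¹ with hi
    have key := conj_pow_central (g := x * x) (x := c) (z := i) (by rw [hi]; group)
      ((show Commute x i from hxs i hcc).mul_left (show Commute x i from hxs i hcc)).eq
      ((Nat.card (pairStab G a b) + 1) / 2)
    rw [sq_pow_half h.odd hx.1] at key
    rw [key, mul_inv_cancel_right]
    exact pow_mem hcc _
  obtain ⟨c, u, hc, hcv, hu, huN, rfl⟩ := h.split (h.chief_le hT hN) hN.v_mem hn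
  obtain ⟨k, j, hj, rfl⟩ := h.inv_line hT hN ha hai haJ huN hu
  have hxa : x * a₁ ^ k * x⁻¹ * (a₁ ^ k)⁻¹ ∈ J := by
    have key := conj_pow_central (g := a₁) (x := x) (z := (x * a₁ * x⁻¹ * a₁⁻¹)⁻¹) (by group)
      (h.chief_central hT hN ha (inv_mem hline)) k
    have : x * a₁ ^ k * x⁻¹ * (a₁ ^ k)⁻¹ = ((x * a₁ * x⁻¹ * a₁⁻¹)⁻¹ ^ k)⁻¹ := by
      calc _ = x * (a₁ ^ k * x * (a₁ ^ k)⁻¹)⁻¹ := by group
        _ = _ := by rw [key]; group
    rw [this]
    exact inv_mem (pow_mem (inv_mem hline) k)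
  have h1 := hfix c hc hcv
  have hcN : c * (x * a₁ ^ k * x⁻¹ * (a₁ ^ k)⁻¹) * c⁻¹ ∈ J := by
    rw [h.chief_central hT hN hc hxa, mul_inv_cancel_right]; exact hxa
  have h2 := mul_mem h1 hcN
  have hjx : x * j * x⁻¹ = j := by rw [hxs j hj, mul_inv_cancel_right]
  have e : x * (c * (a₁ ^ k * j)) * x⁻¹ * (c * (a₁ ^ k * j))⁻¹ =
      (x * c * x⁻¹ * c⁻¹) * (c * (x * a₁ ^ k * x⁻¹ * (a₁ ^ k)⁻¹) * c⁻¹) := by
    calc _ = (x * c * x⁻¹) * (x * a₁ ^ k * x⁻¹) * (x * j * x⁻¹) * j⁻¹ * (a₁ ^ k)⁻¹ * c⁻¹ := by group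
      _ = _ := by rw [hjx]; group
  rw [e]
  exact h2

end Ctx

end CfsgLib.Bender.NRegK
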