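import Cfsg.Agent.Lib.Bender.Gen.NRegKInv

/-!
Owner: helper29. General Bender theorem, slice G3, fourth part: there is no chief factor above the largest
inverted normal subgroup of a two-point stabiliser.
-/

set_option autoImplicit false
set_option linter.style.haveILetI false
set_option linter.unusedSectionVars false

namespace CfsgLib.Bender.NRegK

open Subgroup MulAction Polynomial
open CfsgLib.Signalizer (involution_sq involution_inv orderOf_eq_two_of involution_ne_one)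
open scoped commutatorElement

universe u

/-- An automorphism of prime order of an elementary abelian group has an eigenvector when the ground field
has the roots of unity. -/
theorem exists_eigen {A : Type*} [CommGroup A] [Finite A] [Nontrivial A] {r q : ℕ} [Fact r.Prime]
    (hexp : ∀ x : A, x ^ r = 1) (T : MulAut A) (hq : 0 < q) (hT : T ^ q = 1) {ζ : ZMod r}
    (hζ : IsPrimitiveRoot ζ q) : ∃ (c : A) (k : ℕ), c ≠ 1 ∧ T c = c ^ k := by
  classical
  letI : Module (ZMod r) (Additive A) := AddCommGroup.zmodModule (n := r) fun x => hexp x.toMul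
  haveI : Module.Finite (ZMod r) (Additive A) := Module.Finite.of_finite
  let f : Module.End (ZMod r) (Additive A) := (MonoidHom.toAdditive T.toMonoidHom).toZModLinearMap r
  have hpow : ∀ n : ℕ, ∀ x : A, (f ^ n) (Additive.ofMul x) = Additive.ofMul ((T ^ n) x) := by
    intro n
    induction n with
    | zero => intro x; rfl
    | succ n ih =>
      intro x
      rw [pow_succ', pow_succ', Module.End.mul_apply, ih, MulAut.mul_apply]
      rfl
  have hf : aeval f (X ^ q - 1 : (ZMod r)[X]) = 0 := by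
    rw [map_sub, map_pow, aeval_X, map_one, sub_eq_zero]
    refine LinearMap.ext fun x => ?_
    rw [show x = Additive.ofMul x.toMul from rfl, hpow, hT]
    rfl
  have hne : (X ^ q - 1 : (ZMod r)[X]) ≠ 0 := (monic_X_pow_sub_C 1 hq.ne').ne_zero
  have hdeg : (minpoly (ZMod r) f).degree ≠ 0 :=
    (minpoly.degree_pos (Algebra.IsIntegral.isIntegral f)).ne'
  obtain ⟨μ, hμ⟩ := ((X_pow_sub_one_splits hζ).of_dvd hne (minpoly.dvd _ f hf)).exists_eval_eq_zero hdeg
  obtain ⟨x, hx⟩ := (Module.End.hasEigenvalue_of_isRoot hμ).exists_hasEigenvector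
  refine ⟨x.toMul, μ.val, fun e => hx.2 (congrArg Additive.ofMul e), ?_⟩
  have h1 : f x = (μ.val : ZMod r) • x := by
    rw [ZMod.natCast_val, ZMod.cast_id]; exact hx.apply_eq_smul
  rw [Nat.cast_smul_eq_nsmul] at h1
  exact congrArg Additive.toMul h1

section Group

variable {G : Type*} [Group G] [Finite G]

theorem conj_pow_pow {y c : G} {k : ℕ} (h : y * c * y⁻¹ = c ^ k) (n : ℕ) :
    y ^ n * c * (y ^ n)⁻¹ = c ^ k ^ n := by
  induction n with
  | zero => simp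
  | succ n ih =>
    calc y ^ (n + 1) * c * (y ^ (n + 1))⁻¹ = y * (y ^ n * c * (y ^ n)⁻¹) * y⁻¹ := by rw [pow_succ']; group
      _ = _ := by rw [ih, ← conj_pow, h, ← pow_mul, pow_succ']

theorem eq_pow_of_cyclic {r : ℕ} (hr : r.Prime) {g o z : G} (ho : o ∈ zpowers g) (hz : z ∈ zpowers g)
    (hor : o ^ r = 1) (hzr : z ^ r = 1) (ho1 : o ≠ 1) : ∃ j : ℕ, z = o ^ j := by
  obtain ⟨k, j, hj, e⟩ := mem_sup_of_cyclic hr (bot_le (a := zpowers g)) ho hz
    (fun e => ho1 (mem_bot.1 e)) (mem_bot.2 hor) (mem_bot.2 hzr)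
  exact ⟨k, by rw [e, mem_bot.1 hj, mul_one]⟩

theorem pow_eq_pow_of_cast {r : ℕ} {a : G} (ha : orderOf a = r) {m n : ℕ} (h : (m : ZMod r) = n) :
    a ^ m = a ^ n := by
  rw [pow_eq_pow_iff_modEq, ha]; exact (ZMod.natCast_eq_natCast_iff _ _ _).1 h

theorem cast_of_pow_eq_pow {r : ℕ} {a : G} (ha : orderOf a = r) {m n : ℕ} (h : a ^ m = a ^ n) :
    (m : ZMod r) = n := by
  rw [pow_eq_pow_iff_modEq, ha] at h; exact (ZMod.natCast_eq_natCast_iff _ _ _).2 h

end Group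

theorem quad_step {M : Type*} [CommGroup M] (A C U : M) (l : ℕ) :
    (A ^ 2 * C) ^ l * A ^ (l * l) * (A * C * U) = C ^ (l + 1) * A ^ ((l + 1) * (l + 1)) * U := by
  rw [mul_pow, ← pow_mul, show (l + 1) * (l + 1) = 2 * l + l * l + 1 by ring, pow_succ, pow_succ,
    pow_add A (2 * l) (l * l)]
  simp only [mul_comm, mul_assoc, mul_left_comm]

theorem quad_div {M : Type*} [CommGroup M] (A B U : M) (n : ℕ) :
    (A * B * U) ^ n * ((A⁻¹ * B * U) ^ n)⁻¹ = A ^ (2 * n) := by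
  rw [← div_eq_mul_inv, ← div_pow, mul_assoc A, mul_assoc A⁻¹, mul_div_mul_right_eq_div, div_inv_eq_mul,
    ← pow_two, ← pow_mul]

variable {G Ω : Type u} [Group G] [Finite G] [MulAction G Ω] [Finite Ω]

namespace Ctx

variable {a b : Ω} {v y : G} (h : Ctx a b v y) {J N : Subgroup G} {r : ℕ} (hT : Top a b v J)
  (hN : Chief a b v J N r)
include h hT hN

/-- The span centralises the fixed elements of the factor modulo `J`. -/
theorem chief_conj {c : G} (hc : c ∈ N) (hcv : c * v = v * c) {g : G} (hg : g ∈ span a b v J) :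
    g * c * g⁻¹ * c⁻¹ ∈ J ∧ (g * c * g⁻¹ * c⁻¹) ^ r = 1 := by
  have hJ : ∀ g ∈ span a b v J, g * c * g⁻¹ * c⁻¹ ∈ J := by
    let S : Subgroup G :=
      { carrier := {g | g ∈ span a b v J ∧ g * c * g⁻¹ * c⁻¹ ∈ J}
        one_mem' := ⟨one_mem _, by simp⟩
        mul_mem' := fun {g k} hg hk => ⟨mul_mem hg.1 hk.1, by
          have e : g * k * c * (g * k)⁻¹ * c⁻¹ =
              (g * (k * c * k⁻¹ * c⁻¹) * g⁻¹) * (g * c * g⁻¹ * c⁻¹) := by group
          rw [e, h.central hT hg.1 hk.2, mul_inv_cancel_right]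
          exact mul_mem hk.2 hg.2⟩
        inv_mem' := fun {g} hg => ⟨inv_mem hg.1, by
          have e : g⁻¹ * c * g⁻¹⁻¹ * c⁻¹ = g⁻¹ * (g * c * g⁻¹ * c⁻¹)⁻¹ * g := by group
          rw [e, h.central hT (inv_mem hg.1) (inv_mem hg.2), inv_mul_cancel_right]
          exact inv_mem hg.2⟩ }
    suffices span a b v J ≤ S from fun g hg => (this hg).2
    refine sup_le ((closure_le _).2 fun x hx => ⟨h.inv_mem_span hT hx, ?_⟩) fun j hj => ⟨h.le_span hT hj, ?_⟩
    · obtain ⟨c', u, hc', hc'v, hu, huN, e⟩ := h.split (h.chief_le hT hN) hN.v_mem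
        ((mem_normalizer_iff.1 (hN.normal hx.1) c).1 hc)
      have huJ := h.chief_inv hT hN u huN hu
      have hc'v' : v * c' * v⁻¹ = c' := by rw [← hc'v, mul_inv_cancel_right]
      have hcv' : v * c * v⁻¹ = c := by rw [← hcv, mul_inv_cancel_right]
      have e' : x⁻¹ * c * x = c' * u⁻¹ := by
        calc x⁻¹ * c * x = (v * x * v⁻¹) * (v * c * v⁻¹) * (v * x * v⁻¹)⁻¹ := by rw [hx.2, hcv', inv_inv]
          _ = v * (x * c * x⁻¹) * v⁻¹ := by group
          _ = (v * c' * v⁻¹) * (v * u * v⁻¹) := by rw [e]; group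
          _ = _ := by rw [hc'v', hu.2]
      have e2 : x * c * x⁻¹ = x⁻¹ * c * x * (u * u) := by rw [e', e]; group
      have hxu : x * (u * u) = u * u * x :=
        h.commute_inverted hT.inv hx (hT.normal hx.1) (mul_mem huJ huJ)
      have e3 : x * x * c * (x * x)⁻¹ = u * u * c := by
        calc x * x * c * (x * x)⁻¹ = x * (x * c * x⁻¹) * x⁻¹ := by group
          _ = c * (x * (u * u) * x⁻¹) := by rw [e2]; group
          _ = c * (u * u) := by rw [hxu, mul_inv_cancel_right]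
          _ = _ := h.chief_central hT hN hc (mul_mem huJ huJ)
      have key := conj_pow_central e3 ((show Commute x (u * u) from hxu).mul_left hxu).eq
        ((Nat.card (pairStab G a b) + 1) / 2)
      rw [sq_pow_half h.odd hx.1] at key
      rw [key, mul_inv_cancel_right]
      exact pow_mem (mul_mem huJ huJ) _
    · rw [← h.chief_central hT hN hc hj, mul_inv_cancel_right, mul_inv_cancel]
      exact one_mem _
  refine ⟨hJ g hg, ?_⟩
  set z := g * c * g⁻¹ * c⁻¹ with hz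
  have hzc : Commute z c := (h.chief_central hT hN hc (hJ g hg)).symm
  have h1 : (z * c) ^ r = g * c ^ r * g⁻¹ := by rw [hz, inv_mul_cancel_right, conj_pow]
  rwa [hzc.mul_pow, h.fix_pow hT hN hc hcv, mul_one, mul_one, mul_inv_cancel] at h1

/-- The final contradiction. -/
theorem no_chief : False := by
  classical
  haveI : Fact r.Prime := ⟨hN.prime⟩
  haveI : Fact (orderOf y).Prime := ⟨h.q_prime⟩
  set D := pairStab G a b with hD
  set P := span a b v J with hP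
  have hPD : P ≤ D := h.span_le hT
  have hcm : ∀ c ∈ N, c * v = v * c → c ≠ 1 → ∃ x, Inv a b v x ∧ x * c * x⁻¹ * c⁻¹ ≠ 1 := by
    intro c hc hcv hc1
    by_contra h0
    push Not at h0
    refine hc1 (h.eq_one_of_centralizes (h.chief_le hT hN hc) hcv fun x hx => ?_)
    have := h0 x hx
    rw [mul_inv_eq_one, mul_inv_eq_iff_eq_mul] at this
    exact this.symm
  have htwo : (2 : ZMod r) ≠ 0 := by
    intro e
    have h' : ((2 : ℕ) : ZMod r) = 0 := by exact_mod_cast e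
    rw [ZMod.natCast_eq_zero_iff] at h'
    have := (Nat.prime_dvd_prime_iff_eq hN.prime Nat.prime_two).1 h'
    exact Nat.not_even_iff_odd.2 (h.chief_odd hT hN) (this ▸ even_two)
  -- the order of `y` divides `r - 1`
  obtain ⟨c0, hc0, hc0v, hc01⟩ := h.exists_fix_ne hT hN
  obtain ⟨A0, ⟨g0, rfl⟩, -, hJA0⟩ := h.top_cyclic hT hN hc0 hc0v hc01
  obtain ⟨x0, hx0, ha01⟩ := hcm c0 hc0 hc0v hc01
  obtain ⟨ha0J, ha0r⟩ := h.chief_conj hT hN hc0 hc0v (h.inv_mem_span hT hx0)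
  set a0 := x0 * c0 * x0⁻¹ * c0⁻¹
  have hoa0 : orderOf a0 = r := orderOf_eq_prime ha0r ha01
  obtain ⟨l0, hl0⟩ := eq_pow_of_cyclic hN.prime (hJA0 ha0J)
    (hJA0 ((mem_normalizer_iff.1 (hT.normal h.y_mem) a0).1 ha0J)) ha0r
    (by rw [conj_pow, ha0r, mul_one, mul_inv_cancel]) ha01
  have hζ : IsPrimitiveRoot (l0 : ZMod r) (orderOf y) := by
    rw [IsPrimitiveRoot.iff_orderOf]
    refine orderOf_eq_prime ?_ fun e => ha01 (h.eq_one_of_commute (hT.inv _ ha0J) ?_)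
    · have := conj_pow_pow hl0 (orderOf y)
      rw [pow_orderOf_eq_one, one_mul, inv_one, mul_one] at this
      rw [← Nat.cast_pow, ← Nat.cast_one]
      exact cast_of_pow_eq_pow hoa0 (by rw [← this, pow_one])
    · rw [← mul_inv_eq_iff_eq_mul, hl0, pow_eq_pow_of_cast hoa0 (e.trans Nat.cast_one.symm), pow_one]
  -- an eigenvector
  set F := N ⊓ centralizer ({v} : Set G) with hF
  letI : CommGroup F :=
    { (inferInstance : Group F) with
      mul_comm := fun g k => Subtype.ext (h.fix_comm hT hN g.2.1 (mem_centralizer_singleton_iff.1 g.2.2)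
        k.2.1 (mem_centralizer_singleton_iff.1 k.2.2)) }
  haveI : Nontrivial F := ⟨⟨⟨c0, hc0, mem_centralizer_singleton_iff.2 hc0v⟩, 1,
    fun e => hc01 (congrArg Subtype.val e)⟩⟩
  have hyF : y ∈ normalizer (F : Set G) := mem_normalizer_of_conj_le fun g hg =>
    ⟨(mem_normalizer_iff.1 (hN.normal h.y_mem) g).1 hg.1, mem_centralizer_singleton_iff.2
      (((show Commute y v from h.hyv).mul_left (mem_centralizer_singleton_iff.1 hg.2)).mul_left
        (show Commute y v from h.hyv).inv_left).eq⟩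
  obtain ⟨⟨c, hcN, hcv0⟩, k, hc1', hk0⟩ := exists_eigen (A := F)
    (fun g => Subtype.ext (h.fix_pow hT hN g.2.1 (mem_centralizer_singleton_iff.1 g.2.2)))
    (F.normalizerMonoidHom ⟨y, hyF⟩) h.q_prime.pos
    (by
      rw [← map_pow, ← map_one F.normalizerMonoidHom]
      exact congrArg _ (Subtype.ext (pow_orderOf_eq_one y))) hζ
  have hc1 : c ≠ 1 := fun e => hc1' (Subtype.ext e)
  have hk : y * c * y⁻¹ = c ^ k := congrArg Subtype.val hk0
  have hcv : c * v = v * c := mem_centralizer_singleton_iff.1 hcv0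
  have hcP : c ∈ P := hN.le hcN
  have hoc : orderOf c = r := orderOf_eq_prime (h.fix_pow hT hN hcN hcv) hc1
  have hkq : (k : ZMod r) ^ orderOf y = 1 := by
    have := conj_pow_pow hk (orderOf y)
    rw [pow_orderOf_eq_one, one_mul, inv_one, mul_one] at this
    rw [← Nat.cast_pow, ← Nat.cast_one]
    exact cast_of_pow_eq_pow hoc (by rw [← this, pow_one])
  have hk0' : (k : ZMod r) ≠ 0 := fun e => by
    rw [e, zero_pow h.q_prime.ne_zero] at hkq; exact zero_ne_one hkq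
  obtain ⟨x', hx', ha1⟩ := hcm c hcN hcv hc1
  obtain ⟨haJ, har⟩ := h.chief_conj hT hN hcN hcv (h.inv_mem_span hT hx')
  set a' := x' * c * x'⁻¹ * c⁻¹ with ha'
  have hoa : orderOf a' = r := orderOf_eq_prime har ha1
  have hx'P : x' ∈ P := h.inv_mem_span hT hx'
  have hxc : x' * c * x'⁻¹ = a' * c := by rw [ha']; group
  have haP : a' ∈ P := h.le_span hT haJ
  have hacen : ∀ g ∈ P, g * a' = a' * g := fun g hg => h.central hT hg haJ
  -- the torus of `c`
  obtain ⟨A', -, hA', hcardA'⟩ := h.inv_torus (h.chief_le hT hN hcN) hcv hc1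
  have hcpos : 1 < Nat.card {u : G // InvAt u a ∧ c * u = u * c} := by
    rw [← hcardA', Finite.one_lt_card_iff_nontrivial]
    exact ⟨⟨a', (hA' a').2 ⟨hT.inv _ haJ, hacen c hcP⟩⟩, 1, fun e => ha1 (congrArg Subtype.val e)⟩
  obtain ⟨⟨s, hs, hcs⟩, ⟨t, ht, hct⟩, hst⟩ := (Finite.one_lt_card_iff_nontrivial.1 hcpos).exists_pair_ne
  obtain ⟨A, e, he2, hcardA, ⟨g, hgA, hgen⟩, hmem, hgal, -⟩ :=
    h.torus c s t (h.chief_le hT hN hcN) hc1 hcv hs ht (fun e => hst (Subtype.ext e)) hcs hct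
  have hmemA : ∀ x, x ∈ A ↔ Inv a b v x ∧ c * x = x * c := fun x => by rw [hmem]; simp only [Inv, and_assoc]
  have haA : a' ∈ A := (hmemA _).2 ⟨hT.inv _ haJ, hacen c hcP⟩
  have homega : ∀ z ∈ A, z ^ r = 1 → ∃ j : ℕ, z = a' ^ j := fun z hz hzr =>
    eq_pow_of_cyclic hN.prime (g := g) (hgen ▸ haA) (hgen ▸ hz) har hzr ha1
  have hA_comm : ∀ x ∈ A, ∀ z ∈ A, x * z = z * x := fun x hx z hz =>
    h.commute_of_torus (h.chief_le hT hN hcN) hcv hc1 ((hmemA x).1 hx).1 ((hmemA x).1 hx).2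
      ((hmemA z).1 hz).1 ((hmemA z).1 hz).2
  obtain ⟨i, hi, hyA⟩ := hgal y h.y_mem h.hyv (by rw [hk]; exact npow_mem_zpowers c k)
  have hog : orderOf g = 2 ^ e - 1 := by rw [← hcardA, hgen, Nat.card_zpowers]
  have hie : Nat.gcd i e = 1 := by
    set d := Nat.gcd i e
    have hd0 : 0 < d := Nat.gcd_pos_of_pos_right i (by omega)
    by_contra hd
    have hdvd : 2 ^ d - 1 ∣ 2 ^ e - 1 := Nat.pow_sub_one_dvd_pow_sub_one _ (Nat.gcd_dvd_right i e)
    have h2d : 1 < 2 ^ d - 1 := by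
      have : 2 ^ 2 ≤ 2 ^ d := Nat.pow_le_pow_right (by omega) (by omega)
      omega
    set x := g ^ ((2 ^ e - 1) / (2 ^ d - 1)) with hx
    have hxA : x ∈ A := pow_mem hgA _
    have hxd : x ^ (2 ^ d - 1) = 1 := by
      rw [hx, ← pow_mul, Nat.div_mul_cancel hdvd, ← hog, pow_orderOf_eq_one]
    have hxi : x ^ 2 ^ i = x := by
      obtain ⟨l, hl⟩ := Nat.pow_sub_one_dvd_pow_sub_one 2 (Nat.gcd_dvd_left i e)
      rw [show 2 ^ i = (2 ^ i - 1) + 1 from (Nat.sub_add_cancel Nat.one_le_two_pow).symm, pow_succ, hl,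
        pow_mul, hxd, one_pow, one_mul]
    have hx1 : x = 1 := h.eq_one_of_commute ((hmemA x).1 hxA).1
      (mul_inv_eq_iff_eq_mul.1 ((hyA x hxA).trans hxi))
    rw [hx] at hx1
    have hd2 : (2 ^ e - 1) ∣ (2 ^ e - 1) / (2 ^ d - 1) := hog.symm.dvd.trans (orderOf_dvd_of_pow_eq_one hx1)
    have he1 : 0 < 2 ^ e - 1 := by
      have : 2 ^ 2 ≤ 2 ^ e := Nat.pow_le_pow_right (by omega) he2
      omega
    exact absurd (Nat.le_of_dvd (Nat.div_pos (Nat.le_of_dvd he1 hdvd) (by omega)) hd2)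
      (not_le.2 (Nat.div_lt_self he1 h2d))
  have heq : e = orderOf y := by
    have hgq : g ^ (2 ^ i) ^ orderOf y = g := by
      have := conj_pow_pow (hyA g hgA) (orderOf y)
      rw [pow_orderOf_eq_one, one_mul, inv_one, mul_one] at this
      exact this.symm
    have hdvd : 2 ^ e - 1 ∣ 2 ^ (i * orderOf y) - 1 := by
      rw [← hog, orderOf_dvd_iff_pow_eq_one]
      rw [← pow_mul, ← Nat.sub_add_cancel (Nat.one_le_two_pow (n := i * orderOf y)), pow_succ,
        mul_eq_right] at hgq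
      exact hgq
    have hgcd := Nat.pow_sub_one_gcd_pow_sub_one 2 e (i * orderOf y)
    rw [Nat.gcd_eq_left hdvd] at hgcd
    have h1 : 2 ^ e = 2 ^ Nat.gcd e (i * orderOf y) := by
      have := Nat.one_le_two_pow (n := e)
      have := Nat.one_le_two_pow (n := Nat.gcd e (i * orderOf y))
      omega
    have h2 : e ∣ i * orderOf y := by
      rw [Nat.pow_right_injective le_rfl h1]; exact Nat.gcd_dvd_right _ _
    rcases (Nat.dvd_prime h.q_prime).1 ((Nat.Coprime.symm hie).dvd_of_dvd_mul_left h2) with e1 | e1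
    · omega
    · exact e1
  have h2q : (2 : ZMod r) ^ e = 1 := by
    have h1 : r ∣ 2 ^ e - 1 := by rw [← hog, ← hoa]; exact orderOf_dvd_of_mem_zpowers (hgen ▸ haA)
    rw [← ZMod.natCast_eq_zero_iff, Nat.cast_sub Nat.one_le_two_pow, sub_eq_zero] at h1
    simpa using h1
  have hord2 : orderOf (2 : ZMod r) = e := by
    haveI : Fact e.Prime := ⟨heq ▸ h.q_prime⟩
    refine orderOf_eq_prime h2q fun e1 => one_ne_zero (α := ZMod r) ?_
    linear_combination e1
  -- the centraliser of `c` in the span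
  set C := P ⊓ centralizer ({c} : Set G) with hC
  have hmemC : ∀ z, z ∈ C ↔ z ∈ P ∧ z * c = c * z := fun z => by
    rw [hC, mem_inf, mem_centralizer_singleton_iff]
  have hCD : C ≤ D := inf_le_left.trans hPD
  have hCc : ∀ z, z ∈ P → z * c * z⁻¹ * c⁻¹ = 1 → z ∈ C := fun z hz e1 =>
    (hmemC z).2 ⟨hz, by rwa [mul_inv_eq_one, mul_inv_eq_iff_eq_mul] at e1⟩
  have hcC : c ∈ C := (hmemC c).2 ⟨hcP, rfl⟩
  have haC : a' ∈ C := (hmemC a').2 ⟨haP, (hacen c hcP).symm⟩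
  have hCA : ∀ u ∈ C, Inv a b v u → u ∈ A := fun u hu hui =>
    (hmemA u).2 ⟨hui, ((hmemC u).1 hu).2.symm⟩
  have hgalC : ∀ z ∈ C, z * v = v * z → ∀ u ∈ A, z * u = u * z := by
    intro z hz hzv u hu
    have hzc := ((hmemC z).1 hz).2
    obtain ⟨j, hj, hjA⟩ := hgal z (hCD hz) hzv (by rw [hzc, mul_inv_cancel_right]; exact mem_zpowers c)
    have h1 : a' ^ 1 = a' ^ 2 ^ j := by
      rw [pow_one, ← hjA a' haA, hacen z ((hmemC z).1 hz).1, mul_inv_cancel_right]
    have h2 := cast_of_pow_eq_pow hoa h1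
    rw [Nat.cast_one, Nat.cast_pow, Nat.cast_ofNat, eq_comm, ← orderOf_dvd_iff_pow_eq_one, hord2] at h2
    have hj0 : j = 0 := Nat.eq_zero_of_dvd_of_lt h2 hj
    have := hjA u hu
    rw [hj0, pow_zero, pow_one, mul_inv_eq_iff_eq_mul] at this
    exact this
  have hvC : v ∈ normalizer (C : Set G) := by
    refine mem_normalizer_of_conj_le fun z hz => (hmemC _).2
      ⟨(mem_normalizer_iff.1 (h.v_mem_span hT) z).1 ((hmemC z).1 hz).1, ?_⟩
    exact (((show Commute v c from hcv.symm).mul_left ((hmemC z).1 hz).2).mul_left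
      (show Commute v c from hcv.symm).inv_left).eq
  have hcentC : ∀ u ∈ C, Inv a b v u → ∀ z ∈ C, u * z = z * u := by
    intro u hu hui z hz
    obtain ⟨z', w, hz', hz'v, hw, hwC, rfl⟩ := h.split hCD hvC hz
    exact ((show Commute u z' from (hgalC z' hz' hz'v u (hCA u hu hui)).symm).mul_right
      (hA_comm u (hCA u hu hui) w (hCA w hwC hw))).eq
  have hxC : x' ∈ normalizer (C : Set G) := by
    refine mem_normalizer_of_conj_le fun z hz => ?_
    obtain ⟨hzP, hzc⟩ := (hmemC z).1 hz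
    refine (hmemC _).2 ⟨mul_mem (mul_mem hx'P hzP) (inv_mem hx'P), ?_⟩
    have e1 : x'⁻¹ * c * x' = a'⁻¹ * c := by
      have h1 : x'⁻¹ * (x' * c * x'⁻¹) * x' = x'⁻¹ * (a' * c) * x' := by rw [hxc]
      rw [show x'⁻¹ * (x' * c * x'⁻¹) * x' = c by group, ← mul_assoc x'⁻¹,
        hacen x'⁻¹ (inv_mem hx'P), mul_assoc a', mul_assoc a'] at h1
      conv_rhs => rw [h1]
      group
    have hza : Commute z (a'⁻¹ * c) := ((show Commute z a' from hacen z hzP).inv_right).mul_right hzc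
    calc x' * z * x'⁻¹ * c = x' * (z * (x'⁻¹ * c * x')) * x'⁻¹ := by group
      _ = x' * (x'⁻¹ * c * x' * z) * x'⁻¹ := by rw [e1, hza.eq]
      _ = c * (x' * z * x'⁻¹) := by group
  have hyC : y ∈ normalizer (C : Set G) := by
    refine mem_normalizer_of_conj_le fun z hz => ?_
    obtain ⟨hzP, hzc⟩ := (hmemC z).1 hz
    refine (hmemC _).2 ⟨(mem_normalizer_iff.1 (h.span_normal hT h.y_mem) z).1 hzP, ?_⟩
    have h1 : Commute (y * z * y⁻¹) (c ^ k) := by
      rw [← hk]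
      calc y * z * y⁻¹ * (y * c * y⁻¹) = y * (z * c) * y⁻¹ := by group
        _ = y * (c * z) * y⁻¹ := by rw [hzc]
        _ = _ := by group
    have h2 : c = (c ^ k) ^ ((k : ZMod r)⁻¹).val := by
      rw [← pow_mul]
      conv_lhs => rw [← pow_one c]
      refine pow_eq_pow_of_cast hoc ?_
      rw [Nat.cast_mul, Nat.cast_one, ZMod.natCast_val, ZMod.cast_id', id_eq, mul_inv_cancel₀ hk0']
    rw [h2]; exact (h1.pow_right _).eq
  -- the weight of `x'`
  set x'' := y * x' * y⁻¹ with hx''def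
  have hx'' : Inv a b v x'' := h.inv_conj_y hx'
  have hx''P : x'' ∈ P := h.inv_mem_span hT hx''
  obtain ⟨hbJ, hbr⟩ := h.chief_conj hT hN hcN hcv hx''P
  obtain ⟨j0, hj0⟩ := homega _ ((hmemA _).2 ⟨hT.inv _ hbJ, h.central hT hcP hbJ⟩) hbr
  set l := ((j0 : ZMod r) * (2 : ZMod r)⁻¹).val with hldef
  set μ := l + l with hμdef
  have hμj : (μ : ZMod r) = j0 := by
    rw [hμdef, Nat.cast_add, hldef, ZMod.natCast_val, ZMod.cast_id', id_eq]
    field_simp
    ring
  have hx''c : x'' * c * x''⁻¹ = a' ^ μ * c := by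
    rw [pow_eq_pow_of_cast hoa hμj, ← hj0]; group
  have hμk : (μ : ZMod r) * k = (2 : ZMod r) ^ i := by
    have hac : Commute (a' ^ μ) c := ((show Commute c a' from hacen c hcP).pow_right μ).symm
    have e1 : x'' * c ^ k * x''⁻¹ = a' ^ (μ * k) * c ^ k := by
      rw [← conj_pow, hx''c, hac.mul_pow, ← pow_mul]
    have e2 : x'' * c ^ k * x''⁻¹ = a' ^ 2 ^ i * c ^ k := by
      rw [← hyA a' haA, ← hk]
      calc x'' * (y * c * y⁻¹) * x''⁻¹ = y * (x' * c * x'⁻¹) * y⁻¹ := by rw [hx''def]; group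
        _ = _ := by rw [hxc]; group
    have := cast_of_pow_eq_pow hoa (mul_right_cancel (e1.symm.trans e2))
    simpa using this
  have hμq : (μ : ZMod r) ^ orderOf y = 1 := by
    have : ((μ : ZMod r) * k) ^ orderOf y = 1 := by
      rw [hμk, ← pow_mul, mul_comm, pow_mul, ← heq, h2q, one_pow]
    rwa [mul_pow, hkq, mul_one] at this
  have hxμ : x' ^ μ * c * (x' ^ μ)⁻¹ = a' ^ μ * c := conj_pow_central hxc (hacen x' hx'P) μ
  set w := (x' ^ μ)⁻¹ * x'' with hwdef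
  have hwC : w ∈ C := hCc w (mul_mem (inv_mem (pow_mem hx'P μ)) hx''P) (by
    rw [show w * c * w⁻¹ = (x' ^ μ)⁻¹ * (x'' * c * x''⁻¹) * x' ^ μ by rw [hwdef]; group, hx''c, ← hxμ]
    group)
  have hμ1 : (μ : ZMod r) ≠ 1 := by
    intro e1
    have hxμ' : x'⁻¹ * (y * x' * y⁻¹) ∈ C := hCc _ (mul_mem (inv_mem hx'P) hx''P) (by
      rw [← hx''def, show x'⁻¹ * x'' * c * (x'⁻¹ * x'')⁻¹ = x'⁻¹ * (x'' * c * x''⁻¹) * x' by group, hx''c,
        pow_eq_pow_of_cast hoa (e1.trans Nat.cast_one.symm), pow_one, ← hxc]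
      group)
    have hxC' := h.mem_of_coset hyC hx' hxC hxμ'
    exact ha1 (by rw [ha', ((hmemC x').1 hxC').2, mul_inv_cancel_right, mul_inv_cancel])
  have hμm1 : (μ : ZMod r) * μ ≠ 1 := by
    intro e1
    rcases mul_self_eq_one_iff.1 e1 with e2 | e2
    · exact hμ1 e2
    · rw [e2, (h.odd.of_dvd_nat (D.orderOf_dvd_natCard h.y_mem)).neg_one_pow] at hμq
      exact htwo (by linear_combination -hμq)
  -- elements of the span
  have hdec : ∀ z ∈ P, ∃ j : ℕ, (x' ^ j)⁻¹ * z ∈ C := by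
    intro z hz
    obtain ⟨hzJ, hzr⟩ := h.chief_conj hT hN hcN hcv hz
    obtain ⟨j, hj⟩ := homega _ ((hmemA _).2 ⟨hT.inv _ hzJ, h.central hT hcP hzJ⟩) hzr
    refine ⟨j, hCc _ (mul_mem (inv_mem (pow_mem hx'P j)) hz) ?_⟩
    have e1 : z * c * z⁻¹ = a' ^ j * c := by rw [← hj]; group
    rw [show (x' ^ j)⁻¹ * z * c * ((x' ^ j)⁻¹ * z)⁻¹ = (x' ^ j)⁻¹ * (z * c * z⁻¹) * x' ^ j by group, e1,
      ← conj_pow_central hxc (hacen x' hx'P) j]
    group
  have hrC : x' ^ r ∈ C := hCc _ (pow_mem hx'P r) (by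
    rw [conj_pow_central hxc (hacen x' hx'P) r, har, one_mul, mul_inv_cancel])
  -- the centre of `C`
  set M := C ⊓ centralizer (C : Set G) with hM
  have hmemM : ∀ z, z ∈ M ↔ z ∈ C ∧ ∀ u ∈ C, u * z = z * u := fun z => by
    rw [hM, mem_inf, mem_centralizer_iff]; rfl
  have hMn : ∀ d, d ∈ normalizer (C : Set G) → d ∈ normalizer (M : Set G) := fun d hd =>
    mem_normalizer_of_map_conj_eq (by
      rw [hM, Subgroup.map_inf _ _ _ (MulAut.conj d).injective, map_conj_eq_of_mem_normalizer hd,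
        map_conj_eq_of_mem_normalizer (le_normalizer_centralizer C hd)])
  have hMc : ∀ z ∈ M, ∀ z' ∈ M, z * z' = z' * z := fun z hz z' hz' =>
    ((hmemM z').1 hz').2 z ((hmemM z).1 hz).1
  have hinvM : ∀ u ∈ C, Inv a b v u → u ∈ M := fun u hu hui =>
    (hmemM u).2 ⟨hu, fun z hz => (hcentC u hu hui z hz).symm⟩
  letI : CommGroup M :=
    { (inferInstance : Group M) with mul_comm := fun z z' => Subtype.ext (hMc z z.2 z' z'.2) }
  have hcM : c ∈ M := (hmemM c).2 ⟨hcC, fun u hu => ((hmemC u).1 hu).2⟩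
  have haM : a' ∈ M := hinvM a' haC (hT.inv _ haJ)
  let L : G → G := fun z => x' * z * x'⁻¹ * (x'⁻¹ * z * x')⁻¹
  have hτ : ∀ z ∈ M, x' * z * x'⁻¹ ∈ M ∧ x'⁻¹ * z * x' ∈ M := fun z hz =>
    ⟨(mem_normalizer_iff.1 (hMn x' hxC) z).1 hz, (mem_normalizer_iff''.1 (hMn x' hxC) z).1 hz⟩
  have hLM : ∀ z ∈ M, L z ∈ M := fun z hz => mul_mem (hτ z hz).1 (inv_mem (hτ z hz).2)
  have hLmul : ∀ z ∈ M, ∀ z' ∈ M, L (z * z') = L z * L z' := by
    intro z hz z' hz'
    show x' * (z * z') * x'⁻¹ * (x'⁻¹ * (z * z') * x')⁻¹ = _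
    calc _ = x' * z * x'⁻¹ * ((x' * z' * x'⁻¹ * (x'⁻¹ * z' * x')⁻¹) * (x'⁻¹ * z * x')⁻¹) := by group
      _ = _ := by rw [hMc _ (hLM z' hz') _ (inv_mem (hτ z hz).2)]; simp only [L, mul_assoc]
  have hLpow : ∀ z ∈ M, ∀ n : ℕ, L (z ^ n) = L z ^ n := by
    intro z hz n
    induction n with
    | zero => simp [L]
    | succ n ih => rw [pow_succ, hLmul _ (pow_mem hz n) _ hz, ih, pow_succ]
  have hLfix : ∀ z ∈ M, z * v = v * z → Inv a b v (L z) := fun z hz hzv => by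
    refine ⟨hCD ((hmemM _).1 (hLM z hz)).1, ?_⟩
    have hzv' : v * z * v⁻¹ = z := by rw [← hzv, mul_inv_cancel_right]
    calc v * L z * v⁻¹ = (v * x' * v⁻¹) * (v * z * v⁻¹) * (v * x' * v⁻¹)⁻¹ *
          ((v * x' * v⁻¹)⁻¹ * (v * z * v⁻¹) * (v * x' * v⁻¹))⁻¹ := by simp only [L]; group
      _ = (L z)⁻¹ := by rw [hx'.2, hzv']; simp only [L, inv_inv, mul_inv_rev, mul_assoc]
  have hLinv : ∀ z ∈ M, Inv a b v z → L z * v = v * L z := fun z hz hzi => by
    refine (mul_inv_eq_iff_eq_mul.1 ?_).symm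
    calc v * L z * v⁻¹ = (v * x' * v⁻¹) * (v * z * v⁻¹) * (v * x' * v⁻¹)⁻¹ *
          ((v * x' * v⁻¹)⁻¹ * (v * z * v⁻¹) * (v * x' * v⁻¹))⁻¹ := by simp only [L]; group
      _ = (x'⁻¹ * z * x')⁻¹ * (x' * z * x'⁻¹) := by rw [hx'.2, hzi.2]; group
      _ = L z := hMc _ (inv_mem (hτ z hz).2) _ (hτ z hz).1
  have hL1 : ∀ z ∈ M, L z = 1 → x' * z = z * x' := fun z hz e1 => by
    refine (commute_of_sq h.odd hx'.1 (mul_inv_eq_iff_eq_mul.1 ?_)).eq
    have e2 : x' * z * x'⁻¹ = x'⁻¹ * z * x' := mul_inv_eq_one.1 e1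
    calc x' * x' * z * (x' * x')⁻¹ = x' * (x' * z * x'⁻¹) * x'⁻¹ := by group
      _ = z := by rw [e2]; group
  have hinj : ∀ z ∈ M, z * v = v * z → L z = 1 → z = 1 := fun z hz hzv e1 => by
    refine h.eq_one_of_centralizes (hCD ((hmemM z).1 hz).1) hzv fun x hx => ?_
    obtain ⟨j, hj⟩ := hdec x (h.inv_mem_span hT hx)
    have h1 : Commute z ((x' ^ j) * ((x' ^ j)⁻¹ * x)) :=
      ((show Commute x' z from hL1 z hz e1).symm.pow_right j).mul_right (((hmemM z).1 hz).2 _ hj).symm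
    rwa [mul_inv_cancel_left] at h1
  have hLc : L c = a' * a' := by
    show x' * c * x'⁻¹ * (x'⁻¹ * c * x')⁻¹ = _
    have e1 : x'⁻¹ * c * x' = v * (x' * c * x'⁻¹) * v⁻¹ := by
      calc x'⁻¹ * c * x' = (v * x' * v⁻¹) * c * (v * x' * v⁻¹)⁻¹ := by rw [hx'.2, inv_inv]
        _ = v * x' * (v⁻¹ * c * v) * x'⁻¹ * v⁻¹ := by group
        _ = _ := by rw [show v⁻¹ * c * v = c by rw [mul_assoc, hcv, inv_mul_cancel_left]]; group
    have hcv' : v * c * v⁻¹ = c := by rw [← hcv, mul_inv_cancel_right]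
    rw [e1, hxc, show v * (a' * c) * v⁻¹ = v * a' * v⁻¹ * (v * c * v⁻¹) by group, (hT.inv _ haJ).2, hcv',
      mul_inv_rev, inv_inv]
    group
  have hfixr : ∀ z ∈ M, z * v = v * z → z ^ r = 1 → ∃ j : ℕ, z = c ^ j := by
    intro z hz hzv hzr
    obtain ⟨j, hj⟩ := homega (L z) (hCA _ ((hmemM _).1 (hLM z hz)).1 (hLfix z hz hzv))
      (by rw [← hLpow z hz, hzr]; simp [L])
    set n := ((j : ZMod r) * (2 : ZMod r)⁻¹).val with hn
    have hnj : ((n + n : ℕ) : ZMod r) = j := by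
      rw [Nat.cast_add, hn, ZMod.natCast_val, ZMod.cast_id', id_eq]; field_simp; ring
    refine ⟨n, eq_of_inv_mul_eq_one (a := z) ?_ ⟩
    refine hinj _ (mul_mem (inv_mem hz) (pow_mem hcM n))
      ((show Commute z v from hzv).inv_left.mul_left ((show Commute c v from hcv).pow_left n)).eq ?_
    have h1 : L z⁻¹ * L z = 1 := by rw [← hLmul _ (inv_mem hz) z hz, inv_mul_cancel]; simp [L]
    rw [hLmul _ (inv_mem hz) _ (pow_mem hcM n), hLpow c hcM, hLc, eq_inv_of_mul_eq_one_left h1, hj,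
      (Commute.refl a').mul_pow, ← pow_add, pow_eq_pow_of_cast hoa hnj, inv_mul_cancel]
  -- the fixed part of the centre is an `r`-group
  have hfixp : ∀ h' : ℕ, h'.Prime → h' ≠ r → ∀ z ∈ M, z * v = v * z → z ^ h' = 1 → z = 1 := by
    intro p hp hpr z hz hzv hzp
    by_contra hz1
    haveI : Fact p.Prime := ⟨hp⟩
    have hozp : orderOf z = p := orderOf_eq_prime hzp hz1
    have hpodd : Odd p := hozp ▸ h.odd.of_dvd_nat (D.orderOf_dvd_natCard (hCD ((hmemM z).1 hz).1))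
    set u0 := L z with hu0
    have hu0M : u0 ∈ M := hLM z hz
    have hu0i : Inv a b v u0 := hLfix z hz hzv
    have hu01 : u0 ≠ 1 := fun e1 => hz1 (hinj z hz hzv e1)
    have hu0p : u0 ^ p = 1 := by rw [hu0, ← hLpow z hz, hzp]; simp [L]
    have hinvp : ∀ u ∈ M, Inv a b v u → u ^ p = 1 → u ∈ zpowers u0 := fun u hu hui hup => by
      obtain ⟨n, rfl⟩ := eq_pow_of_cyclic hp (g := g) (hgen ▸ hCA _ ((hmemM _).1 hu0M).1 hu0i)
        (hgen ▸ hCA u ((hmemM u).1 hu).1 hui) hu0p hup hu01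
      exact npow_mem_zpowers _ n
    have hfixz : ∀ u ∈ M, u * v = v * u → u ^ p = 1 → u ∈ zpowers z := fun u hu huv hup => by
      obtain ⟨n, hn⟩ := mem_zpowers_iff.1 (hinvp _ (hLM u hu) (hLfix u hu huv)
        (by rw [← hLpow u hu, hup]; simp [L]))
      set m := (n % (p : ℤ)).toNat
      have hm : u0 ^ m = L u := by
        rw [← hn, ← zpow_natCast, Int.toNat_of_nonneg (Int.emod_nonneg _ (by exact_mod_cast hp.ne_zero))]
        conv_rhs => rw [← zpow_mod_orderOf, orderOf_eq_prime hu0p hu01]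
      have h1 : L u⁻¹ * L u = 1 := by rw [← hLmul _ (inv_mem hu) u hu, inv_mul_cancel]; simp [L]
      have h2 := hinj (u⁻¹ * z ^ m) (mul_mem (inv_mem hu) (pow_mem hz m))
        ((show Commute u v from huv).inv_left.mul_left ((show Commute z v from hzv).pow_left m)).eq
        (by rw [hLmul _ (inv_mem hu) _ (pow_mem hz m), hLpow z hz, ← hu0, hm, h1])
      rw [eq_of_inv_mul_eq_one h2]
      exact npow_mem_zpowers z m
    let W : Subgroup G :=
      { carrier := {g | g ∈ M ∧ g ^ p = 1}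
        one_mem' := ⟨one_mem _, one_pow p⟩
        mul_mem' := fun {g k} hg hk => ⟨mul_mem hg.1 hk.1, by
          rw [(show Commute g k from hMc g hg.1 k hk.1).mul_pow, hg.2, hk.2, one_mul]⟩
        inv_mem' := fun {g} hg => ⟨inv_mem hg.1, by rw [_root_.inv_pow, hg.2, inv_one]⟩ }
    letI : CommGroup W :=
      { (inferInstance : Group W) with mul_comm := fun g k => Subtype.ext (hMc g g.2.1 k k.2.1) }
    have hWn : ∀ d, d ∈ normalizer (C : Set G) → d ∈ normalizer (W : Set G) := fun d hd =>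
      mem_normalizer_of_conj_le fun g hg =>
        ⟨(mem_normalizer_iff.1 (hMn d hd) g).1 hg.1, by rw [conj_pow, hg.2, mul_one, mul_inv_cancel]⟩
    let φ := W.normalizerMonoidHom
    let vb := φ ⟨v, hWn v hvC⟩
    let yb := φ ⟨y, hWn y hyC⟩
    let τb := φ ⟨x', hWn x' hxC⟩
    have hrefl : Refl p vb (⟨u0, hu0M, hu0p⟩ : W) ⟨z, hz, hzp⟩ := by
      refine ⟨hpodd, fun g => Subtype.ext g.2.2, ?_, Subtype.ext hu0i.2,
        Subtype.ext (show v * z * v⁻¹ = z by rw [← hzv, mul_inv_cancel_right]),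
        fun e1 => hu01 (congrArg Subtype.val e1), fun e1 => hz1 (congrArg Subtype.val e1)⟩
      let f : zpowers z × zpowers u0 → W := fun q => ⟨(q.1 : G) * q.2, W.mul_mem
        (zpowers_le.2 (show z ∈ W from ⟨hz, hzp⟩) q.1.2) (zpowers_le.2 (show u0 ∈ W from ⟨hu0M, hu0p⟩) q.2.2)⟩
      have hfb : Function.Bijective f := by
        have hdisj : Disjoint (zpowers z) (zpowers u0) := by
          rw [disjoint_def]
          intro g hg1 hg2
          obtain ⟨n, rfl⟩ := mem_zpowers_iff.1 hg1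
          obtain ⟨m, hm⟩ := mem_zpowers_iff.1 hg2
          refine eq_one_of_eq_inv h.odd (zpow_mem (hCD ((hmemM z).1 hz).1) n) ?_
          calc z ^ n = v * z ^ n * v⁻¹ := by
                rw [← ((show Commute z v from hzv).zpow_left n).eq, mul_inv_cancel_right]
            _ = (z ^ n)⁻¹ := by rw [← hm, ← conj_zpow, hu0i.2, inv_zpow]
        refine ⟨fun q q' e1 => mul_injective_of_disjoint hdisj (congrArg Subtype.val e1), fun g => ?_⟩
        have hWC : W ≤ D := fun g hg => hCD ((hmemM g).1 hg.1).1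
        obtain ⟨d, u, hd, hdv, hu, huW, hdu⟩ := h.split hWC (hWn v hvC) g.2
        exact ⟨(⟨d, hfixz d hd.1 hdv hd.2⟩, ⟨u, hinvp u huW.1 hu huW.2⟩), Subtype.ext hdu.symm⟩
      rw [← Nat.card_congr (Equiv.ofBijective f hfb), Nat.card_prod, Nat.card_zpowers, Nat.card_zpowers,
        hozp, orderOf_eq_prime hu0p hu01, pow_two]
    have hτr : τb ^ r = 1 := by
      rw [← map_pow]
      refine MulEquiv.ext fun g => Subtype.ext ?_
      show x' ^ r * g * (x' ^ r)⁻¹ = g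
      rw [((hmemM g).1 g.2.1).2 _ hrC, mul_inv_cancel_right]
    have hτord : orderOf τb ∣ r := orderOf_dvd_of_pow_eq_one hτr
    have hconjW : yb * τb * yb⁻¹ = τb ^ μ := by
      rw [← map_inv, ← map_mul, ← map_mul, ← map_pow]
      refine MulEquiv.ext fun g => Subtype.ext ?_
      show x'' * g * x''⁻¹ = x' ^ μ * g * (x' ^ μ)⁻¹
      rw [show x'' = x' ^ μ * w by rw [hwdef, mul_inv_cancel_left], mul_inv_rev]
      have := ((hmemM g).1 g.2.1).2 w hwC
      calc x' ^ μ * w * g * (w⁻¹ * (x' ^ μ)⁻¹) = x' ^ μ * (w * g * w⁻¹) * (x' ^ μ)⁻¹ := by group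
        _ = _ := by rw [this, mul_inv_cancel_right]
    have hyv : Commute yb vb := by
      rw [Commute, SemiconjBy, ← map_mul, ← map_mul]
      exact congrArg φ (Subtype.ext h.hyv)
    have hyo : Odd (orderOf yb) := (h.odd.of_dvd_nat (D.orderOf_dvd_natCard h.y_mem)).of_dvd_nat
      ((orderOf_map_dvd φ _).trans (by rw [Subgroup.orderOf_mk]))
    have hvτ : vb * τb * vb⁻¹ = τb⁻¹ := by
      rw [← map_inv, ← map_mul, ← map_mul, ← map_inv]
      exact congrArg φ (Subtype.ext hx'.2)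
    have hrot := hrefl.rot hyv hyo hvτ ((h.chief_odd hT hN).of_dvd_nat hτord)
      (Nat.Coprime.coprime_dvd_left hτord ((Nat.coprime_primes hN.prime hp).2 hpr.symm))
      (by rw [hconjW]; exact (Commute.refl τb).pow_right μ)
    rw [hrot.eq, mul_inv_cancel_right] at hconjW
    have hτ1 : τb = 1 := by
      by_contra hne
      have ho : orderOf τb = r := orderOf_eq_prime hτr hne
      exact hμ1 (Nat.cast_one (R := ZMod r) ▸
        (cast_of_pow_eq_pow ho (show τb ^ μ = τb ^ 1 by rw [pow_one]; exact hconjW.symm)))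
    have e1 : x' * z * x'⁻¹ = z :=
      congrArg Subtype.val (DFunLike.congr_fun hτ1 (⟨z, hz, hzp⟩ : W))
    refine hu01 ?_
    show x' * z * x'⁻¹ * (x'⁻¹ * z * x')⁻¹ = 1
    rw [e1]
    have e2 : x'⁻¹ * z * x' = z := by
      calc x'⁻¹ * z * x' = x'⁻¹ * (x' * z * x'⁻¹) * x' := by rw [e1]
        _ = z := by group
    rw [e2, mul_inv_cancel]
  -- `x'` centralises the inverted part of `C`
  have hcenA : ∀ u ∈ C, Inv a b v u → x' * u = u * x' := by
    intro u0 hu0 hu0i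
    refine hL1 u0 (hinvM u0 hu0 hu0i) ?_
    by_contra hne
    have hu0M := hinvM u0 hu0 hu0i
    set z0 := L u0 with hz0
    obtain ⟨ko, o', hr', ho⟩ := Nat.exists_eq_pow_mul_and_not_dvd (orderOf_pos z0).ne' r hN.prime.ne_one
    have ho' : o' = 1 := by
      by_contra h1
      obtain ⟨p, hp, hpo⟩ := Nat.exists_prime_and_dvd h1
      have hpo' : p ∣ orderOf z0 := ho ▸ hpo.mul_left _
      have := hfixp p hp (fun e1 => hr' (e1 ▸ hpo)) (z0 ^ (orderOf z0 / p)) (pow_mem (hLM u0 hu0M) _)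
        ((show Commute z0 v from hLinv u0 hu0M hu0i).pow_left _).eq
        (by rw [← pow_mul, Nat.div_mul_cancel hpo', pow_orderOf_eq_one])
      exact absurd (Nat.le_of_dvd (Nat.div_pos (Nat.le_of_dvd (orderOf_pos z0) hpo') hp.pos)
        (orderOf_dvd_of_pow_eq_one this)) (not_le.2 (Nat.div_lt_self (orderOf_pos z0) hp.one_lt))
    rw [ho', mul_one] at ho
    obtain ⟨ko', rfl⟩ : ∃ n, ko = n + 1 := Nat.exists_eq_succ_of_ne_zero fun e1 => hne (by
      rw [e1, pow_zero, orderOf_eq_one_iff] at ho; exact ho)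
    set u := u0 ^ r ^ ko' with hu
    have huC : u ∈ C := pow_mem hu0 _
    have huM : u ∈ M := pow_mem hu0M _
    have hui : Inv a b v u := h.inv_pow hu0i _
    have huA : u ∈ A := hCA u huC hui
    have hLu : L u = z0 ^ r ^ ko' := hLpow u0 hu0M _
    obtain ⟨j, hj⟩ := hfixr (L u) (hLM u huM) (hLinv u huM hui)
      (by rw [hLu, ← pow_mul, ← pow_succ, ← ho, pow_orderOf_eq_one])
    have hj1 : (j : ZMod r) ≠ 0 := fun e1 => by
      rw [pow_eq_pow_of_cast hoc (e1.trans Nat.cast_zero.symm), pow_zero, hLu] at hj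
      have := orderOf_dvd_of_pow_eq_one hj
      rw [ho] at this
      exact absurd (Nat.le_of_dvd (pow_pos hN.prime.pos _) this)
        (not_le.2 (Nat.pow_lt_pow_right hN.prime.one_lt ko'.lt_succ_self))
    -- even powers of `x'` on `u`
    set X := x' * x' with hX
    have hxu : x' * u * x'⁻¹ = c ^ j * (x'⁻¹ * u * x') := by
      rw [← hj]; show _ = x' * u * x'⁻¹ * (x'⁻¹ * u * x')⁻¹ * (x'⁻¹ * u * x'); group
    have hxc' : x' * c ^ j * x'⁻¹ = a' ^ j * c ^ j := by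
      rw [← conj_pow, hxc, (show Commute a' c from (hacen c hcP).symm).mul_pow]
    have hxa' : x' * a' * x'⁻¹ = a' := by rw [hacen x' hx'P, mul_inv_cancel_right]
    have hXu : X * u * X⁻¹ = a' ^ j * c ^ j * u := by
      calc X * u * X⁻¹ = x' * (x' * u * x'⁻¹) * x'⁻¹ := by rw [hX]; group
        _ = (x' * c ^ j * x'⁻¹) * u := by rw [hxu]; group
        _ = _ := by rw [hxc']
    have hXc : X * c ^ j * X⁻¹ = (a' ^ j) ^ 2 * c ^ j := by
      calc X * c ^ j * X⁻¹ = x' * (x' * c ^ j * x'⁻¹) * x'⁻¹ := by rw [hX]; group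
        _ = x' * (a' ^ j * c ^ j) * x'⁻¹ := by rw [hxc']
        _ = (x' * a' ^ j * x'⁻¹) * (x' * c ^ j * x'⁻¹) := by group
        _ = (x' * a' * x'⁻¹) ^ j * (x' * c ^ j * x'⁻¹) := by rw [conj_pow]
        _ = _ := by rw [hxa', hxc', pow_two]; group
    have hXa : X * a' ^ j * X⁻¹ = a' ^ j := by
      rw [((show Commute X a' from hacen X (mul_mem hx'P hx'P)).pow_right j).eq, mul_inv_cancel_right]
    have hquad : ∀ n : ℕ, X ^ n * u * (X ^ n)⁻¹ = (c ^ j) ^ n * (a' ^ j) ^ (n * n) * u := by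
      intro n
      induction n with
      | zero => simp
      | succ n ih =>
        have key := congrArg Subtype.val
          (quad_step (⟨a' ^ j, pow_mem haM j⟩ : M) ⟨c ^ j, pow_mem hcM j⟩ ⟨u, huM⟩ n)
        simp only [Subgroup.coe_mul, SubmonoidClass.coe_pow] at key
        calc X ^ (n + 1) * u * (X ^ (n + 1))⁻¹ = X * (X ^ n * u * (X ^ n)⁻¹) * X⁻¹ := by
              rw [pow_succ', mul_inv_rev]; simp only [mul_assoc]
          _ = (X * c ^ j * X⁻¹) ^ n * (X * a' ^ j * X⁻¹) ^ (n * n) * (X * u * X⁻¹) := by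
              rw [ih, conj_pow, conj_pow]; group
          _ = _ := by rw [hXc, hXa, hXu]; exact key
    set cc := (c ^ j) ^ l with hcc
    set aa := (a' ^ j) ^ (l * l) with haa
    have hXl : X ^ l = x' ^ μ := by rw [hX, hμdef, pow_add, ← (Commute.refl x').mul_pow]
    have e1 : x' ^ μ * u * (x' ^ μ)⁻¹ = cc * aa * u := hXl ▸ hquad l
    have e2 : (x' ^ μ)⁻¹ * u * x' ^ μ = cc⁻¹ * aa * u := by
      have hccv : v * cc * v⁻¹ = cc := by
        rw [← (((show Commute c v from hcv).pow_left j).pow_left l).eq, mul_inv_cancel_right]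
      have h1 : v * (x' ^ μ * u * (x' ^ μ)⁻¹) * v⁻¹ = v * (cc * aa * u) * v⁻¹ := by rw [e1]
      rw [show v * (x' ^ μ * u * (x' ^ μ)⁻¹) * v⁻¹ = (v * x' ^ μ * v⁻¹) * (v * u * v⁻¹) *
        (v * x' ^ μ * v⁻¹)⁻¹ by group, (h.inv_pow hx' μ).2, hui.2, inv_inv,
        show v * (cc * aa * u) * v⁻¹ = (v * cc * v⁻¹) * (v * aa * v⁻¹) * (v * u * v⁻¹) by group, hccv,
        (h.inv_pow (h.inv_pow (hT.inv _ haJ) j) (l * l)).2, hui.2] at h1
      have h2 := congrArg (fun z => z⁻¹) h1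
      rw [mul_inv_rev, mul_inv_rev, mul_inv_rev, mul_inv_rev, inv_inv, inv_inv, inv_inv] at h2
      rw [mul_assoc] 
      refine h2.trans ?_
      have c1 := hMc u huM (aa * cc⁻¹) (mul_mem (pow_mem (pow_mem haM j) _) (inv_mem (pow_mem (pow_mem hcM j) _)))
      have c2 := hMc aa (pow_mem (pow_mem haM j) _) cc⁻¹ (inv_mem (pow_mem (pow_mem hcM j) _))
      rw [c1, c2, mul_assoc]
    -- conjugation by `y`
    set u' := y * u * y⁻¹ with hu'
    have hu'u : u' = u ^ 2 ^ i := hyA u huA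
    have hu'M : u' ∈ M := hu'u ▸ pow_mem huM _
    have hwu : ∀ g ∈ M, w * g * w⁻¹ = g := fun g hg => by
      rw [((hmemM g).1 hg).2 w hwC, mul_inv_cancel_right]
    have hlhs : y * L u * y⁻¹ = c ^ (k * j) := by
      rw [hj, ← conj_pow, hk, ← pow_mul]
    have hx''w : x'' = x' ^ μ * w := by rw [hwdef, mul_inv_cancel_left]
    have hrhs : y * L u * y⁻¹ = c ^ (2 * l * j * 2 ^ i) := by
      calc y * L u * y⁻¹ = x'' * u' * x''⁻¹ * (x''⁻¹ * u' * x'')⁻¹ := by
            simp only [L, hx''def, hu']; group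
        _ = (x' ^ μ * u' * (x' ^ μ)⁻¹) * (w⁻¹ * ((x' ^ μ)⁻¹ * u' * x' ^ μ) * w⁻¹⁻¹)⁻¹ := by
            rw [hx''w]
            congr 1
            · rw [show x' ^ μ * w * u' * (x' ^ μ * w)⁻¹ = x' ^ μ * (w * u' * w⁻¹) * (x' ^ μ)⁻¹ by group,
                hwu u' hu'M]
            · group
        _ = (x' ^ μ * u * (x' ^ μ)⁻¹) ^ 2 ^ i * (((x' ^ μ)⁻¹ * u * x' ^ μ) ^ 2 ^ i)⁻¹ := by
            have e3 : (x' ^ μ)⁻¹ * u' * x' ^ μ = ((x' ^ μ)⁻¹ * u * x' ^ μ) ^ 2 ^ i := by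
              rw [hu'u]
              have := conj_pow (i := 2 ^ i) (a := (x' ^ μ)⁻¹) (b := u)
              rw [inv_inv] at this
              exact this.symm
            have hmm : (x' ^ μ)⁻¹ * u' * x' ^ μ ∈ M :=
              (mem_normalizer_iff''.1 (pow_mem (hMn x' hxC) μ) u').1 hu'M
            have hwi : w⁻¹ * ((x' ^ μ)⁻¹ * u' * x' ^ μ) * w⁻¹⁻¹ = (x' ^ μ)⁻¹ * u' * x' ^ μ := by
              rw [((hmemM _).1 hmm).2 w⁻¹ (inv_mem hwC), mul_inv_cancel_right]
            rw [hwi, e3, hu'u, ← conj_pow]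
        _ = _ := by
            rw [e1, e2]
            have key := quad_div (⟨cc, pow_mem (pow_mem hcM j) _⟩ : M)
              ⟨aa, pow_mem (pow_mem haM j) _⟩ ⟨u, huM⟩ (2 ^ i)
            have key' := congrArg Subtype.val key
            simp only [Subgroup.coe_mul, SubmonoidClass.coe_pow, Subgroup.coe_inv] at key'
            rw [key', hcc, ← pow_mul, ← pow_mul]
            congr 1
            ring
    have hfin := cast_of_pow_eq_pow hoc (hlhs.symm.trans hrhs)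
    push_cast at hfin
    rw [← hμk] at hfin
    refine hμm1 (mul_left_cancel₀ (mul_ne_zero hk0' hj1) ?_)
    rw [hμdef] at hfin ⊢
    push_cast at hfin ⊢
    linear_combination -hfin
  -- the fixed part of `C` is perfect
  set Z := C ⊓ centralizer ({v} : Set G) with hZ
  have hmemZ : ∀ z, z ∈ Z ↔ z ∈ C ∧ z * v = v * z := fun z => by
    rw [hZ, mem_inf, mem_centralizer_singleton_iff]
  set AC := C ⊓ A with hAC
  have hmemAC : ∀ u, u ∈ AC ↔ u ∈ C ∧ Inv a b v u := fun u =>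
    ⟨fun hu => ⟨hu.1, ((hmemA u).1 hu.2).1⟩, fun hu => ⟨hu.1, hCA u hu.1 hu.2⟩⟩
  have hACcen : ∀ u ∈ AC, ∀ g ∈ P, g * u = u * g := by
    intro u hu g hg
    obtain ⟨huC, hui⟩ := (hmemAC u).1 hu
    obtain ⟨j, hj⟩ := hdec g hg
    have h1 : Commute ((x' ^ j) * ((x' ^ j)⁻¹ * g)) u :=
      ((show Commute x' u from hcenA u huC hui).pow_left j).mul_left (hcentC u huC hui _ hj).symm
    rwa [mul_inv_cancel_left] at h1
  -- conjugation by `x'` on the fixed part
  have hZconj : ∀ z ∈ Z, ∃ p α, p ∈ Z ∧ α ∈ AC ∧ x' * z * x'⁻¹ = p * α := fun z hz => by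
    obtain ⟨p, α, hp, hpv, hα, hαC, e1⟩ :=
      h.split hCD hvC ((mem_normalizer_iff.1 hxC z).1 ((hmemZ z).1 hz).1)
    exact ⟨p, α, (hmemZ p).2 ⟨hp, hpv⟩, (hmemAC α).2 ⟨hαC, hα⟩, e1⟩
  set Q := ⁅Z, Z⁆ ⊔ AC with hQ
  have hQmod : ∀ z ∈ Z, x' * z * x'⁻¹ * z⁻¹ ∈ Q := by
    intro z hz
    obtain ⟨p, α, hp, hα, e1⟩ := hZconj z hz
    have hpv : v * p * v⁻¹ = p := by rw [← ((hmemZ p).1 hp).2, mul_inv_cancel_right]
    have hzv : v * z * v⁻¹ = z := by rw [← ((hmemZ z).1 hz).2, mul_inv_cancel_right]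
    have hxα : ∀ m : ℕ, x' ^ m * α * (x' ^ m)⁻¹ = α := fun m => by
      rw [hACcen α hα _ (pow_mem hx'P m), mul_inv_cancel_right]
    have e2 : x'⁻¹ * z * x' = p * α⁻¹ := by
      calc x'⁻¹ * z * x' = (v * x' * v⁻¹) * (v * z * v⁻¹) * (v * x' * v⁻¹)⁻¹ := by rw [hx'.2, hzv, inv_inv]
        _ = v * (x' * z * x'⁻¹) * v⁻¹ := by group
        _ = (v * p * v⁻¹) * (v * α * v⁻¹) := by rw [e1]; group
        _ = _ := by rw [hpv, ((hmemAC α).1 hα).2.2]
    have e3 : x' * p * x'⁻¹ = z * α := by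
      have h1 : x' * (p * α⁻¹) * x'⁻¹ = z := by rw [← e2]; group
      have h2 := hxα 1
      rw [pow_one] at h2
      calc x' * p * x'⁻¹ = x' * (p * α⁻¹) * x'⁻¹ * (x' * α * x'⁻¹) := by group
        _ = z * α := by rw [h1, h2]
    have e4 : ∀ m : ℕ, x' ^ (2 * m) * z * (x' ^ (2 * m))⁻¹ = z * α ^ (2 * m) := by
      intro m
      induction m with
      | zero => simp
      | succ m ih =>
        have h2 := hxα 2
        have hx2 : x' ^ 2 * z * (x' ^ 2)⁻¹ = z * α ^ 2 := by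
          have h1 := hxα 1
          rw [pow_one] at h1
          calc x' ^ 2 * z * (x' ^ 2)⁻¹ = x' * (x' * z * x'⁻¹) * x'⁻¹ := by rw [pow_two]; group
            _ = (x' * p * x'⁻¹) * (x' * α * x'⁻¹) := by rw [e1]; group
            _ = _ := by rw [e3, h1, pow_two, mul_assoc]
        calc x' ^ (2 * (m + 1)) * z * (x' ^ (2 * (m + 1)))⁻¹ =
              x' ^ 2 * (x' ^ (2 * m) * z * (x' ^ (2 * m))⁻¹) * (x' ^ 2)⁻¹ := by
                rw [show 2 * (m + 1) = 2 + 2 * m by ring, pow_add]; group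
          _ = (x' ^ 2 * z * (x' ^ 2)⁻¹) * (x' ^ 2 * α * (x' ^ 2)⁻¹) ^ (2 * m) := by rw [ih, conj_pow]; group
          _ = _ := by rw [hx2, h2, show 2 * (m + 1) = 2 + 2 * m by ring, pow_add, mul_assoc]
    obtain ⟨m, hm⟩ := h.chief_odd hT hN
    have hαr : ∀ n : ℕ, α ^ n ∈ AC := fun n => pow_mem hα n
    have e5 : x' ^ r * z * (x' ^ r)⁻¹ = p * α ^ r := by
      calc x' ^ r * z * (x' ^ r)⁻¹ = x' * (x' ^ (2 * m) * z * (x' ^ (2 * m))⁻¹) * x'⁻¹ := by
            rw [hm, pow_succ']; group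
        _ = (x' * z * x'⁻¹) * (x' * α * x'⁻¹) ^ (2 * m) := by rw [e4, conj_pow]; group
        _ = _ := by
            have h1 := hxα 1
            rw [pow_one] at h1
            rw [e1, h1, hm, pow_succ', mul_assoc]
    obtain ⟨g1, u1, hg1, hg1v, hu1, hu1C, hgu⟩ := h.split hCD hvC hrC
    have hu1A : u1 ∈ AC := (hmemAC u1).2 ⟨hu1C, hu1⟩
    have hzP : z ∈ P := ((hmemC z).1 ((hmemZ z).1 hz).1).1
    rw [hgu, show g1 * u1 * z * (g1 * u1)⁻¹ = g1 * (u1 * z * u1⁻¹) * g1⁻¹ by group,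
      ← hACcen u1 hu1A z hzP, mul_inv_cancel_right] at e5
    have e6 : p = g1 * z * g1⁻¹ * (α ^ r)⁻¹ := by rw [e5, mul_inv_cancel_right]
    rw [e1, e6, show g1 * z * g1⁻¹ * (α ^ r)⁻¹ * α * z⁻¹ = g1 * z * g1⁻¹ * ((α ^ r)⁻¹ * α * z⁻¹) by group,
      ← hACcen ((α ^ r)⁻¹ * α) (mul_mem (inv_mem (hαr r)) hα) z⁻¹ (inv_mem hzP),
      show g1 * z * g1⁻¹ * (z⁻¹ * ((α ^ r)⁻¹ * α)) = (g1 * z * g1⁻¹ * z⁻¹) * ((α ^ r)⁻¹ * α) by group]
    refine mul_mem (mem_sup_left ?_) (mem_sup_right (mul_mem (inv_mem (hαr r)) hα))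
    have := commutator_mem_commutator ((hmemZ g1).2 ⟨hg1, hg1v⟩) hz
    rwa [commutatorElement_def] at this
  -- `Q` is normal with abelian quotient
  have hQn : ∀ g ∈ P, g ∈ normalizer (Q : Set G) := by
    intro g hg
    have hACn : ∀ d ∈ P, d ∈ normalizer (AC : Set G) := fun d hd => mem_normalizer_of_conj_le fun u hu => by
      rw [hACcen u hu d hd, mul_inv_cancel_right]; exact hu
    have hx : x' ∈ normalizer (Q : Set G) := by
      refine mem_normalizer_of_conj_le fun q hq => ?_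
      have hle : Q ≤ Q.comap (MulAut.conj x').toMonoidHom := by
        refine sup_le (commutator_le.2 fun z1 hz1 z2 hz2 => ?_) fun u hu => mem_sup_right ?_
        · show x' * ⁅z1, z2⁆ * x'⁻¹ ∈ Q
          obtain ⟨p1, α1, hp1, hα1, e1⟩ := hZconj z1 hz1
          obtain ⟨p2, α2, hp2, hα2, e2⟩ := hZconj z2 hz2
          have hp1P : p1 ∈ P := ((hmemC p1).1 ((hmemZ p1).1 hp1).1).1
          have hp2P : p2 ∈ P := ((hmemC p2).1 ((hmemZ p2).1 hp2).1).1
          have hα1P : α1 ∈ P := ((hmemC α1).1 hα1.1).1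
          have hα2P : α2 ∈ P := ((hmemC α2).1 hα2.1).1
          rw [show x' * ⁅z1, z2⁆ * x'⁻¹ = ⁅x' * z1 * x'⁻¹, x' * z2 * x'⁻¹⁆ by
            simp only [commutatorElement_def]; group, e1, e2]
          have key : ⁅p1 * α1, p2 * α2⁆ = ⁅p1, p2⁆ := by
            have c1 : Commute α1 (p2 * α2) := (hACcen α1 hα1 _ (mul_mem hp2P hα2P)).symm
            have c2 : Commute α2 p1⁻¹ := (hACcen α2 hα2 _ (inv_mem hp1P)).symm
            rw [commutatorElement_def, commutatorElement_def]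
            calc p1 * α1 * (p2 * α2) * (p1 * α1)⁻¹ * (p2 * α2)⁻¹ =
                  p1 * (α1 * (p2 * α2) * α1⁻¹) * p1⁻¹ * (p2 * α2)⁻¹ := by group
              _ = p1 * p2 * (α2 * p1⁻¹ * α2⁻¹) * p2⁻¹ := by rw [c1.eq, mul_inv_cancel_right]; group
              _ = _ := by rw [c2.eq, mul_inv_cancel_right]
          rw [key]
          exact mem_sup_left (commutator_mem_commutator hp1 hp2)
        · exact (mem_normalizer_iff.1 (hACn x' hx'P) u).1 hu
      exact hle hq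
    have hC' : ∀ d ∈ C, d ∈ normalizer (Q : Set G) := by
      intro d hd
      obtain ⟨d1, u1, hd1, hd1v, hu1, hu1C, rfl⟩ := h.split hCD hvC hd
      refine mem_normalizer_of_map_conj_eq ?_
      rw [hQ, Subgroup.map_sup, map_commutator, map_conj_eq_of_mem_normalizer (hACn _ ((hmemC _).1 hd).1),
        map_conj_eq_of_mem_normalizer]
      refine mul_mem (le_normalizer ((hmemZ d1).2 ⟨hd1, hd1v⟩)) (mem_normalizer_of_conj_le fun z hz => ?_)
      rw [← hACcen u1 ((hmemAC u1).2 ⟨hu1C, hu1⟩) z ((hmemC z).1 ((hmemZ z).1 hz).1).1, mul_inv_cancel_right]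
      exact hz
    obtain ⟨j, hj⟩ := hdec g hg
    have := mul_mem (pow_mem hx j) (hC' _ hj)
    rwa [mul_inv_cancel_left] at this
  have hZP : Z ≤ P := fun z hz => ((hmemC z).1 ((hmemZ z).1 hz).1).1
  have hQP : Q ≤ P := sup_le ((commutator_le_self Z).trans hZP) fun u hu => ((hmemC u).1 hu.1).1
  haveI : (Q.subgroupOf P).Normal := ⟨fun q hq g => mem_subgroupOf.2
    ((mem_normalizer_iff.1 (hQn g g.2) _).1 (mem_subgroupOf.1 hq))⟩
  let π := QuotientGroup.mk' (Q.subgroupOf P)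
  have hπ1 : ∀ (u : G) (hu : u ∈ P), u ∈ Q → π ⟨u, hu⟩ = 1 := fun u hu huQ =>
    (QuotientGroup.eq_one_iff _).2 (mem_subgroupOf.2 huQ)
  set X := π ⟨x', hx'P⟩ with hXdef
  have hZcomm : ∀ z (hz : z ∈ Z), Commute X (π ⟨z, hZP hz⟩) := fun z hz => by
    rw [Commute, SemiconjBy, ← mul_inv_eq_iff_eq_mul, ← mul_inv_eq_one, ← map_inv, ← map_inv, ← map_mul,
      ← map_mul, ← map_mul]
    exact hπ1 _ _ (hQmod z hz)
  have hdecQ : ∀ g : P, ∃ (j : ℕ) (z : G) (hz : z ∈ Z), π g = X ^ j * π ⟨z, hZP hz⟩ := by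
    rintro ⟨g, hg⟩
    obtain ⟨j, hj⟩ := hdec g hg
    obtain ⟨z, u, hzC, hzv, hu, huC, e1⟩ := h.split hCD hvC hj
    have hz : z ∈ Z := (hmemZ z).2 ⟨hzC, hzv⟩
    refine ⟨j, z, hz, ?_⟩
    have huP : u ∈ P := ((hmemC u).1 huC).1
    rw [show (⟨g, hg⟩ : P) = ⟨x', hx'P⟩ ^ j * (⟨z, hZP hz⟩ * ⟨u, huP⟩) from
      Subtype.ext (by simp [← e1]), map_mul, map_mul, map_pow,
      hπ1 u huP (mem_sup_right ((hmemAC u).2 ⟨huC, hu⟩)), mul_one]
  have hBcomm : ∀ g k : P, Commute (π g) (π k) := by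
    intro g k
    obtain ⟨j1, z1, hz1, e1⟩ := hdecQ g
    obtain ⟨j2, z2, hz2, e2⟩ := hdecQ k
    have hzz : Commute (π ⟨z1, hZP hz1⟩) (π ⟨z2, hZP hz2⟩) := by
      rw [Commute, SemiconjBy, ← mul_inv_eq_iff_eq_mul, ← mul_inv_eq_one, ← map_inv, ← map_inv, ← map_mul,
        ← map_mul, ← map_mul]
      exact hπ1 _ _ (mem_sup_left (by
        have := commutator_mem_commutator hz1 hz2; rwa [commutatorElement_def] at this))
    rw [e1, e2]
    exact ((((Commute.refl X).pow_pow j1 j2).mul_right ((hZcomm z2 hz2).pow_left j1))).mul_left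
      (((hZcomm z1 hz1).symm.pow_right j2).mul_right hzz)
  let S : Subgroup G :=
    { carrier := {g | g ∈ P ∧ v * g * v⁻¹ * g ∈ Q}
      one_mem' := ⟨one_mem _, by simp⟩
      mul_mem' := fun {g k} ⟨hg, h1⟩ ⟨hk, h2⟩ => ⟨mul_mem hg hk, by
        have hvg : v * g * v⁻¹ ∈ P := (mem_normalizer_iff.1 (h.v_mem_span hT) g).1 hg
        have hvk : v * k * v⁻¹ ∈ P := (mem_normalizer_iff.1 (h.v_mem_span hT) k).1 hk
        have e1 : π (⟨_, hvg⟩ * ⟨g, hg⟩ * (⟨_, hvk⟩ * ⟨k, hk⟩)) = π (⟨_, hvg⟩ * ⟨_, hvk⟩ * (⟨g, hg⟩ * ⟨k, hk⟩)) := by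
          simp only [map_mul]
          exact (hBcomm ⟨g, hg⟩ ⟨_, hvk⟩).mul_mul_mul_comm _ _
        rw [map_mul, hπ1 _ (mul_mem hvg hg) h1 |> fun e => (show π (⟨_, hvg⟩ * ⟨g, hg⟩) = 1 from e),
          (show π (⟨_, hvk⟩ * ⟨k, hk⟩) = 1 from hπ1 _ (mul_mem hvk hk) h2), one_mul, eq_comm] at e1
        have := mem_subgroupOf.1 ((QuotientGroup.eq_one_iff _).1 e1)
        simpa [mul_assoc] using this⟩
      inv_mem' := fun {g} ⟨hg, h1⟩ => ⟨inv_mem hg, by
        have hvg : v * g * v⁻¹ ∈ P := (mem_normalizer_iff.1 (h.v_mem_span hT) g).1 hg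
        have e1 : π (⟨_, hvg⟩⁻¹ * ⟨g, hg⟩⁻¹) = 1 := by
          rw [map_mul, map_inv, map_inv, ← mul_inv_rev, (hBcomm _ _).eq, ← map_mul]
          exact inv_eq_one.2 (hπ1 _ (mul_mem hvg hg) h1)
        have := mem_subgroupOf.1 ((QuotientGroup.eq_one_iff _).1 e1)
        simpa [mul_assoc] using this⟩ }
  have hPS : P ≤ S := sup_le ((closure_le _).2 fun x hx => ⟨h.inv_mem_span hT hx, by
    rw [hx.2, inv_mul_cancel]; exact one_mem _⟩) fun j hj => ⟨h.le_span hT hj, by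
    rw [(hT.inv j hj).2, inv_mul_cancel]; exact one_mem _⟩
  have hZQ : ⁅Z, Z⁆ = Z := by
    refine le_antisymm (commutator_le_self Z) fun z hz => ?_
    have h1 := (hPS (hZP hz)).2
    rw [← ((hmemZ z).1 hz).2, mul_inv_cancel_right] at h1
    have h2 : z ∈ Q := by
      rw [← sq_pow_half h.odd (hCD ((hmemZ z).1 hz).1)]; exact pow_mem h1 _
    have hn : ⁅Z, Z⁆ ≤ normalizer (AC : Set G) := fun d hd => mem_normalizer_of_conj_le fun u hu => by
      rw [hACcen u hu d (hZP (commutator_le_self Z hd)), mul_inv_cancel_right]; exact hu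
    obtain ⟨d, hd, u, hu, rfl⟩ := (CfsgLib.Core.mem_sup_iff_mul hn).1 h2
    have hdZ := (hmemZ d).1 (commutator_le_self Z hd)
    have huv : u * v = v * u := by
      have h3 : Commute (d⁻¹ * (d * u)) v :=
        (show Commute d v from hdZ.2).inv_left.mul_left ((hmemZ (d * u)).1 hz).2
      rwa [inv_mul_cancel_left] at h3
    have hu1 : u = 1 := eq_one_of_eq_inv h.odd (hCD hu.1) (by
      rw [← ((hmemAC u).1 hu).2.2, ← huv, mul_inv_cancel_right])
    rw [hu1, mul_one]; exact hd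
  have hcZ : c ∈ Z := (hmemZ c).2 ⟨hcC, hcv⟩
  haveI : Nontrivial Z := ⟨⟨c, hcZ⟩, 1, fun e1 => hc1 (congrArg Subtype.val e1)⟩
  haveI := Cfsg.Agent.S0205.result (odd_of_le (hZP.trans hPD) h.odd)
  refine (Group.IsSolvable.commutator_lt_top_of_nontrivial Z).ne ?_
  apply Subgroup.map_injective Z.subtype_injective
  rw [_root_.commutator_def, map_commutator, ← MonoidHom.range_eq_map, range_subtype]
  exact hZQ

end Ctx

end CfsgLib.Bender.NRegK
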