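import Cfsg.Agent.Lib.Bender.Gen.NRegKChief

/-!
Owner: helper29. General Bender theorem, slice G3, third part: no element outside `J` of a chief factor above
`J` is inverted.
-/

set_option autoImplicit false
set_option linter.style.haveILetI false
set_option linter.unusedSectionVars false

namespace CfsgLib.Bender.NRegK

open Subgroup MulAction
open CfsgLib.Signalizer (involution_sq involution_inv orderOf_eq_two_of involution_ne_one)
open scoped commutatorElement

universe u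

variable {G Ω : Type u} [Group G] [Finite G] [MulAction G Ω] [Finite Ω]

namespace Ctx

variable {a b : Ω} {v y : G} (h : Ctx a b v y) {J N : Subgroup G} {r : ℕ} (hT : Top a b v J)
  (hN : Chief a b v J N r)
include h hT hN

theorem chief_odd : Odd r := by
  obtain ⟨c, hc, hcv, hc1⟩ := h.exists_fix_ne hT hN
  haveI : Fact r.Prime := ⟨hN.prime⟩
  rw [← orderOf_eq_prime (h.fix_pow hT hN hc hcv) hc1]
  exact h.odd.of_dvd_nat ((pairStab G a b).orderOf_dvd_natCard (h.chief_le hT hN hc))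

/-- With more than `r` fixed elements the factor is abelian. -/
theorem abelian_of_big {a₁ : G} (ha : a₁ ∈ N) (hai : Inv a b v a₁) (haJ : a₁ ∉ J)
    (hbig : r < Nat.card (N ⊓ centralizer ({v} : Set G) : Subgroup G)) :
    ∀ g ∈ N, ∀ k ∈ N, g * k = k * g := by
  classical
  by_contra hab
  push Not at hab
  obtain ⟨c, hc, hcv, hc1⟩ := h.exists_fix_ne hT hN
  obtain ⟨A, ⟨g, rfl⟩, -, hJA⟩ := h.top_cyclic hT hN hc hcv hc1
  haveI : IsCyclic J := isCyclic_of_injective (Subgroup.inclusion hJA) (Subgroup.inclusion_injective hJA)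
  letI : CommGroup J := IsCyclic.commGroup
  have := Fintype.ofFinite J
  let f : (N ⊓ centralizer ({v} : Set G) : Subgroup G) → {z : J // z ^ r = 1} := fun d =>
    ⟨⟨(d : G) * a₁ * (d : G)⁻¹ * a₁⁻¹, hN.comm _ d.2.1 _ ha⟩, Subtype.ext <|
      pow_eq_one_of_conj (g := (d : G)) (x := a₁) (by group)
        (h.chief_central hT hN d.2.1 (hN.comm _ d.2.1 _ ha))
        (h.fix_pow hT hN d.2.1 (mem_centralizer_singleton_iff.1 d.2.2))⟩
  have hinj : Function.Injective f := by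
    intro d e hde
    have hde' : (d : G) * a₁ * (d : G)⁻¹ * a₁⁻¹ = (e : G) * a₁ * (e : G)⁻¹ * a₁⁻¹ :=
      congrArg (fun z => ((z.1 : J) : G)) hde
    have h1 := mul_right_cancel hde'
    set u := (e : G)⁻¹ * d
    have hu : u ∈ N := mul_mem (inv_mem e.2.1) d.2.1
    have huv : u * v = v * u :=
      mem_centralizer_singleton_iff.1 (mul_mem (inv_mem e.2.2) d.2.2)
    have hua : Commute u a₁ := mul_inv_eq_iff_eq_mul.1 (by
      calc u * a₁ * u⁻¹ = (e : G)⁻¹ * ((d : G) * a₁ * (d : G)⁻¹) * e := by simp only [u]; group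
        _ = a₁ := by rw [h1]; group)
    have huJ : u ∈ J := h.mem_top_of_central hT hN hab hu fun n hn => by
      obtain ⟨d', x, hd', hd'v, hx, hxN, rfl⟩ := h.split (h.chief_le hT hN) hN.v_mem hn
      obtain ⟨k, j, hj, rfl⟩ := h.inv_line hT hN ha hai haJ hxN hx
      exact ((show Commute u d' from h.fix_comm hT hN hu huv hd' hd'v).mul_right
        ((hua.pow_right k).mul_right (h.chief_central hT hN hu hj))).eq
    exact Subtype.ext (eq_of_inv_mul_eq_one (h.fix_inf hT hN huJ huv)).symm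
  have h2 : Nat.card {z : J // z ^ r = 1} ≤ r := by
    rw [Nat.card_eq_fintype_card, Fintype.card_subtype]
    exact IsCyclic.card_pow_eq_one_le hN.prime.pos
  exact absurd ((Nat.card_le_card_of_injective f hinj).trans h2) (not_le.2 hbig)

/-- No element of the factor outside `J` is inverted. -/
theorem chief_inv : ∀ x ∈ N, Inv a b v x → x ∈ J := by
  classical
  intro a₁ ha hai
  by_contra haJ
  haveI : Fact r.Prime := ⟨hN.prime⟩
  haveI hnorm : (J.subgroupOf N).Normal := ⟨fun j hj z => mem_subgroupOf.2 (by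
    show (z : G) * j * (z : G)⁻¹ ∈ J
    rw [h.chief_central hT hN z.2 (mem_subgroupOf.1 hj), mul_inv_cancel_right]
    exact mem_subgroupOf.1 hj)⟩
  letI : CommGroup (↥N ⧸ J.subgroupOf N) :=
    { (inferInstance : Group (↥N ⧸ J.subgroupOf N)) with
      mul_comm := fun x z => by
        induction x using QuotientGroup.induction_on with
        | H g =>
          induction z using QuotientGroup.induction_on with
          | H k =>
            rw [← QuotientGroup.mk_mul, ← QuotientGroup.mk_mul, QuotientGroup.eq_iff_div_mem,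
              mem_subgroupOf, div_eq_mul_inv]
            show (g : G) * k * ((k : G) * g)⁻¹ ∈ J
            rw [show (g : G) * k * ((k : G) * g)⁻¹ = g * k * (g : G)⁻¹ * (k : G)⁻¹ by group]
            exact hN.comm g g.2 k k.2 }
  let φ := sectionAct N J
  let D := pairStab G a b
  have hDS : D ≤ normalizer (N : Set G) ⊓ normalizer (J : Set G) := le_inf hN.normal hT.normal
  let im : ∀ g, g ∈ D → MulAut (↥N ⧸ J.subgroupOf N) := fun g hg => φ ⟨g, hDS hg⟩
  let vb : MulAut (↥N ⧸ J.subgroupOf N) := φ ⟨v, hN.v_mem, h.v_mem_top hT⟩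
  have him : ∀ g hg, im g hg = 1 ↔ ∀ n ∈ N, g * n * g⁻¹ * n⁻¹ ∈ J := by
    intro g hg
    constructor
    · intro e n hn
      have e1 : φ ⟨g, hDS hg⟩ (QuotientGroup.mk (⟨n, hn⟩ : N)) = QuotientGroup.mk ⟨n, hn⟩ := by
        rw [show φ ⟨g, hDS hg⟩ = 1 from e, MulAut.one_apply]
      rw [sectionAct_apply, QuotientGroup.eq_iff_div_mem, mem_subgroupOf, div_eq_mul_inv] at e1
      exact e1
    · intro e
      refine MulEquiv.ext fun x => ?_
      induction x using QuotientGroup.induction_on with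
      | H n =>
        show φ ⟨g, hDS hg⟩ (QuotientGroup.mk n) = _
        rw [MulAut.one_apply, sectionAct_apply, QuotientGroup.eq_iff_div_mem, mem_subgroupOf, div_eq_mul_inv]
        exact e n n.2
  have hvv : vb * vb = 1 := by
    rw [← map_mul, ← map_one φ]
    exact congrArg φ (Subtype.ext (involution_sq h.hv))
  have hvim : ∀ g hg, vb * im g hg * vb⁻¹ = im (v * g * v⁻¹) (h.conj_v hg) := fun g hg => by
    rw [← map_inv, ← map_mul, ← map_mul]; rfl
  have imul : ∀ g hg k hk, im g hg * im k hk = im (g * k) (mul_mem hg hk) := fun g hg k hk => by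
    rw [← map_mul]; rfl
  have iinv : ∀ g hg, (im g hg)⁻¹ = im g⁻¹ (inv_mem hg) := fun g hg => by rw [← map_inv]; rfl
  have icongr : ∀ {g k : G} (hg : g ∈ D) (hk : k ∈ D), g = k → im g hg = im k hk := by
    rintro g k hg hk rfl; rfl
  let ED := (D.subgroupOf (normalizer (N : Set G) ⊓ normalizer (J : Set G))).map φ
  have hEDodd : Odd (Nat.card ED) :=
    (h.odd.of_dvd_nat ((Nat.card_congr (subgroupOfEquivOfLe hDS).toEquiv).dvd)).of_dvd_nat (card_map_dvd _ _)
  have memED : ∀ τ, τ ∈ ED ↔ ∃ g hg, im g hg = τ := fun τ => by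
    constructor
    · rintro ⟨⟨g, hgS⟩, hg, rfl⟩; exact ⟨g, mem_subgroupOf.1 hg, rfl⟩
    · rintro ⟨g, hg, rfl⟩; exact ⟨⟨g, hDS hg⟩, mem_subgroupOf.2 hg, rfl⟩
  have hinvim : ∀ x (hx : Inv a b v x), vb * im x hx.1 * vb⁻¹ = (im x hx.1)⁻¹ := fun x hx => by
    rw [hvim x hx.1, iinv x hx.1]; exact icongr (h.conj_v hx.1) (inv_mem hx.1) hx.2
  have hfixim : ∀ c (hc : c ∈ D), c * v = v * c → vb * im c hc * vb⁻¹ = im c hc := fun c hc hcv => by
    rw [hvim c hc]; exact icongr (h.conj_v hc) hc (by rw [← hcv, mul_inv_cancel_right])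
  have lift : ∀ τ ∈ ED, vb * τ * vb⁻¹ = τ⁻¹ → ∃ x, ∃ hx : Inv a b v x, im x hx.1 = τ := by
    intro τ hτ he
    obtain ⟨g, hg, rfl⟩ := (memED τ).1 hτ
    obtain ⟨c, x, hc, hcv, hx, -, rfl⟩ := h.split le_rfl h.v_mem hg
    refine ⟨x, hx, ?_⟩
    have e : vb * (im c hc * im x hx.1) * vb⁻¹ = im c hc * (im x hx.1)⁻¹ := by
      rw [show vb * (im c hc * im x hx.1) * vb⁻¹ =
        (vb * im c hc * vb⁻¹) * (vb * im x hx.1 * vb⁻¹) by group, hfixim c hc hcv, hinvim x hx]
    have hsplit : im (c * x) hg = im c hc * im x hx.1 := (imul c hc x hx.1).symm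
    rw [hsplit, e, mul_inv_rev] at he
    have hc1 : im c hc = 1 := by
      refine eq_one_of_conj_inv hEDodd ((memED _).2 ⟨c, hc, rfl⟩) ((memED _).2 ⟨x, hx.1, rfl⟩) ?_
      rw [mul_assoc, he, ← mul_assoc, mul_inv_cancel, one_mul]
    rw [hsplit, hc1, one_mul]
  -- the subgroup generated by the inverted elements
  let E := closure {τ | ∃ x, ∃ hx : Inv a b v x, im x hx.1 = τ}
  have hEED : E ≤ ED := (closure_le _).2 fun τ ⟨x, hx, e⟩ => (memED τ).2 ⟨x, hx.1, e⟩
  have hgen : ∀ x (hx : Inv a b v x), im x hx.1 ∈ E := fun x hx => subset_closure ⟨x, hx, rfl⟩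
  have hvE : vb ∈ normalizer (E : Set (MulAut (↥N ⧸ J.subgroupOf N))) := by
    refine mem_normalizer_of_conj_le fun τ hτ => ?_
    have hle : E ≤ E.comap (MulAut.conj vb).toMonoidHom := (closure_le _).2 fun σ ⟨x, hx, e⟩ => by
      show vb * σ * vb⁻¹ ∈ E
      rw [← e, hinvim x hx]; exact inv_mem (hgen x hx)
    exact hle hτ
  have hEDE : ED ≤ normalizer (E : Set (MulAut (↥N ⧸ J.subgroupOf N))) := by
    intro τ hτ
    obtain ⟨g, hg, rfl⟩ := (memED τ).1 hτ
    obtain ⟨c, x, hc, hcv, hx, -, rfl⟩ := h.split le_rfl h.v_mem hg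
    rw [← imul c hc x hx.1]
    refine mul_mem ?_ (le_normalizer (hgen x hx))
    refine mem_normalizer_of_conj_le fun σ hσ => ?_
    have hle : E ≤ E.comap (MulAut.conj (im c hc)).toMonoidHom := (closure_le _).2 fun σ ⟨z, hz, e⟩ => by
      show im c hc * σ * (im c hc)⁻¹ ∈ E
      rw [← e, imul c hc z hz.1, iinv c hc, imul _ (mul_mem hc hz.1) _ (inv_mem hc)]
      exact hgen _ (h.inv_conj hc hcv hz)
    exact hle hσ
  -- the section
  have hexp : ∀ x : ↥N ⧸ J.subgroupOf N, x ^ r = 1 := fun x => by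
    induction x using QuotientGroup.induction_on with
    | H n => exact (QuotientGroup.eq_one_iff _).2 (mem_subgroupOf.2 (hN.exp n n.2))
  let ub : ↥N ⧸ J.subgroupOf N := QuotientGroup.mk ⟨a₁, ha⟩
  have hub : ub ≠ 1 := fun e => haJ (mem_subgroupOf.1 ((QuotientGroup.eq_one_iff _).1 e))
  have hord : orderOf ub = r := orderOf_eq_prime (hexp _) hub
  have hub' : vb ub = ub⁻¹ := congrArg QuotientGroup.mk (Subtype.ext hai.2)
  have hfix' : ∀ c (hc : c ∈ N), c * v = v * c →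
      vb (QuotientGroup.mk (⟨c, hc⟩ : N)) = QuotientGroup.mk ⟨c, hc⟩ := fun c hc hcv =>
    congrArg QuotientGroup.mk (Subtype.ext (show v * c * v⁻¹ = c by rw [← hcv, mul_inv_cancel_right]))
  have hR : ∀ R : Subgroup (MulAut (↥N ⧸ J.subgroupOf N)),
      ED ≤ normalizer (R : Set _) → vb ∈ normalizer (R : Set _) → IsPGroup r R → R = ⊥ := by
    intro R hEDR hvR hRp
    let U : Subgroup G :=
      { carrier := {n | ∃ hn : n ∈ N, ∀ τ ∈ R, τ (QuotientGroup.mk (⟨n, hn⟩ : N)) = QuotientGroup.mk ⟨n, hn⟩}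
        one_mem' := ⟨one_mem _, fun τ _ => map_one τ⟩
        mul_mem' := fun {g k} ⟨hg, h1⟩ ⟨hk, h2⟩ => ⟨mul_mem hg hk, fun τ hτ => by
          have := map_mul τ (QuotientGroup.mk (⟨g, hg⟩ : N)) (QuotientGroup.mk ⟨k, hk⟩)
          rw [h1 τ hτ, h2 τ hτ] at this
          exact this⟩
        inv_mem' := fun {g} ⟨hg, h1⟩ => ⟨inv_mem hg, fun τ hτ => by
          have := map_inv τ (QuotientGroup.mk (⟨g, hg⟩ : N))
          rw [h1 τ hτ] at this
          exact this⟩ }
    have hUn : ∀ (g : G) (hg : g ∈ normalizer (N : Set G) ⊓ normalizer (J : Set G)),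
        φ ⟨g, hg⟩ ∈ normalizer (R : Set _) → g ∈ normalizer (U : Set G) := by
      intro g hg hgR
      refine mem_normalizer_of_conj_le ?_
      rintro n ⟨hn, h1⟩
      refine ⟨(mem_normalizer_iff.1 hg.1 n).1 hn, fun τ hτ => ?_⟩
      have h2 := h1 _ ((mem_normalizer_iff''.1 hgR τ).1 hτ)
      rw [MulAut.mul_apply, MulAut.mul_apply] at h2
      have h3 := congrArg (φ ⟨g, hg⟩) h2
      rw [MulAut.apply_inv_self] at h3
      exact h3
    have hJU : J ≤ U := fun j hj => ⟨hN.lt.le hj, fun τ _ => by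
      rw [(QuotientGroup.eq_one_iff _).2 (mem_subgroupOf.2 hj), map_one]⟩
    rcases hN.min U hJU (fun n hn => hn.1)
      (fun d hd => hUn d (hDS hd) (hEDR ((memED _).2 ⟨d, hd, rfl⟩)))
      (hUn v ⟨hN.v_mem, h.v_mem_top hT⟩ hvR) with e | e
    · exfalso
      obtain ⟨z, hz, hz1⟩ := hRp.exists_fixed_point_of_prime_dvd_card_of_fixed_point
        (α := ↥N ⧸ J.subgroupOf N) (hord ▸ orderOf_dvd_natCard ub) (a := 1)
        (fun τ => map_one (τ : MulAut (↥N ⧸ J.subgroupOf N)))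
      induction z using QuotientGroup.induction_on with
      | H n =>
        have hnU : (n : G) ∈ U := ⟨n.2, fun τ hτ => hz ⟨τ, hτ⟩⟩
        rw [e] at hnU
        exact hz1 ((QuotientGroup.eq_one_iff _).2 (mem_subgroupOf.2 hnU)).symm
    · rw [eq_bot_iff]
      intro τ hτ
      rw [mem_bot]
      refine MulEquiv.ext fun x => ?_
      induction x using QuotientGroup.induction_on with
      | H n =>
        obtain ⟨_, h1⟩ := e.ge n.2
        exact h1 τ hτ
  have hcop : ∀ A : Subgroup (MulAut (↥N ⧸ J.subgroupOf N)), (∀ s ∈ A, ∀ t ∈ A, s * t = t * s) →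
      ED ≤ normalizer (A : Set _) → vb ∈ normalizer (A : Set _) → ∀ τ ∈ A, (orderOf τ).Coprime r := by
    intro A hcomm hEDA hvA τ hτ
    let R : Subgroup (MulAut (↥N ⧸ J.subgroupOf N)) :=
      { carrier := {s | s ∈ A ∧ s ^ r = 1}
        one_mem' := ⟨one_mem _, one_pow r⟩
        mul_mem' := fun {s t} hs ht => ⟨mul_mem hs.1 ht.1, by
          rw [(show Commute s t from hcomm s hs.1 t ht.1).mul_pow, hs.2, ht.2, one_mul]⟩
        inv_mem' := fun {s} hs => ⟨inv_mem hs.1, by rw [_root_.inv_pow, hs.2, inv_one]⟩ }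
    have hRn : ∀ g, g ∈ normalizer (A : Set (MulAut (↥N ⧸ J.subgroupOf N))) →
        g ∈ normalizer (R : Set _) := fun g hg =>
      mem_normalizer_of_conj_le fun s hs => ⟨(mem_normalizer_iff.1 hg s).1 hs.1,
        by rw [conj_pow, hs.2, mul_one, mul_inv_cancel]⟩
    have hRbot := hR R (fun g hg => hRn g (hEDA hg)) (hRn vb hvA) fun s => ⟨1, Subtype.ext (by
      rw [pow_one]; exact s.2.2)⟩
    refine (hN.prime.coprime_iff_not_dvd.2 fun hd => ?_).symm
    have h1 : τ ^ (orderOf τ / r) ∈ R := ⟨pow_mem hτ _, by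
      rw [← pow_mul, Nat.div_mul_cancel hd, pow_orderOf_eq_one]⟩
    rw [hRbot, mem_bot] at h1
    exact absurd (Nat.le_of_dvd (Nat.div_pos (Nat.le_of_dvd (orderOf_pos τ) hd) hN.prime.pos)
      (orderOf_dvd_of_pow_eq_one h1)) (not_le.2 (Nat.div_lt_self (orderOf_pos τ) hN.prime.one_lt))
  -- large fixed part
  have hbigtriv : r < Nat.card (N ⊓ centralizer ({v} : Set G) : Subgroup G) →
      ∀ τ ∈ ED, vb * τ * vb⁻¹ = τ⁻¹ → (orderOf τ).Coprime r → τ = 1 := by
    intro hbig τ hτ he hτr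
    have hab := h.abelian_of_big hT hN ha hai haJ hbig
    obtain ⟨x, hx, hxτ⟩ := lift τ hτ he
    -- a power of the lift of order prime to `r`
    obtain ⟨k, o', hr', ho⟩ := Nat.exists_eq_pow_mul_and_not_dvd (orderOf_pos x).ne' r hN.prime.ne_one
    have hco : (r ^ k).Coprime o' := (hN.prime.coprime_iff_not_dvd.2 hr').pow_left k
    obtain ⟨n, hn0, hn1⟩ := Nat.chineseRemainder hco 0 1
    have hxo : (x ^ n) ^ o' = 1 := by
      obtain ⟨l, rfl⟩ := Nat.modEq_zero_iff_dvd.1 hn0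
      rw [← pow_mul, mul_right_comm, pow_mul, ← ho, pow_orderOf_eq_one, one_pow]
    have hpow : ∀ (m : ℕ), im (x ^ m) (pow_mem hx.1 m) = im x hx.1 ^ m := fun m => by
      rw [← map_pow]; rfl
    have hτo : τ ^ o' = 1 := by
      have h1 : orderOf τ ∣ orderOf x := by
        rw [orderOf_dvd_iff_pow_eq_one, ← hxτ, ← hpow]
        exact (icongr (pow_mem hx.1 _) (one_mem _) (pow_orderOf_eq_one x)).trans ((him 1 (one_mem _)).2 fun n hn => by simp)
      rw [← orderOf_dvd_iff_pow_eq_one]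
      rw [ho] at h1
      exact (hτr.pow_right k).dvd_of_dvd_mul_left h1
    have hτn : im (x ^ n) (pow_mem hx.1 n) = τ := by
      rw [hpow, hxτ, pow_eq_pow_iff_modEq.2 (hn1.of_dvd (orderOf_dvd_of_pow_eq_one hτo)), pow_one]
    have hx' := h.inv_pow hx n
    have hx'r : (orderOf (x ^ n)).Coprime r := Nat.Coprime.coprime_dvd_left
      (orderOf_dvd_of_pow_eq_one hxo) (hN.prime.coprime_iff_not_dvd.2 hr').symm
    -- a fixed element moved to a fixed one
    have hex : ∀ d : (N ⊓ centralizer ({v} : Set G) : Subgroup G), ∃ e : G, ∃ he : e ∈ N,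
        e * v = v * e ∧ ∃ i : ℕ, i < r ∧
          τ (QuotientGroup.mk (⟨d, d.2.1⟩ : N)) = QuotientGroup.mk ⟨e, he⟩ * ub ^ i := by
      intro d
      have hdn : x * (d : G) * x⁻¹ ∈ N := (mem_normalizer_iff.1 (hN.normal hx.1) _).1 d.2.1
      obtain ⟨e, u, he, hev, hu, huN, e1⟩ := h.split (h.chief_le hT hN) hN.v_mem hdn
      obtain ⟨l, j, hj, rfl⟩ := h.inv_line hT hN ha hai haJ huN hu
      refine ⟨e, he, hev, l % r, Nat.mod_lt _ hN.prime.pos, ?_⟩
      have hsubt : (⟨x * (d : G) * x⁻¹, hdn⟩ : N) = ⟨e, he⟩ * (⟨a₁, ha⟩ ^ l * ⟨j, hN.lt.le hj⟩) :=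
        Subtype.ext e1
      rw [← hxτ]
      show φ ⟨x, hDS hx.1⟩ (QuotientGroup.mk _) = _
      rw [sectionAct_apply]
      simp only [hsubt, QuotientGroup.mk_mul, QuotientGroup.mk_pow]
      rw [(QuotientGroup.eq_one_iff (⟨j, hN.lt.le hj⟩ : N)).2 (mem_subgroupOf.2 hj), mul_one]
      conv_rhs => rw [← hord, pow_mod_orderOf]
    choose ev hevN hev i hir hτd using hex
    obtain ⟨d1, d2, hne, hi⟩ : ∃ d1 d2, d1 ≠ d2 ∧ i d1 = i d2 := by
      by_contra hcon
      push Not at hcon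
      have := Nat.card_le_card_of_injective (fun d => (⟨i d, hir d⟩ : Fin r)) fun d1 d2 e => by
        by_contra hne
        exact hcon d1 d2 hne (congrArg Fin.val e)
      rw [Nat.card_fin] at this
      omega
    set c := (d1 : G)⁻¹ * d2 with hcdef
    have hc : c ∈ N := mul_mem (inv_mem d1.2.1) d2.2.1
    have hcv : c * v = v * c := mem_centralizer_singleton_iff.1 (mul_mem (inv_mem d1.2.2) d2.2.2)
    have hc1 : c ≠ 1 := fun e => hne (Subtype.ext (eq_of_inv_mul_eq_one e))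
    set cb : ↥N ⧸ J.subgroupOf N := QuotientGroup.mk ⟨c, hc⟩ with hcb
    have hee : (ev d1)⁻¹ * ev d2 ∈ N := mul_mem (inv_mem (hevN d1)) (hevN d2)
    have hfixc : vb (τ cb) = τ cb := by
      have hcb' : τ cb = QuotientGroup.mk (⟨_, hee⟩ : N) := by
        rw [show cb = (QuotientGroup.mk (⟨d1, d1.2.1⟩ : N))⁻¹ * QuotientGroup.mk (⟨d2, d2.2.1⟩ : N) from rfl,
          map_mul, map_inv, hτd, hτd, hi]
        rw [show (QuotientGroup.mk (⟨_, hee⟩ : N) : ↥N ⧸ J.subgroupOf N) =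
          (QuotientGroup.mk (⟨_, hevN d1⟩ : N))⁻¹ * QuotientGroup.mk (⟨_, hevN d2⟩ : N) from rfl, mul_inv_rev,
          mul_comm ((ub ^ i d2)⁻¹), mul_assoc, mul_left_comm ((ub ^ i d2)⁻¹), inv_mul_cancel, mul_one]
      rw [hcb']
      exact hfix' _ hee ((show Commute (ev d1) v from hev d1).inv_left.mul_left (hev d2)).eq
    have hτc : τ cb = cb := by
      have h2 : τ * τ ∈ stabilizer (MulAut (↥N ⧸ J.subgroupOf N)) cb := by
        show (τ * τ) cb = cb
        have e1 : vb (τ cb) = τ⁻¹ cb := by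
          have := DFunLike.congr_fun he cb
          rw [MulAut.mul_apply, MulAut.mul_apply] at this
          rwa [show vb⁻¹ = vb from inv_eq_of_mul_eq_one_right hvv, hfix' c hc hcv] at this
        rw [hfixc] at e1
        rw [MulAut.mul_apply, e1, MulAut.apply_inv_self]
      have := pow_mem h2 ((Nat.card ED + 1) / 2)
      rwa [sq_pow_half hEDodd hτ] at this
    -- so it commutes with the lift
    have hxc : x ^ n * c * (x ^ n)⁻¹ * c⁻¹ ∈ J := by
      have e1 : φ ⟨x ^ n, hDS (pow_mem hx.1 n)⟩ cb = cb := by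
        rw [show φ ⟨x ^ n, hDS (pow_mem hx.1 n)⟩ = τ from hτn]; exact hτc
      rw [hcb, sectionAct_apply, QuotientGroup.eq_iff_div_mem, mem_subgroupOf, div_eq_mul_inv] at e1
      exact e1
    set z := x ^ n * c * (x ^ n)⁻¹ * c⁻¹ with hz
    have hzx : x ^ n * z = z * x ^ n :=
      h.commute_inverted hT.inv hx' (hT.normal hx'.1) hxc
    have hz1 : z ^ orderOf (x ^ n) = 1 :=
      pow_eq_one_of_conj (g := x ^ n) (x := c) (by rw [hz]; group) hzx (pow_orderOf_eq_one _)
    have hz2 : z ^ r = 1 := by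
      have hzc : Commute z c := (h.chief_central hT hN hc hxc).symm
      have h1 : (z * c) ^ r = x ^ n * c ^ r * (x ^ n)⁻¹ := by rw [hz, inv_mul_cancel_right, conj_pow]
      rwa [hzc.mul_pow, h.fix_pow hT hN hc hcv, mul_one, mul_one, mul_inv_cancel] at h1
    have hz0 : z = 1 := orderOf_eq_one_iff.1 (Nat.eq_one_of_dvd_coprimes hx'r
      (orderOf_dvd_of_pow_eq_one hz1) (orderOf_dvd_of_pow_eq_one hz2))
    have hxa := h.commute_of_torus (h.chief_le hT hN hc) hcv hc1 hx'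
      (by rw [hz, mul_inv_eq_one, mul_inv_eq_iff_eq_mul] at hz0; exact hz0.symm) hai (hab c hc a₁ ha)
    rw [← hτn]
    exact (him (x ^ n) (pow_mem hx.1 n)).2 (h.line_trivial hT hN ha hai haJ hx' hx'r (by
      rw [hxa, mul_inv_cancel_right, mul_inv_cancel]; exact one_mem _))
  -- small fixed part
  have hrefl : ¬ r < Nat.card (N ⊓ centralizer ({v} : Set G) : Subgroup G) →
      ∃ wb, Refl r vb ub wb := by
    intro hsmall
    obtain ⟨c0, hc0, hc0v, hc01⟩ := h.exists_fix_ne hT hN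
    let wb : ↥N ⧸ J.subgroupOf N := QuotientGroup.mk ⟨c0, hc0⟩
    have hwb : wb ≠ 1 := fun e =>
      hc01 (h.fix_inf hT hN (mem_subgroupOf.1 ((QuotientGroup.eq_one_iff _).1 e)) hc0v)
    have hwb' : vb wb = wb := hfix' c0 hc0 hc0v
    have hord' : orderOf wb = r := orderOf_eq_prime (hexp _) hwb
    have hzp : zpowers c0 = N ⊓ centralizer ({v} : Set G) := by
      refine eq_of_le_of_card_ge (zpowers_le.2 ⟨hc0, mem_centralizer_singleton_iff.2 hc0v⟩) ?_
      rw [Nat.card_zpowers, orderOf_eq_prime (h.fix_pow hT hN hc0 hc0v) hc01]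
      exact not_lt.1 hsmall
    refine ⟨wb, h.chief_odd hT hN, hexp, ?_, hub', hwb', hub, hwb⟩
    let F : zpowers ub × zpowers wb →* ↥N ⧸ J.subgroupOf N :=
      (zpowers ub).subtype.coprod (zpowers wb).subtype
    have hF : Function.Bijective F := by
      constructor
      · rw [← MonoidHom.ker_eq_bot_iff, eq_bot_iff]
        rintro ⟨⟨p, hp⟩, ⟨s, hs⟩⟩ hps
        have e1 : p * s = 1 := hps
        obtain ⟨i, rfl⟩ := mem_zpowers_iff.1 hp
        obtain ⟨j, rfl⟩ := mem_zpowers_iff.1 hs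
        have e2 := congrArg vb e1
        rw [map_mul, map_zpow, map_zpow, hub', hwb', map_one, inv_zpow, ← e1] at e2
        have e3 : ub ^ i = 1 := by
          have h2 : orderOf (ub ^ i) ∣ 2 := by
            rw [orderOf_dvd_iff_pow_eq_one, pow_two]
            exact eq_inv_iff_mul_eq_one.1 (mul_right_cancel e2).symm
          exact orderOf_eq_one_iff.1 (Nat.eq_one_of_dvd_coprimes
            (Nat.coprime_two_left.2 (h.chief_odd hT hN)) h2 (orderOf_dvd_of_pow_eq_one (hexp _)))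
        rw [e3, one_mul] at e1
        exact mem_bot.2 (Prod.ext (Subtype.ext e3) (Subtype.ext e1))
      · intro x
        induction x using QuotientGroup.induction_on with
        | H n =>
          obtain ⟨d, u, hd, hdv, hu, huN, hdu⟩ := h.split (h.chief_le hT hN) hN.v_mem n.2
          obtain ⟨k, j, hj, rfl⟩ := h.inv_line hT hN ha hai haJ huN hu
          have hd' : d ∈ zpowers c0 := hzp.ge ⟨hd, mem_centralizer_singleton_iff.2 hdv⟩
          obtain ⟨i, rfl⟩ := mem_zpowers_iff.1 hd'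
          refine ⟨(⟨ub ^ k, npow_mem_zpowers _ _⟩, ⟨wb ^ i, zpow_mem_zpowers _ _⟩), ?_⟩
          have hn : n = (⟨c0, hc0⟩ : N) ^ i * ((⟨a₁, ha⟩ : N) ^ k * ⟨j, hN.lt.le hj⟩) :=
            Subtype.ext (by simpa using hdu)
          rw [hn, QuotientGroup.mk_mul, QuotientGroup.mk_mul, QuotientGroup.mk_pow, QuotientGroup.mk_zpow,
            (QuotientGroup.eq_one_iff (⟨j, hN.lt.le hj⟩ : N)).2 (mem_subgroupOf.2 hj), mul_one]
          exact mul_comm _ _
    rw [← Nat.card_congr (Equiv.ofBijective F hF), Nat.card_prod, Nat.card_zpowers, Nat.card_zpowers, hord,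
      hord', pow_two]
  -- abelian invariant subgroups
  have hyED : im y h.y_mem ∈ ED := (memED _).2 ⟨y, h.y_mem, rfl⟩
  have hA : ∀ A : Subgroup (MulAut (↥N ⧸ J.subgroupOf N)), A ≤ ED → (∀ s ∈ A, ∀ t ∈ A, s * t = t * s) →
      ED ≤ normalizer (A : Set _) → vb ∈ normalizer (A : Set _) →
      ∀ τ ∈ A, vb * τ * vb⁻¹ = τ⁻¹ → τ = 1 := by
    intro A hAED hcomm hEDA hvA τ hτ he
    have hτr := hcop A hcomm hEDA hvA τ hτ
    by_cases hbig : r < Nat.card (N ⊓ centralizer ({v} : Set G) : Subgroup G)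
    · exact hbigtriv hbig τ (hAED hτ) he hτr
    obtain ⟨wb, hwb⟩ := hrefl hbig
    have hyv : Commute (im y h.y_mem) vb :=
      (mul_inv_eq_iff_eq_mul.1 (hfixim y h.y_mem h.hyv)).symm
    have hrot := hwb.rot hyv (hEDodd.of_dvd_nat (ED.orderOf_dvd_natCard hyED)) he
      (hEDodd.of_dvd_nat (ED.orderOf_dvd_natCard (hAED hτ))) hτr
      (hcomm _ hτ _ ((mem_normalizer_iff.1 (hEDA hyED) τ).1 hτ))
    obtain ⟨x, hx, rfl⟩ := lift τ (hAED hτ) he
    let K : Subgroup G :=
      { carrier := {g | ∃ hg : g ∈ D, im g hg = 1}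
        one_mem' := ⟨one_mem _, (him 1 (one_mem _)).2 fun n hn => by simp⟩
        mul_mem' := fun {g k} ⟨hg, h1⟩ ⟨hk, h2⟩ => ⟨mul_mem hg hk, by rw [← imul g hg k hk, h1, h2, one_mul]⟩
        inv_mem' := fun {g} ⟨hg, h1⟩ => ⟨inv_mem hg, by rw [← iinv g hg, h1, inv_one]⟩ }
    have hKn : ∀ g, ∀ hg : g ∈ D, g ∈ normalizer (K : Set G) := fun g hg => by
      refine mem_normalizer_of_conj_le ?_
      rintro k ⟨hk, h1⟩
      exact ⟨mul_mem (mul_mem hg hk) (inv_mem hg), by
        rw [← imul _ (mul_mem hg hk) _ (inv_mem hg), ← imul g hg k hk, h1, mul_one, ← iinv g hg,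
          mul_inv_cancel]⟩
    have hxK : x ∈ K := h.mem_of_coset (hKn y h.y_mem) hx (hKn x hx.1)
      ⟨mul_mem (inv_mem hx.1) (h.inv_conj_y hx).1, by
        rw [← imul _ (inv_mem hx.1) _ (h.inv_conj_y hx).1,
          ← imul _ (mul_mem h.y_mem hx.1) _ (inv_mem h.y_mem), ← imul y h.y_mem x hx.1, ← iinv x hx.1, ← iinv y h.y_mem,
          hrot.eq, mul_inv_cancel_right, inv_mul_cancel]⟩
    exact hxK.2
  have hcentral : ∀ L : Subgroup (MulAut (↥N ⧸ J.subgroupOf N)), L ≤ ED → ED ≤ normalizer (L : Set _) →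
      vb ∈ normalizer (L : Set _) → (∀ τ ∈ L, vb * τ * vb⁻¹ = τ⁻¹ → τ = 1) →
      ∀ g ∈ L, vb * g = g * vb ∧ ∀ σ ∈ E, σ * g = g * σ := by
    intro L hLED hEDL hvL htriv
    have hfix : ∀ g ∈ L, vb * g * vb⁻¹ = g := fun g hg => by
      have h1 := htriv ((vb * g * vb⁻¹)⁻¹ * g) (mul_mem (inv_mem ((mem_normalizer_iff.1 hvL g).1 hg)) hg) (by
        calc vb * ((vb * g * vb⁻¹)⁻¹ * g) * vb⁻¹ = (vb * vb) * g⁻¹ * (vb⁻¹ * g * vb⁻¹) := by group
          _ = g⁻¹ * (vb * g * vb⁻¹) := by rw [hvv, one_mul, inv_eq_of_mul_eq_one_right hvv]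
          _ = _ := by group)
      exact inv_mul_eq_one.1 h1
    intro g hg
    refine ⟨mul_inv_eq_iff_eq_mul.1 (hfix g hg), fun σ hσ => ?_⟩
    have hle : E ≤ centralizer ({g} : Set (MulAut (↥N ⧸ J.subgroupOf N))) := by
      refine (closure_le _).2 fun t ⟨x, hx, e⟩ => mem_centralizer_singleton_iff.2 ?_
      have htED : t ∈ ED := (memED t).2 ⟨x, hx.1, e⟩
      refine (commute_of_sq hEDodd htED (mul_inv_eq_iff_eq_mul.1 ?_)).eq
      have h1 := hfix _ ((mem_normalizer_iff.1 (hEDL htED) g).1 hg)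
      rw [show vb * (t * g * t⁻¹) * vb⁻¹ = (vb * t * vb⁻¹) * (vb * g * vb⁻¹) * (vb * t * vb⁻¹)⁻¹ by group,
        ← e, hinvim x hx, e, hfix g hg, inv_inv] at h1
      calc t * t * g * (t * t)⁻¹ = t * (t * g * t⁻¹) * t⁻¹ := by group
        _ = g := by rw [← h1]; group
    exact mem_centralizer_singleton_iff.1 (hle hσ)
  -- some inverted element acts non trivially
  obtain ⟨x0, hx0, hx0ne⟩ : ∃ x, ∃ hx : Inv a b v x, im x hx.1 ≠ 1 := by
    by_contra h0
    push Not at h0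
    let M : Subgroup G :=
      { carrier := {n | n ∈ N ∧ Inv a b v n}
        one_mem' := ⟨one_mem _, h.inv_one'⟩
        mul_mem' := fun {g k} hg hk => ⟨mul_mem hg.1 hk.1, mul_mem hg.2.1 hk.2.1, by
          rw [show v * (g * k) * v⁻¹ = (v * g * v⁻¹) * (v * k * v⁻¹) by group, hg.2.2, hk.2.2,
            h.inv_comm hT hN hg.1 hg.2 hk.1 hk.2, mul_inv_rev]⟩
        inv_mem' := fun {g} hg => ⟨inv_mem hg.1, h.inv_inv' hg.2⟩ }
    have hJM : J ≤ M := fun j hj => ⟨hN.lt.le hj, hT.inv j hj⟩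
    have hMD : pairStab G a b ≤ normalizer (M : Set G) := fun d hd => by
      obtain ⟨c, x, hc, hcv, hx, -, rfl⟩ := h.split le_rfl h.v_mem hd
      refine mul_mem (mem_normalizer_of_conj_le fun n hn =>
        ⟨(mem_normalizer_iff.1 (hN.normal hc) n).1 hn.1, h.inv_conj hc hcv hn.2⟩)
        (mem_normalizer_of_conj_le fun n hn => ?_)
      have h1 := hJM ((him x hx.1).1 (h0 x hx) n hn.1)
      have := M.mul_mem h1 hn
      rwa [inv_mul_cancel_right] at this
    have hMv : v ∈ normalizer (M : Set G) := mem_normalizer_of_conj_le fun n hn => by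
      show v * n * v⁻¹ ∈ N ∧ _
      rw [hn.2.2]; exact ⟨inv_mem hn.1, h.inv_inv' hn.2⟩
    rcases hN.min M hJM (fun n hn => hn.1) hMD hMv with e | e
    · exact haJ (e.le ⟨ha, hai⟩)
    · obtain ⟨c, hc, hcv, hc1⟩ := h.exists_fix_ne hT hN
      have hcM : c ∈ M := e.ge hc
      refine hc1 (eq_one_of_eq_inv h.odd hcM.2.1 ?_)
      rw [← hcM.2.2, ← hcv, mul_inv_cancel_right]
  by_cases hEc : ∀ s ∈ E, ∀ t ∈ E, s * t = t * s
  · exact hx0ne (hA E hEED hEc hEDE hvE _ (hgen x0 hx0) (hinvim x0 hx0))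
  -- a minimal non abelian invariant subgroup
  obtain ⟨L, ⟨hLE, hLD, hLv, hLna⟩, hLmin⟩ :=
    WellFounded.has_min (wellFounded_lt (α := Subgroup (MulAut (↥N ⧸ J.subgroupOf N))))
      {L | L ≤ E ∧ ED ≤ normalizer (L : Set _) ∧ vb ∈ normalizer (L : Set _) ∧
        ¬ ∀ s ∈ L, ∀ t ∈ L, s * t = t * s}
      ⟨E, le_rfl, hEDE, hvE, hEc⟩
  have hL'le : ⁅L, L⁆ ≤ L := commutator_le_self L
  have hL'n : ∀ g, g ∈ normalizer (L : Set (MulAut (↥N ⧸ J.subgroupOf N))) →
      g ∈ normalizer ((⁅L, L⁆ : Subgroup _) : Set (MulAut (↥N ⧸ J.subgroupOf N))) := fun g hg =>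
    le_normalizer_commutator ⟨hg, hg⟩
  have hL'ne : ⁅L, L⁆ ≠ L := fun e => by
    haveI : Nontrivial L := by
      rw [nontrivial_iff_ne_bot]
      rintro rfl
      exact hLna fun s hs t ht => by rw [mem_bot.1 hs, mem_bot.1 ht]
    haveI := Cfsg.Agent.S0205.result (odd_of_le (hLE.trans hEED) hEDodd)
    refine (Group.IsSolvable.commutator_lt_top_of_nontrivial L).ne ?_
    apply Subgroup.map_injective L.subtype_injective
    rw [_root_.commutator_def, map_commutator, ← MonoidHom.range_eq_map, range_subtype]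
    exact e
  have hL'c : ∀ s ∈ ⁅L, L⁆, ∀ t ∈ ⁅L, L⁆, s * t = t * s := by
    by_contra hc
    exact hLmin ⁅L, L⁆ ⟨hL'le.trans hLE, fun g hg => hL'n g (hLD hg), hL'n vb hLv, hc⟩
      (lt_of_le_of_ne hL'le hL'ne)
  have hL'cen := hcentral ⁅L, L⁆ (hL'le.trans (hLE.trans hEED)) (fun g hg => hL'n g (hLD hg)) (hL'n vb hLv)
    (hA _ (hL'le.trans (hLE.trans hEED)) hL'c (fun g hg => hL'n g (hLD hg)) (hL'n vb hLv))
  have hL'cop := hcop _ hL'c (fun g hg => hL'n g (hLD hg)) (hL'n vb hLv)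
  by_cases hbig : r < Nat.card (N ⊓ centralizer ({v} : Set G) : Subgroup G)
  · -- the elements of `r`-power order commute
    have hcomm : ∀ (s t : MulAut (↥N ⧸ J.subgroupOf N)) (k : ℕ), s ∈ L → t ∈ L → s ^ r ^ k = 1 →
        s * t = t * s := by
      intro s t k hs ht hsk
      have hz : ⁅s, t⁆ ∈ ⁅L, L⁆ := commutator_mem_commutator hs ht
      have h1 : ⁅s, t⁆ ^ r ^ k = 1 :=
        pow_eq_one_of_conj (g := s) (x := t) (by rw [commutatorElement_def]; group)
          ((hL'cen _ hz).2 s (hLE hs)) hsk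
      exact commutatorElement_eq_one_iff_mul_comm.1 (orderOf_eq_one_iff.1 (Nat.eq_one_of_dvd_coprimes
        ((hL'cop _ hz).pow_right k) dvd_rfl (orderOf_dvd_of_pow_eq_one h1)))
    let R : Subgroup (MulAut (↥N ⧸ J.subgroupOf N)) :=
      { carrier := {s | s ∈ L ∧ ∃ k : ℕ, s ^ r ^ k = 1}
        one_mem' := ⟨one_mem _, 0, one_pow _⟩
        mul_mem' := by
          rintro s t ⟨hs, k, hk⟩ ⟨ht, l, hl⟩
          refine ⟨mul_mem hs ht, k + l, ?_⟩
          rw [(show Commute s t from hcomm s t k hs ht hk).mul_pow, pow_add r, pow_mul, hk, one_pow, one_mul,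
            mul_comm (r ^ k), pow_mul, hl, one_pow]
        inv_mem' := fun {s} hs => ⟨inv_mem hs.1, hs.2.choose, by
          rw [_root_.inv_pow, hs.2.choose_spec, inv_one]⟩ }
    have hRn : ∀ g, g ∈ normalizer (L : Set (MulAut (↥N ⧸ J.subgroupOf N))) →
        g ∈ normalizer (R : Set _) := fun g hg =>
      mem_normalizer_of_conj_le fun s hs => ⟨(mem_normalizer_iff.1 hg s).1 hs.1, hs.2.choose, by
        rw [conj_pow, hs.2.choose_spec, mul_one, mul_inv_cancel]⟩
    have hRbot := hR R (fun g hg => hRn g (hLD hg)) (hRn vb hLv) fun s =>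
      ⟨s.2.2.choose, Subtype.ext s.2.2.choose_spec⟩
    have htriv : ∀ τ ∈ L, vb * τ * vb⁻¹ = τ⁻¹ → τ = 1 := fun τ hτ he =>
      hbigtriv hbig τ (hEED (hLE hτ)) he <| ((hN.prime.coprime_iff_not_dvd.2) fun hd => by
        have h1 : τ ^ (orderOf τ / r) ∈ R := ⟨pow_mem hτ _, 1, by
          rw [pow_one, ← pow_mul, Nat.div_mul_cancel hd, pow_orderOf_eq_one]⟩
        rw [hRbot, mem_bot] at h1
        exact absurd (Nat.le_of_dvd (Nat.div_pos (Nat.le_of_dvd (orderOf_pos τ) hd) hN.prime.pos)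
          (orderOf_dvd_of_pow_eq_one h1)) (not_le.2 (Nat.div_lt_self (orderOf_pos τ) hN.prime.one_lt))).symm
    exact hLna fun s hs t ht =>
      ((hcentral L (hLE.trans hEED) hLD hLv htriv t ht).2 s (hLE hs))
  · obtain ⟨wb, hwb⟩ := hrefl hbig
    obtain ⟨z, hz, hz1⟩ : ∃ z ∈ ⁅L, L⁆, z ≠ 1 := by
      by_contra h0
      push Not at h0
      exact hLna fun s hs t ht =>
        commutatorElement_eq_one_iff_mul_comm.1 (h0 _ (commutator_mem_commutator hs ht))
    have hdet : ∀ f : MulAut (↥N ⧸ J.subgroupOf N) →* ZMod r, f z = 1 := fun f => by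
      have hle : ⁅L, L⁆ ≤ f.toHomUnits.ker := commutator_le.2 fun s _ t _ => by
        rw [MonoidHom.mem_ker, map_commutatorElement, commutatorElement_eq_one_iff_mul_comm]
        exact mul_comm _ _
      exact congrArg Units.val (hle hz)
    obtain ⟨hzv, hzE⟩ := hL'cen z hz
    have hz' : z ∈ ED := hEED (hLE (hL'le hz))
    exact hx0ne (hwb.eq_one_of_commute hzv.symm (hEDodd.of_dvd_nat (ED.orderOf_dvd_natCard hz')) hz1 hdet
      (hinvim x0 hx0) (hEDodd.of_dvd_nat (ED.orderOf_dvd_natCard ((memED _).2 ⟨x0, hx0.1, rfl⟩)))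
      (hzE _ (hgen x0 hx0)))

end Ctx

end CfsgLib.Bender.NRegK
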