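import Cfsg.Agent.Lib.Bender.Gen.NoMoveAffine
import Cfsg.Agent.Lib.GW.ZJFactor
import Cfsg.Agent.Lib.LocalEven.QuadSylowTwo
import Cfsg.Agent.Lib.PLocal.SLTwo.QdExtension
import Cfsg.Agent.Lib.OddGated.Metacyclic
import Cfsg.Agent.Lib.Components.Subnormal

/-!
Owner: helper27. Group lemmas for the second case of `UM` (slice B of `notes/bender_gen_slices.md`).

* `zj_le`: `H = O_{p'}(H) N_H(ZJ(T))` in solvable subgroups with abelian Sylow 2-subgroups
* `commutator_closure_sup_le`: a closure of elements commuting modulo `K`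
-/

set_option autoImplicit false
set_option linter.style.haveILetI false
set_option linter.unusedSectionVars false

namespace CfsgLib.Bender

open Subgroup Cfsg
open scoped commutatorElement

variable {G : Type*} [Group G] [Finite G] {p : ℕ}

/-- Abelian Sylow 2-subgroups rule out `Qd(p)`. -/
theorem noQd_of_comm_sylow_two {X : Type*} [Group X] [Finite X] [Fact p.Prime] (hp : p ≠ 2)
    (S : Sylow 2 X) (hS : ∀ a ∈ (S : Subgroup X), ∀ b ∈ (S : Subgroup X), a * b = b * a) :
    CfsgLib.PLocal.SLTwo.NoQd p X := by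
  intro hq
  obtain ⟨K, R, hR, ⟨e⟩⟩ := hq
  have : Fact (Nat.Prime 2) := ⟨Nat.prime_two⟩
  have hsl : Cfsg.Involves (Matrix.SpecialLinearGroup (Fin 2) (ZMod p)) X :=
    CfsgLib.Fusion.involves_of_surjective K.subtype K.subtype_injective
      ((CfsgLib.PLocal.SLTwo.linHom.comp e.toMonoidHom).comp (QuotientGroup.mk' (R.subgroupOf K)))
      (by
        rw [MonoidHom.coe_comp, MonoidHom.coe_comp]
        exact (Function.Surjective.comp (fun x => ⟨_, CfsgLib.PLocal.SLTwo.linHom_aff x 0⟩)
          e.surjective).comp (QuotientGroup.mk'_surjective _))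
  obtain ⟨Q, hQ, hQc⟩ := CfsgLib.Transfer.exists_two_subgroup_SLTwo (p := p) hp
  exact CfsgLib.LocalEven.QuadSylowTwo.not_involves_of_shape hp hQc (⊤ : Subgroup ↥(S : Subgroup X))
    (fun a _ b _ => Subtype.ext (hS a a.2 b b.2)) (fun x hx => absurd (mem_top x) hx)
    (CfsgLib.Fusion.involves_sylow hsl Q hQ S (MonoidHom.id _) Function.injective_id)

/-- Glauberman's factorisation inside a subgroup. -/
theorem zj_le [Fact p.Prime] (hp : p ≠ 2) {H T : Subgroup G} (hT : IsSyl p T H)
    (hs : Group.IsSolvable H)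
    (hc : ∀ S : Subgroup G, S ≤ H → IsPGroup 2 S → ∀ a ∈ S, ∀ b ∈ S, a * b = b * a) :
    H ≤ opp p H ⊔ (H ⊓ normalizer (centerThompsonAOf T : Set G)) := by
  obtain ⟨S⟩ : Nonempty (Sylow 2 H) := inferInstance
  have hnq : CfsgLib.PLocal.SLTwo.NoQd p H := noQd_of_comm_sylow_two hp S fun a ha b hb =>
    Subtype.ext (hc _ (map_subtype_le _) (S.2.map H.subtype) a ⟨a, ha, rfl⟩ b ⟨b, hb, rfl⟩)
  haveI := hs
  set P : Sylow p H := Sylow.ofCard (T.subgroupOf H)
    (by rw [Nat.card_congr (subgroupOfEquivOfLe hT.le).toEquiv]; exact hT.2) with hP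
  have hPT : (P : Subgroup H).map H.subtype = T := by
    rw [hP, Sylow.coe_ofCard]; exact map_subgroupOf_eq_of_le hT.le
  have hfac := CfsgLib.GW.zj_factor hp hnq inferInstance P
  intro x hx
  have h1 : (⟨x, hx⟩ : H) ∈ pPrimeCore p H ⊔ normalizer (centerThompsonAOf (P : Subgroup H) : Set H) :=
    hfac ▸ mem_top _
  have h2 : x ∈ (pPrimeCore p H ⊔ normalizer (centerThompsonAOf (P : Subgroup H) : Set H)).map H.subtype :=
    ⟨_, h1, rfl⟩
  rw [Subgroup.map_sup] at h2
  refine sup_le_sup le_rfl (le_inf (map_subtype_le _) ?_) h2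
  refine (le_normalizer_map H.subtype).trans ?_
  rw [CfsgLib.PLocal.centerThompsonA_map H.subtype _
    (by rw [H.ker_subtype]; exact disjoint_bot_right), hPT]

/-- Elements of order prime to `|Q|` of `A Q` lie in `A`. -/
theorem mem_left_of_coprime {A Q : Subgroup G} (hQ : Q ≤ normalizer (A : Set G)) {z : G}
    (hz : z ∈ A ⊔ Q) (hc : (orderOf z).Coprime (Nat.card Q)) : z ∈ A := by
  obtain ⟨q, hq, a, ha, rfl⟩ := (CfsgLib.Core.mem_sup_iff_mul hQ).1 (by rwa [sup_comm] at hz)
  have hmod : ∀ j : ℕ, (q * a) ^ j * (q ^ j)⁻¹ ∈ A := by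
    intro j
    induction j with
    | zero => simp
    | succ j ih =>
      rw [show (q * a) ^ (j + 1) * (q ^ (j + 1))⁻¹ =
        ((q * a) ^ j * (q ^ j)⁻¹) * (q ^ (j + 1) * a * (q ^ (j + 1))⁻¹) by
        rw [pow_succ (q * a), pow_succ q]; group]
      exact mul_mem ih ((mem_normalizer_iff.1 (hQ (pow_mem hq _)) a).1 ha)
  have h1 := hmod (Nat.card Q)
  rw [orderOf_dvd_iff_pow_eq_one.1 (Q.orderOf_dvd_natCard hq), inv_one, mul_one] at h1
  obtain ⟨m, hm⟩ := exists_pow_eq_self_of_coprime hc.symm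
  exact hm ▸ pow_mem h1 m

/-- A closure of elements commuting modulo `K` is abelian modulo `K`. -/
theorem commutator_closure_sup_le {K : Subgroup G} {S : Set G} (hS : S ⊆ normalizer (K : Set G))
    (h : ∀ s ∈ S, ∀ t ∈ S, ⁅s, t⁆ ∈ K) : ⁅closure S ⊔ K, closure S ⊔ K⁆ ≤ K := by
  set M := normalizer (K : Set G) with hM
  haveI : (K.subgroupOf M).Normal := normal_subgroupOf_of_le_normalizer le_rfl
  set f := QuotientGroup.mk' (K.subgroupOf M) with hf
  set S' : Set M := M.subtype ⁻¹' S with hS'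
  set A : Subgroup M := closure S' ⊔ K.subgroupOf M with hA
  have hAG : A.map M.subtype = closure S ⊔ K := by
    rw [hA, Subgroup.map_sup, MonoidHom.map_closure, map_subgroupOf_eq_of_le le_normalizer, hS',
      Set.image_preimage_eq_of_subset (fun s hs => ⟨⟨s, hS hs⟩, rfl⟩)]
  have hcomm : A.map f ≤ centralizer (A.map f : Set (M ⧸ K.subgroupOf M)) := by
    have e : A.map f = closure (f '' S') := by
      rw [hA, Subgroup.map_sup, MonoidHom.map_closure, hf, QuotientGroup.map_mk'_self, sup_bot_eq]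
    rw [e, centralizer_closure, closure_le]
    rintro _ ⟨s, hs, rfl⟩
    refine mem_centralizer_iff.2 ?_
    rintro _ ⟨t, ht, rfl⟩
    rw [← commutatorElement_eq_one_iff_mul_comm, ← map_commutatorElement]
    exact (QuotientGroup.eq_one_iff _).2 (h (t : G) ht (s : G) hs)
  have h0 : ⁅A, A⁆ ≤ K.subgroupOf M := by
    rw [← QuotientGroup.ker_mk' (K.subgroupOf M), ← Subgroup.map_eq_bot_iff, ← hf, map_commutator]
    exact commutator_eq_bot_iff_le_centralizer.2 hcomm
  rw [← hAG, ← map_commutator]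
  exact (map_mono h0).trans (map_subgroupOf_eq_of_le le_normalizer).le

/-- A subgroup whose derived group lies in a solvable subgroup is solvable. -/
theorem isSolvable_of_commutator_le {A K : Subgroup G} (hK : Group.IsSolvable K) (h : ⁅A, A⁆ ≤ K) :
    Group.IsSolvable A := by
  have h1 : Group.IsSolvable ((commutator A).map A.subtype) :=
    CfsgLib.Core.isSolvable_of_le hK ((map_subtype_commutator A).le.trans h)
  haveI := h1
  have h2 : Group.IsSolvable (commutator A) := Group.isSolvable_of_surjective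
    (f := ((commutator A).equivMapOfInjective _ A.subtype_injective).symm.toMonoidHom)
    (MulEquiv.surjective _)
  exact CfsgLib.OddGated.isSolvable_of_normal (commutator A) h2
    (Group.isSolvable_of_comm fun a b => by
      exact (inferInstance : CommGroup (Abelianization A)).mul_comm a b)

end CfsgLib.Bender
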