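import Cfsg.Agent.Lib.PGroups.FixedPointRank
import Cfsg.Agent.Lib.Bender.Gen.NoMoveZJ
import Cfsg.Agent.Lib.Transfer.RankTwo

/-!
Owner: helper27. General Bender theorem, sub-slice G4, part 1: an odd group acting faithfully on an
abelian group so that the fixed points of each element form a cyclic group of order `2 ^ e - 1`, with
the normaliser of the element acting on them by powers of `x ↦ x ^ 2`.

* `Act` : the hypotheses; `IsEvil` : a fixed-point-free element of prime order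
* `Act.card_fix` : `e` is the order of each evil element normalising the element
* `Act.eq_one_of_fix` : generation by fixed points of an elementary group of order `p ^ 2`
* `Act.no_rank_two` : no elementary `p`-group of rank two when the `p`-part of the module is not cyclic
* `Act.mem_of_kills`, `Act.no_p_quot` : the transfer conditions
-/

set_option autoImplicit false
set_option linter.style.haveILetI false
set_option linter.unusedSectionVars false

namespace CfsgLib.Bender.NSubB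

open Subgroup
open CfsgLib.PGroups.FixRank (Fix fixedSub stab restr mem_stab)
open scoped commutatorElement

section Aux

variable {X : Type*} [Group X]

theorem pow_exp_aux {M : Type*} [Monoid M] {m : M} {e : ℕ} (h : m ^ 2 ^ e = m) (k : ℕ) :
    m ^ 2 ^ (k * e) = m := by
  induction k with
  | zero => simp
  | succ k ih => rw [Nat.succ_mul, pow_add, pow_mul, ih, h]

theorem exists_pow_conj {n x : X} (h : n * x * n⁻¹ ∈ zpowers x) :
    ∃ k : ℤ, ∀ j : ℕ, n ^ j * x * (n ^ j)⁻¹ = x ^ (k ^ j) := by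
  obtain ⟨k, hk⟩ := mem_zpowers_iff.1 h
  exact ⟨k, CfsgLib.Core.UniqueOrderP.conj_pow_zpow hk.symm⟩

/-- An element with a `p`-power commuting with `x` of order `p`, normalising `⟨x⟩`, commutes with `x`. -/
theorem commute_of_normalizes_prime {p : ℕ} [Fact p.Prime] {n x : X} (hx : orderOf x = p)
    (h : n * x * n⁻¹ ∈ zpowers x) {j : ℕ} (hj : Commute (n ^ p ^ j) x) : Commute n x := by
  obtain ⟨k, hk⟩ := exists_pow_conj h
  have h1 := hk (p ^ j)
  rw [hj.eq, mul_inv_cancel_right] at h1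
  have h2 : x ^ (k ^ p ^ j - 1) = 1 := by rw [zpow_sub, ← h1, zpow_one, mul_inv_cancel]
  have h3 := orderOf_dvd_iff_zpow_eq_one.mpr h2
  rw [hx, ← ZMod.intCast_zmod_eq_zero_iff_dvd] at h3
  push_cast at h3
  rw [ZMod.pow_card_pow, sub_eq_zero] at h3
  have h4 : (p : ℤ) ∣ k - 1 := by
    rw [← ZMod.intCast_zmod_eq_zero_iff_dvd]; push_cast; rw [h3, sub_self]
  have h5 : x ^ k = x := by
    rw [← hx, orderOf_dvd_iff_zpow_eq_one, zpow_sub, zpow_one, mul_inv_eq_one] at h4
    exact h4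
  have h6 := hk 1
  rw [pow_one, pow_one, h5, mul_inv_eq_iff_eq_mul] at h6
  exact h6

/-- Commutators centralise a cyclic subgroup normalised by both factors. -/
theorem commute_commutator_cyclic {a b x : X} (ha : a ∈ normalizer (zpowers x : Set X))
    (hb : b ∈ normalizer (zpowers x : Set X)) : Commute ⁅a, b⁆ x := by
  have key : ∀ c : X, c ∈ normalizer (zpowers x : Set X) → ∃ k : ℤ, c * x * c⁻¹ = x ^ k := fun c hc =>
    let ⟨k, hk⟩ := mem_zpowers_iff.1 ((mem_normalizer_iff.1 hc x).1 (mem_zpowers x))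
    ⟨k, hk.symm⟩
  obtain ⟨i, hi⟩ := key a ha
  obtain ⟨j, hj⟩ := key b hb
  obtain ⟨i', hi'⟩ := key a⁻¹ (inv_mem ha)
  obtain ⟨j', hj'⟩ := key b⁻¹ (inv_mem hb)
  have conjz : ∀ (c : X) (k l : ℤ), c * x * c⁻¹ = x ^ k → c * x ^ l * c⁻¹ = x ^ (k * l) := fun c k l h => by
    rw [← conj_zpow, h, zpow_mul]
  have ea : x ^ (i * i') = x := by
    rw [← conjz a i i' hi, ← hi']; group
  have eb : x ^ (j * j') = x := by
    rw [← conjz b j j' hj, ← hj']; group
  refine mul_inv_eq_iff_eq_mul.1 ?_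
  calc ⁅a, b⁆ * x * ⁅a, b⁆⁻¹ = a * (b * (a⁻¹ * (b⁻¹ * x * b⁻¹⁻¹) * a⁻¹⁻¹) * b⁻¹) * a⁻¹ := by
        rw [commutatorElement_def]; group
    _ = x ^ (i * (j * (i' * j'))) := by rw [hj', conjz _ _ _ hi', conjz _ _ _ hj, conjz _ _ _ hi]
    _ = (x ^ (i * i')) ^ (j * j') := by rw [← zpow_mul]; congr 1; ring
    _ = x := by rw [ea, eb]

/-- In a cyclic subgroup an element of exponent `p` lies in the subgroup of each element of order `p`. -/
theorem mem_zpowers_of_cyclic {p : ℕ} [Fact p.Prime] {F : Subgroup X} [Finite F] (hF : IsCyclic F)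
    {m l : X} (hm : m ∈ F) (hl : l ∈ F) (hmp : m ^ p = 1) (hlp : orderOf l = p) : m ∈ zpowers l := by
  classical
  haveI := Fintype.ofFinite F
  set s : Finset F := Finset.univ.filter fun x : F => x ^ p = 1
  have h1 : s.card ≤ p := IsCyclic.card_pow_eq_one_le (Fact.out : p.Prime).pos
  let f : Fin p → F := fun i => ⟨l, hl⟩ ^ (i : ℕ)
  have hf : Function.Injective f := fun i j h => Fin.ext
    (pow_injOn_Iio_orderOf (by rw [Set.mem_Iio, Subgroup.orderOf_mk, hlp]; exact i.2)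
      (by rw [Set.mem_Iio, Subgroup.orderOf_mk, hlp]; exact j.2) h)
  have hlp' : (⟨l, hl⟩ : F) ^ p = 1 := Subtype.ext (by
    show l ^ p = 1
    rw [← hlp]; exact pow_orderOf_eq_one l)
  have h2 : Finset.univ.image f ⊆ s := fun x hx => by
    obtain ⟨i, -, rfl⟩ := Finset.mem_image.1 hx
    refine Finset.mem_filter.2 ⟨Finset.mem_univ _, ?_⟩
    show (_ ^ (i : ℕ)) ^ p = 1
    rw [← pow_mul, mul_comm, pow_mul, hlp', one_pow]
  have h3 := Finset.eq_of_subset_of_card_le h2 (by
    rw [Finset.card_image_of_injective _ hf, Finset.card_univ, Fintype.card_fin]; exact h1)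
  obtain ⟨i, -, hi⟩ := Finset.mem_image.1 (h3.symm ▸ Finset.mem_filter.2
    ⟨Finset.mem_univ (⟨m, hm⟩ : F), Subtype.ext hmp⟩ : (⟨m, hm⟩ : F) ∈ Finset.univ.image f)
  exact ⟨(i : ℕ), (zpow_natCast l (i : ℕ)).trans (congrArg Subtype.val hi)⟩

variable [Finite X]

/-- An element whose `p ^ k`-th power lies in `N` is congruent to one of its powers of `p`-power order. -/
theorem exists_p_part {p : ℕ} [Fact p.Prime] (N : Subgroup X) {a : X} {k : ℕ} (ha : a ^ p ^ k ∈ N) :
    ∃ c ∈ zpowers a, a⁻¹ * c ∈ N ∧ ∃ e, c ^ p ^ e = 1 := by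
  obtain ⟨e, m, hm, hord⟩ :=
    Nat.exists_eq_pow_mul_and_not_dvd (orderOf_pos a).ne' p (Fact.out : p.Prime).ne_one
  have hcop : (p ^ k).Coprime m := (((Fact.out : p.Prime).coprime_iff_not_dvd).2 hm).pow_left k
  have hgcd : (p ^ k : ℤ) * Nat.gcdA (p ^ k) m + (m : ℤ) * Nat.gcdB (p ^ k) m = 1 := by
    have h := Nat.gcd_eq_gcd_ab (p ^ k) m
    rw [show Nat.gcd (p ^ k) m = 1 from hcop, Nat.cast_one, Nat.cast_pow] at h
    exact h.symm
  set r : ℤ := (m : ℤ) * Nat.gcdB (p ^ k) m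
  refine ⟨a ^ r, zpow_mem (mem_zpowers a) r, ?_, e, ?_⟩
  · have : a⁻¹ * a ^ r = (a ^ p ^ k) ^ (-Nat.gcdA (p ^ k) m) := by
      rw [← zpow_natCast a, ← zpow_mul, ← zpow_neg_one, ← zpow_add]
      congr 1
      push_cast
      linear_combination hgcd
    rw [this]
    exact zpow_mem ha _
  · rw [← zpow_natCast, ← zpow_mul, show r * ((p ^ e : ℕ) : ℤ) = (orderOf a : ℤ) * Nat.gcdB (p ^ k) m by
      rw [hord]; push_cast; ring, zpow_mul, zpow_natCast, pow_orderOf_eq_one, one_zpow]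

/-- A nontrivial normal subgroup of a `p`-group modulo a smaller one meets the centre of the quotient. -/
theorem exists_step {p : ℕ} [Fact p.Prime] {P N Z : Subgroup X} (hP : IsPGroup p P) (hNP : N ≤ P)
    (hZN : Z ≤ N) (hne : ¬ N ≤ Z) (hPN : P ≤ normalizer (N : Set X)) (hPZ : P ≤ normalizer (Z : Set X)) :
    ∃ a ∈ N, a ∉ Z ∧ ∀ x ∈ P, ⁅x, a⁆ ∈ Z := by
  haveI : (Z.subgroupOf P).Normal := normal_subgroupOf_of_le_normalizer hPZ
  haveI : (N.subgroupOf P).Normal := normal_subgroupOf_of_le_normalizer hPN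
  set π := QuotientGroup.mk' (Z.subgroupOf P) with hπ
  haveI : ((N.subgroupOf P).map π).Normal := Subgroup.Normal.map inferInstance π (QuotientGroup.mk'_surjective _)
  have hN : (N.subgroupOf P).map π ≠ ⊥ := by
    rw [Ne, Subgroup.map_eq_bot_iff, hπ, QuotientGroup.ker_mk']
    exact fun h => hne fun n hn => h (show (⟨n, hNP hn⟩ : P) ∈ N.subgroupOf P from hn)
  obtain ⟨⟨q, hq, hqc⟩, hq1⟩ := ne_bot_iff_exists_ne_one.1
    (CfsgLib.PGroups.inf_center_ne_bot (hP.to_quotient (Z.subgroupOf P)) hN)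
  obtain ⟨a, ha, rfl⟩ := hq
  refine ⟨a, ha, fun h => hq1 (Subtype.ext ((QuotientGroup.eq_one_iff a).2 h)), fun x hx => ?_⟩
  have h : π ⁅(⟨x, hx⟩ : P), a⁆ = 1 := by
    rw [map_commutatorElement, commutatorElement_eq_one_iff_mul_comm]
    exact mem_center_iff.1 hqc _
  exact (QuotientGroup.eq_one_iff (N := Z.subgroupOf P) _).1 h

/-- A solvable subgroup equal to a normal subgroup times its derived group is that subgroup. -/
theorem le_of_sup_derived {F C : Subgroup X} (hC : Group.IsSolvable C) (hFC : F ≤ C)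
    (hn : C ≤ normalizer (F : Set X)) (h : C ≤ F ⊔ ⁅C, C⁆) : C ≤ F := by
  haveI := hC
  haveI : (F.subgroupOf C).Normal := normal_subgroupOf_of_le_normalizer hn
  set π := QuotientGroup.mk' (F.subgroupOf C) with hπ
  haveI : Group.IsSolvable (C ⧸ F.subgroupOf C) :=
    Group.isSolvable_of_surjective (QuotientGroup.mk'_surjective _)
  have htop : F.subgroupOf C ⊔ commutator C = ⊤ := by
    refine eq_top_iff.2 fun c _ => ?_
    have hc : (c : X) ∈ (F.subgroupOf C ⊔ commutator C).map C.subtype := by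
      rw [Subgroup.map_sup, map_subgroupOf_eq_of_le hFC, map_subtype_commutator]
      exact h c.2
    obtain ⟨c', hc', e⟩ := hc
    rwa [← Subtype.ext e]
  have hperf : commutator (C ⧸ F.subgroupOf C) = ⊤ := by
    have h1 := congrArg (Subgroup.map π) htop
    rw [Subgroup.map_sup, hπ, QuotientGroup.map_mk'_self, bot_sup_eq, commutator_def, map_commutator,
      Subgroup.map_top_of_surjective _ (QuotientGroup.mk'_surjective _)] at h1
    rwa [commutator_def]
  intro c hc
  by_contra hcF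
  haveI : Nontrivial (C ⧸ F.subgroupOf C) :=
    ⟨π ⟨c, hc⟩, 1, fun e => hcF ((QuotientGroup.eq_one_iff (N := F.subgroupOf C) _).1 e)⟩
  exact (Group.IsSolvable.commutator_lt_top_of_nontrivial (G := C ⧸ F.subgroupOf C)).ne hperf

end Aux

variable {X : Type*} [Group X] [Finite X] {M : Type*} [CommGroup M] [Finite M]

/-- A fixed-point-free element of prime order. -/
def IsEvil (φ : X →* MulAut M) (z : X) : Prop := (orderOf z).Prime ∧ ¬ Fix φ z

/-- An odd group acting with cyclic fixed groups of order `2 ^ e - 1`. -/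
structure Act (φ : X →* MulAut M) : Prop where
  odd : Odd (Nat.card X)
  inj : Function.Injective φ
  cyc : ∀ g : X, g ≠ 1 → Fix φ g →
    IsCyclic (fixedSub φ g) ∧ ∃ e, 2 ≤ e ∧ Nat.card (fixedSub φ g) = 2 ^ e - 1
  gal : ∀ g : X, g ≠ 1 → ∀ d : X, d * g * d⁻¹ ∈ zpowers g → Fix φ g →
    ∃ i : ℕ, ∀ m ∈ fixedSub φ g, φ d m = m ^ 2 ^ i
  evil : ∃ z, IsEvil φ z
  kills : ∀ q : ℕ, q.Prime → ∀ (ξ : X →* Multiplicative (ZMod q)) (y : X),
    (∃ k, y ^ q ^ k = 1) → (∀ z ∈ zpowers y, ¬ IsEvil φ z) → ξ y = 1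

/-- The elements of `p`-power order of the module. -/
def pTor (M : Type*) [CommGroup M] (p : ℕ) : Subgroup M where
  carrier := {m | ∃ k, m ^ p ^ k = 1}
  one_mem' := ⟨0, one_pow _⟩
  mul_mem' := fun {a b} ⟨i, hi⟩ ⟨j, hj⟩ => ⟨i + j, by
    rw [mul_pow, pow_add, pow_mul, hi, one_pow, one_mul, mul_comm (p ^ i), pow_mul, hj, one_pow]⟩
  inv_mem' := fun {a} ⟨i, hi⟩ => ⟨i, by rw [inv_pow, hi, inv_one]⟩

/-- The elements of order prime to `p` of the module. -/
def pCo (M : Type*) [CommGroup M] (p : ℕ) : Subgroup M where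
  carrier := {m | (orderOf m).Coprime p}
  one_mem' := by simp
  mul_mem' := fun {a b} ha hb => ((Nat.Coprime.mul_left ha hb).coprime_dvd_left
    (((Commute.all a b).orderOf_mul_dvd_lcm).trans (Nat.lcm_dvd_mul _ _)))
  inv_mem' := fun {a} ha => show (orderOf a⁻¹).Coprime p by rw [orderOf_inv]; exact ha

omit [Finite X] [Finite M] in
theorem inv_apply (φ : X →* MulAut M) (d : X) (m : M) : φ d⁻¹ (φ d m) = m := by
  rw [map_inv]; exact (φ d).symm_apply_apply m

omit [Finite X] [Finite M] in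
theorem apply_inv (φ : X →* MulAut M) (d : X) (m : M) : φ d (φ d⁻¹ m) = m := by
  rw [map_inv]; exact (φ d).apply_symm_apply m

/-- The elements fixing a subgroup of the module pointwise. -/
def fixer (φ : X →* MulAut M) (S : Set M) : Subgroup X where
  carrier := {x | ∀ m ∈ S, φ x m = m}
  one_mem' := fun m _ => by simp
  mul_mem' := fun {x y} hx hy m hm => by rw [map_mul, MulAut.mul_apply, hy m hm, hx m hm]
  inv_mem' := fun {x} hx m hm => by
    conv_lhs => rw [← hx m hm]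
    exact inv_apply φ x m

variable {φ : X →* MulAut M}

theorem fixedSub_mono {g h : X} (hh : h ∈ zpowers g) : fixedSub φ g ≤ fixedSub φ h := fun m hm =>
  (zpowers_le.2 (show g ∈ fixer φ {m} from fun m' hm' => by rw [hm']; exact hm) hh) m rfl

theorem fix_of_mem {g h : X} (hg : Fix φ g) (hh : h ∈ zpowers g) : Fix φ h :=
  let ⟨m, hm1, hm⟩ := hg
  ⟨m, hm1, fixedSub_mono hh (show m ∈ fixedSub φ g from hm)⟩

theorem fixedSub_conj (d g : X) (m : M) :
    m ∈ fixedSub φ (d * g * d⁻¹) ↔ φ d⁻¹ m ∈ fixedSub φ g := by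
  show φ (d * g * d⁻¹) m = m ↔ φ g (φ d⁻¹ m) = φ d⁻¹ m
  rw [map_mul, map_mul, MulAut.mul_apply, MulAut.mul_apply]
  constructor
  · intro h
    conv_rhs => rw [← h, inv_apply]
  · intro h
    rw [h, apply_inv]

theorem fix_conj {g : X} (hg : Fix φ g) (d : X) : Fix φ (d * g * d⁻¹) := by
  obtain ⟨m, hm1, hm⟩ := hg
  refine ⟨φ d m, fun h => hm1 ((φ d).injective (h.trans (map_one _).symm)), ?_⟩
  show φ d m ∈ fixedSub φ (d * g * d⁻¹)
  rw [fixedSub_conj, inv_apply]
  exact hm

theorem IsEvil.conj {z : X} (hz : IsEvil φ z) (d : X) : IsEvil φ (d * z * d⁻¹) :=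
  ⟨by rw [CfsgLib.Signalizer.orderOf_conj]; exact hz.1,
    fun h => hz.2 (by simpa [mul_assoc] using fix_conj h d⁻¹)⟩

theorem zpowers_eq_of_prime {g h : X} (hg : (orderOf g).Prime) (hh : h ∈ zpowers g) (h1 : h ≠ 1) :
    zpowers h = zpowers g := by
  haveI := Fact.mk hg
  obtain ⟨k, rfl⟩ := hh
  refine eq_of_le_of_card_ge (zpowers_le.2 (zpow_mem (mem_zpowers g) k)) ?_
  rw [Nat.card_zpowers, Nat.card_zpowers, orderOf_eq_prime
    (by rw [← zpow_natCast, ← zpow_mul, mul_comm, zpow_mul, zpow_natCast, pow_orderOf_eq_one, one_zpow]) h1]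

theorem IsEvil.of_mem_zpowers {z y : X} (hz : IsEvil φ z) (hy : y ∈ zpowers z) (h1 : y ≠ 1) :
    IsEvil φ y := by
  have h := zpowers_eq_of_prime hz.1 hy h1
  refine ⟨?_, fun hf => hz.2 (fix_of_mem hf (h.symm ▸ mem_zpowers z))⟩
  rw [← Nat.card_zpowers, h, Nat.card_zpowers]
  exact hz.1

theorem not_isEvil_of_fix {g : X} (hg : (orderOf g).Prime) (hf : Fix φ g) :
    ∀ z ∈ zpowers g, ¬ IsEvil φ z := fun z hz he => he.2 (fix_of_mem hf hz)

/-- A `p`-element has a fixed point on each invariant subgroup of order divisible by `p`. -/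
theorem exists_fixed_pgroup {p : ℕ} [Fact p.Prime] {y : X} {k : ℕ} (hy : y ^ p ^ k = 1) {W : Subgroup M}
    (hW : ∀ m ∈ W, φ y m ∈ W) (hd : p ∣ Nat.card W) : ∃ m ∈ W, m ≠ 1 ∧ φ y m = m := by
  set r := restr φ W ⟨y, mem_stab φ hW⟩ with hr
  have hr1 : r ^ p ^ k = 1 := by
    rw [hr, ← map_pow]
    have e : (⟨y, mem_stab φ hW⟩ : stab φ W) ^ p ^ k = 1 := Subtype.ext hy
    rw [e, map_one]
  have hP : IsPGroup p (zpowers r) := by
    obtain ⟨i, -, hi⟩ := (Nat.dvd_prime_pow Fact.out).1 (orderOf_dvd_of_pow_eq_one hr1)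
    exact IsPGroup.of_card (n := i) (by rw [Nat.card_zpowers, hi])
  obtain ⟨m, hm, hm1⟩ := hP.exists_fixed_point_of_prime_dvd_card_of_fixed_point W hd
    (a := 1) (fun g => map_one (g : MulAut W))
  refine ⟨m, m.2, fun h => hm1 (Subtype.ext h).symm, ?_⟩
  exact congrArg Subtype.val (hm ⟨r, mem_zpowers r⟩)

theorem IsEvil.coprime {z : X} (hz : IsEvil φ z) : (Nat.card M).Coprime (orderOf z) := by
  refine (hz.1.coprime_iff_not_dvd.2 fun hd => ?_).symm
  haveI := Fact.mk hz.1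
  obtain ⟨m, -, hm1, hm⟩ := exists_fixed_pgroup (φ := φ) (p := orderOf z) (k := 1) (y := z)
    (by rw [pow_one, pow_orderOf_eq_one]) (W := ⊤) (fun m _ => mem_top _) (by rwa [card_top])
  exact hz.2 ⟨m, hm1, hm⟩

/-- The elements congruent to a `p`-th power. -/
def powSub (p : ℕ) (N : Subgroup X) (hN : commutator X ≤ N) : Subgroup X :=
  haveI : N.Normal := Subgroup.Normal.of_commutator_le X hN
  { carrier := {a | ∃ b : X, (QuotientGroup.mk' N) a = (QuotientGroup.mk' N) b ^ p}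
    one_mem' := ⟨1, by simp⟩
    mul_mem' := fun {a a'} ⟨b, hb⟩ ⟨b', hb'⟩ => ⟨b * b', by
      rw [map_mul, map_mul, hb, hb', Commute.mul_pow]
      show _ = _
      rw [← commutatorElement_eq_one_iff_mul_comm, ← map_commutatorElement]
      exact (QuotientGroup.eq_one_iff _).2
        (hN (commutator_mem_commutator (mem_top b) (mem_top b')))⟩
    inv_mem' := fun {a} ⟨b, hb⟩ => ⟨b⁻¹, by rw [map_inv, map_inv, inv_pow, hb]⟩ }

theorem mem_powSub_iff {p : ℕ} {N : Subgroup X} [N.Normal] {hN : commutator X ≤ N} {a : X} :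
    a ∈ powSub p N hN ↔ ∃ b : X, (b ^ p)⁻¹ * a ∈ N := by
  show (∃ b : X, (QuotientGroup.mk' N) a = (QuotientGroup.mk' N) b ^ p) ↔ _
  refine exists_congr fun b => ?_
  rw [← map_pow, QuotientGroup.mk'_apply, QuotientGroup.mk'_apply, eq_comm, QuotientGroup.eq]

theorem pow_mem_powSub {p : ℕ} {N : Subgroup X} (hN : commutator X ≤ N) (x : X) :
    x ^ p ∈ powSub p N hN :=
  haveI : N.Normal := Subgroup.Normal.of_commutator_le X hN
  ⟨x, map_pow _ _ _⟩

theorem le_powSub {p : ℕ} {N : Subgroup X} (hN : commutator X ≤ N) : N ≤ powSub p N hN := fun a ha =>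
  ⟨1, by
    haveI : N.Normal := Subgroup.Normal.of_commutator_le X hN
    rw [map_one, one_pow]
    exact (QuotientGroup.eq_one_iff a).2 ha⟩

theorem pCo_coprime {p : ℕ} [Fact p.Prime] : (Nat.card (pCo M p)).Coprime p := by
  refine ((Fact.out : p.Prime).coprime_iff_not_dvd.2 fun hd => ?_).symm
  obtain ⟨y, hy⟩ := exists_prime_orderOf_dvd_card' p hd
  have h : (orderOf (y : M)).Coprime p := y.2
  rw [Subgroup.orderOf_coe, hy, Nat.coprime_self] at h
  exact (Fact.out : p.Prime).ne_one h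

variable (hA : Act φ)
include hA

namespace Act

theorem two_ne {p : ℕ} (hp : p.Prime) {x : X} (hx : orderOf x = p) : p ≠ 2 := fun h => by
  have h1 := hA.odd.of_dvd_nat (orderOf_dvd_natCard x)
  rw [hx, h] at h1
  exact absurd h1 (by decide)

theorem fix_top {g : X} (h : fixedSub φ g = ⊤) : g = 1 :=
  hA.inj (MulEquiv.ext fun m => by
    rw [map_one, MulAut.one_apply]; exact (show m ∈ fixedSub φ g by rw [h]; exact mem_top m))

section Norm

variable {g d : X} (hg1 : g ≠ 1) (hd : d * g * d⁻¹ ∈ zpowers g) (hf : Fix φ g) {e : ℕ}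
  (he : 1 ≤ e) (hcard : Nat.card (fixedSub φ g) = 2 ^ e - 1)

include hg1 hd hf in
theorem gal_pow : ∃ i : ℕ, ∀ n : ℕ, ∀ m ∈ fixedSub φ g, φ (d ^ n) m = m ^ 2 ^ (n * i) := by
  obtain ⟨i, hi⟩ := hA.gal g hg1 d hd hf
  refine ⟨i, fun n m hm => ?_⟩
  induction n with
  | zero => simp
  | succ n ih =>
    rw [pow_succ', map_mul, MulAut.mul_apply, ih, hi _ (pow_mem hm _), ← pow_mul, ← pow_add,
      Nat.succ_mul]

include hcard in
theorem pow_two_card {m : M} (hm : m ∈ fixedSub φ g) : m ^ 2 ^ e = m := by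
  have h : m ^ (2 ^ e - 1) = 1 := by
    rw [← hcard]
    exact orderOf_dvd_iff_pow_eq_one.1 ((fixedSub φ g).orderOf_dvd_natCard hm)
  have h2 : (1 : ℕ) ≤ 2 ^ e := Nat.one_le_two_pow
  rw [← Nat.sub_add_cancel h2, pow_succ, h, one_mul]

include hg1 hd hf hcard in
theorem gal_e {m : M} (hm : m ∈ fixedSub φ g) : φ (d ^ e) m = m := by
  obtain ⟨i, hi⟩ := hA.gal_pow hg1 hd hf
  rw [hi e m hm, mul_comm, pow_exp_aux (hA.pow_two_card hcard hm) i]

include hg1 hd hf hcard in
theorem gal_coprime (hc : (orderOf d).Coprime e) {m : M} (hm : m ∈ fixedSub φ g) : φ d m = m := by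
  obtain ⟨k, hk⟩ := exists_pow_eq_self_of_coprime hc.symm
  have he : d ^ e ∈ fixer φ (fixedSub φ g : Set M) := fun m hm => hA.gal_e hg1 hd hf hcard hm
  have : d ∈ fixer φ (fixedSub φ g : Set M) := hk ▸ pow_mem he k
  exact this m hm

end Norm

theorem gal_comm {g a b : X} (hg1 : g ≠ 1) (hf : Fix φ g) (ha : a * g * a⁻¹ ∈ zpowers g)
    (hb : b * g * b⁻¹ ∈ zpowers g) {m : M} (hm : m ∈ fixedSub φ g) : φ (a * b) m = φ (b * a) m := by
  obtain ⟨i, hi⟩ := hA.gal g hg1 a ha hf
  obtain ⟨j, hj⟩ := hA.gal g hg1 b hb hf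
  rw [map_mul, map_mul, MulAut.mul_apply, MulAut.mul_apply, hj m hm, hi m hm, map_pow, map_pow,
    hi m hm, hj m hm, ← pow_mul, ← pow_mul, mul_comm]

/-- The fixed group of an element normalised by an evil element of order `q` has order `2 ^ q - 1`. -/
theorem card_fix {g z : X} (hz : IsEvil φ z) (hg1 : g ≠ 1) (hd : z * g * z⁻¹ ∈ zpowers g)
    (hf : Fix φ g) : Nat.card (fixedSub φ g) = 2 ^ orderOf z - 1 := by
  obtain ⟨hcyc, e, he, hcard⟩ := hA.cyc g hg1 hf
  obtain ⟨i, hi⟩ := hA.gal_pow hg1 hd hf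
  obtain ⟨⟨m₀, hm₀⟩, hgen⟩ := hcyc.exists_generator
  have ho : orderOf m₀ = 2 ^ e - 1 := by
    rw [← hcard, ← orderOf_eq_card_of_forall_mem_zpowers hgen, Subgroup.orderOf_mk]
  have key : ∀ n : ℕ, φ (z ^ n) m₀ = m₀ → Nat.gcd e (n * i) = e := by
    intro n hn
    rw [hi n m₀ hm₀] at hn
    have h1 : m₀ ^ (2 ^ (n * i) - 1) = 1 := by
      refine mul_right_cancel (b := m₀) ?_
      rw [← pow_succ, Nat.sub_add_cancel Nat.one_le_two_pow, one_mul, hn]
    have h2 := Nat.gcd_eq_left (orderOf_dvd_of_pow_eq_one h1)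
    rw [ho, Nat.pow_sub_one_gcd_pow_sub_one] at h2
    have h3 : 2 ^ Nat.gcd e (n * i) = 2 ^ e := by
      have := Nat.one_le_two_pow (n := Nat.gcd e (n * i))
      have := Nat.one_le_two_pow (n := e)
      omega
    exact Nat.pow_right_injective le_rfl h3
  have hdi : Nat.gcd e i = 1 := by
    by_contra hne
    set d := Nat.gcd e i with hd
    have hdpos : 1 ≤ d := Nat.gcd_pos_of_pos_left i (by omega)
    have hdvd : (2 ^ d - 1) ∣ (2 ^ e - 1) := Nat.pow_sub_one_dvd_pow_sub_one 2 (Nat.gcd_dvd_left e i)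
    obtain ⟨c, hc⟩ := hdvd
    set m := m₀ ^ c with hm
    have hmF : m ∈ fixedSub φ g := pow_mem hm₀ _
    have hmo : m ^ (2 ^ d - 1) = 1 := by
      rw [hm, ← pow_mul, mul_comm, ← hc, ← ho, pow_orderOf_eq_one]
    have h4 : 4 ≤ 2 ^ d := le_trans (by norm_num) (Nat.pow_le_pow_right two_pos (show 2 ≤ d by omega))
    have hm1 : m ≠ 1 := fun h => by
      have h5 := orderOf_dvd_of_pow_eq_one (h : m₀ ^ c = 1)
      rw [ho, hc] at h5
      have hcpos : 0 < c := Nat.pos_of_ne_zero fun h0 => by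
        rw [h0, mul_zero] at hc
        have := Nat.pow_le_pow_right two_pos he
        omega
      have h6 := Nat.le_of_dvd hcpos h5
      nlinarith [show 3 ≤ 2 ^ d - 1 by omega]
    refine hz.2 ⟨m, hm1, ?_⟩
    have h := hi 1 m hmF
    rw [pow_one, one_mul] at h
    obtain ⟨j, hj⟩ := Nat.gcd_dvd_right e i
    rw [h, hj, mul_comm d j]
    refine pow_exp_aux ?_ j
    rw [← Nat.sub_add_cancel (Nat.one_le_two_pow (n := d)), pow_succ, hmo, one_mul]
  have h1 := key (orderOf z) (by rw [pow_orderOf_eq_one, map_one]; rfl)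
  have h2 : e ∣ orderOf z := by
    have h3 : e ∣ orderOf z * i := Nat.gcd_eq_left_iff_dvd.1 h1
    exact (Nat.Coprime.dvd_of_dvd_mul_right hdi h3)
  rcases (Nat.dvd_prime hz.1).1 h2 with h | h
  · omega
  · rw [hcard, h]

/-- The fixed groups are equal when one contains the other and their orders agree. -/
theorem fix_eq {g h : X} (hle : fixedSub φ g ≤ fixedSub φ h)
    (hc : Nat.card (fixedSub φ h) ≤ Nat.card (fixedSub φ g)) : fixedSub φ g = fixedSub φ h :=
  eq_of_le_of_card_ge hle hc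

/-- An elementary group of order `p ^ 2` and its centraliser: fixed points generate. -/
theorem eq_one_of_fix {p : ℕ} [Fact p.Prime] {a b h : X} (ha : orderOf a = p) (hb : orderOf b = p)
    (hab : Commute a b) (hba : b ∉ zpowers a) (hha : Commute a h) (hhb : Commute b h)
    (hTor : ∀ m ∈ pTor M p, φ h m = m)
    (hfix : ∀ x ∈ closure ({a, b} : Set X), orderOf x = p → fixedSub φ x ≤ fixedSub φ h) : h = 1 := by
  obtain ⟨v, c, hc, hcard⟩ := Nat.exists_eq_pow_mul_and_not_dvd (Nat.card_pos (α := M)).ne' p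
    (Fact.out : p.Prime).ne_one
  let d : M →* M :=
    { toFun := fun n => φ h (n ^ p ^ v) * (n ^ p ^ v)⁻¹
      map_one' := by simp
      map_mul' := fun x y => by rw [mul_pow, map_mul, mul_inv, mul_mul_mul_comm] }
  have hdvd : ∀ n : M, d n ^ c = 1 := fun n => by
    show (φ h (n ^ p ^ v) * (n ^ p ^ v)⁻¹) ^ c = 1
    rw [mul_pow, inv_pow, ← map_pow, ← pow_mul, ← hcard, pow_card_eq_one', map_one, inv_one, mul_one]
  by_cases hD : d.range = ⊥
  · refine hA.fix_top (eq_top_iff.2 fun n _ => ?_)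
    have h1 : n ^ p ^ v ∈ fixedSub φ h := by
      have : d n = 1 := mem_bot.1 (hD ▸ ⟨n, rfl⟩)
      exact mul_inv_eq_one.1 this
    have h2 : n ^ c ∈ fixedSub φ h := hTor _ ⟨v, by
      rw [← pow_mul, mul_comm, ← hcard, pow_card_eq_one']⟩
    have hcop : Nat.gcd (p ^ v) c = 1 := (((Fact.out : p.Prime).coprime_iff_not_dvd).2 hc).pow_left v
    rw [← pow_one n, ← hcop, ← zpow_natCast, Nat.gcd_eq_gcd_ab, zpow_add, zpow_mul, zpow_mul,
      zpow_natCast, zpow_natCast]
    exact mul_mem (zpow_mem h1 _) (zpow_mem h2 _)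
  · exfalso
    have hinv : ∀ y : X, Commute y h → ∀ m ∈ d.range, φ y m ∈ d.range := by
      rintro y hy _ ⟨n, rfl⟩
      refine ⟨φ y n, ?_⟩
      show φ h ((φ y n) ^ p ^ v) * ((φ y n) ^ p ^ v)⁻¹ = φ y (φ h (n ^ p ^ v) * (n ^ p ^ v)⁻¹)
      rw [map_mul, map_inv, ← map_pow, ← MulAut.mul_apply, ← MulAut.mul_apply, ← map_mul, ← map_mul,
        hy.eq]
    have hcopD : (Nat.card d.range).Coprime p := by
      refine ((Fact.out : p.Prime).coprime_iff_not_dvd.2 fun hd => ?_).symm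
      obtain ⟨y, hm⟩ := exists_prime_orderOf_dvd_card' p hd
      obtain ⟨n, hn⟩ := y.2
      rw [← Subgroup.orderOf_coe, ← hn] at hm
      exact hc (hm ▸ orderOf_dvd_of_pow_eq_one (hdvd n))
    set A := closure ({a, b} : Set X)
    have hAS : A ≤ stab φ d.range := CfsgLib.PGroups.FixRank.closure_pair_le
      (mem_stab φ (hinv a hha)) (mem_stab φ (hinv b hhb))
    haveI : Nontrivial d.range := (nontrivial_iff_ne_bot _).2 hD
    set aA : A := ⟨a, subset_closure (by simp)⟩ with haA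
    set bA : A := ⟨b, subset_closure (by simp)⟩ with hbA
    obtain ⟨x, -, hxo, m, hm1, hm⟩ := CfsgLib.PGroups.FixRank.exists_fixed
      ((restr φ d.range).comp (Subgroup.inclusion hAS)) hcopD
      (a := aA) (b := bA) (by rw [haA, Subgroup.orderOf_mk, ha]) (by rw [hbA, Subgroup.orderOf_mk, hb])
      (Subtype.ext hab.eq) fun hmem => hba (by
        obtain ⟨k, hk⟩ := hmem
        exact ⟨k, congrArg Subtype.val hk⟩)
    obtain ⟨⟨n, hn⟩, hmfix⟩ : (m : M) ∈ d.range ∧ φ (x : X) m = m := ⟨m.2, congrArg Subtype.val hm⟩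
    have hxo' : orderOf (x : X) = p := by rw [Subgroup.orderOf_coe]; exact hxo
    have hxh : Commute (x : X) h :=
      CfsgLib.PGroups.FixRank.commute_closure_pair hha hhb x x.2
    let P : ℕ → M := fun k => ∏ j ∈ Finset.range k, φ ((x : X) ^ j) (n ^ p ^ v)
    have hP : φ (x : X) (P p) = P p := by
      have e : φ (x : X) (P p) * (n ^ p ^ v) = P (p + 1) := by
        simp only [P]
        rw [Finset.prod_range_succ', map_prod, pow_zero, map_one, MulAut.one_apply]
        refine congrArg (· * (n ^ p ^ v)) (Finset.prod_congr rfl fun j _ => ?_)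
        rw [pow_succ', map_mul, MulAut.mul_apply]
      have e2 : P (p + 1) = P p * (n ^ p ^ v) := by
        simp only [P]
        rw [Finset.prod_range_succ, ← hxo', pow_orderOf_eq_one, map_one, MulAut.one_apply]
      exact mul_right_cancel (e.trans e2)
    have hPh : φ h (P p) = P p := hfix x x.2 hxo' hP
    have hmp : (m : M) ^ p = 1 := by
      calc (m : M) ^ p = ∏ _j ∈ Finset.range p, (m : M) := by rw [Finset.prod_const, Finset.card_range]
        _ = ∏ j ∈ Finset.range p, φ ((x : X) ^ j) (φ h (n ^ p ^ v) * (n ^ p ^ v)⁻¹) := by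
            refine Finset.prod_congr rfl fun j _ => ?_
            rw [show φ h (n ^ p ^ v) * (n ^ p ^ v)⁻¹ = (m : M) from hn]
            exact (fixedSub_mono (pow_mem (mem_zpowers _) j) (show (m : M) ∈ fixedSub φ x from hmfix)).symm
        _ = φ h (P p) * (P p)⁻¹ := by
            simp only [P]
            rw [map_prod, ← Finset.prod_inv_distrib, ← Finset.prod_mul_distrib]
            refine Finset.prod_congr rfl fun j _ => ?_
            rw [map_mul, map_inv, ← MulAut.mul_apply, ← map_mul, (hxh.pow_left j).eq, map_mul,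
              MulAut.mul_apply]
        _ = 1 := by rw [hPh, mul_inv_cancel]
    refine hm1 (Subtype.ext (orderOf_eq_one_iff.1 ?_))
    exact Nat.eq_one_of_dvd_coprimes hcopD.symm (orderOf_dvd_of_pow_eq_one hmp)
      (d.range.orderOf_dvd_natCard m.2)

/-- No elementary group of rank two fixes lines only, when the `p`-part is not cyclic. -/
theorem no_rank_two {p : ℕ} [Fact p.Prime] (hnc : ¬ IsCyclic (pTor M p)) {a b : X} (ha : orderOf a = p)
    (hb : orderOf b = p) (hab : Commute a b) : b ∈ zpowers a := by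
  by_contra hba
  have hV : ∀ x : X, orderOf x = p → IsCyclic (fixedSub φ x) := fun x hx =>
    (hA.cyc x (fun h => by rw [h, orderOf_one] at hx; exact (Fact.out : p.Prime).ne_one hx.symm) (by
      have hd : p ∣ Nat.card M := by
        by_contra hd
        refine hnc ?_
        haveI : Subsingleton (pTor M p) := ⟨fun u w => by
          have key : ∀ u : pTor M p, u = 1 := fun u => by
            obtain ⟨k, hk⟩ := u.2
            exact Subtype.ext (orderOf_eq_one_iff.1 (Nat.eq_one_of_dvd_coprimes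
              (((Fact.out : p.Prime).coprime_iff_not_dvd.2 hd).pow_left k)
              (orderOf_dvd_of_pow_eq_one hk) (orderOf_dvd_natCard _)))
          rw [key u, key w]⟩
        exact isCyclic_of_subsingleton
      obtain ⟨m, -, hm1, hm⟩ := exists_fixed_pgroup (φ := φ) (p := p) (k := 1) (y := x)
        (by rw [pow_one, ← hx, pow_orderOf_eq_one]) (W := ⊤) (fun m _ => mem_top _) (by rwa [card_top])
      exact ⟨m, hm1, hm⟩)).1
  -- the elements killed by `p`
  let V : Subgroup M := (powMonoidHom p : M →* M).ker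
  have hVmem : ∀ m, m ∈ V ↔ m ^ p = 1 := fun m => Iff.rfl
  have hVinv : ∀ y : X, ∀ m ∈ V, φ y m ∈ V := fun y m hm => by
    rw [hVmem] at hm ⊢; rw [← map_pow, hm, map_one]
  by_cases hall : ∀ m ∈ V, φ a m = m
  · -- then `V` is cyclic
    refine hnc ?_
    haveI := hV a ha
    have hcyc : IsCyclic V := isCyclic_of_injective (Subgroup.inclusion (show V ≤ fixedSub φ a from hall))
      (Subgroup.inclusion_injective _)
    refine CfsgLib.Transfer.isCyclic_of_unique_order_p (p := p) (hA.two_ne Fact.out ha)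
      (fun ⟨m, k, hk⟩ => ⟨k, Subtype.ext hk⟩) fun x y hx hx1 hy => ?_
    have hxo : orderOf (x : M) = p := by rw [Subgroup.orderOf_coe]; exact orderOf_eq_prime hx hx1
    obtain ⟨i, hi⟩ := mem_zpowers_of_cyclic hcyc
      (show (y : M) ∈ V from congrArg Subtype.val hy) (show (x : M) ∈ V from congrArg Subtype.val hx)
      (congrArg Subtype.val hy) hxo
    exact ⟨i, Subtype.ext hi⟩
  push Not at hall
  obtain ⟨n, hnV, hn⟩ := hall
  let da : V →* M :=
    { toFun := fun m => φ a m * (m : M)⁻¹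
      map_one' := by simp
      map_mul' := fun x y => by rw [Subgroup.coe_mul, map_mul, mul_inv, mul_mul_mul_comm] }
  have hIne : da.range ≠ ⊥ := fun h => hn (mul_inv_eq_one.1 (mem_bot.1 (h ▸ ⟨⟨n, hnV⟩, rfl⟩)))
  have hIV : da.range ≤ V := by
    rintro _ ⟨m, rfl⟩
    exact mul_mem (hVinv a _ m.2) (inv_mem m.2)
  have hd : p ∣ Nat.card da.range := by
    obtain ⟨⟨_, m, rfl⟩, hm⟩ := ne_bot_iff_exists_ne_one.1 hIne
    have h := da.range.orderOf_dvd_natCard (x := da m) ⟨m, rfl⟩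
    rwa [orderOf_eq_prime (hIV ⟨m, rfl⟩) fun e => hm (Subtype.ext e)] at h
  obtain ⟨l, ⟨⟨m, hmV⟩, rfl⟩, hl1, hla⟩ := exists_fixed_pgroup (φ := φ) (p := p) (k := 1) (y := a)
    (by rw [pow_one, ← ha, pow_orderOf_eq_one]) (W := da.range) (by
      rintro _ ⟨m, rfl⟩
      refine ⟨⟨φ a m, hVinv a _ m.2⟩, ?_⟩
      show φ a (φ a m) * (φ a m)⁻¹ = φ a (φ a m * (m : M)⁻¹)
      rw [map_mul, map_inv]) hd
  obtain ⟨l, hl⟩ : ∃ l, l = φ a m * m⁻¹ := ⟨_, rfl⟩
  replace hla : φ a l = l := hl ▸ hla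
  replace hl1 : l ≠ 1 := hl ▸ hl1
  have hlo : orderOf l = p := orderOf_eq_prime (hl ▸ hIV ⟨⟨m, hmV⟩, rfl⟩) hl1
  have hma : φ a m = l * m := by rw [hl, inv_mul_cancel_right]
  have hline : ∀ u : M, u ^ p = 1 → φ a u = u → u ∈ zpowers l := fun u hu hua =>
    mem_zpowers_of_cyclic (hV a ha) (show u ∈ fixedSub φ a from hua) (show l ∈ fixedSub φ a from hla) hu hlo
  have hlb : φ b l = l := by
    obtain ⟨u, hu, hu1, hub⟩ := exists_fixed_pgroup (φ := φ) (p := p) (k := 1) (y := b)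
      (by rw [pow_one, ← hb, pow_orderOf_eq_one]) (W := zpowers l) (by
        intro u hu
        refine hline _ ?_ ?_
        · rw [← map_pow, orderOf_dvd_iff_pow_eq_one.1 (hlo ▸ orderOf_dvd_of_mem_zpowers hu), map_one]
        · rw [← MulAut.mul_apply, ← map_mul, hab.eq, map_mul, MulAut.mul_apply]
          congr 1
          obtain ⟨i, rfl⟩ := hu
          show φ a (l ^ i) = l ^ i
          rw [map_zpow, show φ a l = l from hla]) (by rw [Nat.card_zpowers, hlo])
    have he : zpowers u = zpowers l := by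
      refine eq_of_le_of_card_ge (zpowers_le.2 hu) ?_
      rw [Nat.card_zpowers, Nat.card_zpowers, hlo, orderOf_eq_prime
        (orderOf_dvd_iff_pow_eq_one.1 (hlo ▸ orderOf_dvd_of_mem_zpowers hu)) hu1]
    obtain ⟨i, hi⟩ : l ∈ zpowers u := he.symm ▸ mem_zpowers l
    rw [← hi]
    show φ b (u ^ i) = u ^ i
    rw [map_zpow, hub]
  set k := φ b m * m⁻¹ with hk
  have hkl : k ∈ zpowers l := by
    refine hline k ?_ ?_
    · rw [hk, mul_pow, inv_pow, ← map_pow, (hVmem m).1 hmV, map_one, inv_one, mul_one]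
    · rw [hk, map_mul, map_inv, ← MulAut.mul_apply, ← map_mul, hab.eq, map_mul, MulAut.mul_apply, hma,
        map_mul, hlb, mul_inv, mul_mul_mul_comm, mul_inv_cancel, one_mul]
  obtain ⟨c, hc⟩ : ∃ c : ℕ, l ^ c = k := (mem_powers_iff_mem_zpowers.2 hkl)
  have hapow : ∀ j : ℕ, φ (a ^ j) m = l ^ j * m := by
    intro j
    induction j with
    | zero => simp
    | succ j ih =>
      rw [pow_succ', map_mul, MulAut.mul_apply, ih, map_mul, map_pow, show φ a l = l from hla, hma,
        pow_succ, mul_assoc]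
  set x := (a ^ c)⁻¹ * b with hx
  have hxo : orderOf x = p := by
    refine orderOf_eq_prime ?_ fun h => hba ?_
    · rw [hx, ((hab.pow_left c).inv_left).mul_pow, inv_pow, ← pow_mul, mul_comm, pow_mul, ← ha,
        pow_orderOf_eq_one, one_pow, inv_one, one_mul, ha, ← hb, pow_orderOf_eq_one]
    · rw [hx, inv_mul_eq_one] at h
      exact h ▸ pow_mem (mem_zpowers a) c
  have hxm : φ x m = m := by
    rw [hx, map_mul, MulAut.mul_apply, show φ b m = l ^ c * m by rw [hc, hk, inv_mul_cancel_right],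
      ← hapow c, ← MulAut.mul_apply, ← map_mul, inv_mul_cancel, map_one, MulAut.one_apply]
  have hxl : φ x l = l := by
    rw [hx, map_mul, MulAut.mul_apply, hlb]
    exact (inv_mem (pow_mem (show a ∈ fixer φ {l} from fun u hu => by rw [hu]; exact hla) c) :
      (a ^ c)⁻¹ ∈ fixer φ {l}) l rfl
  obtain ⟨i, hi⟩ := mem_zpowers_of_cyclic (hV x hxo) (show m ∈ fixedSub φ x from hxm)
    (show l ∈ fixedSub φ x from hxl) ((hVmem m).1 hmV) hlo
  refine hl1 ?_
  rw [hl, ← hi]
  show φ a (l ^ i) * (l ^ i)⁻¹ = 1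
  rw [map_zpow, show φ a l = l from hla, mul_inv_cancel]

/-- An element fixing both parts of the module is trivial. -/
theorem eq_one_of_parts {p : ℕ} [Fact p.Prime] {h : X} (h1 : ∀ m ∈ pTor M p, φ h m = m)
    (h2 : ∀ m ∈ pCo M p, φ h m = m) : h = 1 := by
  obtain ⟨v, c, hc, hcard⟩ := Nat.exists_eq_pow_mul_and_not_dvd (Nat.card_pos (α := M)).ne' p
    (Fact.out : p.Prime).ne_one
  have hcop : (p ^ v).Coprime c := (((Fact.out : p.Prime).coprime_iff_not_dvd).2 hc).pow_left v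
  refine hA.fix_top (eq_top_iff.2 fun n _ => ?_)
  have e1 : n ^ p ^ v ∈ fixedSub φ h := h2 _ (by
    show (orderOf (n ^ p ^ v)).Coprime p
    refine Nat.Coprime.coprime_dvd_left (orderOf_dvd_of_pow_eq_one (n := c) ?_)
      (((Fact.out : p.Prime).coprime_iff_not_dvd).2 hc).symm
    rw [← pow_mul, ← hcard, pow_card_eq_one'])
  have e2 : n ^ c ∈ fixedSub φ h := h1 _ ⟨v, by rw [← pow_mul, mul_comm, ← hcard, pow_card_eq_one']⟩
  rw [← pow_one n, ← (show Nat.gcd (p ^ v) c = 1 from hcop), ← zpow_natCast, Nat.gcd_eq_gcd_ab, zpow_add,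
    zpow_mul, zpow_mul, zpow_natCast, zpow_natCast]
  exact mul_mem (zpow_mem e1 _) (zpow_mem e2 _)

/-- The lemma of Hall and Higman on an invariant part of the module. -/
theorem commute_on_invariant {z : X} (hz : IsEvil φ z) {F : Subgroup X} (hn : Group.IsNilpotent F)
    (hzF : z ∈ normalizer (F : Set X)) (hFq : (Nat.card F).Coprime (orderOf z)) (W : Subgroup M)
    (hW : ∀ x : X, ∀ m ∈ W, φ x m ∈ W) (hWF : (Nat.card W).Coprime (Nat.card F)) :
    ∀ y ∈ F, ∀ m ∈ W, φ ⁅z, y⁆ m = m := by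
  intro y hy m hm
  by_cases hbot : W = ⊥
  · rw [hbot, mem_bot] at hm
    rw [hm, map_one]
  haveI := Fact.mk hz.1
  let ι : X →* stab φ W :=
    { toFun := fun x => ⟨x, mem_stab φ (hW x)⟩
      map_one' := rfl
      map_mul' := fun _ _ => rfl }
  let ψ : X →* MulAut W := (restr φ W).comp ι
  have hψ : ∀ (x : X) (u : W), ((ψ x u : W) : M) = φ x u := fun _ _ => rfl
  have hz1 : ψ z ≠ 1 := fun h => by
    obtain ⟨u, hu⟩ := ne_bot_iff_exists_ne_one.1 hbot
    refine hz.2 ⟨u, fun e => hu (Subtype.ext e), ?_⟩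
    rw [← hψ, h]
    rfl
  set zr : ψ.range := ψ.rangeRestrict z with hzr
  have hzo : orderOf zr = orderOf z := by
    refine orderOf_eq_prime ?_ fun h => hz1 (congrArg Subtype.val h)
    rw [hzr, ← map_pow, pow_orderOf_eq_one, map_one]
  have hfpf : ¬ Fix ψ.range.subtype zr := by
    rintro ⟨u, hu1, hu⟩
    refine hz.2 ⟨u, fun e => hu1 (Subtype.ext e), ?_⟩
    rw [← hψ]
    exact congrArg Subtype.val hu
  set F' := F.map ψ.rangeRestrict with hF'
  haveI := hn
  have hdvd : Nat.card F' ∣ Nat.card F := F.card_map_dvd _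
  have hcomm := CfsgLib.PGroups.FixRank.commute_of_fpf ψ.range.subtype hzo hfpf F' (by
      rintro _ ⟨a, ha, rfl⟩
      exact ⟨z * a * z⁻¹, (mem_normalizer_iff.1 hzF a).1 ha, by rw [hzr, map_mul, map_mul, map_inv]⟩)
    (fun a _ h => Subtype.ext (MulEquiv.ext h)) (hFq.coprime_dvd_left hdvd)
    (hWF.coprime_dvd_right hdvd)
    (hz.coprime.coprime_dvd_left (card_subgroup_dvd_card W))
    (CfsgLib.Core.isNilpotent_map _ _)
    (fun h2 => Nat.not_even_iff_odd.2 hA.odd
      (even_iff_two_dvd.2 (h2.trans (hdvd.trans (card_subgroup_dvd_card F)))))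
    _ ⟨y, hy, rfl⟩
  have h1 : ψ ⁅z, y⁆ = 1 := by
    rw [map_commutatorElement, commutatorElement_eq_one_iff_mul_comm]
    exact congrArg Subtype.val hcomm.eq
  have h2 := hψ ⁅z, y⁆ ⟨m, hm⟩
  rw [h1] at h2
  exact h2.symm

/-- A `p`-element without evil powers lies in every normal subgroup with quotient of exponent `p`. -/
theorem mem_of_kills {p : ℕ} [Fact p.Prime] {N : Subgroup X} (hN : commutator X ≤ N)
    (hpow : ∀ x : X, x ^ p ∈ N) {y : X} (hy : ∃ k, y ^ p ^ k = 1)
    (hno : ∀ z ∈ zpowers y, ¬ IsEvil φ z) : y ∈ N := by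
  by_contra hyN
  obtain ⟨K, ⟨hKN, hKy⟩, hmax⟩ := WellFounded.has_min (wellFounded_gt (α := Subgroup X))
    {K | N ≤ K ∧ y ∉ K} ⟨N, le_rfl, hyN⟩
  haveI : K.Normal := Subgroup.Normal.of_commutator_le X (hN.trans hKN)
  set π := QuotientGroup.mk' K with hπ
  have hgen : ∀ g : X ⧸ K, g ∈ zpowers (π y) := by
    intro g
    obtain ⟨g, rfl⟩ := QuotientGroup.mk'_surjective K g
    by_cases hg : g ∈ K
    · rw [show QuotientGroup.mk' K g = 1 from (QuotientGroup.eq_one_iff g).2 hg]; exact one_mem _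
    have hy' : y ∈ K ⊔ zpowers g := by
      by_contra h
      exact hmax (K ⊔ zpowers g) ⟨hKN.trans le_sup_left, h⟩
        (lt_of_le_of_ne le_sup_left fun e => hg (e ▸ mem_sup_right (mem_zpowers g)))
    have h1 : π y ∈ zpowers (π g) := by
      have h : π y ∈ (K ⊔ zpowers g).map π := mem_map_of_mem _ hy'
      rwa [Subgroup.map_sup, hπ, QuotientGroup.map_mk'_self, bot_sup_eq, MonoidHom.map_zpowers] at h
    have hp' : π g ^ p = 1 := by
      rw [← map_pow]; exact (QuotientGroup.eq_one_iff _).2 (hKN (hpow g))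
    have hy1 : π y ≠ 1 := fun h => hKy ((QuotientGroup.eq_one_iff y).1 h)
    have hg1 : π g ≠ 1 := fun h => hg ((QuotientGroup.eq_one_iff g).1 h)
    rw [zpowers_eq_of_prime (by rw [orderOf_eq_prime hp' hg1]; exact Fact.out) h1 hy1]
    exact mem_zpowers _
  have hcard : Nat.card (X ⧸ K) = p := by
    rw [← orderOf_eq_card_of_forall_mem_zpowers hgen]
    refine orderOf_eq_prime ?_ fun h => hKy ((QuotientGroup.eq_one_iff y).1 h)
    rw [← map_pow]; exact (QuotientGroup.eq_one_iff _).2 (hKN (hpow y))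
  haveI : IsCyclic (X ⧸ K) := ⟨⟨π y, hgen⟩⟩
  have hcard' : Nat.card (X ⧸ K) = Nat.card (Multiplicative (ZMod p)) := by
    rw [hcard, Nat.card_congr Multiplicative.toAdd, Nat.card_zmod]
  let e : X ⧸ K ≃* Multiplicative (ZMod p) := mulEquivOfCyclicCardEq hcard'
  have h := hA.kills p Fact.out (e.toMonoidHom.comp π) y hy hno
  exact hKy ((QuotientGroup.eq_one_iff y).1 (e.injective (h.trans (map_one e).symm)))

/-- An abelian quotient whose `p`-elements are congruent to elements without evil `p`-powers has no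
`p`-elements. -/
theorem no_p_quot {p : ℕ} [Fact p.Prime] {N : Subgroup X} (hN : commutator X ≤ N)
    (hC : ∀ a : X, ∃ c : X, a⁻¹ * c ∈ N ∧ ∀ z ∈ zpowers c, IsEvil φ z → orderOf z ≠ p) :
    ∀ a : X, ∀ k : ℕ, a ^ p ^ k ∈ N → a ∈ N := by
  haveI : N.Normal := Subgroup.Normal.of_commutator_le X hN
  classical
  by_contra hcon
  push Not at hcon
  obtain ⟨a₀, k₀, ha₀, ha₀N⟩ := hcon
  set π := QuotientGroup.mk' N with hπ
  haveI : Fintype X := Fintype.ofFinite X
  obtain ⟨a, ha, hmax⟩ := Finset.exists_max_image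
    (Finset.univ.filter fun a : X => a ∉ N ∧ ∃ k, a ^ p ^ k ∈ N) (fun a => orderOf (π a))
    ⟨a₀, Finset.mem_filter.2 ⟨Finset.mem_univ _, ha₀N, k₀, ha₀⟩⟩
  obtain ⟨haN, k, hak⟩ := (Finset.mem_filter.1 ha).2
  obtain ⟨c, hc, hcz⟩ := hC a
  have hac : π c = π a := by
    rw [hπ, QuotientGroup.mk'_apply, QuotientGroup.mk'_apply, eq_comm, QuotientGroup.eq]; exact hc
  have hck : c ^ p ^ k ∈ N := by
    rw [← QuotientGroup.eq_one_iff, ← QuotientGroup.mk'_apply, map_pow, ← hπ, hac, ← map_pow]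
    exact (QuotientGroup.eq_one_iff _).2 hak
  obtain ⟨y, hy, hyN, e, hye⟩ := exists_p_part N hck
  have hyM : y ∈ powSub p N hN := by
    refine hA.mem_of_kills (hN.trans (le_powSub hN)) (pow_mem_powSub hN) ⟨e, hye⟩ fun z hz hze => ?_
    refine hcz z ((zpowers_le.2 hy) hz) hze ((Nat.prime_dvd_prime_iff_eq hze.1 Fact.out).1 ?_)
    exact hze.1.dvd_of_dvd_pow ((orderOf_dvd_of_mem_zpowers hz).trans (orderOf_dvd_of_pow_eq_one hye))
  obtain ⟨b, hb⟩ := mem_powSub_iff.1 hyM
  have hab : π a = π b ^ p := by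
    have h1 : π y = π a := by
      rw [← hac, hπ, QuotientGroup.mk'_apply, QuotientGroup.mk'_apply, eq_comm, QuotientGroup.eq]
      exact hyN
    rw [← h1, ← map_pow, hπ, QuotientGroup.mk'_apply, QuotientGroup.mk'_apply, eq_comm, QuotientGroup.eq]
    exact hb
  have hb1 : b ^ p ^ (k + 1) ∈ N := by
    rw [← QuotientGroup.eq_one_iff, ← QuotientGroup.mk'_apply, map_pow, ← hπ, pow_succ', pow_mul, ← hab,
      ← map_pow]
    exact (QuotientGroup.eq_one_iff _).2 hak
  have hbN : b ∉ N := fun h => haN ((QuotientGroup.eq_one_iff a).1 (by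
    show π a = 1
    rw [hab, hπ, QuotientGroup.mk'_apply, (QuotientGroup.eq_one_iff b).2 h, one_pow]))
  have hle := hmax b (Finset.mem_filter.2 ⟨Finset.mem_univ _, hbN, k + 1, hb1⟩)
  simp only [hab] at hle
  have hdvd : p ∣ orderOf (π b) := by
    obtain ⟨i, -, hi⟩ := (Nat.dvd_prime_pow Fact.out).1
      (orderOf_dvd_of_pow_eq_one (x := π b) (n := p ^ (k + 1))
        (by rw [← map_pow]; exact (QuotientGroup.eq_one_iff _).2 hb1))
    rw [hi]
    refine dvd_pow_self p fun h0 => hbN ?_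
    rw [h0, pow_zero, orderOf_eq_one_iff] at hi
    exact (QuotientGroup.eq_one_iff b).1 hi
  rw [orderOf_pow_of_dvd (Fact.out : p.Prime).ne_zero hdvd] at hle
  exact absurd hle (Nat.div_lt_self (orderOf_pos _) (Fact.out : p.Prime).one_lt).not_ge

/-- An abelian quotient covered by elements without evil powers is trivial. -/
theorem eq_top_of_cover {N : Subgroup X} (hN : commutator X ≤ N)
    (hC : ∀ a : X, ∃ c : X, a⁻¹ * c ∈ N ∧ ∀ z ∈ zpowers c, ¬ IsEvil φ z) : N = ⊤ := by
  haveI : N.Normal := Subgroup.Normal.of_commutator_le X hN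
  by_contra hne
  haveI : Nontrivial (X ⧸ N) := QuotientGroup.nontrivial_iff.2 hne
  obtain ⟨p, hp, hd⟩ := Nat.exists_prime_and_dvd (Finite.one_lt_card (α := X ⧸ N)).ne'
  haveI := Fact.mk hp
  obtain ⟨g, hg⟩ := exists_prime_orderOf_dvd_card' p hd
  obtain ⟨a, rfl⟩ := QuotientGroup.mk'_surjective N g
  have ha : a ^ p ^ 1 ∈ N := by
    rw [pow_one]
    exact (QuotientGroup.eq_one_iff _).1 ((map_pow (QuotientGroup.mk' N) a p).trans (hg ▸ pow_orderOf_eq_one _))
  have := hA.no_p_quot hN (fun b => let ⟨c, h1, h2⟩ := hC b; ⟨c, h1, fun z hz he => absurd he (h2 z hz)⟩)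
    a 1 ha
  rw [show QuotientGroup.mk' N a = 1 from (QuotientGroup.eq_one_iff a).2 this, orderOf_one] at hg
  exact hp.ne_one hg.symm

/-- When the `p`-part of the module is cyclic the `p`-elements fix it. -/
theorem fix_pTor {p : ℕ} [Fact p.Prime] (hc : IsCyclic (pTor M p)) {x : X} {k : ℕ} (hx : x ^ p ^ k = 1)
    {m : M} (hm : m ∈ pTor M p) : φ x m = m := by
  by_cases hd : p ∣ Nat.card M
  · haveI := hc
    have hinv : ∀ y : X, ∀ u ∈ pTor M p, φ y u ∈ pTor M p := fun y u ⟨i, hi⟩ =>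
      ⟨i, by rw [← map_pow, hi, map_one]⟩
    have hcom : commutator X ≤ fixer φ (pTor M p : Set M) := by
      rw [commutator_def, commutator_le]
      intro a _ b _ u hu
      have key : ∀ y : X, ∃ c : ℤ, ∀ u ∈ pTor M p, φ y u = u ^ c := by
        intro y
        obtain ⟨c, hc'⟩ := MonoidHom.map_cyclic (((φ y).toMonoidHom.comp (pTor M p).subtype).codRestrict
          (pTor M p) fun u => hinv y u u.2)
        exact ⟨c, fun u hu => congrArg Subtype.val (hc' ⟨u, hu⟩)⟩
      have hsw : ∀ y y' : X, ∀ u ∈ pTor M p, φ y (φ y' u) = φ y' (φ y u) := by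
        intro y y' u hu
        obtain ⟨c, hc1⟩ := key y
        obtain ⟨c', hc2⟩ := key y'
        rw [hc2 u hu, hc1 u hu, map_zpow, map_zpow, hc1 u hu, hc2 u hu, ← zpow_mul, ← zpow_mul, mul_comm]
      rw [commutatorElement_def, map_mul, map_mul, map_mul, MulAut.mul_apply, MulAut.mul_apply,
        MulAut.mul_apply, hsw b a⁻¹ _ (hinv b⁻¹ u hu), apply_inv, apply_inv]
    refine hA.no_p_quot (p := p) hcom (fun a => ⟨a, by simp, fun z _ hze hzp => ?_⟩) x k ?_ m hm
    · have := hze.coprime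
      rw [hzp] at this
      exact (Fact.out : p.Prime).coprime_iff_not_dvd.1 this.symm hd
    · rw [hx]; exact one_mem _
  · obtain ⟨i, hi⟩ := hm
    have : m = 1 := orderOf_eq_one_iff.1 (Nat.eq_one_of_dvd_coprimes
      (((Fact.out : p.Prime).coprime_iff_not_dvd.2 hd).pow_left i)
      (orderOf_dvd_of_pow_eq_one hi) (orderOf_dvd_natCard _))
    rw [this, map_one]

end Act

end CfsgLib.Bender.NSubB
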