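import Cfsg.Agent.Lib.Bender.Gen.NSubBPair
import Cfsg.Agent.Lib.Components.FStar
import Cfsg.Agent.Lib.Core.Carter
import Cfsg.Agent.S0205

/-!
Owner: helper27. General Bender theorem, sub-slice G4, part 3: a normal subgroup of prime order with
fixed points is the only one.

* `Act.centralised_or_cyclic` : a `p`-group without evil elements normalised by an evil element
* `Act.unique_of_normal`
-/

set_option autoImplicit false
set_option linter.style.haveILetI false
set_option linter.unusedSectionVars false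

namespace CfsgLib.Bender.NSubB

open Subgroup
open CfsgLib.PGroups.FixRank (Fix fixedSub)
open scoped commutatorElement

variable {X : Type*} [Group X] [Finite X] {M : Type*} [CommGroup M] [Finite M] {φ : X →* MulAut M}

theorem mem_pCore_of_nilpotent {H : Type*} [Group H] [Finite H] [Group.IsNilpotent H] {p : ℕ}
    [Fact p.Prime] {x : H} {k : ℕ} (hx : x ^ p ^ k = 1) : x ∈ Cfsg.pCore p H := by
  have hP : IsPGroup p (zpowers x) := by
    obtain ⟨i, -, hi⟩ := (Nat.dvd_prime_pow Fact.out).1 (orderOf_dvd_of_pow_eq_one hx)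
    exact IsPGroup.of_card (n := i) (by rw [Nat.card_zpowers, hi])
  obtain ⟨P, hP'⟩ := hP.exists_le_sylow
  haveI : (P : Subgroup H).Normal :=
    ((Group.isNilpotent_of_finite_tfae (G := H)).out 0 3 rfl rfl).mp inferInstance p inferInstance P
  exact CfsgLib.Core.le_pCore P.2 (hP' (mem_zpowers x))

theorem inf_normalizer_le_normalizer_sup (H K : Subgroup X) :
    normalizer (H : Set X) ⊓ normalizer (K : Set X) ≤ normalizer ((H ⊔ K : Subgroup X) : Set X) :=
  fun g hg => mem_normalizer_of_map_conj_eq (by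
    rw [Subgroup.map_sup, map_conj_eq_of_mem_normalizer hg.1, map_conj_eq_of_mem_normalizer hg.2])

variable (hA : Act φ)
include hA

namespace Act

/-- A `p`-group without evil elements is centralised, or is cyclic with an element fixing the `p'`-part
of the module, whose `p`-part is then not cyclic. -/
theorem centralised_or_cyclic {p : ℕ} [Fact p.Prime] {z : X} (hz : IsEvil φ z) {P : Subgroup X}
    (hP : IsPGroup p P) (hzP : z ∈ normalizer (P : Set X)) (hfree : ∀ y ∈ P, ¬ IsEvil φ y) :
    (∀ y ∈ P, Commute z y) ∨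
      (IsCyclic P ∧ ¬ IsCyclic (pTor M p) ∧ ∃ h ∈ P, h ≠ 1 ∧ ∀ m ∈ pCo M p, φ h m = m) := by
  by_cases hall : ∀ y ∈ P, Commute z y
  · exact Or.inl hall
  right
  push Not at hall
  obtain ⟨y, hy, hzy⟩ := hall
  have hh : ⁅z, y⁆ ∈ P := by
    rw [commutatorElement_def]
    exact mul_mem ((mem_normalizer_iff.1 hzP y).1 hy) (inv_mem hy)
  have hh1 : ⁅z, y⁆ ≠ 1 := fun h => hzy (commutatorElement_eq_one_iff_commute.1 h)
  have hqp : orderOf z ≠ p := fun h => hzy (hA.commute_of_free hz h hP hzP hfree y hy)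
  haveI : Finite P := inferInstance
  obtain ⟨i, hi⟩ := IsPGroup.iff_card.1 hP
  have hfix : ∀ m ∈ pCo M p, φ ⁅z, y⁆ m = m := by
    refine fun m hm => hA.commute_on_invariant hz hP.isNilpotent hzP ?_ (pCo M p) (fun x m hm => ?_) ?_ y hy m hm
    · rw [hi]; exact ((Nat.coprime_primes Fact.out hz.1).2 (Ne.symm hqp)).pow_left i
    · show (orderOf (φ x m)).Coprime p
      rwa [MulEquiv.orderOf_eq]
    · rw [hi]; exact pCo_coprime.pow_right i
  have hnc : ¬ IsCyclic (pTor M p) := fun hc => hh1 (hA.eq_one_of_parts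
    (fun m hm => by
      obtain ⟨k, hk⟩ := hP ⟨_, hh⟩
      exact hA.fix_pTor hc (congrArg Subtype.val hk :) hm) hfix)
  refine ⟨?_, hnc, _, hh, hh1, hfix⟩
  by_cases hPb : ∃ x ∈ P, orderOf x = p
  · obtain ⟨x, hx, hxo⟩ := hPb
    refine CfsgLib.Transfer.isCyclic_of_unique_order_p (p := p) (hA.two_ne Fact.out hxo) hP
      fun a b ha ha1 hb => ?_
    -- the subgroup of order `p` of the centre
    have hPbot : P ≠ ⊥ := fun e => by
      rw [e, mem_bot] at hx
      rw [hx, orderOf_one] at hxo
      exact (Fact.out : p.Prime).ne_one hxo.symm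
    haveI : Nontrivial P := P.nontrivial_iff_ne_bot.2 hPbot
    haveI := hP.center_nontrivial
    obtain ⟨j, hj⟩ := IsPGroup.iff_card.1 (hP.to_subgroup (center P))
    obtain ⟨c, hc⟩ := exists_prime_orderOf_dvd_card' p (show p ∣ Nat.card (center P) by
      rw [hj]
      refine dvd_pow_self p fun h0 => ?_
      rw [h0, pow_zero] at hj
      exact absurd hj (Finite.one_lt_card (α := center P)).ne')
    set cX : X := ((c : P) : X) with hcX
    have hco : orderOf cX = p := by rw [hcX, Subgroup.orderOf_coe, Subgroup.orderOf_coe, hc]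
    have hin : ∀ u : P, u ^ p = 1 → (u : X) ∈ zpowers cX := by
      intro u hu
      by_cases hu1 : u = 1
      · rw [hu1, coe_one]; exact one_mem _
      have huo : orderOf (u : X) = p := by rw [Subgroup.orderOf_coe]; exact orderOf_eq_prime hu hu1
      exact hA.no_rank_two hnc hco huo (show Commute cX (u : X) from
        (congrArg Subtype.val (mem_center_iff.1 c.2 u)).symm)
    have haX : zpowers (a : X) = zpowers cX :=
      zpowers_eq_of_prime (hco ▸ Fact.out) (hin a ha) fun e => ha1 (Subtype.ext e)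
    obtain ⟨r, hr⟩ := haX.symm ▸ hin b hb
    exact ⟨r, Subtype.ext hr⟩
  · push Not at hPb
    exfalso
    haveI : Nontrivial P := ⟨⟨⟨_, hh⟩, 1, fun e => hh1 (congrArg Subtype.val e)⟩⟩
    obtain ⟨u, hu⟩ := exists_prime_orderOf_dvd_card' p (show p ∣ Nat.card P by
      rw [hi]
      refine dvd_pow_self p fun h0 => ?_
      rw [h0, pow_zero] at hi
      exact absurd hi (Finite.one_lt_card (α := P)).ne')
    exact hPb u u.2 (by rw [Subgroup.orderOf_coe]; exact hu)

/-- A normal subgroup of prime order with fixed points contains all elements of prime order with fixed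
points. -/
theorem unique_of_normal {w : X} (hw : (orderOf w).Prime) (hwf : Fix φ w)
    (hwn : (zpowers w).Normal) {s : X} (hs : (orderOf s).Prime) (hsf : Fix φ s) : s ∈ zpowers w := by
  classical
  obtain ⟨z, hz⟩ := hA.evil
  have hwn' : ∀ d : X, d * w * d⁻¹ ∈ zpowers w := fun d => hwn.conj_mem w (mem_zpowers w) d
  have hw1 : w ≠ 1 := fun h => by rw [h, orderOf_one] at hw; exact Nat.not_prime_one hw
  set q := orderOf z with hq
  haveI := Fact.mk hz.1
  have hcard : Nat.card (fixedSub φ w) = 2 ^ q - 1 := hA.card_fix hz hw1 (hwn' z) hwf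
  set C := fixer φ (fixedSub φ w : Set M) with hC
  have hinvA : ∀ d : X, ∀ m ∈ fixedSub φ w, φ d m ∈ fixedSub φ w := fun d m hm => by
    obtain ⟨i, hi⟩ := hA.gal w hw1 d (hwn' d) hwf
    rw [hi m hm]; exact pow_mem hm _
  haveI hCn : C.Normal := ⟨fun c hc d m hm => by
    rw [map_mul, map_mul, MulAut.mul_apply, MulAut.mul_apply, hc _ (hinvA d⁻¹ m hm), apply_inv]⟩
  have hzC : ∀ u ∈ C, u ∈ zpowers z → u = 1 := fun u hu huz => by
    by_contra h1
    obtain ⟨m, hm1, hm⟩ := hwf
    exact (hz.of_mem_zpowers huz h1).2 ⟨m, hm1, hu m hm⟩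
  have hfree : ∀ c ∈ C, ¬ IsEvil φ c := fun c hc he => by
    obtain ⟨m, hm1, hm⟩ := hwf
    exact he.2 ⟨m, hm1, hc m hm⟩
  -- modulo `C` everything is a power of `z`
  have hcover : ∀ g : X, ∃ k : ℕ, g * z ^ k ∈ C := by
    intro g
    obtain ⟨i, hi⟩ := hA.gal w hw1 g (hwn' g) hwf
    obtain ⟨j, hj⟩ := hA.gal_pow hw1 (hwn' z) hwf
    have hjq : ¬ q ∣ j := by
      rintro ⟨c, rfl⟩
      obtain ⟨m, hm1, hm⟩ := hwf
      refine hz.2 ⟨m, hm1, ?_⟩
      have h := hj 1 m hm
      rwa [pow_one, one_mul, mul_comm q c, pow_exp_aux (hA.pow_two_card hcard hm) c] at h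
    have hjz : (j : ZMod q) ≠ 0 := fun h => hjq ((ZMod.natCast_eq_zero_iff j q).1 h)
    set k : ℕ := ((-(i : ZMod q)) / (j : ZMod q)).val with hk
    refine ⟨k, fun m hm => ?_⟩
    rw [map_mul, MulAut.mul_apply, hj k m hm, map_pow, hi m hm, ← pow_mul, ← pow_add]
    have hd : q ∣ i + k * j := by
      rw [← ZMod.natCast_eq_zero_iff]
      push_cast
      rw [hk, ZMod.natCast_zmod_val, div_mul_cancel₀ _ hjz, add_neg_cancel]
    obtain ⟨c, hc⟩ := hd
    rw [hc, mul_comm q c]
    exact pow_exp_aux (hA.pow_two_card hcard hm) c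
  have hsupz : C ⊔ zpowers z = ⊤ := eq_top_iff.2 fun g _ => by
    obtain ⟨k, hk⟩ := hcover g
    have := mul_mem (mem_sup_left hk : g * z ^ k ∈ C ⊔ zpowers z)
      (mem_sup_right (inv_mem (pow_mem (mem_zpowers z) k)))
    rwa [mul_inv_cancel_right] at this
  have hpowC : ∀ g : X, g ^ q ∈ C := fun g => by
    obtain ⟨k, hk⟩ := hcover g
    have e : QuotientGroup.mk' C g = (QuotientGroup.mk' C z ^ k)⁻¹ := by
      refine eq_inv_of_mul_eq_one_left ?_
      rw [← map_pow, ← map_mul]
      exact (QuotientGroup.eq_one_iff _).2 hk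
    refine (QuotientGroup.eq_one_iff (N := C) _).1 (show QuotientGroup.mk' C (g ^ q) = 1 from ?_)
    rw [map_pow, e, inv_pow, ← pow_mul, mul_comm, pow_mul, ← map_pow, hq, pow_orderOf_eq_one, map_one,
      one_pow, inv_one]
  -- the subgroups of `C` with abelian quotient centralised by `z`
  have hcoinv : ∀ N : Subgroup X, N ≤ C → C ≤ normalizer (N : Set X) → z ∈ normalizer (N : Set X) →
      ⁅C, C⁆ ≤ N → (∀ c ∈ C, ⁅c, z⁆ ∈ N) → C ≤ N := by
    intro N hNC hCN hzN hCC hcz
    set N' := N ⊔ zpowers z with hN'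
    have hzn : zpowers z ≤ normalizer (N : Set X) := zpowers_le.2 hzN
    have hnN : normalizer (N : Set X) = ⊤ := eq_top_iff.2 (hsupz ▸ sup_le hCN hzn)
    have hcomm : commutator X ≤ N' := by
      have htop : (closure ((C : Set X) ∪ {z}) ⊔ N : Subgroup X) = ⊤ := by
        rw [Subgroup.closure_union, closure_eq, ← zpowers_eq_closure, hsupz, top_sup_eq]
      have h := commutator_closure_sup_le (K := N) (S := (C : Set X) ∪ {z})
        (fun u _ => hnN ▸ mem_top u) (by
          rintro a (ha | ha) b (hb | hb)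
          · exact hCC (commutator_mem_commutator ha hb)
          · rw [Set.mem_singleton_iff.1 hb]; exact hcz a ha
          · rw [Set.mem_singleton_iff.1 ha, ← inv_mem_iff, commutatorElement_inv]; exact hcz b hb
          · rw [Set.mem_singleton_iff.1 ha, Set.mem_singleton_iff.1 hb, commutatorElement_self]
            exact one_mem _)
      rw [htop] at h
      exact (commutator_def X).le.trans (h.trans le_sup_left)
    have htop := hA.eq_top_of_cover hcomm fun a => by
      obtain ⟨k, hk⟩ := hcover a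
      exact ⟨a * z ^ k, by rw [inv_mul_cancel_left]; exact mem_sup_right (pow_mem (mem_zpowers z) k),
        fun y hy => hfree y ((zpowers_le.2 hk) hy)⟩
    intro c hc
    obtain ⟨u, hu, n, hn, rfl⟩ := (CfsgLib.Core.mem_sup_iff_mul hzn).1
      (show c ∈ zpowers z ⊔ N by rw [sup_comm, ← hN', htop]; exact mem_top _)
    have huC : u ∈ C := by
      have := mul_mem hc (inv_mem (hNC hn))
      rwa [mul_inv_cancel_right] at this
    rw [hzC u huC hu, one_mul]
    exact hn
  -- the Fitting subgroup of `C`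
  haveI : Group.IsSolvable X := Cfsg.Agent.S0205.result hA.odd
  haveI hCsol : Group.IsSolvable C := inferInstance
  let Pp : ℕ → Subgroup X := fun p => (Cfsg.pCore p C).map C.subtype
  have hPC : ∀ p, Pp p ≤ C := fun p => map_subtype_le _
  have hPn : ∀ p, normalizer (Pp p : Set X) = ⊤ := fun p =>
    top_le_iff.1 ((normalizer_eq_top_iff.2 hCn).ge.trans (le_normalizer_map_characteristic C _))
  have hPp : ∀ p, IsPGroup p (Pp p) := fun p => (CfsgLib.Core.isPGroup_pCore p C).map _
  have hPcases : ∀ p, p.Prime → (∀ y ∈ Pp p, Commute z y) ∨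
      (IsCyclic (Pp p) ∧ ¬ IsCyclic (pTor M p) ∧
        ∃ h ∈ Pp p, h ≠ 1 ∧ ∀ m ∈ pCo M p, φ h m = m) := fun p hp =>
    haveI := Fact.mk hp
    hA.centralised_or_cyclic hz (hPp p) (by rw [hPn p]; exact mem_top z) fun y hy => hfree y (hPC p hy)
  set F := (Cfsg.fittingSubgroup C).map C.subtype with hF
  have hFC : F ≤ C := map_subtype_le _
  have hCF : ∀ c ∈ C, ⁅c, z⁆ ∈ F := by
    intro c hc
    have hcz : ⁅c, z⁆ ∈ C := by
      rw [commutatorElement_def, mul_assoc, mul_assoc]
      refine mul_mem hc ?_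
      rw [← mul_assoc]
      exact hCn.conj_mem _ (inv_mem hc) z
    have hcent : (⟨⁅c, z⁆, hcz⟩ : C) ∈ centralizer (Cfsg.fittingSubgroup C : Set C) := by
      refine mem_centralizer_iff.2 fun u hu => ?_
      suffices h : Cfsg.fittingSubgroup C ≤ centralizer {(⟨⁅c, z⁆, hcz⟩ : C)} from
        (mem_centralizer_singleton_iff.1 (h hu))
      rw [CfsgLib.Core.fittingSubgroup_eq_iSup_pCore]
      refine iSup_le fun p v hv => mem_centralizer_singleton_iff.2 (Subtype.ext ?_)
      have hvP : (v : X) ∈ Pp p := mem_map_of_mem _ hv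
      show (v : X) * ⁅c, z⁆ = ⁅c, z⁆ * v
      rcases hPcases p p.2 with hcen | ⟨hcyc, -, -⟩
      · have h1 : Commute (c * z * c⁻¹) (v : X) := by
          have hv' : c⁻¹ * v * c ∈ Pp p :=
            (mem_normalizer_iff''.1 (hPn p ▸ mem_top c) _).1 hvP
          have h := (hcen _ hv').map (MulAut.conj c).toMonoidHom
          simpa [mul_assoc] using h
        rw [commutatorElement_def]
        exact (h1.mul_left (hcen _ hvP).inv_left).eq.symm
      · obtain ⟨g, hg⟩ := hcyc.exists_generator
        have hgen : zpowers (g : X) = Pp p := by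
          refine le_antisymm (zpowers_le.2 g.2) fun u hu => ?_
          obtain ⟨i, hi⟩ := hg ⟨u, hu⟩
          exact ⟨i, congrArg Subtype.val hi⟩
        have hn' : ∀ u : X, u ∈ normalizer (zpowers (g : X) : Set X) := fun u => by
          rw [hgen, hPn p]; exact mem_top u
        have hg' := commute_commutator_cyclic (hn' c) (hn' z)
        obtain ⟨i, hi⟩ : (v : X) ∈ zpowers (g : X) := hgen.symm ▸ hvP
        rw [← hi]
        exact (hg'.zpow_right i).eq.symm
    exact ⟨_, CfsgLib.Components.centralizer_fitting_le_of_isSolvable hcent, rfl⟩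
  have hFn : normalizer (F : Set X) = ⊤ := by
    haveI : (Cfsg.fittingSubgroup C).Characteristic := by
      refine characteristic_iff_map_le.2 fun e => ?_
      rw [CfsgLib.Core.map_equiv_fittingSubgroup]
    exact top_le_iff.1 ((normalizer_eq_top_iff.2 hCn).ge.trans (le_normalizer_map_characteristic C _))
  have hCeq : C ≤ F := by
    refine le_of_sup_derived hCsol hFC (by rw [hFn]; exact le_top) ?_
    refine hcoinv (F ⊔ ⁅C, C⁆) (sup_le hFC (commutator_le_self C)) ?_ ?_ le_sup_right
      fun c hc => mem_sup_left (hCF c hc)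
    · exact (le_inf ((le_top).trans hFn.ge) ((le_normalizer).trans fun g hg =>
        le_normalizer_commutator ⟨hg, hg⟩)).trans (inf_normalizer_le_normalizer_sup _ _)
    · refine inf_normalizer_le_normalizer_sup _ _ ⟨hFn ▸ mem_top z, le_normalizer_commutator ⟨?_, ?_⟩⟩
      all_goals exact (normalizer_eq_top_iff.2 hCn).symm ▸ mem_top z
  haveI hCnil : Group.IsNilpotent C := by
    have h : Cfsg.fittingSubgroup C = ⊤ := eq_top_iff.2 fun c _ => by
      obtain ⟨c', hc', e⟩ := hCeq c.2
      rwa [← Subtype.ext e]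
    haveI := CfsgLib.Core.isNilpotent_fittingSubgroup C
    exact Group.nilpotent_of_mulEquiv ((MulEquiv.subgroupCongr h).trans Subgroup.topEquiv)
  -- a centralised part is trivial
  have htriv : ∀ p, p.Prime → (∀ y ∈ Pp p, Commute z y) → Pp p = ⊥ := by
    intro p hp hcen
    haveI := Fact.mk hp
    set Q := (Cfsg.pPrimeCore p C).map C.subtype with hQ
    have hQn : normalizer (Q : Set X) = ⊤ := by
      haveI : (Cfsg.pPrimeCore p C).Characteristic := characteristic_iff_map_le.2 fun e => by
        rw [CfsgLib.Core.map_equiv_pPrimeCore]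
      exact top_le_iff.1 ((normalizer_eq_top_iff.2 hCn).ge.trans (le_normalizer_map_characteristic C _))
    have hQC : Q ≤ C := map_subtype_le _
    have hsplit : C ≤ Pp p ⊔ Q := fun c hc => by
      have h : (⟨c, hc⟩ : C) ∈ Cfsg.pCore p C ⊔ Cfsg.pPrimeCore p C := by
        rw [CfsgLib.Core.Carter.pCore_sup_pPrimeCore p hp]; exact mem_top _
      have h2 := mem_map_of_mem C.subtype h
      rwa [Subgroup.map_sup] at h2
    have hCQ : C ≤ Q := by
      refine le_of_sup_derived hCsol hQC (by rw [hQn]; exact le_top) ?_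
      refine hcoinv (Q ⊔ ⁅C, C⁆) (sup_le hQC (commutator_le_self C)) ?_ ?_ le_sup_right
        fun c hc => mem_sup_left ?_
      · exact (le_inf ((le_top).trans hQn.ge) ((le_normalizer).trans fun g hg =>
          le_normalizer_commutator ⟨hg, hg⟩)).trans (inf_normalizer_le_normalizer_sup _ _)
      · refine inf_normalizer_le_normalizer_sup _ _ ⟨hQn ▸ mem_top z, le_normalizer_commutator ⟨?_, ?_⟩⟩
        all_goals exact (normalizer_eq_top_iff.2 hCn).symm ▸ mem_top z
      · obtain ⟨a, ha, b, hb, rfl⟩ := (CfsgLib.Core.mem_sup_iff_mul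
          (show Pp p ≤ normalizer (Q : Set X) by rw [hQn]; exact le_top)).1 (hsplit hc)
        have e : ⁅a * b, z⁆ = a * ⁅b, z⁆ * a⁻¹ * ⁅a, z⁆ := by simp [commutatorElement_def, mul_assoc]
        rw [e, commutatorElement_eq_one_iff_commute.2 (hcen a ha).symm, mul_one]
        refine (mem_normalizer_iff.1 (hQn ▸ mem_top a) _).1 ?_
        rw [commutatorElement_def, mul_assoc, mul_assoc]
        refine mul_mem hb ?_
        rw [← mul_assoc]
        exact (mem_normalizer_iff.1 (hQn ▸ mem_top z) _).1 (inv_mem hb)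
    refine (eq_bot_iff_forall _).2 ?_
    rintro _ ⟨c, hc, rfl⟩
    obtain ⟨c', hc', e⟩ := hCQ c.2
    have hco : (Nat.card (Cfsg.pCore p C)).Coprime (Nat.card (Cfsg.pPrimeCore p C)) := by
      obtain ⟨i, hi⟩ := IsPGroup.iff_card.1 (CfsgLib.Core.isPGroup_pCore p C)
      rw [hi]
      exact (CfsgLib.Core.coprime_card_pPrimeCore p C).symm.pow_left i
    have hc1 : c ∈ Cfsg.pCore p C ⊓ Cfsg.pPrimeCore p C := ⟨hc, Subtype.ext e ▸ hc'⟩
    rw [Subgroup.inf_eq_bot_of_coprime hco, mem_bot] at hc1
    rw [hc1]; rfl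
  -- only one prime remains
  have hcyc : ∃ l, l.Prime ∧ C ≤ Pp l ∧ IsCyclic (Pp l) := by
    have hne : ∀ p : Nat.Primes, Pp p ≠ ⊥ → IsCyclic (Pp p) ∧ ¬ IsCyclic (pTor M p) ∧
        ∃ h ∈ Pp p, h ≠ 1 ∧ ∀ m ∈ pCo M p, φ h m = m := fun p hp =>
      (hPcases p p.2).resolve_left fun h => hp (htriv p p.2 h)
    have hF' : F = ⨆ p : Nat.Primes, Pp p := by
      rw [hF, CfsgLib.Core.fittingSubgroup_eq_iSup_pCore, Subgroup.map_iSup]
    have hwC : w ∈ C := fun m hm => hm
    obtain ⟨l, hl⟩ : ∃ l : Nat.Primes, Pp l ≠ ⊥ := by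
      by_contra hall
      push Not at hall
      have hb : F = ⊥ := by rw [hF']; exact iSup_eq_bot.2 hall
      exact hw1 (mem_bot.1 (hb ▸ hCeq hwC))
    refine ⟨l, l.2, hCeq.trans (hF'.le.trans (iSup_le fun p => ?_)), (hne l hl).1⟩
    by_cases hp : Pp p = ⊥
    · rw [hp]; exact bot_le
    by_cases hpl : p = l
    · rw [hpl]
    exfalso
    obtain ⟨-, hnc, -⟩ := hne p hp
    obtain ⟨-, -, h, hh, hh1, hfix⟩ := hne l hl
    refine hnc ?_
    have hle : pTor M p ≤ fixedSub φ h := fun m ⟨k, hk⟩ => hfix m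
      (((Nat.coprime_primes p.2 l.2).2 fun e => hpl (Subtype.ext e)).pow_left k
        |>.coprime_dvd_left (orderOf_dvd_of_pow_eq_one hk))
    have hfh : Fix φ h := by
      by_contra hno
      haveI : Subsingleton (pTor M p) := ⟨fun u v => by
        have key : ∀ u : pTor M p, u = 1 := fun u => by
          by_contra hu
          exact hno ⟨u, fun e => hu (Subtype.ext e), hle u.2⟩
        rw [key u, key v]⟩
      exact hnc isCyclic_of_subsingleton
    haveI := (hA.cyc h hh1 hfh).1
    exact isCyclic_of_injective (Subgroup.inclusion hle) (Subgroup.inclusion_injective _)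
  obtain ⟨l, hl, hCl, hlc⟩ := hcyc
  haveI := Fact.mk hl
  have hwC : w ∈ C := fun m hm => hm
  have hsC : s ∈ C := by
    by_cases hsq : orderOf s = q
    · have hcomm : commutator X ≤ C := by
        have htop : (closure ({z} : Set X) ⊔ C : Subgroup X) = ⊤ := by
          rw [← zpowers_eq_closure, sup_comm, hsupz]
        have h := commutator_closure_sup_le (K := C) (S := ({z} : Set X))
          (fun u _ => normalizer_eq_top_iff.2 hCn ▸ mem_top u) (by
            rintro a ha b hb
            rw [Set.mem_singleton_iff.1 ha, Set.mem_singleton_iff.1 hb, commutatorElement_self]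
            exact one_mem _)
        rw [htop] at h
        exact (commutator_def X).le.trans h
      exact hA.mem_of_kills hcomm hpowC ⟨1, by rw [pow_one, ← hsq, pow_orderOf_eq_one]⟩
        (not_isEvil_of_fix hs hsf)
    · obtain ⟨m, hm⟩ := exists_pow_eq_self_of_coprime
        (((Nat.coprime_primes hs hz.1).2 hsq).symm)
      exact hm ▸ pow_mem (hpowC s) m
  -- elements of prime order of a cyclic `l`-group
  obtain ⟨i, hi⟩ := IsPGroup.iff_card.1 (hPp l)
  have hord : ∀ u ∈ C, (orderOf u).Prime → orderOf u = l := fun u hu hup =>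
    (Nat.prime_dvd_prime_iff_eq hup hl).1 (hup.dvd_of_dvd_pow (hi ▸ (Pp l).orderOf_dvd_natCard (hCl hu)))
  exact mem_zpowers_of_cyclic hlc (hCl hsC) (hCl hwC)
    (by rw [← hord s hsC hs, pow_orderOf_eq_one]) (hord w hwC hw)

end Act

end CfsgLib.Bender.NSubB
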