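import Cfsg.Agent.Lib.Bender.Gen.NSubBBase
import Cfsg.Agent.Lib.Bender.Gen.NoMoveA
import Cfsg.Agent.Lib.PGroups.ClassTwo

/-!
Owner: helper27. General Bender theorem, sub-slice G4, part 2: an element `g` with fixed points commuting
with an evil element `z` of the same order `q`.

* `Pair.mem_of_commute` : `⟨g, z⟩` is its own centraliser
* `Pair.moves` : a `q`-element normalising it centralises `z` and not `g`
* `Pair.card_le` : a `q`-group containing it has order at most `q ^ 3`
* `Act.commute_of_free` : an evil element centralises the `q`-groups without evil elements it normalises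
-/

set_option autoImplicit false
set_option linter.style.haveILetI false
set_option linter.unusedSectionVars false

namespace CfsgLib.Bender.NSubB

open Subgroup
open CfsgLib.PGroups.FixRank (Fix fixedSub closure_pair_comm closure_pair_pow closure_pair_le
  commute_closure_pair exists_fixed)
open scoped commutatorElement

variable {X : Type*} [Group X] [Finite X] {M : Type*} [CommGroup M] [Finite M] {φ : X →* MulAut M}

/-- Commuting elements of the same prime order, one with a fixed point and one evil. -/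
structure Pair (φ : X →* MulAut M) (q : ℕ) (g z : X) : Prop where
  ord_left : orderOf g = q
  ord_right : orderOf z = q
  fix : Fix φ g
  evil : IsEvil φ z
  comm : Commute g z

/-- Elements with the same powers on a group of exponent `2 ^ q - 1`. -/
theorem pow_two_mod {q : ℕ} {m : M} (h : m ^ 2 ^ q = m) (i : ℕ) : m ^ 2 ^ (i % q) = m ^ 2 ^ i := by
  conv_rhs => rw [← Nat.mod_add_div i q, pow_add, mul_comm (2 ^ (i % q)), pow_mul, mul_comm q,
    pow_exp_aux h (i / q)]

namespace Pair

variable (hA : Act φ) {q : ℕ} [hq : Fact q.Prime] {g z : X} (h : Pair φ q g z)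
include hA h

theorem left_mem : g ∈ (closure ({g, z} : Set X)) := subset_closure (by simp)
theorem right_mem : z ∈ (closure ({g, z} : Set X)) := subset_closure (by simp)

theorem not_mem : g ∉ zpowers z := fun hm => by
  have h1 : g ≠ 1 := fun e => hq.out.ne_one (by rw [← h.ord_left, e, orderOf_one])
  exact (h.evil.of_mem_zpowers hm h1).2 h.fix

theorem not_mem' : z ∉ zpowers g := fun hm => h.evil.2 (fix_of_mem h.fix hm)

theorem coprime : (Nat.card M).Coprime q := h.ord_right ▸ h.evil.coprime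

theorem pow_eq {x : X} (hx : x ∈ (closure ({g, z} : Set X))) : x ^ q = 1 :=
  closure_pair_pow h.comm (h.ord_left ▸ pow_orderOf_eq_one g) (h.ord_right ▸ pow_orderOf_eq_one z) x hx

theorem comm_mem {x y : X} (hx : x ∈ (closure ({g, z} : Set X))) (hy : y ∈ (closure ({g, z} : Set X))) : Commute x y := closure_pair_comm h.comm x hx y hy

theorem order {x : X} (hx : x ∈ (closure ({g, z} : Set X))) (h1 : x ≠ 1) : orderOf x = q := orderOf_eq_prime (h.pow_eq hA hx) h1

theorem card : Nat.card (closure ({g, z} : Set X)) = q * q := by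
  have e : (closure ({g, z} : Set X)) = zpowers g ⊔ zpowers z := by
    rw [zpowers_eq_closure, zpowers_eq_closure, ← Subgroup.closure_union, Set.singleton_union]
  rw [e, CfsgLib.Core.card_sup_of_disjoint (zpowers g) (zpowers z)
    (zpowers_le.2 (CfsgLib.Bender.mem_normalizer_zpowers_of_commute h.comm)) ?_,
    Nat.card_zpowers, Nat.card_zpowers, h.ord_left, h.ord_right]
  refine (eq_bot_iff_forall _).2 fun y hy => by_contra fun h1 => ?_
  exact (h.evil.of_mem_zpowers hy.2 h1).2 (fix_of_mem h.fix hy.1)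

/-- A second line with fixed points. -/
theorem exists_fix : ∃ x ∈ (closure ({g, z} : Set X)), x ≠ 1 ∧ Fix φ x ∧ x ∉ zpowers g := by
  by_contra hno
  push Not at hno
  have h1 : g ≠ 1 := fun e => hq.out.ne_one (by rw [← h.ord_left, e, orderOf_one])
  refine h1 (hA.eq_one_of_fix h.ord_left h.ord_right h.comm (h.not_mem' hA) (Commute.refl g) h.comm.symm
    (fun m hm => ?_) fun x hx hxq m hm => ?_)
  · obtain ⟨k, hk⟩ := hm
    have : m = 1 := orderOf_eq_one_iff.1 (Nat.eq_one_of_dvd_coprimes
      ((h.coprime hA).symm.pow_left k) (orderOf_dvd_of_pow_eq_one hk) (orderOf_dvd_natCard _))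
    rw [this, map_one]
  · by_cases hm1 : m = 1
    · rw [hm1]; exact one_mem _
    have hx1 : x ≠ 1 := fun e => hq.out.ne_one (by rw [← hxq, e, orderOf_one])
    have hxg := hno x hx hx1 ⟨m, hm1, hm⟩
    refine fixedSub_mono ?_ hm
    rw [zpowers_eq_of_prime (h.ord_left ▸ hq.out) hxg hx1]
    exact mem_zpowers g

theorem card_fixed {x : X} (hx : x ∈ (closure ({g, z} : Set X))) (h1 : x ≠ 1) (hf : Fix φ x) :
    Nat.card (fixedSub φ x) = 2 ^ q - 1 := by
  have hc : Commute z x := h.comm_mem hA (h.right_mem hA) hx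
  have := hA.card_fix h.evil h1 (by rw [hc.eq, mul_inv_cancel_right]; exact mem_zpowers x) hf
  rwa [h.ord_right] at this

/-- An element commuting with the pair and fixing its fixed points is trivial. -/
theorem eq_one {c : X} (hcg : Commute g c) (hcz : Commute z c)
    (hfix : ∀ x ∈ (closure ({g, z} : Set X)), x ≠ 1 → Fix φ x → fixedSub φ x ≤ fixedSub φ c) : c = 1 := by
  refine hA.eq_one_of_fix h.ord_left h.ord_right h.comm (h.not_mem' hA) hcg hcz (fun m hm => ?_)
    fun x hx hxq m hm => ?_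
  · obtain ⟨k, hk⟩ := hm
    have : m = 1 := orderOf_eq_one_iff.1 (Nat.eq_one_of_dvd_coprimes
      ((h.coprime hA).symm.pow_left k) (orderOf_dvd_of_pow_eq_one hk) (orderOf_dvd_natCard _))
    rw [this, map_one]
  · by_cases hm1 : m = 1
    · rw [hm1]; exact one_mem _
    exact hfix x hx (fun e => hq.out.ne_one (by rw [← hxq, e, orderOf_one])) ⟨m, hm1, hm⟩ hm

theorem commute_mem {c : X} (hcg : Commute g c) (hcz : Commute z c) {x : X} (hx : x ∈ (closure ({g, z} : Set X))) :
    Commute x c := commute_closure_pair hcg hcz x hx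

/-- The centraliser of the pair. -/
theorem card_centralizer :
    Nat.card {c : X // Commute g c ∧ Commute z c} ≤ q * q := by
  classical
  obtain ⟨x, hx, hx1, hxf, hxg⟩ := h.exists_fix hA
  have hg1 : g ≠ 1 := fun e => hq.out.ne_one (by rw [← h.ord_left, e, orderOf_one])
  have hgg := h.left_mem hA
  have hd : ∀ (c : X), Commute g c → Commute z c → ∀ y ∈ (closure ({g, z} : Set X)), c * y * c⁻¹ ∈ zpowers y :=
    fun c hcg hcz y hy => by
      rw [← (h.commute_mem hA hcg hcz hy).eq, mul_inv_cancel_right]; exact mem_zpowers y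
  choose i hi using fun (c : {c : X // Commute g c ∧ Commute z c}) =>
    hA.gal g hg1 c (hd c c.2.1 c.2.2 g hgg) h.fix
  choose j hj using fun (c : {c : X // Commute g c ∧ Commute z c}) =>
    hA.gal x hx1 c (hd c c.2.1 c.2.2 x hx) hxf
  let f : {c : X // Commute g c ∧ Commute z c} → Fin q × Fin q := fun c =>
    (⟨i c % q, Nat.mod_lt _ hq.out.pos⟩, ⟨j c % q, Nat.mod_lt _ hq.out.pos⟩)
  refine (Nat.card_le_card_of_injective f ?_).trans (by rw [Nat.card_prod, Nat.card_fin])
  intro c c' hcc
  simp only [f, Prod.mk.injEq, Fin.mk.injEq] at hcc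
  have hsame : ∀ (y : X) (k k' : ℕ), Nat.card (fixedSub φ y) = 2 ^ q - 1 →
      (∀ m ∈ fixedSub φ y, φ c m = m ^ 2 ^ k) → (∀ m ∈ fixedSub φ y, φ c' m = m ^ 2 ^ k') →
      k % q = k' % q → ∀ m ∈ fixedSub φ y, φ ((c' : X)⁻¹ * c) m = m := by
    intro y k k' hy hk hk' hkk m hm
    have hmq := hA.pow_two_card hy hm
    rw [map_mul, MulAut.mul_apply, hk m hm, ← pow_two_mod hmq, hkk, pow_two_mod hmq, ← hk' m hm, inv_apply]
  have hF1 := hsame g _ _ (h.card_fixed hA hgg hg1 h.fix) (hi c) (hi c') hcc.1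
  have hF2 := hsame x _ _ (h.card_fixed hA hx hx1 hxf) (hj c) (hj c') hcc.2
  set d := (c' : X)⁻¹ * c with hd'
  have hdg : Commute g d := c'.2.1.inv_right.mul_right c.2.1
  have hdz : Commute z d := c'.2.2.inv_right.mul_right c.2.2
  suffices d = 1 by exact Subtype.ext (inv_mul_eq_one.1 this).symm
  by_contra hd1
  have hne : fixedSub φ g ≠ fixedSub φ x := by
    intro e
    refine hg1 (h.eq_one hA (Commute.refl g) h.comm.symm fun y hy hy1 hyf => ?_)
    -- both lines fix a common element, hence all of the pair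
    obtain ⟨m, hm1, hm⟩ := h.fix
    have hall : ∀ w ∈ (closure ({g, z} : Set X)), φ w m = m := by
      intro w hw
      refine ((closure_le (K := fixer φ {m})).2 ?_ :
        closure ({g, x} : Set X) ≤ fixer φ {m}) ?_ m rfl
      · rintro u (rfl | rfl)
        · exact fun m' hm' => by rw [hm']; exact hm
        · exact fun m' hm' => by rw [hm']; exact (e ▸ (show m ∈ fixedSub φ g from hm) : m ∈ fixedSub φ u)
      · have hle : closure ({g, x} : Set X) ≤ (closure ({g, z} : Set X)) := closure_pair_le hgg hx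
        have hpair : closure ({g, x} : Set X) = (closure ({g, z} : Set X)) := by
          refine eq_of_le_of_card_ge hle ?_
          rw [h.card hA]
          have e1 : closure ({g, x} : Set X) = zpowers g ⊔ zpowers x := by
            rw [zpowers_eq_closure, zpowers_eq_closure, ← Subgroup.closure_union, Set.singleton_union]
          rw [e1, CfsgLib.Core.card_sup_of_disjoint (zpowers g) (zpowers x)
            (zpowers_le.2 (CfsgLib.Bender.mem_normalizer_zpowers_of_commute (h.comm_mem hA hgg hx))) ?_,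
            Nat.card_zpowers, Nat.card_zpowers, h.ord_left, h.order hA hx hx1]
          refine (eq_bot_iff_forall _).2 fun u hu => by_contra fun hu1 => hxg ?_
          rw [← zpowers_eq_of_prime (h.ord_left ▸ hq.out) hu.1 hu1,
            zpowers_eq_of_prime ((h.order hA hx hx1).symm ▸ hq.out) hu.2 hu1]
          exact mem_zpowers x
        rw [hpair]; exact hw
    exact absurd ⟨m, hm1, hall z (h.right_mem hA)⟩ h.evil.2
  have hdf : Fix φ d := let ⟨m, hm1, hm⟩ := h.fix; ⟨m, hm1, hF1 m hm⟩
  haveI := (hA.cyc d hd1 hdf).1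
  refine hne ?_
  have hcgx := (h.card_fixed hA hgg hg1 h.fix).trans (h.card_fixed hA hx hx1 hxf).symm
  refine eq_of_le_of_card_ge ?_ hcgx.ge
  intro m hm
  -- a cyclic group has one subgroup of each order
  have hsub : ∀ (S : Subgroup M), S ≤ fixedSub φ d → Nat.card S = Nat.card (fixedSub φ g) →
      m ∈ S := by
    intro S hS hcard
    classical
    haveI := Fintype.ofFinite (fixedSub φ d)
    set n := Nat.card (fixedSub φ g)
    set s : Finset (fixedSub φ d) := Finset.univ.filter fun u => u ^ n = 1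
    have h1 : s.card ≤ n := IsCyclic.card_pow_eq_one_le Nat.card_pos
    set t : Finset (fixedSub φ d) := Finset.univ.filter fun u => (u : M) ∈ S
    have h2 : t ⊆ s := fun u hu => by
      refine Finset.mem_filter.2 ⟨Finset.mem_univ _, Subtype.ext ?_⟩
      show (u : M) ^ n = 1
      rw [← hcard]
      exact orderOf_dvd_iff_pow_eq_one.1 (S.orderOf_dvd_natCard (Finset.mem_filter.1 hu).2)
    have h3 : n ≤ t.card := by
      rw [← hcard, ← Fintype.card_coe t, ← Nat.card_eq_fintype_card]
      exact Nat.card_le_card_of_injective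
        (fun u : S => (⟨⟨u, hS u.2⟩, Finset.mem_filter.2 ⟨Finset.mem_univ _, u.2⟩⟩ : t))
        (fun u w e => Subtype.ext (congrArg (fun k : t => ((k : fixedSub φ d) : M)) e))
    have h4 := Finset.eq_of_subset_of_card_le h2 (h1.trans h3)
    have hms : (⟨m, hF1 m hm⟩ : fixedSub φ d) ∈ s := by
      refine Finset.mem_filter.2 ⟨Finset.mem_univ _, Subtype.ext ?_⟩
      exact orderOf_dvd_iff_pow_eq_one.1 ((fixedSub φ g).orderOf_dvd_natCard hm)
    rw [← h4] at hms
    exact (Finset.mem_filter.1 hms).2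
  exact hsub _ hF2 hcgx.symm

theorem mem_of_commute {c : X} (hcg : Commute g c) (hcz : Commute z c) : c ∈ (closure ({g, z} : Set X)) := by
  classical
  let f : (closure ({g, z} : Set X)) → {c : X // Commute g c ∧ Commute z c} := fun x =>
    ⟨x, h.comm_mem hA (h.left_mem hA) x.2, h.comm_mem hA (h.right_mem hA) x.2⟩
  have hf : Function.Injective f := fun x y e => Subtype.ext (congrArg Subtype.val e :)
  obtain ⟨x, hx⟩ := (hf.bijective_of_nat_card_le
    ((h.card_centralizer hA).trans (h.card hA).ge)).2 ⟨c, hcg, hcz⟩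
  have e : (x : X) = c := congrArg Subtype.val hx
  rw [← e]
  exact x.2

/-- A `q`-element outside normalising the pair. -/
theorem moves {n : X} (hnn : n ∈ normalizer ((closure ({g, z} : Set X)) : Set X)) {k : ℕ} (hn : n ^ q ^ k = 1) (hnE : n ∉ (closure ({g, z} : Set X))) :
    Commute n z ∧ ¬ Commute n g ∧ ⁅n, g⁆ ∈ zpowers z ∧
      ∀ y ∈ (closure ({g, z} : Set X)), IsEvil φ y → y ∈ zpowers z := by
  classical
  letI : CommGroup (closure ({g, z} : Set X)) := { (inferInstance : Group (closure ({g, z} : Set X))) with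
    mul_comm := fun a b => Subtype.ext (h.comm_mem hA a.2 b.2).eq }
  have hmem : ∀ y ∈ (closure ({g, z} : Set X)), ⁅n, y⁆ ∈ (closure ({g, z} : Set X)) := fun y hy => by
    rw [commutatorElement_def]; exact mul_mem ((mem_normalizer_iff.1 hnn y).1 hy) (inv_mem hy)
  let δ : (closure ({g, z} : Set X)) →* (closure ({g, z} : Set X)) :=
    { toFun := fun y => ⟨⁅n, (y : X)⁆, hmem y y.2⟩
      map_one' := Subtype.ext (commutatorElement_one_right n)
      map_mul' := fun y w => Subtype.ext (by
        show ⁅n, (y : X) * w⁆ = ⁅n, (y : X)⁆ * ⁅n, (w : X)⁆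
        have hc : Commute (y : X) ⁅n, (w : X)⁆ := h.comm_mem hA y.2 (hmem w w.2)
        calc ⁅n, (y : X) * w⁆ = ⁅n, (y : X)⁆ * ((y : X) * ⁅n, (w : X)⁆ * (y : X)⁻¹) := by
              simp only [commutatorElement_def]; group
          _ = _ := by rw [hc.eq, mul_inv_cancel_right]) }
  have hδ : ∀ y : (closure ({g, z} : Set X)), (δ y : X) = ⁅n, (y : X)⁆ := fun _ => rfl
  have hker : ∀ y : (closure ({g, z} : Set X)), y ∈ δ.ker ↔ Commute n y := fun y => by
    rw [MonoidHom.mem_ker, ← commutatorElement_eq_one_iff_commute, ← hδ]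
    exact ⟨fun e => by rw [e]; rfl, fun e => Subtype.ext e⟩
  have hktop : δ.ker ≠ ⊤ := fun e => hnE (h.mem_of_commute hA
    ((hker ⟨g, h.left_mem hA⟩).1 (e ▸ mem_top _)).symm ((hker ⟨z, h.right_mem hA⟩).1 (e ▸ mem_top _)).symm)
  -- a fixed point of `n`
  have hkbot : δ.ker ≠ ⊥ := by
    let ψ : zpowers n →* MulAut (closure ({g, z} : Set X)) := (normalizerMonoidHom (closure ({g, z} : Set X))).comp
      (Subgroup.inclusion (zpowers_le.2 hnn))
    obtain ⟨y, -, hy1, hy⟩ := exists_fixed_pgroup (φ := ψ) (p := q) (k := k)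
      (y := (⟨n, mem_zpowers n⟩ : zpowers n)) (Subtype.ext hn) (W := ⊤) (fun m _ => mem_top _)
      (by rw [card_top, h.card hA]; exact dvd_mul_right q q)
    intro e
    refine hy1 (mem_bot.1 (e ▸ (hker y).2 ?_))
    have h' : n * (y : X) * n⁻¹ = y := congrArg Subtype.val hy
    exact mul_inv_eq_iff_eq_mul.1 h'
  have hcards : Nat.card δ.ker = q ∧ Nat.card δ.range = q := by
    have hmul := δ.ker.card_mul_index
    rw [Subgroup.index_ker, h.card hA] at hmul
    have hd : Nat.card δ.ker ∣ q ^ 2 := by rw [pow_two, ← hmul]; exact dvd_mul_right _ _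
    obtain ⟨i, hi, hi'⟩ := (Nat.dvd_prime_pow hq.out).1 hd
    rcases (show i = 0 ∨ i = 1 ∨ i = 2 by omega) with rfl | rfl | rfl
    · exact absurd (Subgroup.card_eq_one.1 (by simpa using hi')) hkbot
    · rw [pow_one] at hi'
      rw [hi'] at hmul
      exact ⟨hi', Nat.eq_of_mul_eq_mul_left hq.out.pos hmul⟩
    · exact absurd (Subgroup.card_eq_iff_eq_top _ |>.1 (by rw [hi', h.card hA, pow_two])) hktop
  -- the line fixed by `n`
  have hrange : δ.range = δ.ker := by
    refine eq_of_le_of_card_ge ?_ (hcards.1.trans hcards.2.symm).le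
    rintro _ ⟨y, rfl⟩
    rw [hker]
    by_cases h1 : δ y = 1
    · rw [h1]; exact Commute.one_right n
    have hyo : orderOf (δ y : X) = q := h.order hA (δ y).2 fun e => h1 (Subtype.ext e)
    refine commute_of_normalizes_prime hyo ?_ (j := k) (by rw [hn]; exact Commute.one_left _)
    have hgen : zpowers (δ y) = δ.range := by
      refine eq_of_le_of_card_ge (zpowers_le.2 ⟨y, rfl⟩) ?_
      rw [hcards.2, Nat.card_zpowers, ← Subgroup.orderOf_coe, hyo]
    have hny : (⟨n * (δ y : X) * n⁻¹, (mem_normalizer_iff.1 hnn _).1 (δ y).2⟩ : (closure ({g, z} : Set X))) ∈ δ.range := by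
      refine ⟨⟨n * y * n⁻¹, (mem_normalizer_iff.1 hnn _).1 y.2⟩, Subtype.ext ?_⟩
      show ⁅n, n * (y : X) * n⁻¹⁆ = n * ⁅n, (y : X)⁆ * n⁻¹
      simp only [commutatorElement_def]; group
    rw [← hgen] at hny
    obtain ⟨i, hi⟩ := hny
    exact ⟨i, congrArg Subtype.val hi⟩
  -- outside the line all elements are conjugate to powers of each other
  have hconj : ∀ y y' : (closure ({g, z} : Set X)), y ∉ δ.ker → y' ∉ δ.ker → Fix φ (y : X) → Fix φ (y' : X) := by
    intro y y' hy hy' hf
    have hidx : (y' : (closure ({g, z} : Set X))) ∈ δ.ker ⊔ zpowers y := by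
      have : δ.ker ⊔ zpowers y = ⊤ := by
        refine Subgroup.card_eq_iff_eq_top _ |>.1 ?_
        refine le_antisymm (Subgroup.card_le_card_group _) ?_
        rw [h.card hA, CfsgLib.Core.card_sup_of_disjoint δ.ker (zpowers y) le_normalizer_of_normal ?_,
          hcards.1, Nat.card_zpowers, ← Subgroup.orderOf_coe,
          h.order hA y.2 fun e => hy (by rw [show y = 1 from Subtype.ext e]; exact one_mem _)]
        refine (eq_bot_iff_forall _).2 fun u hu => by_contra fun hu1 => hy ?_
        have hyp : (orderOf y).Prime := by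
          rw [← Subgroup.orderOf_coe,
            h.order hA y.2 fun e => hy (by rw [show y = 1 from Subtype.ext e]; exact one_mem _)]
          exact hq.out
        exact (zpowers_le.2 hu.1) ((zpowers_eq_of_prime hyp hu.2 hu1).symm ▸ mem_zpowers y)
      rw [this]; exact mem_top _
    obtain ⟨_, ⟨a, rfl⟩, i, hi, rfl⟩ :=
      (CfsgLib.Core.mem_sup_iff_mul (le_normalizer_of_normal : zpowers y ≤ _)).1 (by rwa [sup_comm])
    have hia : i ∈ δ.range := hrange.symm ▸ hi
    have hya : y ^ a ∉ δ.ker := fun hk => hy' (mul_mem hk hi)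
    have hgen : zpowers (δ (y ^ a)) = δ.range := by
      refine eq_of_le_of_card_ge (zpowers_le.2 ⟨_, rfl⟩) ?_
      rw [hcards.2, Nat.card_zpowers, ← Subgroup.orderOf_coe, h.order hA (δ (y ^ a)).2]
      exact fun e => hya (MonoidHom.mem_ker.2 (Subtype.ext e))
    rw [← hgen] at hia
    obtain ⟨b, hb⟩ := (mem_powers_iff_mem_zpowers.2 hia : i ∈ Submonoid.powers (δ (y ^ a)))
    have hfix : Commute n (δ (y ^ a) : X) := (hker _).1 (hrange ▸ ⟨_, rfl⟩)
    have hpow : ∀ j : ℕ, n ^ j * ((y ^ a : (closure ({g, z} : Set X))) : X) * (n ^ j)⁻¹ =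
        ((y ^ a : (closure ({g, z} : Set X))) : X) * (δ (y ^ a) : X) ^ j := by
      intro j
      induction j with
      | zero => simp
      | succ j ih =>
        have hc : Commute ((y ^ a : (closure ({g, z} : Set X))) : X) (δ (y ^ a) : X) := h.comm_mem hA (y ^ a).2 (δ (y ^ a)).2
        calc n ^ (j + 1) * ((y ^ a : (closure ({g, z} : Set X))) : X) * (n ^ (j + 1))⁻¹
            = n * (n ^ j * ((y ^ a : (closure ({g, z} : Set X))) : X) * (n ^ j)⁻¹) * n⁻¹ := by rw [pow_succ' n j]; group
          _ = (n * ((y ^ a : (closure ({g, z} : Set X))) : X) * n⁻¹) * (n * (δ (y ^ a) : X) ^ j * n⁻¹) := by rw [ih]; group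
          _ = ((y ^ a : (closure ({g, z} : Set X))) : X) * (δ (y ^ a) : X) * (δ (y ^ a) : X) ^ j := by
              have e : n * ((y ^ a : (closure ({g, z} : Set X))) : X) * n⁻¹ =
                  ((y ^ a : (closure ({g, z} : Set X))) : X) * (δ (y ^ a) : X) := by
                rw [hc.eq, hδ, commutatorElement_def]; group
              rw [e, (hfix.pow_right j).eq, mul_inv_cancel_right]
          _ = _ := by rw [pow_succ' _ j, mul_assoc]
    have hfa : Fix φ ((y ^ a : (closure ({g, z} : Set X))) : X) := fix_of_mem hf ⟨a, (SubgroupClass.coe_zpow y a).symm⟩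
    have h2 := fix_conj hfa (n ^ b)
    rw [hpow b] at h2
    rw [← hb, Subgroup.coe_mul, SubmonoidClass.coe_pow]
    exact h2
  obtain ⟨x, hx, hx1, hxf, hxg⟩ := h.exists_fix hA
  have hout : ∀ y : (closure ({g, z} : Set X)), y ∉ δ.ker → Fix φ (y : X) := by
    intro y hy
    by_cases hgk : (⟨g, h.left_mem hA⟩ : (closure ({g, z} : Set X))) ∈ δ.ker
    · refine hconj ⟨x, hx⟩ y (fun hxk => hxg ?_) hy hxf
      have he : zpowers (⟨g, h.left_mem hA⟩ : (closure ({g, z} : Set X))) = δ.ker := by
        refine eq_of_le_of_card_ge (zpowers_le.2 hgk) ?_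
        rw [hcards.1, Nat.card_zpowers, Subgroup.orderOf_mk, h.ord_left]
      rw [← he] at hxk
      obtain ⟨i, hi⟩ := hxk
      exact ⟨i, congrArg Subtype.val hi⟩
    · exact hconj ⟨g, h.left_mem hA⟩ y hgk hy h.fix
  have hz : (⟨z, h.right_mem hA⟩ : (closure ({g, z} : Set X))) ∈ δ.ker := by_contra fun hc => h.evil.2 (hout _ hc)
  have hgk : (⟨g, h.left_mem hA⟩ : (closure ({g, z} : Set X))) ∉ δ.ker := fun hk => hnE
    (h.mem_of_commute hA ((hker _).1 hk).symm ((hker _).1 hz).symm)
  have hzk : zpowers (⟨z, h.right_mem hA⟩ : (closure ({g, z} : Set X))) = δ.ker := by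
    refine eq_of_le_of_card_ge (zpowers_le.2 hz) ?_
    rw [hcards.1, Nat.card_zpowers, Subgroup.orderOf_mk, h.ord_right]
  refine ⟨(hker _).1 hz, fun hc => hgk ((hker _).2 hc), ?_, fun y hy hev => ?_⟩
  · have : δ ⟨g, h.left_mem hA⟩ ∈ zpowers (⟨z, h.right_mem hA⟩ : (closure ({g, z} : Set X))) := hzk ▸ hrange ▸ ⟨_, rfl⟩
    obtain ⟨i, hi⟩ := this
    exact ⟨i, congrArg Subtype.val hi⟩
  · have : (⟨y, hy⟩ : (closure ({g, z} : Set X))) ∈ δ.ker := by_contra fun hc => hev.2 (hout _ hc)
    rw [← hzk] at this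
    obtain ⟨i, hi⟩ := this
    exact ⟨i, congrArg Subtype.val hi⟩

/-- A `q`-group normalising the pair has order at most `q ^ 3`. -/
theorem card_le_of_normalizer {N : Subgroup X} (hN : IsPGroup q N)
    (hn : N ≤ normalizer ((closure ({g, z} : Set X)) : Set X)) : Nat.card N ≤ q * (q * q) := by
  classical
  have hf : ∀ n : N, ⁅(n : X), g⁆ ∈ zpowers z := by
    intro n
    by_cases hm : (n : X) ∈ (closure ({g, z} : Set X))
    · rw [commutatorElement_eq_one_iff_commute.2 (h.comm_mem hA hm (h.left_mem hA))]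
      exact one_mem _
    · obtain ⟨k, hk⟩ := hN n
      exact (h.moves hA (hn n.2) (congrArg Subtype.val hk :) hm).2.2.1
  let f : N → zpowers z := fun n => ⟨⁅(n : X), g⁆, hf n⟩
  have hzc : ∀ n : N, Commute (n : X) z := by
    intro n
    by_cases hm : (n : X) ∈ (closure ({g, z} : Set X))
    · exact h.comm_mem hA hm (h.right_mem hA)
    · obtain ⟨k, hk⟩ := hN n
      exact (h.moves hA (hn n.2) (congrArg Subtype.val hk :) hm).1
  let r : N → N := fun n => Function.invFun f (f n)
  have hr : ∀ n, f (r n) = f n := fun n => Function.invFun_eq ⟨n, rfl⟩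
  have hmem : ∀ n : N, ((r n : X))⁻¹ * n ∈ (closure ({g, z} : Set X)) := fun n => by
    refine h.mem_of_commute hA ?_ ((hzc (r n)).symm.inv_right.mul_right (hzc n).symm)
    have he : ⁅((r n : X)), g⁆ = ⁅(n : X), g⁆ := congrArg Subtype.val (hr n)
    rw [commutatorElement_def, commutatorElement_def, mul_left_inj] at he
    have hstep : ((r n : X))⁻¹ * ↑n * g * (((r n : X))⁻¹ * ↑n)⁻¹ = g := by
      calc ((r n : X))⁻¹ * ↑n * g * (((r n : X))⁻¹ * ↑n)⁻¹
          = ((r n : X))⁻¹ * (↑n * g * (↑n)⁻¹) * (r n : X) := by group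
        _ = g := by rw [← he]; group
    exact (mul_inv_eq_iff_eq_mul.1 hstep).symm
  let F : N → zpowers z × (closure ({g, z} : Set X)) := fun n => (f n, ⟨((r n : X))⁻¹ * n, hmem n⟩)
  refine (Nat.card_le_card_of_injective F ?_).trans ?_
  · intro n n' hnn
    simp only [F, Prod.mk.injEq, Subtype.mk.injEq] at hnn
    have : r n = r n' := congrArg (Function.invFun f) hnn.1
    rw [this] at hnn
    exact Subtype.ext (mul_left_cancel hnn.2)
  · rw [Nat.card_prod, Nat.card_zpowers, h.ord_right, h.card hA]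

/-- A `q`-group containing the pair has order at most `q ^ 3`. -/
theorem card_le {Q : Subgroup X} (hQ : IsPGroup q Q) (hg : g ∈ Q) (hz : z ∈ Q) :
    Nat.card Q ≤ q * (q * q) := by
  classical
  have hEQ : (closure ({g, z} : Set X)) ≤ Q := closure_pair_le hg hz
  set N := Q ⊓ normalizer ((closure ({g, z} : Set X)) : Set X) with hNdef
  have hEN : (closure ({g, z} : Set X)) ≤ N := le_inf hEQ le_normalizer
  have hNp : IsPGroup q N := hQ.to_le inf_le_left
  have hNle := h.card_le_of_normalizer hA hNp inf_le_right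
  by_cases hNQ : N = Q
  · rwa [← hNQ]
  exfalso
  obtain ⟨x, hxQ, hxN, hxn⟩ := exists_mem_normalizer_notMem hQ inf_le_left hNQ
  obtain ⟨k, hk⟩ := hQ ⟨x, hxQ⟩
  replace hk : x ^ q ^ k = 1 := congrArg Subtype.val hk
  -- some element of `N` lies outside the pair
  obtain ⟨n₀, hn₀Q, hn₀n, hn₀⟩ := exists_mem_normalizer_notMem hQ hEQ fun e => hNQ
    (le_antisymm inf_le_left (e ▸ hEN))
  obtain ⟨k₀, hk₀⟩ := hQ ⟨n₀, hn₀Q⟩
  have hmv₀ := h.moves hA hn₀n (congrArg Subtype.val hk₀ :) hn₀
  have hzN : ∀ n ∈ N, Commute n z := by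
    intro n hn
    by_cases hm : n ∈ (closure ({g, z} : Set X))
    · exact h.comm_mem hA hm (h.right_mem hA)
    · obtain ⟨i, hi⟩ := hNp ⟨n, hn⟩
      exact (h.moves hA hn.2 (congrArg Subtype.val hi :) hm).1
  have hxz : Commute x z := by
    have hzx : x * z * x⁻¹ ∈ N := (mem_normalizer_iff.1 hxN z).1 (hEN (h.right_mem hA))
    have hcen : ∀ n ∈ N, Commute n (x * z * x⁻¹) := fun n hn => by
      have hc := (hzN (x⁻¹ * n * x) ((mem_normalizer_iff''.1 hxN n).1 hn)).map
        (MulAut.conj x).toMonoidHom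
      simpa [mul_assoc] using hc
    have hE' := h.mem_of_commute hA (hcen g (hEN (h.left_mem hA))) (hcen z (hEN (h.right_mem hA)))
    exact commute_of_normalizes_prime h.ord_right (hmv₀.2.2.2 _ hE' (h.evil.conj x))
      (j := k) (by rw [hk]; exact Commute.one_left _)
  set g' := x * g * x⁻¹ with hg'
  have hg'N : g' ∈ N := (mem_normalizer_iff.1 hxN g).1 (hEN (h.left_mem hA))
  have hxzz : x * z * x⁻¹ = z := mul_inv_eq_iff_eq_mul.2 hxz.eq
  have hg'E : g' ∉ (closure ({g, z} : Set X)) := fun hc => hxn ⟨hxQ, by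
    refine mem_normalizer_of_conj_le fun u hu => ?_
    have hle : (closure ({g, z} : Set X)) ≤ (closure ({g, z} : Set X)).comap (MulAut.conj x).toMonoidHom :=
      closure_pair_le (show (MulAut.conj x).toMonoidHom g ∈ (closure ({g, z} : Set X)) from hc) (by
        show x * z * x⁻¹ ∈ (closure ({g, z} : Set X))
        rw [hxzz]; exact h.right_mem hA)
    exact hle hu⟩
  have hg'o : orderOf g' = q := by rw [hg', CfsgLib.Signalizer.orderOf_conj, h.ord_left]
  have hg'q : g' ^ q ^ 1 = 1 := by rw [pow_one, ← hg'o, pow_orderOf_eq_one]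
  obtain ⟨-, -, hg'g, -⟩ := h.moves hA hg'N.2 hg'q hg'E
  -- `N` is generated by the two pairs and is abelian modulo `⟨z⟩`
  have hNcard : Nat.card N = q * (q * q) := by
    obtain ⟨i, hi⟩ := IsPGroup.iff_card.1 hNp
    have hlt : q * q < Nat.card N := by
      rw [← h.card hA]
      refine Nat.lt_of_le_of_ne (card_le_of_le hEN) fun e => hg'E ?_
      rw [eq_of_le_of_card_ge hEN e.ge]; exact hg'N
    rw [hi] at hlt hNle ⊢
    have : 2 < i := (Nat.pow_lt_pow_iff_right hq.out.one_lt).1 (by rwa [pow_two])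
    have : i ≤ 3 := (Nat.pow_le_pow_iff_right hq.out.one_lt).1 (by rw [pow_succ', pow_two]; exact hNle)
    rw [show i = 3 by omega]; ring
  have hzn : N ≤ normalizer (zpowers z : Set X) := fun n hn =>
    CfsgLib.Bender.mem_normalizer_zpowers_of_commute (hzN n hn)
  have hgen : N = closure ({g, g'} : Set X) ⊔ zpowers z := by
    refine (eq_of_le_of_card_ge (sup_le ((closure_le N).2 ?_) (zpowers_le.2 (hEN (h.right_mem hA)))) ?_).symm
    · rintro u (rfl | rfl)
      · exact hEN (h.left_mem hA)
      · exact hg'N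
    · set L := closure ({g, g'} : Set X) ⊔ zpowers z
      have hEL : (closure ({g, z} : Set X)) ≤ L := closure_pair_le (mem_sup_left (subset_closure (by simp)))
        (mem_sup_right (mem_zpowers z))
      have hLN : L ≤ N := sup_le ((closure_le N).2 (by
        rintro u (rfl | rfl)
        · exact hEN (h.left_mem hA)
        · exact hg'N)) (zpowers_le.2 (hEN (h.right_mem hA)))
      obtain ⟨i, hi⟩ := IsPGroup.iff_card.1 (hNp.to_le hLN)
      have hlt : q * q < Nat.card L := by
        rw [← h.card hA]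
        refine Nat.lt_of_le_of_ne (card_le_of_le hEL) fun e => hg'E ?_
        rw [eq_of_le_of_card_ge hEL e.ge]
        exact mem_sup_left (subset_closure (by simp))
      rw [hNcard, hi]
      rw [hi] at hlt
      have : 2 < i := (Nat.pow_lt_pow_iff_right hq.out.one_lt).1 (by rwa [pow_two])
      calc q * (q * q) = q ^ 3 := by ring
        _ ≤ q ^ i := Nat.pow_le_pow_right hq.out.pos this
  have hNab : ⁅N, N⁆ ≤ zpowers z := by
    rw [hgen]
    refine CfsgLib.Bender.commutator_closure_sup_le ?_ ?_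
    · rintro u (rfl | rfl)
      · exact hzn (hEN (h.left_mem hA))
      · exact hzn hg'N
    · rintro u (rfl | rfl) w (rfl | rfl)
      · rw [commutatorElement_self]; exact one_mem _
      · rw [← inv_mem_iff, commutatorElement_inv]; exact hg'g
      · exact hg'g
      · rw [commutatorElement_self]; exact one_mem _
  set Q' := N ⊔ zpowers x with hQ'
  have hQ'Q : Q' ≤ Q := sup_le inf_le_left (zpowers_le.2 hxQ)
  obtain ⟨a, haN, haZ, hax⟩ := exists_step (hQ.to_le hQ'Q) le_sup_left
    (zpowers_le.2 (hEN (h.right_mem hA))) (fun hle => h.not_mem hA (hle (hEN (h.left_mem hA))))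
    (sup_le le_normalizer (zpowers_le.2 hxN))
    (sup_le hzn (zpowers_le.2 (CfsgLib.Bender.mem_normalizer_zpowers_of_commute hxz)))
  -- `a` has order `q`
  have hnE : zpowers g' ≤ normalizer ((closure ({g, z} : Set X)) : Set X) := zpowers_le.2 hg'N.2
  have hNE : N ≤ zpowers g' ⊔ (closure ({g, z} : Set X)) := by
    rw [hgen]
    refine sup_le ((closure_le _).2 ?_) (zpowers_le.2 (mem_sup_right (h.right_mem hA)))
    rintro u (rfl | rfl)
    · exact mem_sup_right (h.left_mem hA)
    · exact mem_sup_left (mem_zpowers _)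
  obtain ⟨n, hn, e, he, rfl⟩ := (CfsgLib.Core.mem_sup_iff_mul hnE).1 (hNE haN)
  have hnN : n ∈ N := (zpowers_le.2 hg'N) hn
  have hao : orderOf (n * e) = q := by
    refine orderOf_eq_prime ?_ fun e1 => haZ (e1 ▸ one_mem _)
    let n' : N := ⟨n, hnN⟩
    let e' : N := ⟨e, hEN he⟩
    have hc : ⁅e', n'⁆ ∈ center N := mem_center_iff.2 fun u => Subtype.ext (by
      show (u : X) * ⁅e, n⁆ = ⁅e, n⁆ * u
      obtain ⟨i, hi⟩ := hNab (commutator_mem_commutator (hEN he) hnN)
      rw [← hi]
      exact ((hzN u u.2).zpow_right i).eq)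
    have h2 := congrArg Subtype.val (CfsgLib.PGroups.mul_pow_of_central hc q)
    simp only [Subgroup.coe_mul, SubmonoidClass.coe_pow] at h2
    rw [show (n' : X) = n from rfl, show (e' : X) = e from rfl] at h2
    rw [h2]
    have hnq : n ^ q = 1 := by
      obtain ⟨i, rfl⟩ := hn
      rw [← zpow_natCast, ← zpow_mul, mul_comm, zpow_mul, zpow_natCast, ← hg'o, pow_orderOf_eq_one,
        one_zpow]
    have hq2 : q ∣ q.choose 2 := hq.out.dvd_choose_self two_ne_zero
      (lt_of_le_of_ne hq.out.two_le (hA.two_ne hq.out h.ord_left).symm)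
    have hcq : (↑⁅e', n'⁆ : X) ^ q.choose 2 = 1 := by
      obtain ⟨i, hi⟩ := hq2
      rw [hi, pow_mul]
      have hm : ⁅e, n⁆ ∈ zpowers z := hNab (commutator_mem_commutator (hEN he) hnN)
      rw [show (↑⁅e', n'⁆ : X) = ⁅e, n⁆ from rfl]
      obtain ⟨j, hj⟩ := hm
      rw [← hj]
      show ((z ^ j) ^ q) ^ i = 1
      rw [← zpow_natCast (z ^ j), ← zpow_mul, mul_comm, zpow_mul, zpow_natCast, ← h.ord_right,
        pow_orderOf_eq_one, one_zpow, one_pow]
    rw [hnq, h.pow_eq hA he, hcq, one_mul, one_mul]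
  set a := n * e with ha
  have haz : Commute a z := hzN a haN
  -- a pair on the new line
  obtain ⟨b, hbmem, hbo, hbf⟩ : ∃ b ∈ closure ({a, z} : Set X), orderOf b = q ∧ Fix φ b := by
    haveI : Nontrivial M := by
      obtain ⟨m, hm1, -⟩ := h.fix
      exact ⟨⟨m, 1, hm1⟩⟩
    exact exists_fixed φ (h.coprime hA) hao h.ord_right haz fun hm => haZ (by
      have h1 : z ≠ 1 := fun e1 => hq.out.ne_one (by rw [← h.ord_right, e1, orderOf_one])
      exact (zpowers_eq_of_prime (hao ▸ hq.out) hm h1).symm ▸ mem_zpowers a)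
  have hb : Pair φ q b z := ⟨hbo, h.ord_right, hbf, h.evil,
    commute_closure_pair haz (Commute.refl z) b hbmem⟩
  have haza : ∀ y : X, Commute y z → ⁅y, a⁆ ∈ zpowers z →
      y ∈ normalizer (closure ({b, z} : Set X) : Set X) := by
    intro y hyz hya
    have hEq : closure ({b, z} : Set X) = closure ({a, z} : Set X) := by
      refine eq_of_le_of_card_ge (closure_pair_le hbmem (subset_closure (by simp))) ?_
      rw [hb.card hA]
      have e1 : closure ({a, z} : Set X) = zpowers a ⊔ zpowers z := by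
        rw [zpowers_eq_closure, zpowers_eq_closure, ← Subgroup.closure_union, Set.singleton_union]
      rw [e1]
      refine (Nat.le_of_dvd (Nat.mul_pos hq.out.pos hq.out.pos) ?_)
      have := CfsgLib.Core.card_sup_dvd (zpowers a) (zpowers z)
        (zpowers_le.2 (CfsgLib.Bender.mem_normalizer_zpowers_of_commute haz))
      rwa [Nat.card_zpowers, Nat.card_zpowers, hao, h.ord_right] at this
    rw [hEq]
    refine mem_normalizer_of_conj_le fun u hu => ?_
    have hle : closure ({a, z} : Set X) ≤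
        (closure ({a, z} : Set X)).comap (MulAut.conj y).toMonoidHom := by
      refine closure_pair_le ?_ ?_ <;> rw [mem_comap]
      · show y * a * y⁻¹ ∈ _
        have e : y * a * y⁻¹ = ⁅y, a⁆ * a := by rw [commutatorElement_def]; group
        rw [e]
        exact mul_mem ((zpowers_le.2 (subset_closure (by simp))) hya) (subset_closure (by simp))
      · show y * z * y⁻¹ ∈ _
        rw [hyz.eq, mul_inv_cancel_right]; exact subset_closure (by simp)
    exact hle hu
  have hle' : Nat.card Q' ≤ q * (q * q) := hb.card_le_of_normalizer hA (hQ.to_le hQ'Q) (sup_le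
    (fun y hy => haza y (hzN y hy) (hax y (mem_sup_left hy)))
    (zpowers_le.2 (haza x hxz (hax x (mem_sup_right (mem_zpowers x))))))
  exact hxn ((eq_of_le_of_card_ge (le_sup_left : N ≤ Q') (hNcard ▸ hle')).ge
    (mem_sup_right (mem_zpowers x)))

end Pair

/-- An evil element centralises the groups of its exponent without evil elements that it normalises. -/
theorem Act.commute_of_free (hA : Act φ) {q : ℕ} [Fact q.Prime] {z : X} (hz : IsEvil φ z)
    (hzo : orderOf z = q) {P : Subgroup X} (hP : IsPGroup q P) (hzP : z ∈ normalizer (P : Set X))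
    (hfree : ∀ y ∈ P, ¬ IsEvil φ y) : ∀ y ∈ P, Commute z y := by
  intro y hy
  by_cases hbot : P = ⊥
  · rw [hbot, mem_bot] at hy
    rw [hy]; exact Commute.one_right z
  set Q := P ⊔ zpowers z with hQ
  have hQp : IsPGroup q Q := by
    have hzp : IsPGroup q (zpowers z) := IsPGroup.of_card (n := 1)
      (by rw [Nat.card_zpowers, hzo, pow_one])
    rw [hQ, sup_comm]
    exact hzp.to_sup_of_normal_right' hP (zpowers_le.2 hzP)
  haveI : (P.subgroupOf Q).Normal :=
    normal_subgroupOf_of_le_normalizer (sup_le le_normalizer (zpowers_le.2 hzP))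
  have hne : P.subgroupOf Q ≠ ⊥ := fun e => hbot ((eq_bot_iff_forall _).2 fun u hu =>
    congrArg Subtype.val (show (⟨u, mem_sup_left hu⟩ : Q) = 1 from mem_bot.1 (by rw [← e]; exact hu)))
  obtain ⟨⟨c₀, hc₀⟩, hc1⟩ := ne_bot_iff_exists_ne_one.1 (CfsgLib.PGroups.inf_center_ne_bot (N := P.subgroupOf Q) hQp hne)
  have hc₀1 : (c₀ : X) ≠ 1 := fun e => hc1 (Subtype.ext (Subtype.ext e))
  -- a central element of order `q`
  obtain ⟨c, hcm, hco⟩ : ∃ c ∈ zpowers (c₀ : X), orderOf c = q := by
    obtain ⟨i, hi⟩ := IsPGroup.iff_card.1 (hQp.to_le (zpowers_le.2 c₀.2))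
    have hd : q ∣ Nat.card (zpowers (c₀ : X)) := by
      rw [hi]
      refine dvd_pow_self q fun h0 => hc₀1 ?_
      rw [h0, pow_zero, Nat.card_zpowers, orderOf_eq_one_iff] at hi
      exact hi
    obtain ⟨u, hu⟩ := exists_prime_orderOf_dvd_card' q hd
    exact ⟨u, u.2, by rw [Subgroup.orderOf_coe]; exact hu⟩
  have hcP : c ∈ P := (zpowers_le.2 (show (c₀ : X) ∈ P from hc₀.1)) hcm
  have hcQ : ∀ u ∈ Q, Commute u c := fun u hu => by
    obtain ⟨i, rfl⟩ := hcm
    exact (show Commute u (c₀ : X) from congrArg Subtype.val (mem_center_iff.1 hc₀.2 ⟨u, hu⟩)).zpow_right i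
  have hfix : Fix φ c := by_contra fun hnf => hfree c hcP ⟨hco ▸ Fact.out, hnf⟩
  have hpair : Pair φ q c z :=
    ⟨hco, hzo, hfix, hz, (hcQ z (mem_sup_right (mem_zpowers z))).symm⟩
  have hEQ : closure ({c, z} : Set X) ≤ Q :=
    closure_pair_le (mem_sup_left hcP) (mem_sup_right (mem_zpowers z))
  have hQE : Q ≤ closure ({c, z} : Set X) := by
    by_contra hne'
    obtain ⟨n, hnQ, hnn, hnE⟩ := exists_mem_normalizer_notMem hQp hEQ fun e => hne' e.ge
    obtain ⟨k, hk⟩ := hQp ⟨n, hnQ⟩
    exact (hpair.moves hA hnn (congrArg Subtype.val hk :) hnE).2.1 (hcQ n hnQ)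
  exact closure_pair_comm hpair.comm z (hQE (mem_sup_right (mem_zpowers z))) y (hQE (mem_sup_left hy))

end CfsgLib.Bender.NSubB
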