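import Cfsg.Agent.Lib.Bender.Gen.NSubBCore

/-!
Owner: helper27. General Bender theorem, sub-slice G4, part 4: at most one subgroup of prime order has
fixed points.

* `Act.unique`
-/

set_option autoImplicit false
set_option linter.style.haveILetI false
set_option linter.unusedSectionVars false

namespace CfsgLib.Bender.NSubB

open Subgroup
open CfsgLib.PGroups.FixRank (Fix fixedSub closure_pair_le exists_fixed commute_closure_pair)
open scoped commutatorElement

variable {X : Type*} [Group X] [Finite X] {M : Type*} [CommGroup M] [Finite M] {φ : X →* MulAut M}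
variable (hA : Act φ)
include hA

namespace Act

/-- A subgroup of order `p ^ 2` generated by two commuting elements is not fixed point free. -/
theorem exists_fix_pair {p : ℕ} [Fact p.Prime] {a b : X} (ha : IsEvil φ a) (hao : orderOf a = p)
    (hb : orderOf b = p) (hab : Commute a b) (hba : b ∉ zpowers a) :
    ∃ x ∈ closure ({a, b} : Set X), orderOf x = p ∧ Fix φ x := by
  haveI : Nontrivial M := by
    by_contra h
    rw [not_nontrivial_iff_subsingleton] at h
    have : a = 1 := hA.fix_top (eq_top_iff.2 fun m _ => Subsingleton.elim _ _)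
    rw [this, orderOf_one] at hao
    exact (Fact.out : p.Prime).ne_one hao.symm
  exact exists_fixed φ (hao ▸ ha.coprime) hao hb hab hba

/-- The fitting part has no element of prime order with fixed points, unless a normal subgroup has. -/
theorem no_fix_core (hno : ∀ w : X, (orderOf w).Prime → Fix φ w → ¬ (zpowers w).Normal) {p : ℕ}
    [hp : Fact p.Prime] {x : X} (hx : x ∈ Cfsg.pCore p X) (hxo : orderOf x = p) : ¬ Fix φ x := by
  classical
  intro hxf
  set O := Cfsg.pCore p X with hO
  have hOp : IsPGroup p O := CfsgLib.Core.isPGroup_pCore p X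
  haveI hOn : O.Normal := CfsgLib.Core.normal_pCore p X
  set S : Set X := {u | u ∈ O ∧ orderOf u = p ∧ Fix φ u} with hS
  set R := closure S with hR
  have hRO : R ≤ O := (closure_le O).2 fun u hu => hu.1
  have hRp : IsPGroup p R := hOp.to_le hRO
  haveI hRn : R.Normal := by
    refine ⟨fun u hu d => ?_⟩
    have h : R.map (MulAut.conj d).toMonoidHom ≤ R := by
      rw [hR, MonoidHom.map_closure]
      refine closure_mono ?_
      rintro _ ⟨u, hu, rfl⟩
      exact ⟨hOn.conj_mem u hu.1 d, by simpa [CfsgLib.Signalizer.orderOf_conj] using hu.2.1,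
        fix_conj hu.2.2 d⟩
    exact h ⟨u, hu, rfl⟩
  have hxR : x ∈ R := subset_closure ⟨hx, hxo, hxf⟩
  have hx1 : x ≠ 1 := fun e => hp.out.ne_one (by rw [← hxo, e, orderOf_one])
  have hRne : R ≠ ⊥ := fun e => hx1 (mem_bot.1 (e ▸ hxR))
  obtain ⟨W, hWn, hWR, hW1, hexp, hWc⟩ :=
    CfsgLib.PGroups.FixRank.exists_elementary_le_pgroup (P := R) hRp hRne
  obtain ⟨a, haW, hao⟩ := CfsgLib.PGroups.FixRank.exists_orderOf_of_ne_bot hexp hW1
  obtain ⟨z, hz⟩ := hA.evil
  by_cases hfree : ∀ u ∈ R, ¬ IsEvil φ u
  · -- no evil elements: a normal subgroup of order `p`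
    have hWfree : ∀ u ∈ W, ¬ IsEvil φ u := fun u hu => hfree u (hWR hu)
    have haf : Fix φ a := by_contra fun h => hWfree a haW ⟨hao ▸ hp.out, h⟩
    have ha1 : a ≠ 1 := fun e => hp.out.ne_one (by rw [← hao, e, orderOf_one])
    obtain ⟨b, hb, hba⟩ : ∃ b ∈ W, b ∉ zpowers a := by
      by_contra hcon
      push Not at hcon
      have e : zpowers a = W := le_antisymm (zpowers_le.2 haW) hcon
      exact hno a (hao ▸ hp.out) haf (e ▸ hWn)
    have hbo : orderOf b = p := orderOf_eq_prime (hexp b hb) fun e => hba (e ▸ one_mem _)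
    have hab : Commute a b := hWc a haW b (hWR hb)
    by_cases hc : IsCyclic (pTor M p)
    swap
    · exact hba (hA.no_rank_two hc hao hbo hab)
    rcases hA.centralised_or_cyclic hz (hRp.to_le hWR) (normalizer_eq_top_iff.2 hWn ▸ mem_top z) hWfree with
      hcen | ⟨-, hnc, -⟩
    swap
    · exact hnc hc
    set q := orderOf z with hq
    haveI := Fact.mk hz.1
    by_cases hqp : q = p
    · have hpair : Pair φ p a z := ⟨hao, hqp, haf, hz, (hcen a haW).symm⟩
      have hbE := hpair.mem_of_commute hA hab (hcen b hb)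
      obtain ⟨u, hu, v, hv, rfl⟩ := (CfsgLib.Core.mem_sup_iff_mul
        (zpowers_le.2 (mem_normalizer_zpowers_of_commute (hcen a haW).symm))).1
        (show b ∈ zpowers a ⊔ zpowers z from
          (closure_pair_le (mem_sup_left (mem_zpowers a)) (mem_sup_right (mem_zpowers z))) hbE)
      have hvW : v ∈ W := by
        have := mul_mem (inv_mem ((zpowers_le.2 haW) hu)) hb
        rwa [inv_mul_cancel_left] at this
      by_cases hv1 : v = 1
      · exact hba (by rw [hv1, mul_one]; exact hu)
      · exact hWfree v hvW (hz.of_mem_zpowers hv hv1)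
    · refine ha1 (hA.eq_one_of_fix hao hbo hab hba (Commute.refl a) hab.symm
        (fun m hm => hA.fix_pTor (k := 1) hc (by rw [pow_one, hexp a haW]) hm) fun u hu huo m hm => ?_)
      have huW : u ∈ W := closure_pair_le haW hb hu
      by_cases hm1 : m = 1
      · rw [hm1]; exact one_mem _
      have huf : Fix φ u := ⟨m, hm1, hm⟩
      have hu1 : u ≠ 1 := fun e => hp.out.ne_one (by rw [← huo, e, orderOf_one])
      have hcard := hA.card_fix hz hu1 (by rw [(hcen u huW).eq, mul_inv_cancel_right]; exact mem_zpowers u) huf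
      have hau : Commute a u := hWc a haW u (hWR huW)
      exact hA.gal_coprime hu1 (by rw [hau.eq, mul_inv_cancel_right]; exact mem_zpowers u) huf hcard
        (by rw [hao]; exact (Nat.coprime_primes hp.out hz.1).2 (Ne.symm hqp)) hm
  · -- evil elements and elements with fixed points together
    push Not at hfree
    obtain ⟨z₀, hz₀R, hz₀⟩ := hfree
    have hz₀o : orderOf z₀ = p := by
      obtain ⟨i, hi⟩ := IsPGroup.iff_card.1 hRp
      exact (Nat.prime_dvd_prime_iff_eq hz₀.1 hp.out).1
        (hz₀.1.dvd_of_dvd_pow (hi ▸ R.orderOf_dvd_natCard hz₀R))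
    obtain ⟨g, z, hgR, hzR, hpair⟩ : ∃ g z, g ∈ R ∧ z ∈ R ∧ Pair φ p g z := by
      by_cases haf : Fix φ a
      · exact ⟨a, z₀, hWR haW, hz₀R, hao, hz₀o, haf, hz₀, hWc a haW z₀ hz₀R⟩
      · exact ⟨x, a, hxR, hWR haW, hxo, hao, hxf, ⟨hao ▸ hp.out, haf⟩, (hWc a haW x hxR : Commute a x).symm⟩
    have hz := hpair.evil
    have hMp : (Nat.card M).Coprime p := hpair.coprime hA
    have hevil : ∀ y, IsEvil φ y → orderOf y = p := by
      intro y hy
      by_contra hne
      obtain ⟨i, hi⟩ := IsPGroup.iff_card.1 hRp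
      have hcen : ∀ u ∈ R, Commute y u := by
        intro u hu
        have h := hA.commute_on_invariant hy hRp.isNilpotent (normalizer_eq_top_iff.2 hRn ▸ mem_top y)
          (by rw [hi]; exact ((Nat.coprime_primes hp.out hy.1).2 (Ne.symm hne)).pow_left i) ⊤
          (fun _ m _ => mem_top _) (by rw [card_top, hi]; exact hMp.pow_right i) u hu
        exact commutatorElement_eq_one_iff_commute.1 (hA.fix_top (eq_top_iff.2 fun m _ => h m (mem_top m)))
      have hyE := hpair.mem_of_commute hA (hcen g hgR).symm (hcen z hzR).symm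
      exact hne (hpair.order hA hyE fun e => by
        have := hy.1; rw [e, orderOf_one] at this; exact Nat.not_prime_one this)
    -- the abelian quotient is a `p`-group
    haveI : Group.IsSolvable X := Cfsg.Agent.S0205.result hA.odd
    set X' := commutator X with hX'
    haveI : X'.Normal := inferInstance
    haveI : Nontrivial X := ⟨⟨x, 1, hx1⟩⟩
    have hXp : ∀ d : X, ∃ k, d ^ p ^ k ∈ X' := by
      intro d
      obtain ⟨k, m, hm, hord⟩ :=
        Nat.exists_eq_pow_mul_and_not_dvd (orderOf_pos d).ne' p hp.out.ne_one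
      refine ⟨k, ?_⟩
      set n := orderOf (QuotientGroup.mk' X' (d ^ p ^ k)) with hn
      suffices n = 1 by exact (QuotientGroup.eq_one_iff _).1 (orderOf_eq_one_iff.1 this)
      by_contra hn1
      obtain ⟨r, hr, hrn⟩ := Nat.exists_prime_and_dvd hn1
      have hrm : r ∣ m := hrn.trans (orderOf_dvd_of_pow_eq_one (by
        rw [← map_pow, ← pow_mul, ← hord, pow_orderOf_eq_one, map_one]))
      haveI := Fact.mk hr
      obtain ⟨c, hc⟩ := hrn
      set e := (d ^ p ^ k) ^ c with he
      have her : orderOf (QuotientGroup.mk' X' e) = r := by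
        rw [he, map_pow, orderOf_pow_of_dvd (fun h0 => by
          rw [h0, mul_zero] at hc; exact (orderOf_pos (QuotientGroup.mk' X' (d ^ p ^ k))).ne' hc)
          (hc ▸ dvd_mul_left c r : c ∣ n), ← hn, hc, Nat.mul_div_cancel]
        exact Nat.pos_of_ne_zero fun h0 => by
          rw [h0, mul_zero] at hc; exact (orderOf_pos (QuotientGroup.mk' X' (d ^ p ^ k))).ne' hc
      have hrp : r ≠ p := fun e => hm (e ▸ hrm)
      have := hA.no_p_quot (p := r) (le_refl X') (fun u => ⟨u, by simp, fun y _ hy hyr =>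
        hrp (hyr.symm.trans (hevil y hy))⟩) e 1 (by
          rw [pow_one]
          refine (QuotientGroup.eq_one_iff _).1 ?_
          show QuotientGroup.mk' X' (e ^ r) = 1
          rw [map_pow, ← her, pow_orderOf_eq_one])
      rw [show QuotientGroup.mk' X' e = 1 from (QuotientGroup.eq_one_iff e).2 this, orderOf_one] at her
      exact hr.ne_one her.symm
    set Mp := powSub p X' (le_refl X') with hMpdef
    have hRMp : R ≤ Mp := (closure_le Mp).2 fun u hu => hA.mem_of_kills (le_powSub le_rfl)
      (pow_mem_powSub le_rfl) ⟨1, by rw [pow_one, ← hu.2.1, pow_orderOf_eq_one]⟩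
      (not_isEvil_of_fix (hu.2.1 ▸ hp.out) hu.2.2)
    obtain ⟨d, hd⟩ : ∃ d : X, d ∉ Mp := by
      by_contra hall
      push Not at hall
      haveI : IsMulCommutative (X ⧸ X') := by
        refine ⟨⟨fun u v => ?_⟩⟩
        obtain ⟨u, rfl⟩ := QuotientGroup.mk'_surjective X' u
        obtain ⟨v, rfl⟩ := QuotientGroup.mk'_surjective X' v
        rw [← commutatorElement_eq_one_iff_mul_comm, ← map_commutatorElement]
        exact (QuotientGroup.eq_one_iff _).2 (commutator_mem_commutator (mem_top u) (mem_top v))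
      have hsurj : Function.Surjective fun v : X ⧸ X' => v ^ p := by
        intro u
        obtain ⟨u, rfl⟩ := QuotientGroup.mk'_surjective X' u
        obtain ⟨b, hb⟩ := hall u
        exact ⟨QuotientGroup.mk' X' b, hb.symm⟩
      have hinj := Finite.injective_iff_surjective.2 hsurj
      have htop : X' = ⊤ := eq_top_iff.2 fun u _ => by
        obtain ⟨k, hk⟩ := hXp u
        refine (QuotientGroup.eq_one_iff u).1 ?_
        show QuotientGroup.mk' X' u = 1
        induction k with
        | zero => rw [pow_zero, pow_one] at hk; exact (QuotientGroup.eq_one_iff u).2 hk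
        | succ k ih =>
          refine ih ((QuotientGroup.eq_one_iff _).1 (show QuotientGroup.mk' X' (u ^ p ^ k) = 1 from ?_))
          refine hinj ?_
          show QuotientGroup.mk' X' (u ^ p ^ k) ^ p = 1 ^ p
          rw [one_pow, ← map_pow, ← pow_mul, ← pow_succ]
          exact (QuotientGroup.eq_one_iff _).2 hk
      exact (Group.IsSolvable.commutator_lt_top_of_nontrivial (G := X)).ne htop
    obtain ⟨k, hk⟩ := hXp d
    obtain ⟨u, -, hud, e, hue⟩ := exists_p_part X' hk
    have huMp : u ∉ Mp := fun hu => hd (by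
      have := mul_mem hu (inv_mem (le_powSub (le_refl X') hud))
      simpa using this)
    set Q := R ⊔ zpowers u with hQ
    have hQp : IsPGroup p Q := by
      obtain ⟨j, -, hj⟩ := (Nat.dvd_prime_pow hp.out).1 (orderOf_dvd_of_pow_eq_one hue)
      rw [hQ, sup_comm]
      exact (IsPGroup.of_card (n := j) (by rw [Nat.card_zpowers, hj]) :
        IsPGroup p (zpowers u)).to_sup_of_normal_right' hRp (normalizer_eq_top_iff.2 hRn ▸ le_top)
    have hQle := hpair.card_le hA hQp (mem_sup_left hgR) (mem_sup_left hzR)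
    set E := closure ({g, z} : Set X) with hE
    have hER : E ≤ R := closure_pair_le hgR hzR
    have hRE : E = R := by
      refine eq_of_le_of_card_ge hER ?_
      rw [hE, hpair.card hA]
      obtain ⟨j, hj⟩ := IsPGroup.iff_card.1 hRp
      obtain ⟨i, hi⟩ := IsPGroup.iff_card.1 hQp
      have hlt : Nat.card R < Nat.card Q := by
        refine lt_of_le_of_ne (card_le_of_le le_sup_left) fun e => huMp (hRMp ?_)
        rw [eq_of_le_of_card_ge (le_sup_left : R ≤ Q) e.ge]
        exact mem_sup_right (mem_zpowers u)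
      rw [hi] at hlt hQle
      rw [hj] at hlt ⊢
      have := (Nat.pow_lt_pow_iff_right hp.out.one_lt).1 hlt
      have : i ≤ 3 := (Nat.pow_le_pow_iff_right hp.out.one_lt).1
        (hQle.trans_eq (by ring))
      calc p ^ j ≤ p ^ 2 := Nat.pow_le_pow_right hp.out.pos (by omega)
        _ = p * p := pow_two p
    have hEn : normalizer (E : Set X) = ⊤ := by rw [hRE]; exact normalizer_eq_top_iff.2 hRn
    have huE : u ∉ E := fun h => huMp (hRMp (hRE ▸ h))
    obtain ⟨-, hug, hugz, hevE⟩ := hpair.moves hA (hEn ▸ mem_top u) hue huE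
    -- `z` is central and `g` is central modulo `z`
    have hzn : ∀ d : X, d * z * d⁻¹ ∈ zpowers z := fun d =>
      hevE _ ((mem_normalizer_iff.1 (hEn ▸ mem_top d) z).1 (hpair.right_mem hA)) (hz.conj d)
    have hznorm : ∀ d : X, d ∈ normalizer (zpowers z : Set X) := fun d =>
      mem_normalizer_of_conj_le fun w hw => by
        obtain ⟨i, rfl⟩ := hw
        show d * z ^ i * d⁻¹ ∈ zpowers z
        rw [← conj_zpow]
        exact zpow_mem (hzn d) i
    have hX'le : ∀ K : Subgroup X, (∀ a b : X, ⁅a, b⁆ ∈ K) → X' ≤ K := fun K h =>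
      (commutator_def X).le.trans (commutator_le.2 fun a _ b _ => h a b)
    have hzc : ∀ d : X, Commute d z := by
      intro d
      obtain ⟨j, hj⟩ := hXp d
      have hle : X' ≤ centralizer {z} := hX'le _ fun a b =>
        mem_centralizer_singleton_iff.2 (commute_commutator_cyclic (hznorm a) (hznorm b)).eq
      exact commute_of_normalizes_prime hpair.ord_right (hzn d) (j := j)
        (mem_centralizer_singleton_iff.1 (hle hj))
    haveI hZn : (zpowers z).Normal := normalizer_eq_top_iff.1 (eq_top_iff.2 fun d _ => hznorm d)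
    have hgc : ∀ d : X, ⁅d, g⁆ ∈ zpowers z := by
      intro d
      set π := QuotientGroup.mk' (zpowers z) with hπ
      have hgo : orderOf (π g) = p := by
        refine orderOf_eq_prime (by rw [← map_pow, ← hpair.ord_left, pow_orderOf_eq_one, map_one]) fun e => ?_
        exact hpair.not_mem hA ((QuotientGroup.eq_one_iff g).1 e)
      have hgn : ∀ d : X, π d * π g * (π d)⁻¹ ∈ zpowers (π g) := by
        intro d
        have hm : d * g * d⁻¹ ∈ zpowers g ⊔ zpowers z :=
          (closure_pair_le (mem_sup_left (mem_zpowers g)) (mem_sup_right (mem_zpowers z)))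
            ((mem_normalizer_iff.1 (hEn ▸ mem_top d) g).1 (hpair.left_mem hA))
        have h := mem_map_of_mem π hm
        rw [Subgroup.map_sup, hπ, QuotientGroup.map_mk'_self, sup_bot_eq, MonoidHom.map_zpowers] at h
        rwa [map_mul, map_mul, map_inv] at h
      have hgnorm : ∀ d : X, π d ∈ normalizer (zpowers (π g) : Set (X ⧸ zpowers z)) := fun d =>
        mem_normalizer_of_conj_le fun w hw => by
          obtain ⟨i, rfl⟩ := hw
          show π d * π g ^ i * (π d)⁻¹ ∈ zpowers (π g)
          rw [← conj_zpow]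
          exact zpow_mem (hgn d) i
      obtain ⟨j, hj⟩ := hXp d
      have hle : X' ≤ (centralizer {π g}).comap π := hX'le _ fun a b =>
        mem_centralizer_singleton_iff.2 (by
          rw [map_commutatorElement]; exact (commute_commutator_cyclic (hgnorm a) (hgnorm b)).eq)
      have hc := commute_of_normalizes_prime hgo (hgn d) (j := j)
        (by rw [← map_pow]; exact mem_centralizer_singleton_iff.1 (hle hj))
      refine (QuotientGroup.eq_one_iff (N := zpowers z) _).1 (show π ⁅d, g⁆ = 1 from ?_)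
      rw [map_commutatorElement]
      exact commutatorElement_eq_one_iff_commute.2 hc
    -- the whole group is a `p`-group
    have hXpg : IsPGroup p (⊤ : Subgroup X) := by
      intro d
      obtain ⟨k, m, hm, hord⟩ :=
        Nat.exists_eq_pow_mul_and_not_dvd (orderOf_pos (d : X)).ne' p hp.out.ne_one
      refine ⟨k, Subtype.ext ?_⟩
      show (d : X) ^ p ^ k = 1
      set e := (d : X) ^ p ^ k with he
      obtain ⟨i, hi⟩ := hgc e
      have hpow : ∀ n : ℕ, e ^ n * g * (e ^ n)⁻¹ = z ^ (i * n) * g := by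
        intro n
        induction n with
        | zero => simp
        | succ n ih =>
          have h1 : e * g * e⁻¹ = z ^ i * g := by
            rw [show z ^ i = ⁅e, g⁆ from hi, commutatorElement_def]; group
          have h2 : e * z ^ (i * n) * e⁻¹ = z ^ (i * n) := by
            rw [((hzc e).zpow_right _).eq, mul_inv_cancel_right]
          calc e ^ (n + 1) * g * (e ^ (n + 1))⁻¹ = e * (e ^ n * g * (e ^ n)⁻¹) * e⁻¹ := by
                rw [pow_succ' e n]; group
            _ = (e * z ^ (i * n) * e⁻¹) * (e * g * e⁻¹) := by rw [ih]; group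
            _ = z ^ (i * ↑(n + 1)) * g := by
                rw [h2, h1, ← mul_assoc, ← zpow_add]; congr 2; push_cast; ring
      have hem : e ^ m = 1 := by rw [he, ← pow_mul, ← hord, pow_orderOf_eq_one]
      have h := hpow m
      rw [hem, one_mul, inv_one, mul_one, eq_comm, mul_eq_right] at h
      have hdi : (p : ℤ) ∣ i := by
        have h2 := orderOf_dvd_iff_zpow_eq_one.2 h
        rw [hpair.ord_right] at h2
        exact (Int.Prime.dvd_mul' hp.out h2).resolve_right fun h3 => hm (Int.natCast_dvd_natCast.1 h3)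
      have hge : Commute e g := by
        refine commutatorElement_eq_one_iff_commute.1 ?_
        rw [← hi]
        obtain ⟨c, rfl⟩ := hdi
        show z ^ ((p : ℤ) * c) = 1
        rw [zpow_mul, zpow_natCast, ← hpair.ord_right, pow_orderOf_eq_one, one_zpow]
      have heE := hpair.mem_of_commute hA hge.symm (hzc e).symm
      refine orderOf_eq_one_iff.1 (Nat.eq_one_of_dvd_coprimes ?_ (orderOf_dvd_of_pow_eq_one hem)
        (orderOf_dvd_of_pow_eq_one (hpair.pow_eq hA heE)))
      exact ((hp.out.coprime_iff_not_dvd).2 hm).symm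
    set N := zpowers u ⊔ zpowers z with hN
    have htop : E ⊔ zpowers u = ⊤ := by
      refine eq_of_le_of_card_ge le_top ?_
      have hle := hpair.card_le hA hXpg (mem_top g) (mem_top z)
      obtain ⟨j, hj⟩ := IsPGroup.iff_card.1 (hXpg.to_le (le_top : E ⊔ zpowers u ≤ ⊤))
      have hlt : p * p < Nat.card (E ⊔ zpowers u : Subgroup X) := by
        rw [← hpair.card hA]
        refine lt_of_le_of_ne (card_le_of_le (le_sup_left : E ≤ E ⊔ zpowers u)) fun e => huE ?_
        rw [eq_of_le_of_card_ge (le_sup_left : E ≤ E ⊔ zpowers u) e.ge]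
        exact mem_sup_right (mem_zpowers u)
      rw [hj] at hlt ⊢
      have : 2 < j := (Nat.pow_lt_pow_iff_right hp.out.one_lt).1 (by rwa [pow_two])
      calc Nat.card (⊤ : Subgroup X) ≤ p * (p * p) := hle
        _ = p ^ 3 := by ring
        _ ≤ p ^ j := Nat.pow_le_pow_right hp.out.pos this
    have hab : X' ≤ zpowers z := by
      have h := commutator_closure_sup_le (K := zpowers z) (S := ({g, u} : Set X))
        (fun w _ => hznorm w) (by
          rintro a (rfl | rfl) b (rfl | rfl)
          · rw [commutatorElement_self]; exact one_mem _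
          · rw [← inv_mem_iff, commutatorElement_inv]; exact hgc _
          · exact hgc _
          · rw [commutatorElement_self]; exact one_mem _)
      have htop' : (closure ({g, u} : Set X) ⊔ zpowers z : Subgroup X) = ⊤ := top_le_iff.1 (htop ▸ sup_le
        (closure_pair_le (mem_sup_left (subset_closure (by simp))) (mem_sup_right (mem_zpowers z)))
        (zpowers_le.2 (mem_sup_left (subset_closure (by simp)))))
      rw [htop'] at h
      exact (commutator_def X).le.trans h
    have hNX : X' ≤ N := hab.trans le_sup_right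
    haveI hNn : N.Normal := Subgroup.Normal.of_commutator_le X hNX
    have hpow : ∀ v : X, v ^ p ∈ N := by
      intro v
      have hgN : zpowers g ⊔ N = ⊤ := top_le_iff.1 (htop ▸ sup_le
        (closure_pair_le (mem_sup_left (mem_zpowers g)) (mem_sup_right (mem_sup_right (mem_zpowers z))))
        (zpowers_le.2 (mem_sup_right (mem_sup_left (mem_zpowers u)))))
      obtain ⟨a, ⟨i, rfl⟩, b, hb, rfl⟩ := (CfsgLib.Core.mem_sup_iff_mul
        (show zpowers g ≤ normalizer (N : Set X) from normalizer_eq_top_iff.2 hNn ▸ le_top)).1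
        (show v ∈ zpowers g ⊔ N from hgN ▸ mem_top v)
      refine (QuotientGroup.eq_one_iff (N := N) _).1 (show QuotientGroup.mk' N ((g ^ i * b) ^ p) = 1 from ?_)
      rw [map_pow, map_mul, show QuotientGroup.mk' N b = 1 from (QuotientGroup.eq_one_iff b).2 hb, mul_one,
        map_zpow, ← zpow_natCast, ← zpow_mul, mul_comm, zpow_mul, zpow_natCast, ← map_pow,
        ← hpair.ord_left, pow_orderOf_eq_one, map_one, one_zpow]
    have hgN := hA.mem_of_kills hNX hpow ⟨1, by rw [pow_one, ← hpair.ord_left, pow_orderOf_eq_one]⟩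
      (not_isEvil_of_fix (hpair.ord_left ▸ hp.out) hpair.fix)
    refine hug ?_
    have hNc : N ≤ centralizer {u} := sup_le
      (zpowers_le.2 (mem_centralizer_singleton_iff.2 rfl))
      (zpowers_le.2 (mem_centralizer_singleton_iff.2 (hzc u).symm.eq))
    exact (mem_centralizer_singleton_iff.1 (hNc hgN)).symm

/-- A cyclic `p`-core when none of its elements of order `p` has a fixed point. -/
theorem core_cyclic {p : ℕ} [hp : Fact p.Prime]
    (hR : ∀ x ∈ Cfsg.pCore p X, orderOf x = p → ¬ Fix φ x) : IsCyclic (Cfsg.pCore p X) := by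
  set O := Cfsg.pCore p X with hO
  have hOp : IsPGroup p O := CfsgLib.Core.isPGroup_pCore p X
  by_cases hbot : O = ⊥
  · rw [hbot]; infer_instance
  obtain ⟨W, -, hWO, hW1, hexp, hWc⟩ := CfsgLib.PGroups.FixRank.exists_elementary_le_pgroup (P := O) hOp hbot
  obtain ⟨c, hc, hco⟩ := CfsgLib.PGroups.FixRank.exists_orderOf_of_ne_bot hexp hW1
  have hce : IsEvil φ c := ⟨hco ▸ hp.out, hR c (hWO hc) hco⟩
  have hin : ∀ u : O, u ^ p = 1 → (u : X) ∈ zpowers c := by
    intro u hu
    by_contra hn
    have huo : orderOf (u : X) = p := by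
      rw [Subgroup.orderOf_coe]
      exact orderOf_eq_prime hu fun e => hn (by rw [e]; exact one_mem _)
    obtain ⟨y, hy, hyo, hyf⟩ := hA.exists_fix_pair hce hco huo (hWc c hc u u.2) hn
    exact hR y (closure_pair_le (hWO hc) u.2 hy) hyo hyf
  refine CfsgLib.Transfer.isCyclic_of_unique_order_p (p := p) (hA.two_ne hp.out hco) hOp
    fun a b ha ha1 hb => ?_
  have haX : zpowers (a : X) = zpowers c :=
    zpowers_eq_of_prime (hco ▸ hp.out) (hin a ha) fun e => ha1 (Subtype.ext e)
  obtain ⟨r, hr⟩ := haX.symm ▸ hin b hb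
  exact ⟨r, Subtype.ext hr⟩

/-- At most one subgroup of prime order has fixed points. -/
theorem unique {s t : X} (hs : (orderOf s).Prime) (hsf : Fix φ s) (ht : (orderOf t).Prime)
    (htf : Fix φ t) : t ∈ zpowers s := by
  classical
  by_cases hnorm : ∃ w : X, (orderOf w).Prime ∧ Fix φ w ∧ (zpowers w).Normal
  · obtain ⟨w, hw, hwf, hwn⟩ := hnorm
    have h1 := hA.unique_of_normal hw hwf hwn hs hsf
    have h2 := hA.unique_of_normal hw hwf hwn ht htf
    rwa [zpowers_eq_of_prime hw h1 fun e => by rw [e, orderOf_one] at hs; exact Nat.not_prime_one hs]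
  exfalso
  push Not at hnorm
  have hR : ∀ p : ℕ, p.Prime → ∀ x ∈ Cfsg.pCore p X, orderOf x = p → ¬ Fix φ x := fun p hp x hx hxo =>
    haveI := Fact.mk hp
    hA.no_fix_core hnorm hx hxo
  have hcyc : ∀ p : ℕ, p.Prime → IsCyclic (Cfsg.pCore p X) := fun p hp =>
    haveI := Fact.mk hp
    hA.core_cyclic (hR p hp)
  haveI : Group.IsSolvable X := Cfsg.Agent.S0205.result hA.odd
  set F := Cfsg.fittingSubgroup X with hF
  have hCF : centralizer (F : Set X) ≤ F := CfsgLib.Components.centralizer_fitting_le_of_isSolvable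
  have hFle : ∀ K : Subgroup X, (∀ p : ℕ, p.Prime → Cfsg.pCore p X ≤ K) → F ≤ K := fun K h => by
    rw [hF, CfsgLib.Core.fittingSubgroup_eq_iSup_pCore]
    exact iSup_le fun p => h p p.2
  -- the evil elements lie in the Fitting subgroup
  have hevilF : ∀ z, IsEvil φ z → z ∈ F := by
    intro z hz
    refine hCF (mem_centralizer_iff.2 fun u hu => ?_)
    refine (mem_centralizer_singleton_iff.1 ((hFle (centralizer {z}) fun p hp y hy => ?_) hu))
    haveI := Fact.mk hp
    haveI := CfsgLib.Core.normal_pCore p X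
    have hOp : IsPGroup p (Cfsg.pCore p X) := CfsgLib.Core.isPGroup_pCore p X
    rw [mem_centralizer_singleton_iff]
    refine (Commute.symm ?_ : Commute y z).eq
    by_cases hy1 : y = 1
    · rw [hy1]; exact Commute.one_right z
    obtain ⟨W, hWn, hWO, hW1, hexp, hWc⟩ := CfsgLib.PGroups.FixRank.exists_elementary_le_pgroup
      (P := Cfsg.pCore p X) hOp fun e => hy1 (mem_bot.1 (e ▸ hy))
    obtain ⟨c, hc, hco⟩ := CfsgLib.PGroups.FixRank.exists_orderOf_of_ne_bot hexp hW1
    have hce : IsEvil φ c := ⟨hco ▸ hp, hR p hp c (hWO hc) hco⟩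
    have hMp : (Nat.card M).Coprime p := hco ▸ hce.coprime
    obtain ⟨i, hi⟩ := IsPGroup.iff_card.1 hOp
    by_cases hzp : orderOf z = p
    · by_cases hzO : z ∈ Cfsg.pCore p X
      · obtain ⟨g, hg⟩ := (hcyc p hp).exists_generator
        obtain ⟨a, ha⟩ := hg ⟨z, hzO⟩
        obtain ⟨b, hb⟩ := hg ⟨y, hy⟩
        have e1 : (g : X) ^ a = z := congrArg Subtype.val ha
        have e2 : (g : X) ^ b = y := congrArg Subtype.val hb
        rw [← e1, ← e2]
        exact ((Commute.refl (g : X)).zpow_right b).zpow_left a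
      haveI := hcyc p hp
      obtain ⟨g, hg⟩ := (hcyc p hp).exists_generator
      have hgen : zpowers (g : X) = Cfsg.pCore p X := by
        refine le_antisymm (zpowers_le.2 g.2) fun v hv => ?_
        obtain ⟨a, ha⟩ := hg ⟨v, hv⟩
        exact ⟨a, congrArg Subtype.val ha⟩
      obtain ⟨b, hb⟩ : y ∈ zpowers (g : X) := hgen.symm ▸ hy
      suffices h : Commute z (g : X) by rw [← hb]; exact h.zpow_right b
      have hcg : c ∈ zpowers (g : X) := hgen.symm ▸ hWO hc
      have hznorm : z * g * z⁻¹ ∈ zpowers (g : X) := by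
        rw [hgen]; exact (inferInstance : (Cfsg.pCore p X).Normal).conj_mem _ g.2 z
      have hzc : Commute z c := by
        refine commute_of_normalizes_prime hco ?_ (j := 1) (by
          rw [pow_one, ← hzp, pow_orderOf_eq_one]; exact Commute.one_left _)
        have hcn : z * c * z⁻¹ ∈ zpowers (g : X) := by
          rw [hgen]; exact (inferInstance : (Cfsg.pCore p X).Normal).conj_mem _ (hWO hc) z
        exact mem_zpowers_of_cyclic (hgen.symm ▸ hcyc p hp : IsCyclic (zpowers (g : X))) hcn hcg
          (by rw [conj_pow, ← hco, pow_orderOf_eq_one, mul_one, mul_inv_cancel]) hco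
      -- `⟨c, z⟩` holds an element with a fixed point
      have hzc' : z ∉ zpowers c := fun hm => hzO ((zpowers_le.2 (hWO hc)) hm)
      obtain ⟨x, hx, hxo, hxf⟩ := hA.exists_fix_pair hce hco hzp hzc.symm hzc'
      have hpair : Pair φ p x c := ⟨hxo, hco, hxf, hce,
        commute_closure_pair (Commute.refl c) hzc x hx⟩
      have hzE : z ∈ closure ({x, c} : Set X) := by
        refine hpair.mem_of_commute hA ?_ hzc.symm
        exact commute_closure_pair hzc.symm (Commute.refl z) x hx
      obtain ⟨j, hj⟩ := mem_zpowers_iff.1 hznorm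
      have hgo : orderOf (g : X) ∣ p ^ i := hi ▸ (Cfsg.pCore p X).orderOf_dvd_natCard g.2
      obtain ⟨e, he, hge⟩ := (Nat.dvd_prime_pow hp).1 hgo
      by_contra hzg
      -- an element of order `p ^ 2` moved by `z`
      have he2 : 2 ≤ e := by
        by_contra hlt
        refine hzg (commute_of_normalizes_prime (p := p) ?_ hznorm (j := 1) (by
          rw [pow_one, show z ^ p = 1 by rw [← hzp, pow_orderOf_eq_one]]; exact Commute.one_left _))
        rcases (show e = 0 ∨ e = 1 by omega) with rfl | rfl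
        · rw [pow_zero, orderOf_eq_one_iff] at hge
          exact absurd (show Commute z (g : X) by rw [hge]; exact Commute.one_right z) hzg
        · rw [hge, pow_one]
      have hcgen : zpowers c = zpowers ((g : X) ^ p ^ (e - 1)) := by
        have hgp : orderOf ((g : X) ^ p ^ (e - 1)) = p := by
          rw [orderOf_pow_of_dvd (pow_ne_zero _ hp.ne_zero) (hge ▸ pow_dvd_pow p (Nat.sub_le e 1)), hge,
            Nat.pow_div (Nat.sub_le e 1) hp.pos, show e - (e - 1) = 1 by omega, pow_one]
        refine (zpowers_eq_of_prime (by rw [hgp]; exact hp) ?_ fun h1 => hp.ne_one (by rw [← hco, h1, orderOf_one]))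
        exact mem_zpowers_of_cyclic (hgen.symm ▸ hcyc p hp : IsCyclic (zpowers (g : X))) hcg
          (pow_mem (mem_zpowers _) _) (by rw [← hco, pow_orderOf_eq_one]) hgp
      set y₂ := (g : X) ^ p ^ (e - 2) with hy₂
      have hy₂p : y₂ ^ p = (g : X) ^ p ^ (e - 1) := by
        rw [hy₂, ← pow_mul, ← pow_succ, show e - 2 + 1 = e - 1 by omega]
      have hy₂E : y₂ ∉ closure ({x, c} : Set X) := fun hm => by
        have h1 := hpair.pow_eq hA hm
        rw [hy₂p] at h1
        have h2 : (g : X) ^ p ^ (e - 1) ∈ (⊥ : Subgroup X) := mem_bot.2 h1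
        have h3 : c ∈ (⊥ : Subgroup X) := (zpowers_le.2 h2) (hcgen ▸ mem_zpowers c)
        exact hp.ne_one (by rw [← hco, mem_bot.1 h3, orderOf_one])
      have hy₂z : ⁅y₂, z⁆ ∈ zpowers c := by
        -- conjugation by `z` is `1` modulo `p`
        have hjj : (p : ℤ) ∣ j - 1 := by
          have h1 := CfsgLib.Core.UniqueOrderP.conj_pow_zpow hj.symm p
          rw [show z ^ p = 1 by rw [← hzp, pow_orderOf_eq_one], one_mul, inv_one, mul_one] at h1
          have h2 : (g : X) ^ (j ^ p - 1) = 1 := by rw [zpow_sub, ← h1, zpow_one, mul_inv_cancel]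
          have h3 : (p : ℤ) ∣ j ^ p - 1 := (Int.natCast_dvd_natCast.2 (dvd_pow_self p (by omega : e ≠ 0))).trans
            (hge ▸ orderOf_dvd_iff_zpow_eq_one.2 h2)
          rw [← ZMod.intCast_zmod_eq_zero_iff_dvd] at h3 ⊢
          push_cast at h3 ⊢
          rwa [ZMod.pow_card] at h3
        obtain ⟨r, hr⟩ := hjj
        have hconj : z * y₂ * z⁻¹ = (g : X) ^ (j * ((p ^ (e - 2) : ℕ) : ℤ)) := by
          rw [hy₂, ← zpow_natCast, ← conj_zpow, ← hj, ← zpow_mul]
        have e1 : ⁅y₂, z⁆ = ((g : X) ^ p ^ (e - 1)) ^ (-r) := by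
          have e0 : ⁅y₂, z⁆ = y₂ * (z * y₂ * z⁻¹)⁻¹ := by rw [commutatorElement_def]; group
          rw [e0, hconj, hy₂, ← zpow_natCast, ← zpow_neg, ← zpow_add, ← zpow_natCast (g : X) (p ^ (e - 1)),
            ← zpow_mul]
          congr 1
          have hp' : ((p ^ (e - 1) : ℕ) : ℤ) = (p : ℤ) * ((p ^ (e - 2) : ℕ) : ℤ) := by
            rw [← Nat.cast_mul, ← pow_succ', show e - 2 + 1 = e - 1 by omega]
          rw [hp']
          linear_combination (-((p ^ (e - 2) : ℕ) : ℤ)) * hr
        rw [e1, hcgen]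
        exact zpow_mem (mem_zpowers _) _
      have hy₂c : Commute y₂ c := by
        obtain ⟨a, ha⟩ := hcg
        rw [hy₂, ← ha]
        exact ((Commute.refl (g : X)).pow_left _).zpow_right a
      have hy₂n : y₂ ∈ normalizer (closure ({x, c} : Set X) : Set X) := by
        have hxzc : closure ({x, c} : Set X) = closure ({c, z} : Set X) := by
          refine le_antisymm (closure_pair_le hx (subset_closure (by simp)))
            (closure_pair_le (hpair.right_mem hA) hzE)
        rw [hxzc]
        refine mem_normalizer_of_conj_le fun w hw => ?_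
        have hle : closure ({c, z} : Set X) ≤
            (closure ({c, z} : Set X)).comap (MulAut.conj y₂).toMonoidHom := by
          refine closure_pair_le ?_ ?_ <;> rw [mem_comap]
          · show y₂ * c * y₂⁻¹ ∈ _
            rw [hy₂c.eq, mul_inv_cancel_right]; exact subset_closure (by simp)
          · show y₂ * z * y₂⁻¹ ∈ _
            have e0 : y₂ * z * y₂⁻¹ = ⁅y₂, z⁆ * z := by rw [commutatorElement_def]; group
            rw [e0]
            exact mul_mem ((zpowers_le.2 (subset_closure (by simp))) hy₂z) (subset_closure (by simp))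
        exact hle hw
      exact hzc' ((hpair.moves hA hy₂n (k := e) (by
        rw [hy₂, ← pow_mul, mul_comm, pow_mul, ← hge, pow_orderOf_eq_one, one_pow]) hy₂E).2.2.2 z hzE hz)
    · have h := hA.commute_on_invariant hz hOp.isNilpotent
        (normalizer_eq_top_iff.2 (CfsgLib.Core.normal_pCore p X) ▸ mem_top z)
        (by rw [hi]; exact ((Nat.coprime_primes hp hz.1).2 (Ne.symm hzp)).pow_left i) ⊤
        (fun _ m _ => mem_top _) (by rw [card_top, hi]; exact hMp.pow_right i) y hy
      exact commutatorElement_eq_one_iff_commute.1 (hA.fix_top (eq_top_iff.2 fun m _ => h m (mem_top m)))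
  -- the quotient is abelian
  have hX'F : commutator X ≤ F := by
    refine (commutator_def X).le.trans (commutator_le.2 fun a _ b _ => hCF (mem_centralizer_iff.2 fun u hu => ?_))
    refine (mem_centralizer_singleton_iff.1 ((hFle (centralizer {⁅a, b⁆}) fun p hp y hy => ?_) hu))
    haveI := Fact.mk hp
    haveI := CfsgLib.Core.normal_pCore p X
    obtain ⟨g, hg⟩ := (hcyc p hp).exists_generator
    have hgen : zpowers (g : X) = Cfsg.pCore p X := by
      refine le_antisymm (zpowers_le.2 g.2) fun v hv => ?_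
      obtain ⟨i, hi⟩ := hg ⟨v, hv⟩
      exact ⟨i, congrArg Subtype.val hi⟩
    have hn : ∀ v : X, v ∈ normalizer (zpowers (g : X) : Set X) := fun v => by
      rw [hgen]; exact normalizer_eq_top_iff.2 (CfsgLib.Core.normal_pCore p X) ▸ mem_top v
    obtain ⟨i, hi⟩ : y ∈ zpowers (g : X) := hgen.symm ▸ hy
    rw [mem_centralizer_singleton_iff, ← hi]
    exact ((commute_commutator_cyclic (hn a) (hn b)).zpow_right i).eq.symm
  haveI hFn : F.Normal := CfsgLib.Core.normal_fittingSubgroup X
  haveI := CfsgLib.Core.isNilpotent_fittingSubgroup X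
  set r := orderOf s with hr
  haveI := Fact.mk hs
  have hFcore : ∀ x ∈ F, ∀ k, x ^ r ^ k = 1 → x ∈ Cfsg.pCore r X := fun x hx k hk =>
    CfsgLib.Core.map_subtype_pCore_le F
      ⟨⟨x, hx⟩, mem_pCore_of_nilpotent (k := k) (Subtype.ext hk), rfl⟩
  have hsF : s ∉ F := fun h => hR r hs s (hFcore s h 1 (by rw [pow_one, hr, pow_orderOf_eq_one])) hr.symm hsf
  by_cases hev : ∃ z, IsEvil φ z ∧ orderOf z = r
  swap
  · push Not at hev
    exact hsF (hA.no_p_quot hX'F (fun a => ⟨a, by simp, fun y _ hy => hev y hy⟩) s 1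
      (by rw [pow_one, hr, pow_orderOf_eq_one]; exact one_mem _))
  obtain ⟨z, hz, hzo⟩ := hev
  haveI hOn := CfsgLib.Core.normal_pCore r X
  have hzO : z ∈ Cfsg.pCore r X := hFcore z (hevilF z hz) 1 (by rw [pow_one, ← hzo, pow_orderOf_eq_one])
  have hzc : ∀ v : X, v ^ r = 1 → Commute v z := fun v hv =>
    commute_of_normalizes_prime hzo
      (mem_zpowers_of_cyclic (hcyc r hs) (hOn.conj_mem z hzO v) hzO
        (by rw [conj_pow, ← hzo, pow_orderOf_eq_one, mul_one, mul_inv_cancel]) hzo)
      (j := 1) (by rw [pow_one, hv]; exact Commute.one_left _)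
  have hpowF : ∀ b : X, (∃ k, b ^ r ^ k = 1) → b ^ r ∈ F := by
    rintro b ⟨k, hbk⟩
    have hbp : IsPGroup r (zpowers b) := by
      obtain ⟨j, -, hj⟩ := (Nat.dvd_prime_pow hs).1 (orderOf_dvd_of_pow_eq_one hbk)
      exact IsPGroup.of_card (n := j) (by rw [Nat.card_zpowers, hj])
    obtain ⟨Q, hQ⟩ := hbp.exists_le_sylow
    obtain ⟨Q₀, hQ₀⟩ := (IsPGroup.of_card (n := 1) (by rw [Nat.card_zpowers, pow_one]) :
      IsPGroup r (zpowers s)).exists_le_sylow
    obtain ⟨d, hd⟩ := MulAction.exists_smul_eq X Q₀ Q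
    set s' := d * s * d⁻¹ with hs'
    have hs'Q : s' ∈ (Q : Subgroup X) := by
      rw [← hd]
      exact smul_mem_pointwise_smul s (MulAut.conj d) _ (hQ₀ (mem_zpowers s))
    have hs'o : orderOf s' = r := by rw [hs', CfsgLib.Signalizer.orderOf_conj]
    have hpair : Pair φ r s' z :=
      ⟨hs'o, hzo, fix_conj hsf d, hz, hzc s' (by rw [← hs'o, pow_orderOf_eq_one])⟩
    have hzQ : z ∈ (Q : Subgroup X) := CfsgLib.Core.pCore_le_sylow Q hzO
    have hQc := hpair.card_le hA Q.2 hs'Q hzQ
    obtain ⟨j, -, hj⟩ := (Nat.dvd_prime_pow hs).1 (orderOf_dvd_of_pow_eq_one hbk)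
    have hbQ : zpowers b ≤ (Q : Subgroup X) := hQ
    by_cases h3 : 3 ≤ j
    · exfalso
      have e : zpowers b = (Q : Subgroup X) := by
        refine eq_of_le_of_card_ge hbQ ?_
        rw [Nat.card_zpowers, hj]
        exact hQc.trans (le_trans (le_of_eq (by ring)) (Nat.pow_le_pow_right hs.pos h3))
      have hbc : ∀ v ∈ (Q : Subgroup X), Commute v b := fun v hv => by
        rw [← e] at hv
        obtain ⟨i, rfl⟩ := hv
        exact (Commute.refl b).zpow_left i
      have hbE := hpair.mem_of_commute hA (hbc s' hs'Q) (hbc z hzQ)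
      have := orderOf_dvd_of_pow_eq_one (hpair.pow_eq hA hbE)
      rw [hj] at this
      have h4 := (Nat.pow_dvd_pow_iff_le_right hs.one_lt).1 (show r ^ j ∣ r ^ 1 by rwa [pow_one])
      omega
    · by_cases hbr : b ^ r = 1
      · rw [hbr]; exact one_mem _
      have hbo : (b ^ r) ^ r = 1 := by
        rw [← pow_mul, ← pow_two]
        exact orderOf_dvd_iff_pow_eq_one.1 (hj ▸ pow_dvd_pow r (by omega))
      have ho : orderOf (b ^ r) = r := orderOf_eq_prime hbo hbr
      by_cases hf : Fix φ (b ^ r)
      · exfalso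
        have hpair2 : Pair φ r (b ^ r) z := ⟨ho, hzo, hf, hz, hzc _ hbo⟩
        have hbzn : b * z * b⁻¹ ∈ zpowers z :=
          mem_zpowers_of_cyclic (hcyc r hs) (hOn.conj_mem z hzO b) hzO
            (by rw [conj_pow, ← hzo, pow_orderOf_eq_one, mul_one, mul_inv_cancel]) hzo
        have hbz : Commute b z := commute_of_normalizes_prime hzo hbzn (j := 1)
          (by rw [pow_one]; exact hzc _ hbo)
        exact hbr (hpair2.pow_eq hA (hpair2.mem_of_commute hA ((Commute.refl b).pow_left r) hbz.symm))
      · exact hevilF _ ⟨by rw [ho]; exact hs, hf⟩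
  have hsM : s ∈ powSub r F hX'F := hA.mem_of_kills (hX'F.trans (le_powSub hX'F)) (pow_mem_powSub hX'F)
    ⟨1, by rw [pow_one, hr, pow_orderOf_eq_one]⟩ (not_isEvil_of_fix (hr ▸ hs) hsf)
  obtain ⟨b, hb⟩ := mem_powSub_iff.1 hsM
  have hbk : b ^ r ^ 2 ∈ F := by
    refine (QuotientGroup.eq_one_iff (N := F) _).1 ?_
    show QuotientGroup.mk' F (b ^ r ^ 2) = 1
    have e : QuotientGroup.mk' F (b ^ r) = QuotientGroup.mk' F s := (QuotientGroup.eq).2 hb
    rw [pow_two, pow_mul, map_pow, e, ← map_pow, hr, pow_orderOf_eq_one, map_one]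
  obtain ⟨c, -, hcb, k, hck⟩ := exists_p_part F hbk
  refine hsF ((QuotientGroup.eq_one_iff (N := F) s).1 ?_)
  show QuotientGroup.mk' F s = 1
  have e : QuotientGroup.mk' F (b ^ r) = QuotientGroup.mk' F s := (QuotientGroup.eq).2 hb
  have e2 : QuotientGroup.mk' F b = QuotientGroup.mk' F c := (QuotientGroup.eq).2 hcb
  rw [← e, map_pow, e2, ← map_pow]
  exact (QuotientGroup.eq_one_iff _).2 (hpowF c ⟨k, hck⟩)

end Act

end CfsgLib.Bender.NSubB
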