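import Cfsg.Agent.Lib.Bender.Gen.Setting

/-!
Owner: helper29. The exact statements of the slices of the general Bender theorem
(`notes/bender_gen_slices.md`). Downstream slices take them as hypotheses until they are proved.
-/

set_option autoImplicit false
set_option linter.style.haveILetI false
set_option linter.unusedSectionVars false

namespace CfsgLib.Bender

open Subgroup MulAction

universe u

variable {G Ω : Type*} [Group G] [Finite G] [MulAction G Ω] [Finite Ω]

/-- `TEMPLATE`: no finite family of pairs closed under halving has Sylow subgroups and odd cores fixing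
the centre. -/
def Template (G Ω : Type*) [Group G] [Finite G] [MulAction G Ω] [Finite Ω] : Prop :=
  ∀ (p : ℕ), p.Prime → p ≠ 2 → ∀ (v : G) (w : Ω) (X : Set Ω) (half : Ω → Ω), InvAt v w → X.Nonempty →
    w ∉ X → Set.BijOn half X X →
    (∀ x ∈ X, ∃ g : G, g • half x = x ∧ g • v • half x = w) →
    (∀ x ∈ X, ∃ T : Subgroup G, IsSyl p T (pairStab G x (v • x)) ∧ T ≠ ⊥ ∧
      v ∈ normalizer (T : Set G) ∧ T ≤ stabilizer G w ∧
      opp p (pairStab G x (v • x)) ≤ stabilizer G w) → False

/-- Slice A. -/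
def TemplateStep : Prop :=
  ∀ (G Ω : Type u) [Group G] [Finite G] [MulAction G Ω] [Finite Ω],
    Setting0 G Ω → Faithful G Ω → NoTwo G Ω → Template G Ω

/-- Slice B. -/
def UMStep : Prop :=
  ∀ (G Ω : Type u) [Group G] [Finite G] [MulAction G Ω] [Finite Ω],
    Setting0 G Ω → Faithful G Ω → LocalOK G Ω → NoTwo G Ω → Template G Ω → UM G Ω

/-- Slice C. -/
def SRStep : Prop :=
  ∀ (G Ω : Type u) [Group G] [Finite G] [MulAction G Ω] [Finite Ω],
    Setting0 G Ω → UM G Ω → SR G Ω

/-- Slice D. -/
def ConsStep : Prop :=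
  ∀ (G Ω : Type u) [Group G] [Finite G] [MulAction G Ω] [Finite Ω],
    Setting0 G Ω → Faithful G Ω → LocalOK G Ω → NoTwo G Ω → SR G Ω → SRCons G Ω

/-- Slice E: the induction hypothesis inside a proper subgroup. -/
def LocalStep : Prop :=
  ∀ (G Ω : Type u) [Group G] [Finite G] [MulAction G Ω] [Finite Ω],
    Setting0 G Ω → IH.{u} (Nat.card G) → LocalOK G Ω

/-- Slice F: the commuting case. -/
def CommStep : Prop :=
  ∀ (G Ω : Type u) [Group G] [Finite G] [MulAction G Ω] [Finite Ω],
    Setting G Ω → Faithful G Ω → IH.{u} (Nat.card G) → ∀ a : Ω, SolvMod G a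

/-- Slice G: there is no faithful minimal non-commuting example. -/
def NoncommStep : Prop :=
  ∀ (G Ω : Type u) [Group G] [Finite G] [MulAction G Ω] [Finite Ω],
    Setting0 G Ω → Faithful G Ω → IH.{u} (Nat.card G) → LocalOK G Ω → NoTwo G Ω → SR G Ω →
      SRCons G Ω → CommMod G Ω

/-- Slice E: what the induction gives. -/
def BenderGen : Prop :=
  ∀ (G : Type u) [Group G] [Finite G] (M : Subgroup G), Cfsg.IsStronglyEmbedded M →
    (∃ s ∈ M, ∃ t ∈ M, orderOf s = 2 ∧ orderOf t = 2 ∧ s ≠ t ∧ s * t = t * s) →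
    Setting G (G ⧸ M) ∧ SolvMod G ((1 : G) : G ⧸ M)

end CfsgLib.Bender
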