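import Cfsg.Agent.Lib.Bender.Gen.NoMoveTools
import Cfsg.Agent.Lib.Bender.Gen.Sig
import Cfsg.Agent.Lib.PLocal.PConstrained

/-!
Owner: helper27. The affine layer used in the proof of `UM` (slice B of `notes/bender_gen_slices.md`).

* `opp`, `opq` : `O_{p'}` and `O_{p',p}` of a subgroup, with their normalisers
* `exists_layer` : the first derived term moving a point
* `Layer.*` : the orbit of such a term is affine; `Layer.false_of_template` applies `Template` to it
-/

set_option autoImplicit false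
set_option linter.style.haveILetI false
set_option linter.unusedSectionVars false

namespace CfsgLib.Bender

open Subgroup MulAction
open CfsgLib.Signalizer (involution_sq involution_inv orderOf_eq_two_of involution_ne_one)
open scoped commutatorElement

section Group

variable {G : Type*} [Group G] [Finite G] {p : ℕ}

theorem le_normalizer_map_characteristic (K : Subgroup G) (M : Subgroup K) [M.Characteristic] :
    normalizer (K : Set G) ≤ normalizer (M.map K.subtype : Set G) := fun g hg =>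
  mem_normalizer_of_map_conj_eq (by
    conv_rhs => rw [← characteristic_iff_map_eq.mp ‹M.Characteristic› (normalizerMonoidHom K ⟨g, hg⟩)]
    rw [map_map, map_map]
    rfl)

theorem opp_le (p : ℕ) (D : Subgroup G) : opp p D ≤ D := map_subtype_le _

theorem card_opp (p : ℕ) (D : Subgroup G) : (Nat.card (opp p D)).Coprime p := by
  rw [opp, ← Nat.card_congr ((Cfsg.pPrimeCore p D).equivMapOfInjective _ D.subtype_injective).toEquiv]
  exact CfsgLib.Core.coprime_card_pPrimeCore p D

theorem le_normalizer_opp (p : ℕ) (D : Subgroup G) :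
    normalizer (D : Set G) ≤ normalizer (opp p D : Set G) :=
  le_normalizer_map_characteristic D _

theorem le_opp {D N : Subgroup G} (hND : N ≤ D) (hn : D ≤ normalizer (N : Set G))
    (hc : (Nat.card N).Coprime p) : N ≤ opp p D := by
  haveI : (N.subgroupOf D).Normal := normal_subgroupOf_of_le_normalizer hn
  have h : N.subgroupOf D ≤ Cfsg.pPrimeCore p D := CfsgLib.Core.le_pPrimeCore (by
    rwa [Nat.card_congr (subgroupOfEquivOfLe hND).toEquiv])
  intro x hx
  exact ⟨⟨x, hND hx⟩, h (mem_subgroupOf.2 hx), rfl⟩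

theorem map_conj_opp_le (p : ℕ) (D : Subgroup G) (g : G) :
    (opp p D).map (MulAut.conj g).toMonoidHom ≤ opp p (D.map (MulAut.conj g).toMonoidHom) := by
  refine le_opp (map_mono (opp_le p D)) ?_ (by rw [card_map_conj]; exact card_opp p D)
  exact (map_mono (le_normalizer.trans (le_normalizer_opp p D))).trans (le_normalizer_map _)

theorem opp_map_conj (p : ℕ) (D : Subgroup G) (g : G) :
    opp p (D.map (MulAut.conj g).toMonoidHom) = (opp p D).map (MulAut.conj g).toMonoidHom := by
  have key : ∀ (D : Subgroup G) (g : G), Nat.card (opp p D) ≤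
      Nat.card (opp p (D.map (MulAut.conj g).toMonoidHom)) := fun D g =>
    (card_map_conj g (opp p D)).ge.trans (card_le_of_le (map_conj_opp_le p D g))
  refine (eq_of_le_of_card_ge (map_conj_opp_le p D g) ?_).symm
  rw [card_map_conj]
  have e : (D.map (MulAut.conj g).toMonoidHom).map (MulAut.conj g⁻¹).toMonoidHom = D := by
    ext x; simp [mem_map_conj, mul_assoc]
  have h := key (D.map (MulAut.conj g).toMonoidHom) g⁻¹
  rwa [e] at h

theorem coprime_card_of_pGroup [Fact p.Prime] {P A : Subgroup G} (hP : IsPGroup p P)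
    (hA : (Nat.card A).Coprime p) : (Nat.card P).Coprime (Nat.card A) := by
  rw [card_eq_pow hP]; exact hA.symm.pow_left _

/-- `O_{p',p}` of a subgroup. -/
def opq (p : ℕ) (C : Subgroup G) : Subgroup G := (Cfsg.pPrimePCore p C).map C.subtype

theorem opq_le (p : ℕ) (C : Subgroup G) : opq p C ≤ C := map_subtype_le _

theorem opp_le_opq (p : ℕ) (C : Subgroup G) : opp p C ≤ opq p C :=
  map_mono CfsgLib.PLocal.pPrimeCore_le_pPrimePCore

theorem le_normalizer_opq (p : ℕ) (C : Subgroup G) :
    normalizer (C : Set G) ≤ normalizer (opq p C : Set G) := by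
  haveI : (Cfsg.pPrimePCore p C).Characteristic := by
    refine characteristic_iff_le_comap.mpr fun φ x hx => ?_
    let ψ := QuotientGroup.congr (Cfsg.pPrimeCore p C) (Cfsg.pPrimeCore p C) φ
      (CfsgLib.Core.map_equiv_pPrimeCore φ)
    show QuotientGroup.mk' _ (φ x) ∈ Cfsg.pCore p (C ⧸ Cfsg.pPrimeCore p C)
    rw [← CfsgLib.Core.map_equiv_pCore ψ]
    exact ⟨_, hx, rfl⟩
  exact le_normalizer_map_characteristic C _

/-- A Sylow subgroup of `O_{p',p}` covers it modulo `O_{p'}`. -/
theorem opq_eq [Fact p.Prime] {C P : Subgroup G} (hP : IsSyl p P (opq p C)) :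
    P ⊔ opp p C = opq p C := by
  refine le_antisymm (sup_le hP.le (opp_le_opq p C)) ?_
  set L := Cfsg.pPrimePCore p C
  obtain ⟨S⟩ : Nonempty (Sylow p L) := inferInstance
  have hS := CfsgLib.PLocal.sylow_sup_pPrimeCore S
  set S₀ : Subgroup G := ((S : Subgroup L).map L.subtype).map C.subtype with hS₀
  have hS₀syl : IsSyl p S₀ (opq p C) := by
    refine ⟨map_mono (map_subtype_le _), ?_⟩
    rw [hS₀, ← Nat.card_congr (((S : Subgroup L).map L.subtype).equivMapOfInjective _ C.subtype_injective).toEquiv,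
      ← Nat.card_congr ((S : Subgroup L).equivMapOfInjective _ L.subtype_injective).toEquiv,
      S.card_eq_multiplicity, opq,
      ← Nat.card_congr (L.equivMapOfInjective _ C.subtype_injective).toEquiv]
  have hsup : S₀ ⊔ opp p C = opq p C := by
    rw [hS₀, opp, opq, ← Subgroup.map_sup, hS]
  obtain ⟨g, hg, hgP⟩ := hS₀syl.exists_conj hP
  have hgn : g ∈ normalizer (opp p C : Set G) := (le_normalizer_opp p C) (le_normalizer (opq_le p C hg))
  have h : (opq p C).map (MulAut.conj g).toMonoidHom = P ⊔ opp p C := by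
    rw [← hsup, Subgroup.map_sup, hgP, map_conj_eq_of_mem_normalizer hgn]
  rw [← h, map_conj_eq_of_mem_normalizer (le_normalizer hg)]

theorem grow_eq [Fact p.Prime] {T U : Subgroup G} (hT : IsPGroup p T) (hUT : U ≤ T)
    (h : ∀ g ∈ T, g ∈ normalizer (U : Set G) → g ∈ U) : U = T := by
  by_contra hne
  obtain ⟨g, hg, hgn, hgU⟩ := exists_mem_normalizer_notMem hT hUT hne
  exact hgU (h g hg hgn)

end Group

section Layer

variable {G Ω : Type*} [Group G] [Finite G] [MulAction G Ω] [Finite Ω]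

/-- An odd subgroup moving `w` has a characteristic term moving `w` whose derived group fixes `w`. -/
theorem exists_layer {w : Ω} : ∀ (n : ℕ) (O : Subgroup G), Nat.card O = n → Odd (Nat.card O) →
    ¬ O ≤ stabilizer G w → ∃ Θ : Subgroup G, Θ ≤ O ∧ normalizer (O : Set G) ≤ normalizer (Θ : Set G) ∧
      ¬ Θ ≤ stabilizer G w ∧ ⁅Θ, Θ⁆ ≤ stabilizer G w := by
  intro n
  induction n using Nat.strong_induction_on with
  | _ n ih =>
    intro O hn hodd hmove
    subst hn
    by_cases h : ⁅O, O⁆ ≤ stabilizer G w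
    · exact ⟨O, le_rfl, le_rfl, hmove, h⟩
    have hlt : Nat.card (⁅O, O⁆ : Subgroup G) < Nat.card O := by
      refine lt_of_le_of_ne (card_le_of_le (commutator_le_self O)) fun h' => ?_
      have hO : O ≠ ⊥ := fun hb => hmove (hb ▸ bot_le)
      haveI : Nontrivial O := O.nontrivial_iff_ne_bot.2 hO
      haveI : Group.IsSolvable O := Cfsg.Agent.S0205.result hodd
      refine (Group.IsSolvable.commutator_lt_top_of_nontrivial O).ne
        (map_injective O.subtype_injective ?_)
      rw [map_subtype_commutator, ← MonoidHom.range_eq_map, range_subtype]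
      exact eq_of_le_of_card_ge (commutator_le_self O) h'.ge
    obtain ⟨Θ, h1, h2, h3, h4⟩ := ih _ hlt _ rfl (odd_of_le (commutator_le_self O) hodd) h
    exact ⟨Θ, h1.trans (commutator_le_self O),
      (fun g hg => h2 (le_normalizer_commutator ⟨hg, hg⟩)), h3, h4⟩

/-- An odd subgroup with derived group at `w`, normalised by an involution at `w`. -/
structure Layer (Θ : Subgroup G) (w : Ω) (v : G) : Prop where
  inv : InvAt v w
  odd : Odd (Nat.card Θ)
  normal : v ∈ normalizer (Θ : Set G)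
  derived : ⁅Θ, Θ⁆ ≤ stabilizer G w

namespace Layer

variable {Θ : Subgroup G} {w : Ω} {v : G} (hL : Layer Θ w v)
include hL

theorem comm {a b : G} (ha : a ∈ Θ) (hb : b ∈ Θ) : (a * b) • w = (b * a) • w := by
  have h : ⁅a⁻¹, b⁻¹⁆ • w = w := hL.derived (commutator_mem_commutator (inv_mem ha) (inv_mem hb))
  calc (a * b) • w = (b * a) • ⁅a⁻¹, b⁻¹⁆ • w := by
        rw [← mul_smul]; congr 1; simp [commutatorElement_def, mul_assoc]
    _ = (b * a) • w := by rw [h]

theorem pow_congr {a b : G} (ha : a ∈ Θ) (hb : b ∈ Θ) (h : a • w = b • w) :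
    ∀ j : ℕ, a ^ j • w = b ^ j • w := by
  intro j
  induction j with
  | zero => simp
  | succ j ih => rw [pow_succ, mul_smul, h, ← mul_smul, hL.comm (pow_mem ha _) hb, mul_smul, ih,
      ← mul_smul, ← pow_succ']

theorem fix_of_sq {a : G} (ha : a ∈ Θ) (h : (a * a) • w = w) : a • w = w := by
  obtain ⟨n, hn⟩ := hL.odd.of_dvd_nat (Θ.orderOf_dvd_natCard ha)
  have e : a = (a * a) ^ (n + 1) := by
    rw [← pow_two, ← pow_mul, show 2 * (n + 1) = 2 * n + 1 + 1 by ring, pow_succ, ← hn,
      pow_orderOf_eq_one, one_mul]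
  rw [e]
  exact (stabilizer G w).pow_mem h _

/-- An element fixing a point and its negative fixes the centre. -/
theorem affine_fix {g θ : G} (hg : g ∈ normalizer (Θ : Set G)) (hθ : θ ∈ Θ)
    (h1 : g • θ • w = θ • w) (h2 : g • θ⁻¹ • w = θ⁻¹ • w) : g • w = w := by
  set φ := g * θ * g⁻¹ with hφ
  have hφΘ : φ ∈ Θ := (mem_normalizer_iff.1 hg θ).1 hθ
  have e1 : g • w = (φ⁻¹ * θ) • w := by
    have : φ • g • w = θ • w := by
      conv_rhs => rw [← h1]
      rw [← mul_smul, ← mul_smul]
      congr 1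
      rw [hφ]; group
    rw [mul_smul, ← this, inv_smul_smul]
  have e2 : g • w = (φ * θ⁻¹) • w := by
    have : φ⁻¹ • g • w = θ⁻¹ • w := by
      rw [← h2, ← mul_smul, ← mul_smul]
      congr 1
      rw [hφ]; group
    rw [mul_smul, ← this, smul_inv_smul]
  have hA : (φ⁻¹ * θ) ∈ Θ := mul_mem (inv_mem hφΘ) hθ
  have h3 : (φ⁻¹ * θ) • w = (φ⁻¹ * θ)⁻¹ • w := by
    rw [← e1, e2, mul_inv_rev, inv_inv, hL.comm hφΘ (inv_mem hθ)]
  have h4 : ((φ⁻¹ * θ) * (φ⁻¹ * θ)) • w = w := by
    rw [mul_smul, h3, smul_inv_smul]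
  rw [e1]
  exact hL.fix_of_sq hA h4

end Layer

variable (hS : Setting0 G Ω) {Θ : Subgroup G} {w : Ω} {v : G}
include hS

namespace Layer

/-- The involution is `-1` on the orbit. -/
theorem inv_smul_eq (hL : Layer Θ w v) {θ : G} (hθ : θ ∈ Θ) : v • θ • w = θ⁻¹ • w := by
  set F := Θ ⊓ stabilizer G w
  have hv' : v⁻¹ • w = w := inv_smul_eq_iff.2 hL.inv.2.symm
  have hvθ : v * θ * v⁻¹ ∈ Θ := (mem_normalizer_iff.1 hL.normal θ).1 hθ
  set k := v * θ * v⁻¹ * θ with hk
  obtain ⟨f, hf, hkf⟩ := CfsgLib.Core.exists_centralizing_in_coset (A := zpowers v) (N := F)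
    (zpowers_le.2 (mem_normalizer_of_map_conj_eq (by
      rw [Subgroup.map_inf _ _ _ (MulAut.conj v).injective, map_conj_eq_of_mem_normalizer hL.normal,
        ← stabilizer_smul_eq, hL.inv.2])))
    (coprime_zpowers hL.inv.1 (odd_of_le inf_le_left hL.odd))
    (Or.inl inferInstance) (k := k) (by
      intro x hx
      rcases zpowers_cases hL.inv.1 hx with rfl | rfl
      · simp
      · have e : k⁻¹ * (x * k * x⁻¹) = ⁅θ⁻¹, (x * θ * x⁻¹)⁻¹⁆ := by
          rw [hk, commutatorElement_def, involution_inv hL.inv.1]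
          simp [mul_assoc, ← mul_assoc x x, involution_sq hL.inv.1]
        rw [e]
        exact ⟨commutator_le_self Θ (commutator_mem_commutator (inv_mem hθ) (inv_mem hvθ)),
          hL.derived (commutator_mem_commutator (inv_mem hθ) (inv_mem hvθ))⟩)
  have hkw : k • w = w := by
    have h := hS.smul_of_commute hL.inv ((mem_centralizer_iff.1 hkf v (mem_zpowers v)).symm)
    rwa [mul_smul, show f • w = w from hf.2] at h
  calc v • θ • w = (v * θ * v⁻¹) • w := by rw [mul_smul, mul_smul, hv']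
    _ = (k * θ⁻¹) • w := by rw [hk, mul_inv_cancel_right]
    _ = (θ⁻¹ * k) • w := hL.comm (mul_mem hvθ hθ) (inv_mem hθ)
    _ = θ⁻¹ • w := by rw [mul_smul, hkw]

/-- An element normalising the layer and fixing a pair of opposite points fixes the centre. -/
theorem pair_fix (hL : Layer Θ w v) {g θ : G} (hg : g ∈ normalizer (Θ : Set G)) (hθ : θ ∈ Θ)
    (h : g ∈ pairStab G (θ • w) (v • θ • w)) : g • w = w :=
  hL.affine_fix hg hθ h.1 (by rw [← hL.inv_smul_eq hS hθ]; exact h.2)

/-- Points of the orbit fixed by a normalising subgroup at the centre come with their opposites. -/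
theorem fix_inv (hL : Layer Θ w v) {g θ : G} (hg : g ∈ normalizer (Θ : Set G)) (hgw : g • w = w)
    (hθ : θ ∈ Θ) (h : g • θ • w = θ • w) : g • θ⁻¹ • w = θ⁻¹ • w := by
  have hφ : g * θ * g⁻¹ ∈ Θ := (mem_normalizer_iff.1 hg θ).1 hθ
  have h1 : (g * θ * g⁻¹) • w = θ • w := by rw [mul_smul, mul_smul, inv_smul_eq_iff.2 hgw.symm, h]
  have h2 : (g * θ * g⁻¹)⁻¹ • w = θ⁻¹ • w := by
    rw [inv_smul_eq_iff, ← mul_smul, hL.comm hφ (inv_mem hθ), mul_smul, h1, inv_smul_smul]
  calc g • θ⁻¹ • w = (g * θ⁻¹ * g⁻¹) • w := by rw [mul_smul, mul_smul, inv_smul_eq_iff.2 hgw.symm]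
    _ = (g * θ * g⁻¹)⁻¹ • w := by congr 1; group
    _ = θ⁻¹ • w := h2

/-- `Template` on a part of the orbit closed under halving. -/
theorem false_of_template (hL : Layer Θ w v) (hT : Template G Ω) {p : ℕ} (hp : p.Prime) (hp2 : p ≠ 2)
    (X : Set Ω) (hXne : X.Nonempty) (hwX : w ∉ X) (hXorb : ∀ x ∈ X, ∃ θ ∈ Θ, θ • w = x)
    (hclosed : ∀ θ ∈ Θ, θ • w ∈ X → θ ^ ((Nat.card Θ + 1) / 2) • w ∈ X)
    (hsyl : ∀ θ ∈ Θ, θ • w ∈ X → ∃ T : Subgroup G, IsSyl p T (pairStab G (θ • w) (v • θ • w)) ∧ T ≠ ⊥ ∧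
      v ∈ normalizer (T : Set G) ∧ T ≤ stabilizer G w ∧
      opp p (pairStab G (θ • w) (v • θ • w)) ≤ stabilizer G w) : False := by
  classical
  set m := (Nat.card Θ + 1) / 2 with hm
  have hsq : ∀ θ ∈ Θ, θ ^ m * θ ^ m = θ := by
    intro θ hθ
    obtain ⟨n, hn⟩ := hL.odd
    rw [← pow_add, hm, show (Nat.card Θ + 1) / 2 + (Nat.card Θ + 1) / 2 = Nat.card Θ + 1 by omega,
      pow_succ, orderOf_dvd_iff_pow_eq_one.1 (Θ.orderOf_dvd_natCard hθ), one_mul]
  choose f hf hfw using hXorb
  let half : Ω → Ω := fun x => if h : x ∈ X then f x h ^ m • w else x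
  have hhalf : ∀ θ ∈ Θ, θ • w ∈ X → half (θ • w) = θ ^ m • w := fun θ hθ h => by
    simp only [half, dif_pos h]
    exact hL.pow_congr (hf _ h) hθ (hfw _ h) m
  have hmaps : Set.MapsTo half X X := fun x hx => by
    have h' : f x hx • w ∈ X := (hfw x hx).symm ▸ hx
    have e := hhalf _ (hf x hx) h'
    rw [hfw x hx] at e
    rw [e]
    exact hclosed _ (hf x hx) h'
  have hinj : Set.InjOn half X := by
    intro x hx y hy h
    have hx' : half x = f x hx ^ m • w := by simp only [half, dif_pos hx]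
    have hy' : half y = f y hy ^ m • w := by simp only [half, dif_pos hy]
    have h2 := hL.pow_congr (pow_mem (hf x hx) m) (pow_mem (hf y hy) m) (hx'.symm.trans (h.trans hy')) 2
    rw [pow_two, pow_two, hsq _ (hf x hx), hsq _ (hf y hy), hfw, hfw] at h2
    exact h2
  refine hT p hp hp2 v w X half hL.inv hXne hwX
    (((Set.toFinite X).injOn_iff_bijOn_of_mapsTo hmaps).1 hinj) (fun x hx => ?_) (fun x hx => ?_)
  · have h' : f x hx • w ∈ X := (hfw x hx).symm ▸ hx
    have e : half x = f x hx ^ m • w := by simp only [half, dif_pos hx]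
    refine ⟨f x hx ^ m, ?_, ?_⟩
    · rw [e, ← mul_smul, hsq _ (hf x hx), hfw]
    · rw [e, hL.inv_smul_eq hS (pow_mem (hf x hx) m), smul_inv_smul]
  · have h' : f x hx • w ∈ X := (hfw x hx).symm ▸ hx
    obtain ⟨T, hT'⟩ := hsyl _ (hf x hx) h'
    rw [hfw x hx] at hT'
    exact ⟨T, hT'⟩

end Layer

/-- `O_{p'}` of a pair fixes the centre when the centraliser part does. -/
theorem Setting0.opp_le_stab {p : ℕ} [Fact p.Prime] {B : Subgroup G} {w x : Ω} {v : G} (hv : InvAt v w)
    (hx : x ≠ w) (hBp : IsPGroup p B) (hBw : B ≤ stabilizer G w) (hvB : v ∈ normalizer (B : Set G))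
    (hBB : ⁅B, zpowers v⁆ = B) (hBD : B ≤ pairStab G x (v • x))
    (hC : ∀ a ∈ pairStab G x (v • x), a ∈ centralizer (B : Set G) → a • w = w) :
    opp p (pairStab G x (v • x)) ≤ stabilizer G w := by
  set D := pairStab G x (v • x)
  set A := opp p D
  have hne : x ≠ v • x := (hS.ne_of_inv hv hx).symm
  have hAodd : Odd (Nat.card A) := odd_of_le (opp_le p D) (hS.odd_pairStab hne)
  have hBA : B ≤ normalizer (A : Set G) := hBD.trans (le_normalizer.trans (le_normalizer_opp p D))
  have hvA : v ∈ normalizer (A : Set G) := le_normalizer_opp p D (hS.swapper_normalizer hv.1 rfl)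
  have hcop := coprime_card_of_pGroup hBp (card_opp p D)
  have h1 := hS.commutator_le_stab hv hvB hBw hAodd hcop hBA hvA
  rw [hBB] at h1
  rw [← CfsgLib.Core.commutator_sup_centralizer hBA hcop (Or.inr (Cfsg.Agent.S0205.result hAodd))]
  exact sup_le h1 fun a ha => hC a (opp_le p D ha.1) ha.2

end Layer

end CfsgLib.Bender
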