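import Cfsg.Agent.Lib.Bender.Local

/-!
Owner: helper29. General Bender theorem, part I: the setting without the commuting hypothesis, the
induction hypothesis and the properties proved in the minimal counterexample
(`notes/bender_gen_slices.md`).
-/

set_option autoImplicit false
set_option linter.style.haveILetI false
set_option linter.unusedSectionVars false

namespace CfsgLib.Bender

open Subgroup MulAction
open CfsgLib.Signalizer (involution_sq involution_inv orderOf_eq_two_of involution_ne_one)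

universe u

variable {G Ω : Type*} [Group G] [Finite G] [MulAction G Ω] [Finite Ω]

/-- The setting: every involution fixes exactly one point and two-point stabilisers are transitive on
the involutions at each of their points. -/
structure Setting0 (G Ω : Type*) [Group G] [Finite G] [MulAction G Ω] : Prop where
  trans : ∀ x y : Ω, ∃ g : G, g • x = y
  exists_ne : ∀ x : Ω, ∃ y : Ω, y ≠ x
  fix_unique : ∀ {t : G} {x y : Ω}, InvAt t x → InvAt t y → x = y
  fix_exists : ∀ {t : G}, orderOf t = 2 → ∃ x : Ω, t • x = x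
  conj_fixing : ∀ {x y : Ω} {s t : G}, x ≠ y → InvAt s x → InvAt t x →
    ∃ d ∈ pairStab G x y, d * s * d⁻¹ = t
  card_swap : ∀ {x y : Ω}, x ≠ y →
    Nat.card {i : G // orderOf i = 2 ∧ i • x = y} = Nat.card {t : G // InvAt t x}
  four : ∀ x : Ω, ∃ s t : G, InvAt s x ∧ InvAt t x ∧ s ≠ t ∧ s * t = t * s

/-- The involutions at a point commute modulo the odd core of its stabiliser. -/
def CommMod (G Ω : Type*) [Group G] [Finite G] [MulAction G Ω] : Prop :=
  ∀ {x : Ω} {s t : G}, InvAt s x → InvAt t x → s * t * s * t ∈ core G x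

theorem Setting.toSetting0 (h : Setting G Ω) : Setting0 G Ω :=
  ⟨h.trans, h.exists_ne, h.fix_unique, h.fix_exists, h.conj_fixing, h.card_swap, h.four⟩

theorem Setting0.toSetting (h : Setting0 G Ω) (hc : CommMod G Ω) : Setting G Ω :=
  ⟨h.trans, h.exists_ne, h.fix_unique, h.fix_exists, h.conj_fixing, h.card_swap, h.four, hc⟩

/-- Only the identity fixes all points. -/
def Faithful (G Ω : Type*) [Group G] [MulAction G Ω] : Prop := ∀ g : G, (∀ x : Ω, g • x = x) → g = 1

/-- The full conclusion for all smaller groups. -/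
def IH (m : ℕ) : Prop :=
  ∀ (H : Type u) [Group H] [Finite H], Nat.card H < m → ∀ (M : Subgroup H),
    Cfsg.IsStronglyEmbedded M →
    (∃ s ∈ M, ∃ t ∈ M, orderOf s = 2 ∧ orderOf t = 2 ∧ s ≠ t ∧ s * t = t * s) →
    Setting H (H ⧸ M) ∧ SolvMod H ((1 : H) : H ⧸ M)

/-- `N` contains a four group at `w` and an involution with another centre. -/
structure TwoCentres (G : Type*) {Ω : Type*} [Group G] [MulAction G Ω] (N : Subgroup G) (w : Ω) :
    Prop where
  ne_top : N ≠ ⊤
  four : ∃ s t : G, s ∈ N ∧ t ∈ N ∧ InvAt s w ∧ InvAt t w ∧ s ≠ t ∧ s * t = t * s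
  other : ∃ i ∈ N, orderOf i = 2 ∧ i • w ≠ w

/-- The odd core of the stabiliser of `w` in `N`. -/
def coreIn (N : Subgroup G) (w : Ω) : Subgroup G :=
  (Cfsg.oddCore ↥(N ⊓ stabilizer G w)).map (N ⊓ stabilizer G w).subtype

/-- The orbit of `w` under `N`. -/
def orb (N : Subgroup G) (w : Ω) : Set Ω := {c | ∃ h ∈ N, h • w = c}

/-- What the induction hypothesis gives inside a proper subgroup. -/
structure LocalConcl (G : Type*) {Ω : Type*} [Group G] [Finite G] [MulAction G Ω] [Finite Ω]
    (N : Subgroup G) (w : Ω) : Prop where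
  /-- Every centre of an involution of `N` lies in the orbit. -/
  centres : ∀ i ∈ N, ∀ x : Ω, InvAt i x → x ∈ orb N w
  comm : ∀ s t : G, s ∈ N → t ∈ N → InvAt s w → InvAt t w → s * t * s * t ∈ coreIn N w
  two : ∀ y z : Ω, y ∈ orb N w → z ∈ orb N w → y ≠ w → z ≠ w → ∃ g ∈ N, g • w = w ∧ g • y = z
  /-- A regular set of 2-elements fixing every involution at `w` modulo the core. -/
  move : ∀ y z : Ω, y ∈ orb N w → z ∈ orb N w → y ≠ w → z ≠ w → ∃ g ∈ N, (∃ k : ℕ, g ^ 2 ^ k = 1) ∧
    g • w = w ∧ g • y = z ∧ ∀ t ∈ N, InvAt t w → g * t * g⁻¹ * t ∈ coreIn N w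
  card : ∃ k : ℕ, 1 ≤ k ∧ Nat.card {c : Ω // c ≠ w ∧ c ∈ orb N w} = 2 ^ k
  kernel : ∀ g ∈ coreIn N w, ∀ y : Ω, y ∈ orb N w → y ≠ w → g • y = y →
    ∀ z : Ω, z ∈ orb N w → g • z = z

/-- Local conclusions are available. -/
def LocalOK (G Ω : Type*) [Group G] [Finite G] [MulAction G Ω] [Finite Ω] : Prop :=
  ∀ (N : Subgroup G) (w : Ω), TwoCentres G N w → LocalConcl G N w

/-- `KEY1`: a proper subgroup containing all involutions at a point has no other involution centre. -/
def NoTwo (G Ω : Type*) [Group G] [MulAction G Ω] : Prop :=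
  ∀ (N : Subgroup G) (w : Ω), N ≠ ⊤ → (∀ t : G, InvAt t w → t ∈ N) →
    ∀ i ∈ N, orderOf i = 2 → i • w = w

/-- `UM`: a `p`-subgroup at `w` moved by an involution at `w` has its normaliser at `w`. -/
def UM (G Ω : Type*) [Group G] [MulAction G Ω] : Prop :=
  ∀ (p : ℕ), p.Prime → p ≠ 2 → ∀ (Y : Subgroup G) (w : Ω) (v : G), IsPGroup p Y →
    Y ≤ stabilizer G w → InvAt v w → v ∈ normalizer (Y : Set G) → (∃ y ∈ Y, y * v ≠ v * y) →
    normalizer (Y : Set G) ≤ stabilizer G w

/-- `SR`: an involution inverts nothing fixing its centre and another point. -/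
def SR (G Ω : Type*) [Group G] [MulAction G Ω] : Prop :=
  ∀ (w x : Ω) (g v : G), x ≠ w → InvAt v w → g • w = w → g • x = x → v * g * v⁻¹ = g⁻¹ → g = 1

/-- `R` centralises no involution at `x`. -/
def IsClass0 (x : Ω) (R : Subgroup G) : Prop :=
  R ≤ stabilizer G x ∧ ∀ t : G, InvAt t x → ∃ r ∈ R, r * t ≠ t * r

/-- The conclusions drawn from `SR`. -/
structure SRCons (G Ω : Type*) [Group G] [Finite G] [MulAction G Ω] [Finite Ω] : Prop where
  fix_le_two : ∀ (p : ℕ), p.Prime → p ≠ 2 → ∀ R : Subgroup G, IsPGroup p R → ∀ a b c : Ω,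
    IsClass0 a R → a ≠ b → a ≠ c → b ≠ c → R ≤ stabilizer G b → R ≤ stabilizer G c → False
  two : ∀ x y z : Ω, y ≠ x → z ≠ x → ∃ g : G, g • x = x ∧ g • y = z
  core_commute : ∀ (a : Ω) (t w : G), InvAt t a → w ∈ core G a → w * t = t * w
  core_free : ∀ (a b : Ω) (w : G), a ≠ b → w ∈ core G a → w • b = b → w = 1
  inj : ∀ (a b : Ω) (s t : G), a ≠ b → InvAt s a → InvAt t a → s • b = t • b → s = t
  centralizes : ∀ (a b : Ω) (R : Subgroup G), a ≠ b → R ≤ pairStab G a b → ∀ t : G, InvAt t a →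
    t ∈ normalizer (R : Set G) → ∀ r ∈ R, r * t = t * r
  faithful_img : ∀ (a b : Ω) (d : G), a ≠ b → d ∈ pairStab G a b →
    (∀ t : G, InvAt t a → d * t = t * d) → d = 1
  pair_free : ∀ (a b : Ω) (d s t : G), a ≠ b → d ∈ pairStab G a b → InvAt s a → InvAt t a →
    s * t ≠ t * s → d * s = s * d → d * t = t * d → d = 1

/-- The odd part prime to `p` of a subgroup. -/
def opp (p : ℕ) (D : Subgroup G) : Subgroup G := (Cfsg.pPrimeCore p D).map D.subtype

/-- Setting on the cosets of a strongly embedded subgroup. -/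
theorem setting0_of_stronglyEmbedded {G : Type u} [Group G] [Finite G] {M : Subgroup G}
    (hM : Cfsg.IsStronglyEmbedded M)
    (hfour : ∃ s ∈ M, ∃ t ∈ M, orderOf s = 2 ∧ orderOf t = 2 ∧ s ≠ t ∧ s * t = t * s) :
    Setting0 G (G ⧸ M) where
  trans x y := MulAction.exists_smul_eq G x y
  exists_ne x := by
    by_contra h
    push Not at h
    refine hM.1 (Subgroup.index_eq_one.1 ?_)
    haveI : Subsingleton (G ⧸ M) := ⟨fun p q => (h p).trans (h q).symm⟩
    exact Nat.card_unique
  fix_unique := fun h₁ h₂ => CfsgLib.TwoGroups.SE.fixed_unique hM h₁.1 h₁.2 h₂.2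
  fix_exists := fun ht => CfsgLib.TwoGroups.SE.exists_fixed hM ht
  conj_fixing := fun hxy hs ht => by
    obtain ⟨d, h1, h2, h3⟩ := CfsgLib.TwoGroups.SE.exists_conj_fixing hM hxy hs.1 hs.2 ht.1 ht.2
    exact ⟨d, ⟨h1, h2⟩, h3⟩
  card_swap := fun {x y} hxy => by
    rw [CfsgLib.TwoGroups.SE.card_swapping hM x y hxy, ← CfsgLib.TwoGroups.SE.card_fixing x]
    rfl
  four x := by
    obtain ⟨g, rfl⟩ := QuotientGroup.mk_surjective x
    obtain ⟨s, hs, t, ht, hs2, ht2, hne, hc⟩ := hfour
    refine ⟨g * s * g⁻¹, g * t * g⁻¹, ?_, ?_, fun h => hne (by simpa using h), ?_⟩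
    · rw [← smul_base g]; exact (invAt_base.2 ⟨hs2, hs⟩).conj g
    · rw [← smul_base g]; exact (invAt_base.2 ⟨ht2, ht⟩).conj g
    · simp only [conj_mul, hc]

/-! ### Elementary consequences -/

variable (hS : Setting0 G Ω)
include hS

namespace Setting0

theorem odd_pairStab {x y : Ω} (hxy : x ≠ y) : Odd (Nat.card (pairStab G x y)) := by
  rw [← Nat.not_even_iff_odd]
  intro he
  obtain ⟨⟨t, htD⟩, ht⟩ := exists_prime_orderOf_dvd_card' 2 (hp := ⟨Nat.prime_two⟩) he.two_dvd
  rw [Subgroup.orderOf_mk] at ht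
  exact hxy (hS.fix_unique ⟨ht, htD.1⟩ ⟨ht, htD.2⟩)

theorem ne_of_inv {t : G} {x y : Ω} (ht : InvAt t x) (hy : y ≠ x) : t • y ≠ y :=
  fun h => hy (hS.fix_unique ⟨ht.1, h⟩ ht)

theorem exists_invAt (x : Ω) : ∃ t : G, InvAt t x :=
  let ⟨s, _, hs, _⟩ := hS.four x
  ⟨s, hs⟩

theorem exists_swapper {x y : Ω} (hxy : x ≠ y) : ∃ v : G, orderOf v = 2 ∧ v • x = y := by
  obtain ⟨t, ht⟩ := hS.exists_invAt x
  haveI : Nonempty {t : G // InvAt t x} := ⟨⟨t, ht⟩⟩
  have h : 0 < Nat.card {i : G // orderOf i = 2 ∧ i • x = y} := by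
    rw [hS.card_swap hxy]; exact Nat.card_pos
  obtain ⟨⟨v, hv⟩⟩ := (Nat.card_pos_iff.1 h).1
  exact ⟨v, hv⟩

theorem swap_back {v : G} {x y : Ω} (hv : orderOf v = 2) (h : v • x = y) : v • y = x := by
  rw [← h, ← mul_smul, involution_sq hv, one_smul]

theorem swapper_normalizer {v : G} {x y : Ω} (hv : orderOf v = 2) (h : v • x = y) :
    v ∈ normalizer (pairStab G x y : Set G) := by
  have h' := swap_back hS hv h
  rw [mem_normalizer_iff]
  intro d
  simp only [SetLike.mem_coe, Subgroup.mem_inf, mem_stabilizer_iff, involution_inv hv, mul_smul, h, h']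
  constructor
  · rintro ⟨h1, h2⟩; exact ⟨by rw [h2, h'], by rw [h1, h]⟩
  · rintro ⟨h1, h2⟩
    exact ⟨smul_left_cancel v (h2.trans h.symm), smul_left_cancel v (h1.trans h'.symm)⟩

/-- An involution commuting with an involution has the same centre. -/
theorem fix_of_commute {s t : G} {x : Ω} (hs : InvAt s x) (hst : s * t = t * s) : t • x = x :=
  hS.fix_unique (t := s) ⟨hs.1, by rw [← mul_smul, hst, mul_smul, hs.2]⟩ hs

/-- The centraliser of an involution fixes its centre. -/
theorem smul_of_commute {t g : G} {x : Ω} (ht : InvAt t x) (h : g * t = t * g) : g • x = x :=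
  hS.fix_of_commute ht h.symm

theorem invAt_mul {x : Ω} {s t : G} (hs : InvAt s x) (ht : InvAt t x) (hne : s ≠ t)
    (hc : s * t = t * s) : InvAt (s * t) x := by
  refine ⟨orderOf_eq_two_of (fun h => hne ?_) ?_, by rw [mul_smul, ht.2, hs.2]⟩
  · rw [← involution_inv hs.1]; exact (eq_inv_of_mul_eq_one_right h).symm
  · rw [mul_assoc, hc, ← mul_assoc t, involution_sq ht.1, one_mul, involution_sq hs.1]

/-- An odd subgroup normalised by a four group at `x` fixes `x`. -/
theorem le_stab_of_four {R : Subgroup G} (hR : Odd (Nat.card R)) {e f : G} {x : Ω}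
    (he : InvAt e x) (hf : InvAt f x) (hne : e ≠ f) (hef : e * f = f * e)
    (heR : e ∈ normalizer (R : Set G)) (hfR : f ∈ normalizer (R : Set G)) :
    R ≤ stabilizer G x := by
  refine le_of_four_centralizers hR he.1 hf.1 hef hne heR hfR fun r _ z hz hrz => ?_
  have hzx : InvAt z x := by
    rcases hz with rfl | rfl | rfl
    · exact he
    · exact hf
    · exact hS.invAt_mul he hf hne hef
  exact hS.smul_of_commute hzx hrz

/-- The involutions at a point are conjugate under each two-point stabiliser, counted. -/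
theorem card_pairStab_invAt {x y : Ω} (hxy : x ≠ y) {t : G} (ht : InvAt t x) :
    Nat.card {t : G // InvAt t x} * Nat.card (pairStab G x y ⊓ centralizer {t} : Subgroup G) =
      Nat.card (pairStab G x y) := by
  refine Eq.trans ?_ (card_conj_class (pairStab G x y) t)
  congr 1
  refine Nat.card_congr (Equiv.subtypeEquivRight fun s => ⟨fun hs => ?_, ?_⟩)
  · obtain ⟨d, hd, he⟩ := hS.conj_fixing hxy ht hs
    exact ⟨d, hd, he⟩
  · rintro ⟨d, hd, rfl⟩
    exact ht.conj' hd.1

/-- The swappers of a pair form one class under the stabiliser of the pair. -/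
theorem exists_conj_swapper {x y : Ω} (hxy : x ≠ y) {v s : G} (hv : orderOf v = 2) (h : v • x = y)
    (hs : orderOf s = 2) (hs' : s • x = y) : ∃ d ∈ pairStab G x y, d * v * d⁻¹ = s := by
  refine exists_conj_of_mul_mem (hS.odd_pairStab hxy) hv hs ⟨?_, ?_⟩
  · show (v * s) • x = x
    rw [mul_smul, hs', swap_back hS hv h]
  · show (v * s) • y = y
    rw [mul_smul, swap_back hS hs hs', h]

theorem card_pairStab_swapper {x y : Ω} (hxy : x ≠ y) {v : G} (hv : orderOf v = 2) (h : v • x = y) :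
    Nat.card {t : G // InvAt t x} * Nat.card (pairStab G x y ⊓ centralizer {v} : Subgroup G) =
      Nat.card (pairStab G x y) := by
  refine Eq.trans ?_ (card_conj_class (pairStab G x y) v)
  rw [← hS.card_swap hxy]
  congr 1
  refine Nat.card_congr (Equiv.subtypeEquivRight fun s =>
    ⟨fun hs => hS.exists_conj_swapper hxy hv h hs.1 hs.2, ?_⟩)
  rintro ⟨d, hd, rfl⟩
  refine ⟨by rw [CfsgLib.Signalizer.orderOf_conj]; exact hv, ?_⟩
  rw [mul_smul, mul_smul, inv_smul_eq_iff.2 (show d • x = x from hd.1).symm, h]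
  exact hd.2

/-- `THEOREM A`: the stabiliser of a pair swapped by an involution at `w` moves `w`. -/
theorem not_pairStab_le {w x : Ω} {v : G} (hv : InvAt v w) (hx : x ≠ w) :
    ¬ pairStab G x (v • x) ≤ stabilizer G w := by
  classical
  intro hle
  have hne : x ≠ v • x := (hS.ne_of_inv hv hx).symm
  obtain ⟨g, hg⟩ := hS.trans w x
  have hsub : ∀ s : G, orderOf s = 2 ∧ s • x = v • x → InvAt s w := by
    rintro s ⟨hs, hsx⟩
    obtain ⟨d, hd, rfl⟩ := hS.exists_conj_swapper hne hv.1 rfl hs hsx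
    exact hv.conj' (hle hd)
  have hcard : Nat.card {t : G // InvAt t w} ≤ Nat.card {s : G // orderOf s = 2 ∧ s • x = v • x} := by
    rw [hS.card_swap hne]
    refine Nat.card_le_card_of_injective (fun t => (⟨g * t * g⁻¹, hg ▸ t.2.conj g⟩ : {t : G // InvAt t x}))
      fun s t h => Subtype.ext (by simpa using congrArg Subtype.val h)
  have hinj : Function.Injective (fun s : {s : G // orderOf s = 2 ∧ s • x = v • x} =>
      (⟨s, hsub s s.2⟩ : {t : G // InvAt t w})) := fun s t h => Subtype.ext (congrArg Subtype.val h :)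
  obtain ⟨e, f, he, hf, hne', hef⟩ := hS.four w
  have key : ∀ u : G, InvAt u w → u • x = v • x := fun u hu => by
    obtain ⟨s, hs⟩ := (hinj.bijective_of_nat_card_le hcard).2 ⟨u, hu⟩
    have h' : (s : G) = u := congrArg Subtype.val hs
    subst h'
    exact s.2.2
  have h := key _ (hS.invAt_mul he hf hne' hef)
  rw [mul_smul, key f hf, ← key e he, ← mul_smul, involution_sq he.1, one_smul] at h
  exact hne (h.trans (key e he))

end Setting0

end CfsgLib.Bender
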