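import Cfsg.Agent.Lib.Bender.Gen.NoMoveAffine
import Cfsg.Agent.Lib.OddLocal.ThompsonCenter
import Cfsg.Agent.Lib.Transfer.ZJControl
import Cfsg.Agent.S0205

/-!
Owner: helper15. Tools of the general Bender theorem (slice A): the constrained
lemma, `Z(J(T))` in groups of odd order and a consequence of the B-lemma.
-/

set_option autoImplicit false
set_option linter.style.haveILetI false
set_option linter.unusedSectionVars false

namespace CfsgLib.Bender

open Subgroup MulAction
open CfsgLib.Signalizer (involution_sq involution_inv)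

variable {G : Type*} [Group G] [Finite G] {p : ℕ}

/-! ### The constrained lemma -/

theorem le_pPrimeCore_of_sylow_normalized {H : Type*} [Group H] [Finite H] [Group.IsSolvable H]
    [Fact p.Prime] (S : Sylow p H) {X : Subgroup H} (hX : (Nat.card X).Coprime p)
    (hn : (S : Subgroup H) ≤ normalizer (X : Set H)) : X ≤ Cfsg.pPrimeCore p H := by
  set π := QuotientGroup.mk' (Cfsg.pPrimeCore p H) with hπ
  set Q := Cfsg.pCore p (H ⧸ Cfsg.pPrimeCore p H) with hQ
  haveI : Q.Normal := CfsgLib.Core.normal_pCore p _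
  have hC : centralizer (Q : Set (H ⧸ Cfsg.pPrimeCore p H)) ≤ Q :=
    CfsgLib.Core.centralizer_pCore_le_of_pPrimeCore_eq_bot
      (CfsgLib.Core.pPrimeCore_quotient_pPrimeCore p H)
  have hcop : (Nat.card (X.map π)).Coprime p := hX.coprime_dvd_left (X.card_map_dvd π)
  have hkill : ∀ y ∈ X.map π, y ∈ Q → y = 1 := by
    intro y hy hyQ
    obtain ⟨k, hk⟩ := IsPGroup.iff_card.1 (CfsgLib.Core.isPGroup_pCore p (H ⧸ Cfsg.pPrimeCore p H))
    have h1 := Nat.dvd_gcd (Subgroup.orderOf_dvd_natCard _ hy) (Subgroup.orderOf_dvd_natCard _ hyQ)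
    rw [hQ, hk, (hcop.pow_right k).gcd_eq_one, Nat.dvd_one, orderOf_eq_one_iff] at h1
    exact h1
  intro x hx
  rw [← QuotientGroup.eq_one_iff, ← QuotientGroup.mk'_apply]
  refine hkill _ (mem_map_of_mem π hx) (hC (mem_centralizer_iff.2 fun q hq => ?_))
  obtain ⟨s, hs, rfl⟩ : q ∈ (S : Subgroup H).map π := by
    have h := CfsgLib.Core.pCore_le_sylow (S.mapSurjective (f := π) (QuotientGroup.mk'_surjective _)) hq
    rwa [Sylow.coe_mapSurjective] at h
  have h1 : s * x * s⁻¹ * x⁻¹ ∈ X := mul_mem ((mem_normalizer_iff.1 (hn hs) x).1 hx) (inv_mem hx)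
  have h2 : π (s * x * s⁻¹ * x⁻¹) ∈ Q := by
    have h3 : π s * (π x * (π s)⁻¹ * (π x)⁻¹) ∈ Q :=
      mul_mem hq (‹Q.Normal›.conj_mem _ (inv_mem hq) _)
    simpa [mul_assoc] using h3
  have h4 := hkill _ (mem_map_of_mem π h1) h2
  simp only [map_mul, map_inv, mul_inv_eq_one] at h4
  exact mul_inv_eq_iff_eq_mul.1 h4

/-- In a group of odd order a `p'`-subgroup normalised by a Sylow `p`-subgroup lies in `O_p'`. -/
theorem le_opp_of_normalized [Fact p.Prime] {D S X : Subgroup G} (hD : Odd (Nat.card D))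
    (hS : IsSyl p S D) (hXD : X ≤ D) (hX : (Nat.card X).Coprime p) (hn : S ≤ normalizer (X : Set G)) :
    X ≤ opp p D := by
  haveI : Group.IsSolvable D := Cfsg.Agent.S0205.result hD
  obtain ⟨S', hS'⟩ := (hS.isPGroup.of_equiv (subgroupOfEquivOfLe hS.le).symm).exists_le_sylow
  have hSeq : S = (S' : Subgroup D).map D.subtype := by
    refine hS.eq_of_le (S'.isPGroup'.map _) ?_ (map_subtype_le _)
    intro x hx
    exact ⟨⟨x, hS.le hx⟩, hS' (mem_subgroupOf.2 hx), rfl⟩
  have hn' : (S' : Subgroup D) ≤ normalizer (X.subgroupOf D : Set D) := by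
    intro s hs
    have h := hn (hSeq ▸ mem_map_of_mem D.subtype hs)
    rw [mem_normalizer_iff]
    intro x
    simp only [mem_subgroupOf, Subgroup.coe_mul, Subgroup.coe_inv]
    exact mem_normalizer_iff.1 h x
  have h := le_pPrimeCore_of_sylow_normalized S'
    (by rwa [Nat.card_congr (subgroupOfEquivOfLe hXD).toEquiv]) hn'
  rw [← map_subgroupOf_eq_of_le hXD]
  exact map_mono h

/-! ### `Z(J(T))` -/

theorem zj_le_normalizer [Fact p.Prime] (hp : p ≠ 2) {D T : Subgroup G} (hD : Odd (Nat.card D))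
    (hT : IsSyl p T D) (hopp : opp p D = ⊥) :
    D ≤ normalizer (Cfsg.centerThompsonOf p T : Set G) := by
  haveI : Group.IsSolvable D := Cfsg.Agent.S0205.result hD
  obtain ⟨S, hS⟩ := (hT.isPGroup.of_equiv (subgroupOfEquivOfLe hT.le).symm).exists_le_sylow
  have hSeq : T = (S : Subgroup D).map D.subtype := by
    refine hT.eq_of_le (S.isPGroup'.map _) ?_ (map_subtype_le _)
    intro x hx
    exact ⟨⟨x, hT.le hx⟩, hS (mem_subgroupOf.2 hx), rfl⟩
  have hN := CfsgLib.OddLocal.centerThompson_sup_normal hD hp S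
  have hbot : Cfsg.pPrimeCore p D = ⊥ :=
    (map_eq_bot_iff_of_injective _ D.subtype_injective).1 hopp
  rw [hbot, sup_bot_eq] at hN
  rw [hSeq, ← CfsgLib.OddLocal.centerThompson_map D.subtype (S : Subgroup D)
    (by rw [ker_subtype]; exact disjoint_bot_right)]
  intro d hd
  rw [mem_normalizer_iff]
  intro x
  constructor
  · rintro ⟨z, hz, rfl⟩
    exact ⟨⟨d, hd⟩ * z * ⟨d, hd⟩⁻¹, hN.conj_mem z hz _, by simp⟩
  · rintro ⟨z, hz, he⟩
    refine ⟨⟨d, hd⟩⁻¹ * z * ⟨d, hd⟩⁻¹⁻¹, hN.conj_mem z hz _, ?_⟩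
    simp only [map_mul, map_inv, inv_inv, coe_subtype]
    rw [show (z : G) = d * x * d⁻¹ from he]
    group

variable {Ω : Type*} [MulAction G Ω]

/-- The B-lemma at a point: an odd `p'`-subgroup is at `w` once its part centralising `[Y, v]` is. -/
theorem Setting0.le_stab_of_blemma (hS : Setting0 G Ω) [Finite Ω] [Fact p.Prime] {Y A : Subgroup G} {v : G}
    {w : Ω} (hv : InvAt v w) (hY : IsPGroup p Y) (hYw : Y ≤ stabilizer G w)
    (hvY : v ∈ normalizer (Y : Set G)) (hA : Odd (Nat.card A)) (hcop : (Nat.card A).Coprime p)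
    (hYA : Y ≤ normalizer (A : Set G)) (hvA : v ∈ normalizer (A : Set G))
    (hAB : A ⊓ centralizer ((⁅Y, zpowers v⁆ : Subgroup G) : Set G) ≤ stabilizer G w) :
    A ≤ stabilizer G w := by
  have hBY : ⁅Y, zpowers v⁆ ≤ Y := le_normalizer_iff_commutator_le_left.1 (zpowers_le.2 hvY)
  have hYc : (Nat.card Y).Coprime (Nat.card A) := by
    rw [card_eq_pow hY]; exact (hcop.pow_right _).symm
  conv_lhs => rw [← CfsgLib.Core.commutator_sup_centralizer (A := ⁅Y, zpowers v⁆) (K := A)
    (hBY.trans hYA) (hYc.coprime_dvd_left (card_dvd_of_le hBY)) (Or.inr (Cfsg.Agent.S0205.result hA))]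
  exact sup_le (hS.commutator_le_stab hv hvY hYw hA hYc hYA hvA) hAB

end CfsgLib.Bender
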